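import Mathlib.AlgebraicGeometry.Morphisms.QuasiFinite
import Mathlib.AlgebraicGeometry.Morphisms.Etale
import Mathlib.RingTheory.Unramified.LocalStructure

/-!
Etale morphisms of schemes are locally quasi-finite (helper51).
-/

set_option autoImplicit false
universe u
open CategoryTheory CategoryTheory.Limits AlgebraicGeometry

namespace Groth.Agent.Lib.Helper51

theorem quasiFinite_of_etale {R A : Type u} [CommRing R] [CommRing A] {f : R →+* A}
    (hf : f.Etale) : f.QuasiFinite := by
  algebraize [f]
  have : Algebra.Etale R A := hf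
  rw [RingHom.QuasiFinite]
  infer_instance

instance (priority := 100) locallyQuasiFinite_of_etale {X Y : Scheme.{u}} (f : X ⟶ Y)
    [Etale f] : LocallyQuasiFinite f where
  quasiFinite_appLE {U} hU {V} hV e :=
    quasiFinite_of_etale (HasRingHomProperty.appLE @Etale f inferInstance ⟨U, hU⟩ ⟨V, hV⟩ e)

theorem finite_preimage_singleton_of_etale {X Y : Scheme.{u}} (f : X ⟶ Y) [Etale f]
    [QuasiCompact f] (y : Y) : (f ⁻¹' {y}).Finite :=
  f.finite_preimage_singleton y

end Groth.Agent.Lib.Helper51
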