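import Groth.Agent.Lib.Helper52.Points
import Mathlib.AlgebraicGeometry.Morphisms.UniversallyOpen
import Mathlib.AlgebraicGeometry.Morphisms.Smooth
import Mathlib.AlgebraicGeometry.Morphisms.Flat

/-!
Points of algebraic spaces: charts give open quotient maps (helper51).
-/

set_option autoImplicit false
set_option linter.unusedSectionVars false
universe u
open CategoryTheory CategoryTheory.Limits AlgebraicGeometry Opposite

set_option backward.isDefEq.respectTransparency false

namespace Groth.Agent.Lib.Helper51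

open AlgSp Groth.Agent.Lib.Helper52

variable {S : Scheme.{u}} {F G : AlgSp.Sp S}

/-- Every point of a sheaf is of the form `ofPt g t`. -/
theorem exists_ofPt_eq (x : Points F) :
    ∃ (T : Over S) (g : (AlgSp.yon S).obj T ⟶ F) (t : ↥T.left), Points.ofPt g t = x := by
  induction x using Points.ind with
  | h p =>
    exact ⟨p.pt, p.toHom, IsLocalRing.closedPoint p.K, Points.ofPt_toHom p _⟩

theorem ofScheme_injective (T : Over S) : Function.Injective (Points.ofScheme T) :=
  (Points.schemeEquiv T).injective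

theorem map_yon_map_ofScheme {T T' : Over S} (φ : T ⟶ T') (t : ↥T.left) :
    Points.map ((AlgSp.yon S).map φ) (Points.ofScheme T t) = Points.ofScheme T' (φ.left t) :=
  Points.map_yon_map_apply φ t

/-- For a pullback square of representable sheaves over `F`, the fibre product of points is
covered by the points of the corner. -/
theorem exists_of_ofPt_eq_ofPt {U T W : Over S} {a : (AlgSp.yon S).obj U ⟶ F}
    {g : (AlgSp.yon S).obj T ⟶ F} {φ : W ⟶ U} {ψ : W ⟶ T}
    (sq : IsPullback ((AlgSp.yon S).map φ) ((AlgSp.yon S).map ψ) a g) {u : ↥U.left} {t : ↥T.left}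
    (h : Points.ofPt a u = Points.ofPt g t) : ∃ w : ↥W.left, φ.left w = u ∧ ψ.left w = t := by
  rw [Points.ofPt_eq_map_ofScheme, Points.ofPt_eq_map_ofScheme g] at h
  obtain ⟨w', hw1, hw2⟩ := exists_point_of_isPullback sq _ _ h
  obtain ⟨w, rfl⟩ := (Points.schemeEquiv W).surjective w'
  change Points.map _ (Points.ofScheme W w) = _ at hw1
  change Points.map _ (Points.ofScheme W w) = _ at hw2
  rw [map_yon_map_ofScheme] at hw1 hw2
  exact ⟨w, ofScheme_injective U hw1, ofScheme_injective T hw2⟩

theorem ofPt_eq_ofPt_of_isPullback {U T W : Over S} {a : (AlgSp.yon S).obj U ⟶ F}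
    {g : (AlgSp.yon S).obj T ⟶ F} {φ : W ⟶ U} {ψ : W ⟶ T}
    (sq : IsPullback ((AlgSp.yon S).map φ) ((AlgSp.yon S).map ψ) a g) (w : ↥W.left) :
    Points.ofPt a (φ.left w) = Points.ofPt g (ψ.left w) := by
  rw [← ofPt_yon_map_comp, ← ofPt_yon_map_comp, sq.w]

theorem preimage_ofPt_image {U T W : Over S} {a : (AlgSp.yon S).obj U ⟶ F}
    {g : (AlgSp.yon S).obj T ⟶ F} {φ : W ⟶ U} {ψ : W ⟶ T}
    (sq : IsPullback ((AlgSp.yon S).map φ) ((AlgSp.yon S).map ψ) a g) (V : Set ↥U.left) :
    Points.ofPt g ⁻¹' (Points.ofPt a '' V) = ψ.left '' (φ.left ⁻¹' V) := by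
  ext t
  constructor
  · rintro ⟨u, hu, hut⟩
    obtain ⟨w, hw1, hw2⟩ := exists_of_ofPt_eq_ofPt sq hut
    exact ⟨w, by rw [Set.mem_preimage, hw1]; exact hu, hw2⟩
  · rintro ⟨w, hw, rfl⟩
    exact ⟨φ.left w, hw, ofPt_eq_ofPt_of_isPullback sq w⟩

/-- A representable map from a representable sheaf: the chosen pullback along `g : h_T ⟶ F`
in a form where both projections come from morphisms of schemes. -/
theorem exists_isPullback_of_representable {U T : Over S} {a : (AlgSp.yon S).obj U ⟶ F}
    (ha : AlgSp.Representable a) (g : (AlgSp.yon S).obj T ⟶ F) :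
    ∃ (W : Over S) (φ : W ⟶ U) (ψ : W ⟶ T),
      IsPullback ((AlgSp.yon S).map φ) ((AlgSp.yon S).map ψ) a g := by
  exact ⟨ha.pullback g, ha.fst' g, ha.snd g, ha.isPullback' g⟩

/-- A representable etale map from a scheme induces an open map on points. -/
theorem isOpenMap_ofPt_of_etale {U : Over S} (a : (AlgSp.yon S).obj U ⟶ F)
    (ha : AlgSp.RepWith @Etale a) : IsOpenMap (Points.ofPt a) := by
  intro V hV
  rw [Points.isOpen_iff]
  intro T g
  obtain ⟨W, φ, ψ, sq⟩ := exists_isPullback_of_representable ha.1 g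
  rw [preimage_ofPt_image sq]
  have hψ : Etale ψ.left := ha.2 g _ ψ sq
  exact ψ.left.isOpenMap _ (hV.preimage φ.left.continuous)

/-- Representable surjective maps are surjective on points. -/
theorem surjective_map_of_repWith_surjective {f : F ⟶ G} (hf : AlgSp.RepWith @Surjective f) :
    Function.Surjective (Points.map f) := by
  intro x
  obtain ⟨T, g, t, rfl⟩ := exists_ofPt_eq x
  have hsq := hf.1.isPullback g
  have hs : Surjective (hf.1.snd g).left := hf.2 g _ _ hsq
  exact (ofPt_mem_range_map_iff hsq t).2 (hs.surj t)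

/-- A representable map which is surjective on points is representable surjective. -/
theorem repWith_surjective_of_surjective_map {f : F ⟶ G} (hf : AlgSp.Representable f)
    (hs : Function.Surjective (Points.map f)) : AlgSp.RepWith @Surjective f := by
  refine ⟨hf, fun U V g fst snd sq => ⟨fun t => ?_⟩⟩
  exact (ofPt_mem_range_map_iff sq t).1 (hs _)

theorem surjective_ofPt_of_repWith_surjective {U : Over S} (p : (AlgSp.yon S).obj U ⟶ F)
    (hp : AlgSp.RepWith @Surjective p) : Function.Surjective (Points.ofPt p) := by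
  intro x
  obtain ⟨y, rfl⟩ := surjective_map_of_repWith_surjective hp x
  obtain ⟨u, rfl⟩ := (Points.schemeEquiv U).surjective y
  exact ⟨u, Points.ofPt_eq_map_ofScheme p u⟩

theorem isQuotientMap_ofPt {U : Over S} (p : (AlgSp.yon S).obj U ⟶ F)
    (hp : AlgSp.RepWith @Etale p) (hs : AlgSp.RepWith @Surjective p) :
    Topology.IsQuotientMap (Points.ofPt p) :=
  (isOpenMap_ofPt_of_etale p hp).isQuotientMap (Points.continuous_ofPt p)
    (surjective_ofPt_of_repWith_surjective p hs)

end Groth.Agent.Lib.Helper51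

namespace Groth.Agent.Lib.Helper51

open AlgSp Groth.Agent.Lib.Helper52

variable {S : Scheme.{u}} {F G : AlgSp.Sp S}

theorem ofPt_eq_ofPt_iff_of_isPresentation {R U : Over S} (s t : R ⟶ U)
    (p : (AlgSp.yon S).obj U ⟶ F) (hp : AlgSp.IsPresentation s t p) (u u' : ↥U.left) :
    Points.ofPt p u = Points.ofPt p u' ↔ ∃ r : ↥R.left, t.left r = u ∧ s.left r = u' := by
  constructor
  · intro h
    exact exists_of_ofPt_eq_ofPt hp.isPullback h
  · rintro ⟨r, rfl, rfl⟩
    exact ofPt_eq_ofPt_of_isPullback hp.isPullback r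

end Groth.Agent.Lib.Helper51

namespace Groth.Agent.Lib.Helper51

open AlgSp Groth.Agent.Lib.Helper52

variable {S : Scheme.{u}} {F G : AlgSp.Sp S}

/-- Points of a sheaf with a representable etale surjective chart have a basis of quasi-compact
open neighbourhoods. -/
theorem exists_isOpen_isCompact_nhd {U : Over S} (p : (AlgSp.yon S).obj U ⟶ F)
    (hp : AlgSp.RepWith @Etale p) (hs : AlgSp.RepWith @Surjective p) (x : Points F)
    (W : Set (Points F)) (hW : IsOpen W) (hx : x ∈ W) :
    ∃ V : Set (Points F), IsOpen V ∧ IsCompact V ∧ x ∈ V ∧ V ⊆ W := by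
  obtain ⟨u, rfl⟩ := surjective_ofPt_of_repWith_surjective p hs x
  let W' : U.left.Opens := ⟨Points.ofPt p ⁻¹' W, hW.preimage (Points.continuous_ofPt p)⟩
  have huW' : u ∈ W' := hx
  obtain ⟨V', hV', huV', hV'W'⟩ := exists_isAffineOpen_mem_and_subset huW'
  refine ⟨Points.ofPt p '' (V' : Set ↥U.left), isOpenMap_ofPt_of_etale p hp _ V'.2,
    hV'.isCompact.image (Points.continuous_ofPt p), ⟨u, huV', rfl⟩, ?_⟩
  rintro _ ⟨v, hv, rfl⟩
  exact hV'W' hv

end Groth.Agent.Lib.Helper51

namespace Groth.Agent.Lib.Helper51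

open AlgSp Groth.Agent.Lib.Helper52

variable {S : Scheme.{u}} {F G : AlgSp.Sp S}

theorem surjective_map_of_surjective_ofPt {T : Over S} (g : (AlgSp.yon S).obj T ⟶ F)
    (h : Function.Surjective (Points.ofPt g)) : Function.Surjective (Points.map g) := by
  intro x
  obtain ⟨t, rfl⟩ := h x
  exact ⟨Points.ofScheme T t, (Points.ofPt_eq_map_ofScheme g t).symm⟩

/-- Precomposing a representable etale chart with an etale morphism of schemes. -/
theorem repWith_etale_yon_map_comp {U U' : Over S} (j : U' ⟶ U) (hj : Etale j.left)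
    (p : (AlgSp.yon S).obj U ⟶ F) (hp : AlgSp.RepWith @Etale p) :
    AlgSp.RepWith @Etale ((AlgSp.yon S).map j ≫ p) :=
  (AlgSp.RepWith @Etale).comp_mem _ _ ((AlgSp.repWith_yon_map_iff @Etale j).2 hj) hp

/-- If the space of points is quasi-compact and there is some etale surjective chart, then there
is an affine etale surjective chart. -/
theorem exists_affine_chart_of_compactSpace {U : Over S} (p : (AlgSp.yon S).obj U ⟶ F)
    (hp : AlgSp.RepWith @Etale p) (hs : AlgSp.RepWith @Surjective p) [CompactSpace (Points F)] :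
    ∃ (U' : Over S) (p' : (AlgSp.yon S).obj U' ⟶ F),
      IsAffine U'.left ∧ AlgSp.RepWith @Etale p' ∧ AlgSp.RepWith @Surjective p' := by
  classical
  have hex : ∀ u : ↥U.left, ∃ W : U.left.Opens, IsAffineOpen W ∧ u ∈ W := fun u => by
    obtain ⟨W, hW, huW, _⟩ := exists_isAffineOpen_mem_and_subset
      (TopologicalSpace.Opens.mem_top u)
    exact ⟨W, hW, huW⟩
  choose V hV huV using hex
  have hcov : (Set.univ : Set (Points F)) ⊆ ⋃ u : ↥U.left, Points.ofPt p '' (V u : Set ↥U.left) := by
    intro x _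
    obtain ⟨u, rfl⟩ := surjective_ofPt_of_repWith_surjective p hs x
    exact Set.mem_iUnion.2 ⟨u, u, huV u, rfl⟩
  obtain ⟨t, ht⟩ := isCompact_univ.elim_finite_subcover
    (fun u : ↥U.left => Points.ofPt p '' (V u : Set ↥U.left))
    (fun u => isOpenMap_ofPt_of_etale p hp _ (V u).2) hcov
  let σ : Type u := {u : ↥U.left // u ∈ t}
  let g : σ → Scheme.{u} := fun i => (V i.1).toScheme
  have : ∀ i, IsAffine (g i) := fun i => hV i.1
  let Y : Scheme.{u} := ∐ g
  let f : Y ⟶ U.left := Sigma.desc (fun i : σ => (V i.1).ι)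
  have hf : Etale f := IsZariskiLocalAtSource.sigmaDesc (P := @Etale) (fun i => inferInstance)
  let U' : Over S := Over.mk (f ≫ U.hom)
  let j : U' ⟶ U := Over.homMk f rfl
  have hp' : AlgSp.RepWith @Etale ((AlgSp.yon S).map j ≫ p) :=
    repWith_etale_yon_map_comp j hf p hp
  refine ⟨U', (AlgSp.yon S).map j ≫ p, inferInstanceAs (IsAffine (∐ g)), hp', ?_⟩
  apply repWith_surjective_of_surjective_map hp'.1
  apply surjective_map_of_surjective_ofPt
  intro x
  obtain ⟨u, hu, v, hv, rfl⟩ : ∃ u ∈ t, x ∈ Points.ofPt p '' (V u : Set ↥U.left) := by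
    have := ht (Set.mem_univ x)
    simpa only [Set.mem_iUnion, exists_prop] using this
  let y : ↥Y := Sigma.ι g ⟨u, hu⟩ ⟨v, hv⟩
  refine ⟨y, ?_⟩
  rw [ofPt_yon_map_comp]
  congr 1
  change f (Sigma.ι g ⟨u, hu⟩ ⟨v, hv⟩) = v
  rw [← Scheme.Hom.comp_apply, Sigma.ι_desc]
  rfl

end Groth.Agent.Lib.Helper51

namespace Groth.Agent.Lib.Helper51

open AlgSp Groth.Agent.Lib.Helper52

variable {S : Scheme.{u}} {F G : AlgSp.Sp S}

theorem compactSpace_points_of_isQuasiCompactSp (h : AlgSp.IsQuasiCompactSp F) :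
    CompactSpace (Points F) := by
  obtain ⟨U, p, hp, hs, hU⟩ := h
  have hU' : CompactSpace ↥U.left := hU
  constructor
  rw [← (surjective_ofPt_of_repWith_surjective p hs).range_eq]
  exact isCompact_range (Points.continuous_ofPt p)

theorem isQuasiCompactSp_iff_compactSpace_points (hF : AlgSp.IsAlgSpace F) :
    AlgSp.IsQuasiCompactSp F ↔ CompactSpace (Points F) := by
  constructor
  · exact compactSpace_points_of_isQuasiCompactSp
  · intro h
    obtain ⟨U, p, hp, hs⟩ := hF.atlas
    obtain ⟨U', p', hU', hp', hs'⟩ := exists_affine_chart_of_compactSpace p hp hs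
    exact ⟨U', p', hp', hs', inferInstance⟩

theorem isQuasiCompactSp_iff_exists_affine_chart (hF : AlgSp.IsAlgSpace F) :
    AlgSp.IsQuasiCompactSp F ↔
      ∃ (U : Over S) (p : (AlgSp.yon S).obj U ⟶ F),
        IsAffine U.left ∧ AlgSp.RepWith @Etale p ∧ AlgSp.RepWith @Surjective p := by
  constructor
  · intro h
    have := compactSpace_points_of_isQuasiCompactSp h
    obtain ⟨U, p, hp, hs⟩ := hF.atlas
    exact exists_affine_chart_of_compactSpace p hp hs
  · rintro ⟨U, p, hU, hp, hs⟩
    exact ⟨U, p, hp, hs, inferInstance⟩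

end Groth.Agent.Lib.Helper51
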