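import Mathlib.AlgebraicGeometry.Morphisms.FlatDescent
import Mathlib.AlgebraicGeometry.Morphisms.QuasiSeparated
import Mathlib.AlgebraicGeometry.PullbackCarrier

/-!
Quasi-compactness of morphisms of schemes descends along fppf coverings (helper51).
-/

set_option autoImplicit false
universe u
open CategoryTheory CategoryTheory.Limits AlgebraicGeometry MorphismProperty

namespace Groth.Agent.Lib.Helper51

/-- Quasi-compactness descends along surjective open morphisms. -/
theorem quasiCompact_of_isPullback_of_surjective_of_isOpenMap {A X Y Z : Scheme.{u}}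
    {fst : A ⟶ X} {snd : A ⟶ Y} {f : X ⟶ Z} {g : Y ⟶ Z} (h : IsPullback fst snd f g)
    (hf : Function.Surjective f) (hfo : IsOpenMap f) [QuasiCompact fst] : QuasiCompact g := by
  constructor
  intro U hU hUc
  obtain ⟨V, hV, hVU⟩ := hfo.exists_opens_image_eq_of_prespectralSpace f.continuous
    (fun x _ => hf x) hU hUc
  have h1 : IsCompact (fst ⁻¹' (V : Set ↥X)) :=
    QuasiCompact.isCompact_preimage (f := fst) _ V.2 hV
  have h2 : g ⁻¹' U = snd '' (fst ⁻¹' (V : Set ↥X)) := by
    ext y
    constructor
    · intro hy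
      have hy' : g y ∈ f '' (V : Set ↥X) := by rw [hVU]; exact hy
      obtain ⟨x, hx, hxy⟩ := hy'
      obtain ⟨a, ha1, ha2⟩ := Scheme.exists_preimage_of_isPullback h x y hxy
      exact ⟨a, by rw [Set.mem_preimage, ha1]; exact hx, ha2⟩
    · rintro ⟨a, ha, rfl⟩
      change g (snd a) ∈ U
      rw [← hVU]
      refine ⟨fst a, ha, ?_⟩
      rw [← Scheme.Hom.comp_apply, ← Scheme.Hom.comp_apply, h.w]
  rw [h2]
  exact h1.image snd.continuous

instance quasiCompact_descendsAlong_fppf :
    DescendsAlong @QuasiCompact (@Surjective ⊓ @Flat ⊓ @LocallyOfFinitePresentation) where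
  of_isPullback {A X Y Z fst snd f g} h hf hfst := by
    obtain ⟨⟨hs, hfl⟩, hlfp⟩ := hf
    have : QuasiCompact fst := hfst
    have : Flat f := hfl
    have : LocallyOfFinitePresentation f := hlfp
    exact quasiCompact_of_isPullback_of_surjective_of_isOpenMap h hs.surj f.isOpenMap

end Groth.Agent.Lib.Helper51
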