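import Groth.Prelude.Def_AlgSp
import Mathlib.AlgebraicGeometry.Sites.Pretopology

/-!
Covering sieves of the fppf topology are jointly surjective (helper51).
-/

set_option autoImplicit false
universe u
open CategoryTheory CategoryTheory.Limits AlgebraicGeometry Opposite

namespace Groth.Agent.Lib.Helper51

theorem fppfTopology_le_jointlySurjectiveTopology :
    Scheme.fppfTopology.{u} ≤ Scheme.jointlySurjectiveTopology.{u} := by
  rw [Scheme.jointlySurjectiveTopology_eq_toGrothendieck_jointlySurjectivePretopology]
  unfold Scheme.jointlySurjectivePretopology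
  rw [Precoverage.toGrothendieck_toPretopology_eq_toGrothendieck]
  apply Precoverage.toGrothendieck_mono
  intro X R hR
  exact hR.1

/-- A covering sieve for the fppf topology on schemes is jointly surjective. -/
theorem exists_mem_sieve_of_mem_fppfTopology {X : Scheme.{u}} (R : Sieve X)
    (hR : R ∈ Scheme.fppfTopology X) (x : ↥X) :
    ∃ (Y : Scheme.{u}) (f : Y ⟶ X) (y : ↥Y), R f ∧ f y = x := by
  have h := fppfTopology_le_jointlySurjectiveTopology X hR
  rw [Scheme.mem_jointlySurjectiveTopology_iff_jointlySurjectivePretopology] at h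
  have h' : (R : Presieve X) ∈ Scheme.jointlySurjectivePrecoverage X := h
  rw [Presieve.mem_comap_jointlySurjectivePrecoverage_iff] at h'
  obtain ⟨Y, f, hf, y, hy⟩ := h' x
  exact ⟨Y, f, y, hf, hy⟩

/-- A covering sieve for the fppf topology on schemes over `S` is jointly surjective. -/
theorem exists_mem_sieve_of_mem_J {S : Scheme.{u}} {T : Over S} (R : Sieve T)
    (hR : R ∈ AlgSp.J S T) (t : ↥T.left) :
    ∃ (T' : Over S) (f : T' ⟶ T) (t' : ↥T'.left), R f ∧ f.left t' = t := by
  have h : Sieve.overEquiv T R ∈ Scheme.fppfTopology T.left := hR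
  obtain ⟨Y, f, y, hf, hy⟩ := exists_mem_sieve_of_mem_fppfTopology _ h t
  rw [Sieve.overEquiv_iff] at hf
  exact ⟨Over.mk (f ≫ T.hom), Over.homMk f, y, hf, hy⟩

end Groth.Agent.Lib.Helper51
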