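import Groth.Agent.Lib.Helper51.AlgSpPoints2
import Groth.Agent.Lib.Helper51.FppfSurj
import Mathlib.CategoryTheory.Sites.Subsheaf
import Mathlib.CategoryTheory.Limits.Types.Pullbacks

/-!
Open subspaces of algebraic spaces (helper51).
-/

set_option autoImplicit false
set_option linter.unusedSectionVars false
universe u w'
open CategoryTheory CategoryTheory.Limits AlgebraicGeometry Opposite

set_option backward.isDefEq.respectTransparency false

namespace Groth.Agent.Lib.Helper51

open AlgSp Groth.Agent.Lib.Helper52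

section General

variable {C : Type*} [Category C] {J : GrothendieckTopology C}

/-- A commutative square of sheaves of types which is sectionwise a pullback is a pullback. -/
theorem isPullback_sheaf_of_sections {A B D E : Sheaf J (Type w')} (t : A ⟶ B) (l : A ⟶ D)
    (r : B ⟶ E) (b : D ⟶ E) (w : t ≫ r = l ≫ b)
    (hinj : ∀ (T : Cᵒᵖ) (x y : A.obj.obj T), t.hom.app T x = t.hom.app T y →
      l.hom.app T x = l.hom.app T y → x = y)
    (hsurj : ∀ (T : Cᵒᵖ) (x₂ : B.obj.obj T) (x₃ : D.obj.obj T),
      r.hom.app T x₂ = b.hom.app T x₃ → ∃ x₁, t.hom.app T x₁ = x₂ ∧ l.hom.app T x₁ = x₃) :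
    IsPullback t l r b := by
  apply IsPullback.of_map (sheafToPresheaf J (Type w')) w
  apply IsPullback.of_forall_isPullback_app
  intro T
  rw [Types.isPullback_iff]
  refine ⟨?_, fun x y h => hinj T x y h.1 h.2, fun x₂ x₃ h => hsurj T x₂ x₃ h⟩
  have := congrArg (fun f => f.hom.app T) w
  exact this

end General

variable {S : Scheme.{u}} {F G : AlgSp.Sp S}

/-- The point of `F` defined by a section `x` over `T` and a point `t` of `T`. -/
noncomputable def secPt {T : Over S} (x : F.obj.obj (op T)) (t : ↥T.left) : Points F :=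
  Points.ofPt ((AlgSp.J S).uliftYonedaEquiv.symm x) t

theorem secPt_map {T T' : Over S} (φ : T' ⟶ T) (x : F.obj.obj (op T)) (t' : ↥T'.left) :
    secPt (F.obj.map φ.op x) t' = secPt x (φ.left t') := by
  unfold secPt
  rw [GrothendieckTopology.uliftYonedaEquiv_symm_map]
  exact ofPt_yon_map_comp φ _ t'

theorem ofPt_eq_secPt {T : Over S} (g : (AlgSp.yon S).obj T ⟶ F) (t : ↥T.left) :
    Points.ofPt g t = secPt ((AlgSp.J S).uliftYonedaEquiv g) t := by
  unfold secPt
  rw [Equiv.symm_apply_apply]

theorem secPt_app {T : Over S} (f : F ⟶ G) (x : F.obj.obj (op T)) (t : ↥T.left) :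
    secPt (f.hom.app (op T) x) t = Points.map f (secPt x t) := by
  unfold secPt
  rw [Points.map_ofPt, GrothendieckTopology.uliftYonedaEquiv_symm_naturality_right]

/-- The subfunctor of sections all of whose points lie in `W`. -/
noncomputable def openSub (F : AlgSp.Sp S) (W : Set (Points F)) : Subfunctor F.obj where
  obj T := {x | ∀ t : ↥T.unop.left, secPt x t ∈ W}
  map {T T'} i x hx := by
    intro t'
    have := secPt_map i.unop x t'
    change secPt (F.obj.map i x) t' ∈ W
    rw [show i = i.unop.op from rfl, this]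
    exact hx _

theorem openSub_isSheaf (F : AlgSp.Sp S) (W : Set (Points F)) :
    Presheaf.IsSheaf (AlgSp.J S) (openSub F W).toFunctor := by
  rw [isSheaf_iff_isSheaf_of_type]
  rw [Subfunctor.isSheaf_iff _ ((isSheaf_iff_isSheaf_of_type _ _).1 F.property)]
  intro T x hx t
  obtain ⟨T', f, t', hf, rfl⟩ := exists_mem_sieve_of_mem_J _ hx t
  have h1 : F.obj.map f.op x ∈ (openSub F W).obj (op T') := hf
  rw [← secPt_map]
  exact h1 t'

/-- The open subsheaf of `F` with points `W`. -/
noncomputable def openSp (F : AlgSp.Sp S) (W : Set (Points F)) : AlgSp.Sp S :=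
  ⟨(openSub F W).toFunctor, openSub_isSheaf F W⟩

/-- The inclusion of the open subsheaf. -/
noncomputable def openSpι (F : AlgSp.Sp S) (W : Set (Points F)) : openSp F W ⟶ F :=
  ObjectProperty.homMk (openSub F W).ι

theorem openSpι_app (F : AlgSp.Sp S) (W : Set (Points F)) (T : (Over S)ᵒᵖ)
    (x : (openSp F W).obj.obj T) : (openSpι F W).hom.app T x = x.1 := rfl

instance (F : AlgSp.Sp S) (W : Set (Points F)) : Mono (openSpι F W) := by
  apply Sheaf.mono_of_injective
  intro T x y h
  exact Subtype.ext h

end Groth.Agent.Lib.Helper51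

namespace Groth.Agent.Lib.Helper51

open AlgSp Groth.Agent.Lib.Helper52

variable {S : Scheme.{u}} {F G : AlgSp.Sp S}

section Pullback

variable (W : Set (Points F)) (hW : IsOpen W) {T : Over S} (g : (AlgSp.yon S).obj T ⟶ F)

/-- The open subset of `T` of points mapping into `W`. -/
noncomputable def preOpen (hW : IsOpen W) : T.left.Opens :=
  ⟨Points.ofPt g ⁻¹' W, hW.preimage (Points.continuous_ofPt g)⟩

/-- The open subscheme of `T` of points mapping into `W`, as a scheme over `S`. -/
noncomputable def preOpenOver : Over S := Over.mk ((preOpen W g hW).ι ≫ T.hom)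

/-- The inclusion of the open subscheme. -/
noncomputable def preOpenι : preOpenOver W hW g ⟶ T := Over.homMk (preOpen W g hW).ι rfl

instance : IsOpenImmersion (preOpenι W hW g).left :=
  inferInstanceAs (IsOpenImmersion (preOpen W g hW).ι)

instance : Mono (preOpenι W hW g) := Over.mono_of_mono_left _

theorem preOpenι_mem (t' : ↥(preOpenOver W hW g).left) :
    Points.ofPt g ((preOpenι W hW g).left t') ∈ W := by
  have : (preOpenι W hW g).left t' ∈ preOpen W g hW := by
    change (preOpen W g hW).ι t' ∈ preOpen W g hW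
    exact t'.2
  exact this

/-- The section of `F` over the open subscheme, as a section of the open subsheaf. -/
noncomputable def preOpenSec : (openSp F W).obj.obj (op (preOpenOver W hW g)) :=
  ⟨F.obj.map (preOpenι W hW g).op ((AlgSp.J S).uliftYonedaEquiv g), by
    intro t'
    rw [secPt_map, ← ofPt_eq_secPt]
    exact preOpenι_mem W hW g t'⟩

/-- The lift of `g` restricted to the open subscheme to the open subsheaf. -/
noncomputable def preOpenLift : (AlgSp.yon S).obj (preOpenOver W hW g) ⟶ openSp F W :=
  (AlgSp.J S).uliftYonedaEquiv.symm (preOpenSec W hW g)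

theorem preOpenLift_comp :
    preOpenLift W hW g ≫ openSpι F W = (AlgSp.yon S).map (preOpenι W hW g) ≫ g := by
  apply (AlgSp.J S).uliftYonedaEquiv.injective
  rw [GrothendieckTopology.uliftYonedaEquiv_comp]
  unfold preOpenLift
  rw [Equiv.apply_symm_apply, openSpι_app]
  rw [← GrothendieckTopology.uliftYonedaEquiv_naturality]
  rfl

end Pullback

end Groth.Agent.Lib.Helper51

namespace Groth.Agent.Lib.Helper51

open AlgSp Groth.Agent.Lib.Helper52

variable {S : Scheme.{u}} {F G : AlgSp.Sp S}

/-- The value of `g : h_T ⟶ F` on a `T'`-point `φ` of `T` is the restriction of the universal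
section along `φ`. -/
theorem hom_app_eq_map {T T' : Over S} (g : (AlgSp.yon S).obj T ⟶ F) (φ : T' ⟶ T) :
    g.hom.app (op T') ⟨φ⟩ = F.obj.map φ.op ((AlgSp.J S).uliftYonedaEquiv g) := by
  rw [GrothendieckTopology.uliftYonedaEquiv_naturality,
    GrothendieckTopology.uliftYonedaEquiv_comp,
    GrothendieckTopology.uliftYonedaEquiv_uliftYoneda_map]

section Pullback

variable (W : Set (Points F)) (hW : IsOpen W) {T : Over S} (g : (AlgSp.yon S).obj T ⟶ F)

theorem isPullback_preOpen :
    IsPullback (preOpenLift W hW g) ((AlgSp.yon S).map (preOpenι W hW g)) (openSpι F W) g := by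
  apply isPullback_sheaf_of_sections _ _ _ _ (preOpenLift_comp W hW g)
  · rintro ⟨T''⟩ ⟨x⟩ ⟨y⟩ _ h2
    have h3 : x ≫ preOpenι W hW g = y ≫ preOpenι W hW g := by
      have := congrArg ULift.down h2
      exact this
    rw [cancel_mono] at h3
    rw [h3]
  · rintro ⟨T''⟩ x₂ ⟨φ⟩ h
    rw [openSpι_app, hom_app_eq_map] at h
    have hrange : Set.range φ.left ⊆ Set.range (preOpen W g hW).ι := by
      rintro _ ⟨t'', rfl⟩
      rw [Scheme.Opens.range_ι]
      change Points.ofPt g (φ.left t'') ∈ W
      rw [ofPt_eq_secPt, ← secPt_map, ← h]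
      exact x₂.2 t''
    let ψ₀ : T''.left ⟶ (preOpenOver W hW g).left :=
      IsOpenImmersion.lift (preOpen W g hW).ι φ.left hrange
    have hψ₀ : ψ₀ ≫ (preOpen W g hW).ι = φ.left := IsOpenImmersion.lift_fac _ _ _
    let ψ : T'' ⟶ preOpenOver W hW g := Over.homMk ψ₀ (by
      change ψ₀ ≫ (preOpen W g hW).ι ≫ T.hom = T''.hom
      rw [← Category.assoc, hψ₀]
      exact Over.w φ)
    have hψ : ψ ≫ preOpenι W hW g = φ := Over.OverMorphism.ext hψ₀
    refine ⟨⟨ψ⟩, ?_, ?_⟩
    · apply Subtype.ext
      unfold preOpenLift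
      rw [GrothendieckTopology.uliftYonedaEquiv_symm_app_apply]
      change F.obj.map ψ.op (F.obj.map (preOpenι W hW g).op _) = x₂.1
      rw [← Functor.map_comp_apply, ← op_comp, hψ, h]
    · change (⟨ψ ≫ preOpenι W hW g⟩ : ULift _) = ⟨φ⟩
      rw [hψ]

end Pullback

end Groth.Agent.Lib.Helper51

namespace Groth.Agent.Lib.Helper51

section Diag

variable {C : Type*} [Category C] [HasBinaryProducts C]

/-- The diagonal of a subobject is the base change of the diagonal. -/
theorem isPullback_diag_of_mono {X' X : C} (j : X' ⟶ X) [Mono j] :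
    IsPullback j (Limits.diag X') (Limits.diag X) (prod.map j j) := by
  refine ⟨⟨by ext <;> simp⟩, ⟨PullbackCone.IsLimit.mk _ (fun s => s.snd ≫ prod.fst) ?_ ?_ ?_⟩⟩
  · intro s
    have := s.condition =≫ prod.fst
    simp only [Category.assoc, prod.lift_fst, Category.comp_id, prod.map_fst] at this
    simpa using this.symm
  · intro s
    have h1 := s.condition =≫ prod.fst
    have h2 := s.condition =≫ prod.snd
    simp only [Category.assoc, prod.lift_fst, prod.lift_snd, Category.comp_id, prod.map_fst,
      prod.map_snd] at h1 h2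
    have h3 : s.snd ≫ prod.fst = s.snd ≫ prod.snd := by
      rw [← cancel_mono j, Category.assoc, Category.assoc, ← h1, ← h2]
    ext
    · simp
    · simp [h3]
  · intro s m _ h2
    have := h2 =≫ prod.fst
    simpa using this

end Diag

open AlgSp Groth.Agent.Lib.Helper52

variable {S : Scheme.{u}} {F G : AlgSp.Sp S}

/-- A subsheaf of a sheaf with representable diagonal has representable diagonal. -/
theorem representable_diag_of_mono {X' X : AlgSp.Sp S} (j : X' ⟶ X) [Mono j]
    (h : AlgSp.Representable (Limits.diag X)) : AlgSp.Representable (Limits.diag X') :=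
  MorphismProperty.of_isPullback (isPullback_diag_of_mono j) h

section Open

variable (W : Set (Points F)) (hW : IsOpen W)

include hW in
theorem repWith_isOpenImmersion_openSpι : AlgSp.RepWith @IsOpenImmersion (openSpι F W) := by
  apply MorphismProperty.relative.of_exists
  intro T g
  exact ⟨preOpenOver W hW g, preOpenLift W hW g, preOpenι W hW g, isPullback_preOpen W hW g,
    inferInstanceAs (IsOpenImmersion (preOpenι W hW g).left)⟩

theorem range_map_openSpι : Set.range (Points.map (openSpι F W)) = W := by
  ext x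
  constructor
  · rintro ⟨y, rfl⟩
    induction y using Points.ind with
    | h p =>
      rw [Points.map_mk]
      have h1 := p.val.2 (IsLocalRing.closedPoint p.K)
      have h2 : secPt (p.val.1) (IsLocalRing.closedPoint p.K) =
          Points.mk (p.map (openSpι F W)) := by
        unfold secPt
        exact Points.ofPt_toHom (p.map (openSpι F W)) _
      rw [← h2]
      exact h1
  · intro hx
    induction x using Points.ind with
    | h q =>
      have hq : q.val ∈ (openSub F W).obj (op q.pt) := by
        intro t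
        have : secPt q.val t = Points.mk q := Points.ofPt_toHom q t
        rw [this]; exact hx
      exact ⟨Points.mk ⟨q.K, q.str, ⟨q.val, hq⟩⟩, rfl⟩

include hW in
theorem isAlgSpace_openSp (hF : AlgSp.IsAlgSpace F) : AlgSp.IsAlgSpace (openSp F W) where
  diag := representable_diag_of_mono (openSpι F W) hF.diag
  atlas := by
    obtain ⟨U, p, hp, hs⟩ := hF.atlas
    have sq := isPullback_preOpen W hW p
    exact ⟨preOpenOver W hW p, preOpenLift W hW p, MorphismProperty.of_isPullback sq.flip hp,
      MorphismProperty.of_isPullback sq.flip hs⟩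

end Open

end Groth.Agent.Lib.Helper51

namespace Groth.Agent.Lib.Helper51

open AlgSp Groth.Agent.Lib.Helper52

variable {S : Scheme.{u}} {F G : AlgSp.Sp S}

/-- The Yoneda bijection for `AlgSp.yon`, with universes pinned. -/
noncomputable abbrev yEquiv {T : Over S} {A : AlgSp.Sp S} :
    ((AlgSp.yon S).obj T ⟶ A) ≃ A.obj.obj (op T) :=
  (AlgSp.J S).uliftYonedaEquiv

theorem equivSymm_comp {T : Over S} {A B : AlgSp.Sp S} (f : A ⟶ B) (x : A.obj.obj (op T)) :
    yEquiv.symm x ≫ f =
      yEquiv.symm (f.hom.app (op T) x) :=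
  GrothendieckTopology.uliftYonedaEquiv_symm_naturality_right.{u + 1, u, u + 1} (AlgSp.J S) T f x

theorem equiv_comp {T : Over S} {A B : AlgSp.Sp S} (α : (AlgSp.yon S).obj T ⟶ A) (β : A ⟶ B) :
    yEquiv (α ≫ β) = β.hom.app (op T) (yEquiv α) :=
  rfl

/-- A monomorphism of sheaves is injective on sections. -/
theorem injective_app_of_mono {B D : AlgSp.Sp S} (j : B ⟶ D) [Mono j] (T : Over S) :
    Function.Injective (j.hom.app (op T)) := by
  intro x y h
  have h1 : yEquiv.symm x ≫ j = yEquiv.symm y ≫ j := by
    rw [equivSymm_comp, equivSymm_comp, h]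
  rw [cancel_mono] at h1
  exact yEquiv.symm.injective h1

/-- A morphism factors through a monomorphism as soon as it does so on sections. -/
theorem exists_lift_of_mono_of_sections {A B D : AlgSp.Sp S} (f : A ⟶ D) (j : B ⟶ D) [Mono j]
    (h : ∀ (T : Over S) (y : A.obj.obj (op T)),
      ∃ x : B.obj.obj (op T), j.hom.app (op T) x = f.hom.app (op T) y) :
    ∃ g : A ⟶ B, g ≫ j = f := by
  choose c hc using h
  have hnat : ∀ {T T' : (Over S)ᵒᵖ} (i : T ⟶ T') (y : A.obj.obj T),
      c T'.unop (A.obj.map i y) = B.obj.map i (c T.unop y) := by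
    intro T T' i y
    apply injective_app_of_mono j T'.unop
    rw [hc]
    have h1 := NatTrans.naturality_apply j.hom i (c T.unop y)
    have h2 := NatTrans.naturality_apply f.hom i y
    rw [h1, h2, hc]
  let g : A ⟶ B := ObjectProperty.homMk
    { app := fun T => TypeCat.ofHom (fun y => c T.unop y)
      naturality := by
        intro T T' i
        ext y
        exact hnat i y }
  refine ⟨g, ?_⟩
  ext T y
  exact hc T.unop y

/-- A morphism whose image on points lies in an open subspace factors through it. -/
theorem exists_factor_of_range_subset {X' X Y : AlgSp.Sp S} (j : X' ⟶ X)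
    (hj : AlgSp.RepWith @IsOpenImmersion j) (f : Y ⟶ X)
    (h : Set.range (Points.map f) ⊆ Set.range (Points.map j)) : ∃ g : Y ⟶ X', g ≫ j = f := by
  have : Mono j := mono_of_repWith (fun g (_ : IsOpenImmersion g) => inferInstance) hj
  apply exists_lift_of_mono_of_sections
  intro T y
  let y' : (AlgSp.yon S).obj T ⟶ Y := yEquiv.symm y
  let g' := y' ≫ f
  have sq := hj.1.isPullback g'
  have ho : IsOpenImmersion (hj.1.snd g').left := hj.2 g' _ _ sq
  have hsurj : Function.Surjective (hj.1.snd g').left := by
    intro t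
    have h1 : Points.ofPt g' t ∈ Set.range (Points.map j) := by
      apply h
      exact ⟨Points.ofPt y' t, Points.map_ofPt y' f t⟩
    exact (ofPt_mem_range_map_iff sq t).1 h1
  have : Epi (hj.1.snd g').left.base := (TopCat.epi_iff_surjective _).2 hsurj
  have hiso : IsIso (hj.1.snd g').left := IsOpenImmersion.isIso _
  have hiso'' : IsIso ((Over.forget S).map (hj.1.snd g')) := hiso
  have hiso' : IsIso (hj.1.snd g') := isIso_of_reflects_iso _ (Over.forget S)
  let x' : (AlgSp.yon S).obj T ⟶ X' := (AlgSp.yon S).map (inv (hj.1.snd g')) ≫ hj.1.fst g'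
  have hx' : x' ≫ j = g' := by
    change ((AlgSp.yon S).map (inv (hj.1.snd g')) ≫ hj.1.fst g') ≫ j = g'
    rw [Category.assoc, sq.w, ← Category.assoc, ← Functor.map_comp, IsIso.inv_hom_id,
      CategoryTheory.Functor.map_id, Category.id_comp]
  refine ⟨yEquiv x', ?_⟩
  rw [← equiv_comp, hx']
  change yEquiv (y' ≫ f) = _
  rw [equiv_comp]
  change f.hom.app _ (yEquiv (yEquiv.symm y)) = _
  rw [Equiv.apply_symm_apply]

end Groth.Agent.Lib.Helper51

namespace Groth.Agent.Lib.Helper51

section CompMono

variable {C : Type*} [Category C]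

/-- Postcomposing with a monomorphism does not change pullback squares. -/
theorem isPullback_comp_mono_iff {A B D E H : C} (fst : A ⟶ B) (snd : A ⟶ D) (f : B ⟶ E)
    (g : D ⟶ E) (j : E ⟶ H) [Mono j] :
    IsPullback fst snd (f ≫ j) (g ≫ j) ↔ IsPullback fst snd f g := by
  constructor
  · intro h
    have w : fst ≫ f = snd ≫ g := by
      rw [← cancel_mono j, Category.assoc, Category.assoc]; exact h.w
    refine ⟨⟨w⟩, ⟨PullbackCone.IsLimit.mk _
      (fun s => h.lift s.fst s.snd (by rw [← Category.assoc, s.condition, Category.assoc]))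
      (fun s => h.lift_fst _ _ _) (fun s => h.lift_snd _ _ _) ?_⟩⟩
    intro s m h1 h2
    apply h.hom_ext
    · rw [h.lift_fst]; exact h1
    · rw [h.lift_snd]; exact h2
  · intro h
    have w : fst ≫ f ≫ j = snd ≫ g ≫ j := by
      rw [← Category.assoc, h.w, Category.assoc]
    refine ⟨⟨w⟩, ⟨PullbackCone.IsLimit.mk _
      (fun s => h.lift s.fst s.snd (by
        rw [← cancel_mono j, Category.assoc, Category.assoc]; exact s.condition))
      (fun s => h.lift_fst _ _ _) (fun s => h.lift_snd _ _ _) ?_⟩⟩
    intro s m h1 h2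
    apply h.hom_ext
    · rw [h.lift_fst]; exact h1
    · rw [h.lift_snd]; exact h2

end CompMono

open AlgSp Groth.Agent.Lib.Helper52

variable {S : Scheme.{u}} {F G : AlgSp.Sp S}

/-- If `f ≫ j` is representable with property `P` and `j` is a monomorphism, so is `f`. -/
theorem repWith_of_comp_mono {P : MorphismProperty Scheme.{u}} {H : AlgSp.Sp S} (f : F ⟶ G)
    (j : G ⟶ H) [Mono j] (h : AlgSp.RepWith P (f ≫ j)) : AlgSp.RepWith P f := by
  refine ⟨fun T g => ?_, fun T V g fst snd sq => ?_⟩
  · obtain ⟨V, snd, fst, sq⟩ := h.1 (g ≫ j)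
    exact ⟨V, snd, fst, (isPullback_comp_mono_iff _ _ _ _ j).1 sq⟩
  · exact h.2 (g ≫ j) fst snd ((isPullback_comp_mono_iff _ _ _ _ j).2 sq)

theorem range_map_eq_range_ofPt {T : Over S} (g : (AlgSp.yon S).obj T ⟶ F) :
    Set.range (Points.map g) = Set.range (Points.ofPt g) := by
  ext x
  constructor
  · rintro ⟨y, rfl⟩
    obtain ⟨t, rfl⟩ := (Points.schemeEquiv T).surjective y
    exact ⟨t, Points.ofPt_eq_map_ofScheme g t⟩
  · rintro ⟨t, rfl⟩
    exact ⟨Points.ofScheme T t, (Points.ofPt_eq_map_ofScheme g t).symm⟩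

/-- A chart together with a representing object for its self fibre product is a presentation. -/
theorem isPresentation_of_isPullback {R U : Over S} (s t : R ⟶ U) (a : (AlgSp.yon S).obj U ⟶ F)
    (ha : AlgSp.RepWith @Etale a) (hs : AlgSp.RepWith @Surjective a)
    (sq : IsPullback ((AlgSp.yon S).map t) ((AlgSp.yon S).map s) a a) :
    AlgSp.IsPresentation s t a where
  eqvRel :=
    { injective := by
        intro T r r' h1 h2
        apply (AlgSp.yon S).map_injective
        apply sq.hom_ext
        · rw [← Functor.map_comp, ← Functor.map_comp, h1]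
        · rw [← Functor.map_comp, ← Functor.map_comp, h2]
      equivalence := by
        intro T
        have key : ∀ x y : T ⟶ U, (∃ r : T ⟶ R, r ≫ t = x ∧ r ≫ s = y) ↔
            (AlgSp.yon S).map x ≫ a = (AlgSp.yon S).map y ≫ a := by
          intro x y
          constructor
          · rintro ⟨r, rfl, rfl⟩
            rw [Functor.map_comp, Functor.map_comp, Category.assoc, Category.assoc, sq.w]
          · intro h
            obtain ⟨r, hr⟩ := (AlgSp.yon S).map_surjective (sq.lift _ _ h)
            refine ⟨r, (AlgSp.yon S).map_injective ?_, (AlgSp.yon S).map_injective ?_⟩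
            · rw [Functor.map_comp, hr, sq.lift_fst]
            · rw [Functor.map_comp, hr, sq.lift_snd]
        refine ⟨fun x => (key x x).2 rfl, fun {x y} h => (key y x).2 ((key x y).1 h).symm,
          fun {x y z} h1 h2 => (key x z).2 (((key x y).1 h1).trans ((key y z).1 h2))⟩
      etale_left := ha.2 a _ s sq
      etale_right := ha.2 a _ t sq.flip }
  etale := ha
  surjective := hs
  isPullback := sq

theorem exists_factor_surjective_etale_of_open_image {X' X : AlgSp.Sp S} {U : Over S}
    (a : (AlgSp.yon S).obj U ⟶ X) (ha : AlgSp.RepWith @Etale a)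
    (j : X' ⟶ X) (hj : AlgSp.RepWith @IsOpenImmersion j)
    (himage : Set.range (Points.map j) = Set.range (Points.ofPt a)) :
    ∃ a' : (AlgSp.yon S).obj U ⟶ X', a' ≫ j = a ∧ AlgSp.RepWith @Etale a' ∧
      AlgSp.RepWith @Surjective a' ∧
      ∀ (R : Over S) (s t : R ⟶ U),
        IsPullback ((AlgSp.yon S).map t) ((AlgSp.yon S).map s) a a →
          AlgSp.IsPresentation s t a' := by
  have hmono : Mono j := mono_of_repWith (fun g (_ : IsOpenImmersion g) => inferInstance) hj
  obtain ⟨a', ha'⟩ := exists_factor_of_range_subset j hj a (by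
    rw [range_map_eq_range_ofPt, himage])
  have hea' : AlgSp.RepWith @Etale a' := by
    apply repWith_of_comp_mono a' j
    rw [ha']; exact ha
  have hsa' : AlgSp.RepWith @Surjective a' := by
    apply repWith_surjective_of_surjective_map hea'.1
    apply surjective_map_of_surjective_ofPt
    intro x'
    have h1 : Points.map j x' ∈ Set.range (Points.ofPt a) := by
      rw [← himage]; exact ⟨x', rfl⟩
    obtain ⟨u, hu⟩ := h1
    refine ⟨u, injective_map_of_mono j ?_⟩
    rw [Points.map_ofPt, ha', hu]
  refine ⟨a', ha', hea', hsa', fun R s t sq => ?_⟩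
  apply isPresentation_of_isPullback s t a' hea' hsa'
  rw [← ha'] at sq
  exact (isPullback_comp_mono_iff _ _ _ _ j).1 sq

end Groth.Agent.Lib.Helper51
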