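import Groth.Agent.Lib.Helper51.AlgSpPoints
import Mathlib.AlgebraicGeometry.Cover.MorphismProperty

/-!
Points of algebraic spaces, continued: etale local properties (helper51).
-/

set_option autoImplicit false
set_option linter.unusedSectionVars false
universe u
open CategoryTheory CategoryTheory.Limits AlgebraicGeometry Opposite

set_option backward.isDefEq.respectTransparency false

namespace Groth.Agent.Lib.Helper51

open AlgSp Groth.Agent.Lib.Helper52

variable {S : Scheme.{u}} {F G : AlgSp.Sp S}

/-- A property of schemes which is local in the etale topology passes to the source of an etale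
morphism. -/
theorem of_etale_of_etaleLocal (P : Scheme.{u} → Prop)
    (hP : ∀ (V : Scheme.{u}) (𝒰 : Scheme.Cover.{u} (Scheme.precoverage @Etale) V),
      P V ↔ ∀ i, P (𝒰.X i))
    {W V : Scheme.{u}} (f : W ⟶ V) [Etale f] (hV : P V) : P W := by
  let 𝒰 : Scheme.Cover.{u} (Scheme.precoverage @Etale) V :=
    (Scheme.coverOfIsIso (P := @Etale) (𝟙 V)).add f
  exact (hP V 𝒰).1 hV none

/-- A property of schemes which is local in the etale topology descends along etale
surjections. -/
theorem of_etale_surjective_of_etaleLocal (P : Scheme.{u} → Prop)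
    (hP : ∀ (V : Scheme.{u}) (𝒰 : Scheme.Cover.{u} (Scheme.precoverage @Etale) V),
      P V ↔ ∀ i, P (𝒰.X i))
    {W V : Scheme.{u}} (f : W ⟶ V) [Etale f] [Surjective f] (hW : P W) : P V := by
  let 𝒰 : Scheme.Cover.{u} (Scheme.precoverage @Etale) V :=
    Scheme.Cover.mkOfCovers PUnit.{u + 1} (fun _ => W) (fun _ => f)
      (fun x => ⟨⟨⟩, (Surjective.surj (f := f) x)⟩) (fun _ => inferInstance)
  exact (hP V 𝒰).2 (fun _ => hW)

theorem etaleLocally_iff_forall_etale_chart (P : Scheme.{u} → Prop)
    (hP : ∀ (V : Scheme.{u}) (𝒰 : Scheme.Cover.{u} (Scheme.precoverage @Etale) V),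
      P V ↔ ∀ i, P (𝒰.X i))
    (hF : AlgSp.IsAlgSpace F) :
    AlgSp.EtaleLocally P F ↔
      ∀ (U : Over S) (a : (AlgSp.yon S).obj U ⟶ F), AlgSp.RepWith @Etale a → P U.left := by
  constructor
  · rintro ⟨V, p, hp, hs, hPV⟩ U a ha
    obtain ⟨W, φ, ψ, sq⟩ := exists_isPullback_of_representable hp.1 a
    have hψ : Etale ψ.left := hp.2 a _ ψ sq
    have hψs : Surjective ψ.left := hs.2 a _ ψ sq
    have hφ : Etale φ.left := ha.2 p _ φ sq.flip
    have hW : P W.left := of_etale_of_etaleLocal P hP φ.left hPV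
    exact of_etale_surjective_of_etaleLocal P hP ψ.left hW
  · intro h
    obtain ⟨U, p, hp, hs⟩ := hF.atlas
    exact ⟨U, p, hp, hs, h U p hp⟩

end Groth.Agent.Lib.Helper51

namespace Groth.Agent.Lib.Helper51

open AlgSp Groth.Agent.Lib.Helper52

variable {S : Scheme.{u}} {F G : AlgSp.Sp S}

/-- A representable morphism all of whose base changes to schemes are monomorphisms is a
monomorphism of sheaves. -/
theorem mono_of_representable_of_mono {f : F ⟶ G} (hf : AlgSp.Representable f)
    (hm : ∀ {T : Over S} (g : (AlgSp.yon S).obj T ⟶ G), Mono (hf.snd g)) : Mono f := by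
  constructor
  intro T u v huv
  apply GrothendieckTopology.hom_ext_uliftYoneda.{u + 1, u, u + 1} (AlgSp.J S)
  intro T' p
  have h1 : (p ≫ u) ≫ f = (p ≫ v) ≫ f := by
    rw [Category.assoc, Category.assoc, huv]
  set g := (p ≫ u) ≫ f with hg
  have sq := hf.isPullback g
  have e1 : (p ≫ u) ≫ f = 𝟙 _ ≫ g := by rw [Category.id_comp]
  have e2 : (p ≫ v) ≫ f = 𝟙 _ ≫ g := by rw [Category.id_comp, ← h1]
  obtain ⟨a, ha⟩ := (AlgSp.yon S).map_surjective (sq.lift (p ≫ u) (𝟙 _) e1)
  obtain ⟨b, hb⟩ := (AlgSp.yon S).map_surjective (sq.lift (p ≫ v) (𝟙 _) e2)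
  have ha2 : a ≫ hf.snd g = 𝟙 _ := (AlgSp.yon S).map_injective (by
    rw [Functor.map_comp, ha, sq.lift_snd, CategoryTheory.Functor.map_id])
  have hb2 : b ≫ hf.snd g = 𝟙 _ := (AlgSp.yon S).map_injective (by
    rw [Functor.map_comp, hb, sq.lift_snd, CategoryTheory.Functor.map_id])
  have hab : a = b := by
    have := hm g
    rw [← cancel_mono (hf.snd g), ha2, hb2]
  have h3 : p ≫ u = (AlgSp.yon S).map a ≫ hf.fst g := by rw [ha, sq.lift_fst]
  have h4 : p ≫ v = (AlgSp.yon S).map b ≫ hf.fst g := by rw [hb, sq.lift_fst]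
  rw [h3, h4, hab]

theorem mono_of_repWith {P : MorphismProperty Scheme.{u}}
    (hP : ∀ {X Y : Scheme.{u}} (g : X ⟶ Y), P g → Mono g) {f : F ⟶ G}
    (hf : AlgSp.RepWith P f) : Mono f := by
  apply mono_of_representable_of_mono hf.1
  intro T g
  have : Mono (hf.1.snd g).left := hP _ (hf.2 g _ _ (hf.1.isPullback g))
  exact Over.mono_of_mono_left _

theorem mono_of_repWith_isImmersion {f : F ⟶ G} (hf : AlgSp.RepWith @IsImmersion f) : Mono f :=
  mono_of_repWith (fun g (_ : IsImmersion g) => inferInstance) hf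

/-- A monomorphism of sheaves is injective on points. -/
theorem injective_map_of_mono (f : F ⟶ G) [Mono f] : Function.Injective (Points.map f) := by
  intro x y hxy
  induction x using Points.ind with
  | h p =>
  induction y using Points.ind with
  | h q =>
  rw [Points.map_mk, Points.map_mk] at hxy
  obtain ⟨Ω, _, w, a, b, h⟩ := (rel_iff_toHom _ _).1 (Points.mk_eq_mk_iff.1 hxy)
  rw [FieldPt.toHom_map, FieldPt.toHom_map, ← Category.assoc, ← Category.assoc,
    cancel_mono] at h
  exact Points.sound ((rel_iff_toHom _ _).2 ⟨Ω, inferInstance, w, a, b, h⟩)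

end Groth.Agent.Lib.Helper51

namespace Groth.Agent.Lib.Helper51

open AlgSp Groth.Agent.Lib.Helper52

variable {S : Scheme.{u}} {F G : AlgSp.Sp S}

/-- A morphism representable by immersions into a sheaf with an etale surjective chart induces
a locally closed embedding on points. -/
theorem isEmbedding_map_of_immersion {Z X : AlgSp.Sp S} (i : Z ⟶ X)
    (hi : AlgSp.RepWith @IsImmersion i) {U : Over S} (p : (AlgSp.yon S).obj U ⟶ X)
    (hp : AlgSp.RepWith @Etale p) (hs : AlgSp.RepWith @Surjective p) :
    Topology.IsEmbedding (Points.map i) ∧ IsLocallyClosed (Set.range (Points.map i)) := by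
  have hmono : Mono i := mono_of_repWith_isImmersion hi
  have hinj : Function.Injective (Points.map i) := injective_map_of_mono i
  -- the pullback chart
  let W := hi.1.pullback p
  let ψ : W ⟶ U := hi.1.snd p
  let q : (AlgSp.yon S).obj W ⟶ Z := hi.1.fst p
  have sq : IsPullback q ((AlgSp.yon S).map ψ) i p := hi.1.isPullback p
  have hψ : IsImmersion ψ.left := hi.2 p _ _ sq
  have hq : AlgSp.RepWith @Etale q := MorphismProperty.of_isPullback sq.flip hp
  have hqs : AlgSp.RepWith @Surjective q := MorphismProperty.of_isPullback sq.flip hs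
  have hqsurj := surjective_ofPt_of_repWith_surjective q hqs
  have hpopen := isOpenMap_ofPt_of_etale p hp
  have hcomm : ∀ w : ↥W.left, Points.map i (Points.ofPt q w) = Points.ofPt p (ψ.left w) := by
    intro w
    rw [Points.map_ofPt, sq.w, ofPt_yon_map_comp]
  -- key: if `i z = p u` then `u = ψ w` and `z = q w` for a common `w`
  have hkey : ∀ (z : Points Z) (u : ↥U.left), Points.map i z = Points.ofPt p u →
      ∃ w : ↥W.left, Points.ofPt q w = z ∧ ψ.left w = u := by
    intro z u hzu
    rw [Points.ofPt_eq_map_ofScheme] at hzu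
    obtain ⟨w', hw1, hw2⟩ := exists_point_of_isPullback sq z _ hzu
    obtain ⟨w, rfl⟩ := (Points.schemeEquiv W).surjective w'
    change Points.map _ (Points.ofScheme W w) = _ at hw1
    change Points.map _ (Points.ofScheme W w) = _ at hw2
    rw [map_yon_map_ofScheme] at hw2
    refine ⟨w, ?_, ofScheme_injective U hw2⟩
    rw [Points.ofPt_eq_map_ofScheme]; exact hw1
  constructor
  · refine ⟨⟨le_antisymm (continuous_iff_le_induced.1 (Points.continuous_map i)) ?_⟩, hinj⟩
    intro O hO
    -- `O` open in `|Z|`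
    have hO' : IsOpen (Points.ofPt q ⁻¹' O) := hO.preimage (Points.continuous_ofPt q)
    obtain ⟨OU, hOU, hOUeq⟩ := (ψ.left.isEmbedding.isInducing.isOpen_iff).1 hO'
    rw [isOpen_induced_iff]
    refine ⟨Points.ofPt p '' OU, hpopen _ hOU, ?_⟩
    ext z
    constructor
    · rintro ⟨u, hu, huz⟩
      obtain ⟨w, rfl, rfl⟩ := hkey z u huz.symm
      have : w ∈ ψ.left ⁻¹' OU := hu
      rw [hOUeq] at this
      exact this
    · intro hz
      obtain ⟨w, rfl⟩ := hqsurj z
      have hw : w ∈ ψ.left ⁻¹' OU := by rw [hOUeq]; exact hz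
      exact ⟨ψ.left w, hw, (hcomm w).symm⟩
  · have hpre : Points.ofPt p ⁻¹' (Set.range (Points.map i)) = Set.range ψ.left := by
      ext u
      exact ofPt_mem_range_map_iff sq u
    have h1 : IsLocallyClosed (Points.ofPt p ⁻¹' (Set.range (Points.map i))) := by
      rw [hpre]; exact ψ.left.isLocallyClosed_range
    rw [isLocallyClosed_iff_isOpen_coborder] at h1 ⊢
    rw [coborder_preimage hpopen (Points.continuous_ofPt p)] at h1
    exact (isQuotientMap_ofPt p hp hs).isOpen_preimage.1 h1

end Groth.Agent.Lib.Helper51
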