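import Groth.Agent.Lib.Helper51.AlgSpOpen
import Groth.Prelude.Def_AlgSp3
import Groth.Prelude.Def_AlgSpCov

/-!
Charts of algebraic spaces: etale morphisms are open, affine charts, Zariski coverings (helper51).
-/

set_option autoImplicit false
set_option linter.unusedSectionVars false
universe u
open CategoryTheory CategoryTheory.Limits AlgebraicGeometry Opposite

set_option backward.isDefEq.respectTransparency false

namespace Groth.Agent.Lib.Helper51

open AlgSp Groth.Agent.Lib.Helper52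

variable {S : Scheme.{u}} {F G : AlgSp.Sp S}

/-- An etale morphism from a sheaf with an etale surjective chart is open on points. -/
theorem isOpenMap_map_of_isEtaleMor {X Y : AlgSp.Sp S} (f : X ⟶ Y) (hf : AlgSp.IsEtaleMor f)
    {U : Over S} (a : (AlgSp.yon S).obj U ⟶ X) (ha : AlgSp.RepWith @Etale a)
    (has : AlgSp.RepWith @Surjective a) : IsOpenMap (Points.map f) := by
  intro O hO
  have h1 : Points.map f '' O = Points.ofPt (a ≫ f) '' (Points.ofPt a ⁻¹' O) := by
    ext y
    constructor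
    · rintro ⟨x, hx, rfl⟩
      obtain ⟨u, rfl⟩ := surjective_ofPt_of_repWith_surjective a has x
      exact ⟨u, hx, (Points.map_ofPt a f u).symm⟩
    · rintro ⟨u, hu, rfl⟩
      exact ⟨Points.ofPt a u, hu, Points.map_ofPt a f u⟩
  rw [h1]
  exact isOpenMap_ofPt_of_etale (a ≫ f) (hf a ha) _ (hO.preimage (Points.continuous_ofPt a))

end Groth.Agent.Lib.Helper51

namespace Groth.Agent.Lib.Helper51

open AlgSp Groth.Agent.Lib.Helper52

variable {S : Scheme.{u}} {F G : AlgSp.Sp S}

/-- Every point of a scheme over `S` has an affine open neighbourhood mapping into an affine open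
of `S`. -/
theorem exists_affine_nhd_over_affine (U : Over S) (x : ↥U.left) :
    ∃ (V : U.left.Opens) (W : S.Opens), IsAffineOpen V ∧ x ∈ V ∧ IsAffineOpen W ∧
      ∀ v ∈ V, U.hom v ∈ W := by
  obtain ⟨W, hW, hxW, _⟩ := exists_isAffineOpen_mem_and_subset
    (TopologicalSpace.Opens.mem_top (U.hom x))
  have hx' : x ∈ U.hom ⁻¹ᵁ W := hxW
  obtain ⟨V, hV, hxV, hVW⟩ := exists_isAffineOpen_mem_and_subset hx'
  exact ⟨V, W, hV, hxV, hW, fun v hv => hVW hv⟩

/-- The open subscheme `V` of `U`, as a scheme over `S`. -/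
noncomputable def opensOver (U : Over S) (V : U.left.Opens) : Over S := Over.mk (V.ι ≫ U.hom)

/-- The inclusion of the open subscheme. -/
noncomputable def opensOverι (U : Over S) (V : U.left.Opens) : opensOver U V ⟶ U :=
  Over.homMk V.ι rfl

instance (U : Over S) (V : U.left.Opens) : IsOpenImmersion (opensOverι U V).left :=
  inferInstanceAs (IsOpenImmersion V.ι)

theorem range_ofPt_opensOverι_comp (U : Over S) (V : U.left.Opens)
    (p : (AlgSp.yon S).obj U ⟶ F) :
    Set.range (Points.ofPt ((AlgSp.yon S).map (opensOverι U V) ≫ p)) =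
      Points.ofPt p '' (V : Set ↥U.left) := by
  ext x
  constructor
  · rintro ⟨v, rfl⟩
    rw [ofPt_yon_map_comp]
    exact ⟨_, v.2, rfl⟩
  · rintro ⟨u, hu, rfl⟩
    refine ⟨⟨u, hu⟩, ?_⟩
    rw [ofPt_yon_map_comp]
    rfl

theorem exists_isZarCover_affine_charts (hF : AlgSp.IsAlgSpace F) :
    ∃ (ι : Type u) (Xi : ι → AlgSp.Sp S) (j : ∀ i, Xi i ⟶ F), (∀ i, AlgSp.IsAlgSpace (Xi i)) ∧
      AlgSp.IsZarCover Xi j ∧
        ∀ i, ∃ (U : Over S) (p : (AlgSp.yon S).obj U ⟶ Xi i), IsAffine U.left ∧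
          AlgSp.RepWith @Etale p ∧ AlgSp.RepWith @Surjective p ∧
          ∃ W : S.Opens, IsAffineOpen W ∧ ∀ v : ↥U.left, U.hom v ∈ W := by
  obtain ⟨U, p, hp, hs⟩ := hF.atlas
  choose V W hV huV hW hVW using exists_affine_nhd_over_affine U
  have hopen : ∀ u, IsOpen (Points.ofPt p '' (V u : Set ↥U.left)) :=
    fun u => isOpenMap_ofPt_of_etale p hp _ (V u).2
  refine ⟨↥U.left, fun u => openSp F (Points.ofPt p '' (V u : Set ↥U.left)),
    fun u => openSpι F _, fun u => isAlgSpace_openSp _ (hopen u) hF, ⟨fun u => ?_, fun x => ?_⟩,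
    fun u => ?_⟩
  · exact repWith_isOpenImmersion_openSpι _ (hopen u)
  · obtain ⟨u, rfl⟩ := surjective_ofPt_of_repWith_surjective p hs x
    refine ⟨u, ?_⟩
    rw [range_map_openSpι]
    exact ⟨u, huV u, rfl⟩
  · have hea : AlgSp.RepWith @Etale ((AlgSp.yon S).map (opensOverι U (V u)) ≫ p) :=
      repWith_etale_yon_map_comp _ inferInstance p hp
    obtain ⟨a', _, hea', hsa', _⟩ := exists_factor_surjective_etale_of_open_image _ hea
      (openSpι F (Points.ofPt p '' (V u : Set ↥U.left)))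
      (repWith_isOpenImmersion_openSpι _ (hopen u))
      (by rw [range_map_openSpι, range_ofPt_opensOverι_comp])
    refine ⟨opensOver U (V u), a', hV u, hea', hsa', W u, hW u, fun v => ?_⟩
    change (((V u).ι ≫ U.hom) v) ∈ W u
    rw [Scheme.Hom.comp_apply]
    exact hVW u _ v.2

end Groth.Agent.Lib.Helper51

namespace Groth.Agent.Lib.Helper51

open AlgSp Groth.Agent.Lib.Helper52

variable {S : Scheme.{u}} {F G : AlgSp.Sp S}

theorem exists_etale_surjective_sigma_affine (hF : AlgSp.IsAlgSpace F) :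
    ∃ (ι : Type u) (V : ι → Scheme.{u}) (_ : ∀ i, IsAffine (V i)) (q : (∐ V) ⟶ S)
      (p : (AlgSp.yon S).obj (Over.mk q) ⟶ F),
      AlgSp.RepWith @Etale p ∧ AlgSp.RepWith @Surjective p ∧
        ∀ i, ∃ W : S.Opens, IsAffineOpen W ∧ ∀ v : ↥(V i), (Sigma.ι V i ≫ q) v ∈ W := by
  obtain ⟨U, p, hp, hs⟩ := hF.atlas
  choose V W hV huV hW hVW using exists_affine_nhd_over_affine U
  let g : ↥U.left → Scheme.{u} := fun u => (V u).toScheme
  let f : (∐ g) ⟶ U.left := Sigma.desc (fun u => (V u).ι)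
  have hf : Etale f := IsZariskiLocalAtSource.sigmaDesc (P := @Etale) (fun i => inferInstance)
  let j : Over.mk (f ≫ U.hom) ⟶ U := Over.homMk f rfl
  have hp' : AlgSp.RepWith @Etale ((AlgSp.yon S).map j ≫ p) :=
    repWith_etale_yon_map_comp j hf p hp
  refine ⟨↥U.left, g, fun u => hV u, f ≫ U.hom, (AlgSp.yon S).map j ≫ p, hp', ?_, fun u => ?_⟩
  · apply repWith_surjective_of_surjective_map hp'.1
    apply surjective_map_of_surjective_ofPt
    intro x
    obtain ⟨u, rfl⟩ := surjective_ofPt_of_repWith_surjective p hs x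
    refine ⟨Sigma.ι g u ⟨u, huV u⟩, ?_⟩
    rw [ofPt_yon_map_comp]
    congr 1
    change f (Sigma.ι g u ⟨u, huV u⟩) = u
    rw [← Scheme.Hom.comp_apply, Sigma.ι_desc]
    rfl
  · refine ⟨W u, hW u, fun v => ?_⟩
    have h1 : Sigma.ι g u ≫ f ≫ U.hom = (V u).ι ≫ U.hom := by
      rw [← Category.assoc, Sigma.ι_desc]
    rw [h1, Scheme.Hom.comp_apply]
    exact hVW u _ v.2

end Groth.Agent.Lib.Helper51
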