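import Groth.Agent.Lib.Helper51.AlgSpOnePt4
import Groth.Agent.Lib.Helper78.AlgSpLocPUnram
import Groth.Agent.Lib.Helper78.AlgSpLocP3

/-!
Étale morphisms of algebraic spaces: `IsEtaleMor` versus `LocP @Etale`, charts, base change
(helper51, on top of helper78's `EtLocalST` calculus and helper30's descent lemmas).
-/

set_option autoImplicit false
set_option linter.unusedSectionVars false
universe u
open CategoryTheory CategoryTheory.Limits AlgebraicGeometry Opposite

set_option backward.isDefEq.respectTransparency false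

namespace Groth.Agent.Lib.Helper51

open AlgSp Groth.Agent.Lib.Helper52 Groth.Agent.Lib.Helper78.AlgSpLocP

variable {S : Scheme.{u}}

/-- Étaleness is étale local on the source-and-target. -/
theorem etLocalST_etale : EtLocalST (@Etale : MorphismProperty Scheme.{u}) :=
  EtLocalST.mk' _ (fun e he => he)
    (fun e he => by have : IsOpenImmersion e := he; exact inferInstanceAs (Etale e))
    (fun e h he hs H => by
      have H' : Etale (e ≫ h) := H
      have h1 : Flat h :=
        Groth.Agent.Lib.Helper78.AlgSpLocPFlat.etLocalST_flat.descend e h he hs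
          (inferInstanceAs (Flat (e ≫ h)))
      have h2 : FormallyUnramified h :=
        Groth.Agent.Lib.Helper78.AlgSpLocPUnram.etLocalST_fu.descend e h he hs
          (inferInstanceAs (FormallyUnramified (e ≫ h)))
      have h3 : LocallyOfFinitePresentation h :=
        Groth.Agent.Lib.Helper78.AlgSpLocPLofp.etLocalST_lofp.descend e h he hs
          (inferInstanceAs (LocallyOfFinitePresentation (e ≫ h)))
      exact Etale.iff_flat_and_formallyUnramified.2 ⟨h1, h2, h3⟩)

/-- A representable morphism to a sheaf with an étale atlas which has `Q` on charts is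
representable with property `Q`, for `Q` satisfying fppf descent. -/
theorem repWith_of_locP (Q : MorphismProperty Scheme.{u})
    [Q.DescendsAlong (@Surjective ⊓ @Flat ⊓ @LocallyOfFinitePresentation)]
    [Q.IsStableUnderBaseChange]
    {X Y : AlgSp.Sp S} {f : X ⟶ Y} (hf : AlgSp.Representable f)
    (hY : ∃ (V : Over S) (b : (AlgSp.yon S).obj V ⟶ Y),
      AlgSp.RepWith @Etale b ∧ AlgSp.RepWith @Surjective b)
    (h : AlgSp.LocP Q f) : AlgSp.RepWith Q f := by
  obtain ⟨V, b, hbe, hbs⟩ := hY
  have sq := hf.isPullback b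
  have hfe : AlgSp.RepWith @Etale (hf.fst b) := MorphismProperty.of_isPullback sq.flip hbe
  have hQ : Q (hf.snd b).left := h (hf.fst b) b (hf.snd b) hfe hbe sq.w
  exact Groth.Agent.Lib.Helper30.repWith_of_etale_cover Q sq hf hbe hbs
    ((AlgSp.repWith_yon_map_iff Q _).2 hQ)

/-- A morphism to an algebraic space which is étale on charts is étale. -/
theorem isEtaleMor_of_locP {X Y : AlgSp.Sp S} (hY : AlgSp.IsAlgSpace Y) {f : X ⟶ Y}
    (h : AlgSp.LocP @Etale f) : AlgSp.IsEtaleMor f := by
  intro U φ hφ
  exact repWith_of_locP @Etale (hY.representable_from_yon _) hY.atlas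
    (locP_precomp_chart f φ hφ h)

theorem isEtaleMor_iff_locP {X Y : AlgSp.Sp S} (hY : AlgSp.IsAlgSpace Y) {f : X ⟶ Y} :
    AlgSp.IsEtaleMor f ↔ AlgSp.LocP @Etale f :=
  ⟨fun h => Groth.Agent.Lib.Helper30.locP_of_isEtaleMor @Etale (fun _ hk => hk) h,
    isEtaleMor_of_locP hY⟩

/-- One étale chart diagram with surjective source chart suffices for étaleness. -/
theorem isEtaleMor_of_chart_square {X Y : AlgSp.Sp S} (hY : AlgSp.IsAlgSpace Y) (f : X ⟶ Y)
    {U V : Over S} (a : (AlgSp.yon S).obj U ⟶ X) (ha : AlgSp.RepWith @Etale a)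
    (has : AlgSp.RepWith @Surjective a) (b : (AlgSp.yon S).obj V ⟶ Y)
    (hb : AlgSp.RepWith @Etale b) (h : U ⟶ V) (hh : Etale h.left)
    (w : a ≫ f = (AlgSp.yon S).map h ≫ b) : AlgSp.IsEtaleMor f :=
  isEtaleMor_of_locP hY (locP_of_chart etLocalST_etale f a b h ha has hb w hh)

/-- Étaleness of morphisms of algebraic spaces is stable under base change. -/
theorem isEtaleMor_of_isPullback {X Y Z P : AlgSp.Sp S} (hX : AlgSp.IsAlgSpace X)
    (hY : AlgSp.IsAlgSpace Y) (hZ : AlgSp.IsAlgSpace Z) {f : X ⟶ Y} {g : Z ⟶ Y} {fst : P ⟶ Z}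
    {snd : P ⟶ X} (h : IsPullback fst snd g f) (hf : AlgSp.IsEtaleMor f) :
    AlgSp.IsEtaleMor fst := by
  refine isEtaleMor_of_locP hZ ?_
  exact locP_of_isPullback etLocalST_etale h.flip
    (Groth.Agent.Lib.Helper78.AlgSpFibre.repAll_of_isAlgSpace hY) hX.atlas hY.atlas
    ((isEtaleMor_iff_locP hY).1 hf)

/-- A map from a scheme which becomes representable étale after an étale surjective base change of
the source is representable étale. -/
theorem repWith_etale_of_comp_surjective_etale {X : AlgSp.Sp S} (hX : AlgSp.IsAlgSpace X)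
    {U U' : Over S} (χ : U ⟶ U') (hχe : Etale χ.left) (hχs : Surjective χ.left)
    (φ' : (AlgSp.yon S).obj U' ⟶ X)
    (h : AlgSp.RepWith @Etale ((AlgSp.yon S).map χ ≫ φ')) : AlgSp.RepWith @Etale φ' := by
  refine repWith_of_locP @Etale (hX.representable_from_yon _) hX.atlas ?_
  refine locP_of_precomp_chart etLocalST_etale φ' ((AlgSp.yon S).map χ)
    ((AlgSp.repWith_yon_map_iff @Etale χ).2 hχe) ((AlgSp.repWith_yon_map_iff @Surjective χ).2 hχs) ?_
  exact Groth.Agent.Lib.Helper30.locP_of_repWith @Etale @Etale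
    (fun k i hk hi => MorphismProperty.comp_mem _ _ _ hk hi) h

end Groth.Agent.Lib.Helper51
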