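import Groth.Agent.Lib.Helper51.AlgSpOnePt2
import Mathlib.RingTheory.Unramified.Finite
import Mathlib.AlgebraicGeometry.Morphisms.Finite

/-!
One-point algebraic spaces: a decent space with an étale surjective field point is the spectrum
of a field (helper51).
-/

set_option autoImplicit false
set_option linter.unusedSectionVars false
universe u
open CategoryTheory CategoryTheory.Limits AlgebraicGeometry Opposite

set_option backward.isDefEq.respectTransparency false

namespace Groth.Agent.Lib.Helper51

/-- An étale morphism between spectra of fields is finite. -/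
theorem isFinite_of_etale_spec_field {K L : Type u} [Field K] [Field L]
    (c : Spec (CommRingCat.of L) ⟶ Spec (CommRingCat.of K)) [Etale c] : IsFinite c := by
  obtain ⟨φ, rfl⟩ := Spec.map_surjective c
  rw [IsFinite.SpecMap_iff]
  have h : φ.hom.Etale := (HasRingHomProperty.Spec_iff (P := @Etale)).mp ‹_›
  algebraize [φ.hom]
  have : Algebra.Etale K L := h
  show Module.Finite K L
  exact Algebra.FormallyUnramified.finite_of_free K L

open AlgSp Groth.Agent.Lib.Helper52

variable {S : Scheme.{u}}

/-- If a monomorphic field point of an algebraic space and an étale surjective field point are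
given, the monomorphic one is an isomorphism and the other one is finite étale over it. -/
theorem exists_iso_of_mono_fieldPt_of_etale_surjective {X : AlgSp.Sp S} (hX : AlgSp.IsAlgSpace X)
    (p' : AlgSp.FieldPt X) [Mono p'.toHom] {k : Type u} [Field k]
    (str : Spec (CommRingCat.of k) ⟶ S) (p : (AlgSp.yon S).obj (Over.mk str) ⟶ X)
    (hp : AlgSp.RepWith @Etale p) (hs : AlgSp.RepWith @Surjective p) :
    ∃ (e : (AlgSp.yon S).obj p'.pt ≅ X) (c : Over.mk str ⟶ p'.pt),
      (AlgSp.yon S).map c ≫ e.hom = p ∧ IsFinite c.left ∧ Etale c.left := by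
  have sqP := IsPullback.of_hasPullback p'.toHom p
  have hP : AlgSp.IsAlgSpace (pullback p'.toHom p) :=
    Groth.Agent.Lib.Helper30.isAlgSpace_of_isPullback hX.diag (AlgSp.IsAlgSpace.yon_obj _)
      (AlgSp.IsAlgSpace.yon_obj _) sqP
  have hne : Nonempty (AlgSp.Points (pullback p'.toHom p)) := by
    obtain ⟨t⟩ := nonempty_points_yon_field str
    obtain ⟨t', ht'⟩ : ∃ t' : AlgSp.Points ((AlgSp.yon S).obj p'.pt),
        Points.map p'.toHom t' = Points.map p t := by
      obtain ⟨t0⟩ := nonempty_points_yon_field p'.str
      obtain ⟨s, hs'⟩ := surjective_map_of_repWith_surjective hs (Points.map p'.toHom t0)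
      refine ⟨t0, ?_⟩
      rw [← hs']
      congr 1
      have := subsingleton_points_yon_field str
      exact Subsingleton.elim _ _
    obtain ⟨w, -, -⟩ := exists_point_of_isPullback sqP t' t ht'
    exact ⟨w⟩
  have hiso : IsIso (pullback.snd p'.toHom p) := isIso_of_mono_to_yon_field str hP _ hne
  have hepi : Epi p := Groth.Agent.Lib.Helper30.epi_of_repWith_etale_surjective p hp hs
  have hfac : (inv (pullback.snd p'.toHom p) ≫ pullback.fst p'.toHom p) ≫ p'.toHom = p := by
    rw [Category.assoc, pullback.condition, IsIso.inv_hom_id_assoc]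
  have : Epi ((inv (pullback.snd p'.toHom p) ≫ pullback.fst p'.toHom p) ≫ p'.toHom) := by
    rw [hfac]; exact hepi
  have : Epi p'.toHom := epi_of_epi (inv (pullback.snd p'.toHom p) ≫ pullback.fst p'.toHom p) _
  have hiso' : IsIso p'.toHom := isIso_of_mono_of_epi _
  let c : Over.mk str ⟶ p'.pt := (AlgSp.yon S).preimage (p ≫ inv p'.toHom)
  have hc : (AlgSp.yon S).map c = p ≫ inv p'.toHom := (AlgSp.yon S).map_preimage _
  have hce : Etale c.left := by
    rw [← AlgSp.repWith_yon_map_iff @Etale c, hc]
    exact (MorphismProperty.cancel_right_of_respectsIso (AlgSp.RepWith @Etale) p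
      (inv p'.toHom)).2 hp
  refine ⟨asIso p'.toHom, c, ?_, ?_, hce⟩
  · rw [hc, asIso_hom, Category.assoc, IsIso.inv_hom_id, Category.comp_id]
  · exact isFinite_of_etale_spec_field (K := p'.K) (L := k) c.left

end Groth.Agent.Lib.Helper51
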