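import Groth.Agent.Lib.Helper30.AlgSpGlue2
import Groth.Agent.Lib.Helper51.AlgSpPoints

/-!
A sheaf covered, on points, by open subschemes is representable (helper51).
-/

set_option autoImplicit false
set_option linter.unusedSectionVars false
universe u
open CategoryTheory CategoryTheory.Limits AlgebraicGeometry Opposite

set_option backward.isDefEq.respectTransparency false

namespace Groth.Agent.Lib.Helper51

open AlgSp Groth.Agent.Lib.Helper52 Groth.Agent.Lib.Helper30.Glue

variable {S : Scheme.{u}}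

/-- A family of open subschemes of a sheaf which covers its points is jointly surjective. -/
theorem jointlySurj_of_points {X : AlgSp.Sp S} {ι : Type u} {U : ι → Over S}
    (j : ∀ i, (AlgSp.yon S).obj (U i) ⟶ X) (hj : ∀ i, AlgSp.RepWith @IsOpenImmersion (j i))
    (hs : ∀ x : Points X, ∃ (i : ι) (v : ↥(U i).left), Points.ofPt (j i) v = x) :
    JointlySurj j := by
  intro T ξ
  choose W a b sq using fun i => exists_isPullback_of_representable (hj i).1 ξ
  have hb : ∀ i, IsOpenImmersion (b i).left := fun i => (hj i).2 ξ _ (b i) (sq i)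
  have hcov : ∀ t : ↥T.left, ∃ (i : ι) (y : ↥(W i).left), (b i).left y = t := by
    intro t
    obtain ⟨i, v, hv⟩ := hs (Points.ofPt ξ t)
    obtain ⟨w, -, hw⟩ := exists_of_ofPt_eq_ofPt (sq i) hv
    exact ⟨i, w, hw⟩
  let 𝒰 : Scheme.OpenCover.{u} T.left :=
    Scheme.Cover.mkOfCovers ι (fun i => (W i).left) (fun i => (b i).left) hcov hb
  refine ⟨Sieve.ofArrows (coverOver T 𝒰) (coverι T 𝒰), ofArrows_openCover_mem T 𝒰, ?_⟩
  rintro V g ⟨_, h, _, ⟨i⟩, fac⟩
  let c : coverOver T 𝒰 i ⟶ W i := Over.homMk (𝟙 (W i).left) (by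
    show 𝟙 (W i).left ≫ (W i).hom = (b i).left ≫ T.hom
    rw [Category.id_comp, Over.w])
  have hcb : c ≫ b i = coverι T 𝒰 i := by
    apply Over.OverMorphism.ext
    show 𝟙 (W i).left ≫ (b i).left = (b i).left
    exact Category.id_comp _
  refine ⟨i, h ≫ c ≫ a i, ?_⟩
  rw [Functor.map_comp, Functor.map_comp, Category.assoc, Category.assoc, (sq i).w,
    ← Category.assoc ((AlgSp.yon S).map c), ← Functor.map_comp, hcb, ← Category.assoc,
    ← Functor.map_comp, fac]

/-- A sheaf covered, on points, by open subschemes is representable. -/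
theorem exists_iso_yon_of_open_cover_points {X : AlgSp.Sp S} {ι : Type u} {U : ι → Over S}
    (j : ∀ i, (AlgSp.yon S).obj (U i) ⟶ X) (hj : ∀ i, AlgSp.RepWith @IsOpenImmersion (j i))
    (hs : ∀ x : Points X, ∃ (i : ι) (v : ↥(U i).left), Points.ofPt (j i) v = x) :
    ∃ W : Over S, Nonempty ((AlgSp.yon S).obj W ≅ X) := by
  obtain ⟨W, e, -⟩ := exists_iso_of_open_cover hj (jointlySurj_of_points j hj hs)
  exact ⟨W, ⟨e⟩⟩

/-- A sheaf covered, on points, by open subschemes is representable. -/
theorem isRepresentable_of_open_cover_points {X : AlgSp.Sp S} {ι : Type u} {U : ι → Over S}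
    (j : ∀ i, (AlgSp.yon S).obj (U i) ⟶ X) (hj : ∀ i, AlgSp.RepWith @IsOpenImmersion (j i))
    (hs : ∀ x : Points X, ∃ (i : ι) (v : ↥(U i).left), Points.ofPt (j i) v = x) :
    X.obj.IsRepresentable := by
  obtain ⟨W, ⟨e⟩⟩ := exists_iso_yon_of_open_cover_points j hj hs
  exact (AlgSp.representableByOfIso e).isRepresentable

end Groth.Agent.Lib.Helper51
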