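import Groth.Agent.Lib.Helper51.AlgSpDiag
import Groth.Prelude.Def_AlgSpDec

/-!
Decent sheaves and decent morphisms: formal permanence properties (helper51).
-/

set_option autoImplicit false
set_option linter.unusedSectionVars false
universe u
open CategoryTheory CategoryTheory.Limits AlgebraicGeometry Opposite

set_option backward.isDefEq.respectTransparency false

namespace Groth.Agent.Lib.Helper51

/-- A morphism of schemes with at most one point in the source is quasi-compact. -/
theorem quasiCompact_of_subsingleton {X Y : Scheme.{u}} (f : X ⟶ Y) [Subsingleton ↥X] :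
    QuasiCompact f :=
  ⟨fun U _ _ => (Set.toFinite (f ⁻¹' U)).isCompact⟩

open AlgSp Groth.Agent.Lib.Helper52

variable {S : Scheme.{u}} {F G : AlgSp.Sp S}

/-- Representable sheaves are decent. -/
theorem isDecent_yon_obj (T : Over S) : AlgSp.IsDecent ((AlgSp.yon S).obj T) := by
  intro x
  obtain ⟨t, rfl⟩ := (Points.schemeEquiv T).surjective x
  refine ⟨FieldPt.ofPt (𝟙 _) t, ?_, ?_, ?_⟩
  · change Points.ofPt (𝟙 _) t = Points.ofScheme T t
    rw [Points.ofPt_eq_map_ofScheme, Points.map_id]
  · rw [FieldPt.toHom_ofPt, Category.comp_id]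
    have : Mono (Over.homMk (T.left.fromSpecResidueField t) rfl :
        Over.mk (T.left.fromSpecResidueField t ≫ T.hom) ⟶ T) :=
      Over.mono_of_mono_left _
    infer_instance
  · rw [FieldPt.toHom_ofPt, Category.comp_id, AlgSp.repWith_yon_map_iff]
    change QuasiCompact (T.left.fromSpecResidueField t)
    have : Subsingleton ↥(Spec (CommRingCat.of ↥(T.left.residueField t))) :=
      (inferInstance : Subsingleton (PrimeSpectrum ↥(T.left.residueField t)))
    exact quasiCompact_of_subsingleton _

/-- Composing a monomorphic quasi-compact field point with a monomorphic quasi-compact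
morphism. -/
theorem exists_fieldPt_map {F' : AlgSp.Sp S} (j : F' ⟶ F) [Mono j]
    (hj : AlgSp.RepWith @QuasiCompact j) (x' : Points F')
    (h : ∃ p : FieldPt F', Points.mk p = x' ∧ Mono p.toHom ∧
      AlgSp.RepWith @QuasiCompact p.toHom) :
    ∃ p : FieldPt F, Points.mk p = Points.map j x' ∧ Mono p.toHom ∧
      AlgSp.RepWith @QuasiCompact p.toHom := by
  obtain ⟨p, rfl, hm, hq⟩ := h
  refine ⟨p.map j, (Points.map_mk j p).symm, ?_, ?_⟩
  · rw [FieldPt.toHom_map]; exact mono_comp _ _
  · rw [FieldPt.toHom_map]; exact (AlgSp.RepWith @QuasiCompact).comp_mem _ _ hq hj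

/-- If the target is decent and the fibres over monomorphic quasi-compact field points are
decent, then the source is decent. -/
theorem isDecent_of_fibres (f : F ⟶ G) (hG : AlgSp.IsDecent G)
    (H : ∀ q : FieldPt G, Mono q.toHom → AlgSp.RepWith @QuasiCompact q.toHom →
      ∃ (F' : AlgSp.Sp S) (fst : F' ⟶ F) (snd : F' ⟶ (AlgSp.yon S).obj q.pt),
        IsPullback fst snd f q.toHom ∧ AlgSp.IsDecent F') : AlgSp.IsDecent F := by
  intro x
  obtain ⟨q, hq, hm, hqc⟩ := hG (Points.map f x)
  obtain ⟨F', fst, snd, sq, hF'⟩ := H q hm hqc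
  have hz : Points.map f x = Points.map q.toHom
      (Points.ofScheme q.pt (IsLocalRing.closedPoint q.K)) := by
    rw [← Points.ofPt_eq_map_ofScheme, Points.ofPt_toHom, hq]
  obtain ⟨x', hx', _⟩ := exists_point_of_isPullback sq x _ hz
  have : Mono fst := sq.mono_fst_of_mono
  have hfst : AlgSp.RepWith @QuasiCompact fst := MorphismProperty.of_isPullback sq.flip hqc
  rw [← hx']
  exact exists_fieldPt_map fst hfst x' (hF' x')

/-- The source of a representable morphism to a decent sheaf is decent. -/
theorem isDecent_of_representable (f : F ⟶ G) (hf : AlgSp.Representable f)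
    (hG : AlgSp.IsDecent G) : AlgSp.IsDecent F := by
  apply isDecent_of_fibres f hG
  intro q _ _
  exact ⟨_, hf.fst q.toHom, (AlgSp.yon S).map (hf.snd q.toHom), hf.isPullback q.toHom,
    isDecent_yon_obj _⟩

/-- The source of a decent morphism to a decent sheaf is decent. -/
theorem isDecent_of_isDecentMor (f : F ⟶ G) (hf : AlgSp.IsDecentMor f)
    (hG : AlgSp.IsDecent G) : AlgSp.IsDecent F := by
  apply isDecent_of_fibres f hG
  intro q _ _
  exact ⟨pullback f q.toHom, pullback.fst _ _, pullback.snd _ _, IsPullback.of_hasPullback _ _,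
    hf q.toHom _ _ (IsPullback.of_hasPullback _ _)⟩

/-- A morphism with decent source to a sheaf with representable diagonal is decent. -/
theorem isDecentMor_of_isDecent (f : F ⟶ G) (hG : AlgSp.Representable (Limits.diag G))
    (hF : AlgSp.IsDecent F) : AlgSp.IsDecentMor f := by
  intro T F' g fst snd sq
  have hg : AlgSp.Representable g := Functor.relativelyRepresentable.of_diag hG g
  exact isDecent_of_representable fst (MorphismProperty.of_isPullback sq.flip hg) hF

/-- Base change of a decent morphism is decent. -/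
theorem isDecentMor_of_isPullback {F' G' : AlgSp.Sp S} {f : F ⟶ G} {f' : F' ⟶ G'}
    {a : F' ⟶ F} {b : G' ⟶ G} (sq : IsPullback a f' f b) (hf : AlgSp.IsDecentMor f) :
    AlgSp.IsDecentMor f' := by
  intro T F'' g fst snd sq'
  exact hf (g ≫ b) (fst ≫ a) snd (sq'.paste_horiz sq)

/-- Composition of decent morphisms. -/
theorem isDecentMor_comp {H : AlgSp.Sp S} (f : F ⟶ G) (g : G ⟶ H) (hf : AlgSp.IsDecentMor f)
    (hg : AlgSp.IsDecentMor g) : AlgSp.IsDecentMor (f ≫ g) := by
  intro T F' t fst snd sq
  have hG' : AlgSp.IsDecent (pullback g t) :=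
    hg t _ _ (IsPullback.of_hasPullback g t)
  let l : F' ⟶ pullback g t := pullback.lift (fst ≫ f) snd (by rw [Category.assoc]; exact sq.w)
  have h1 : IsPullback fst l f (pullback.fst g t) := by
    refine IsPullback.of_bot ?_ ?_ (IsPullback.of_hasPullback g t)
    · simpa [l] using sq
    · simp [l]
  exact isDecent_of_isDecentMor l (isDecentMor_of_isPullback h1 hf) hG'

end Groth.Agent.Lib.Helper51

namespace Groth.Agent.Lib.Helper51

open AlgSp Groth.Agent.Lib.Helper52

variable {S : Scheme.{u}} {F G : AlgSp.Sp S}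

/-- The projection `F × h_T ⟶ F` is representable. -/
theorem representable_prod_fst_yon (F : AlgSp.Sp S) (T : Over S) :
    AlgSp.Representable (prod.fst : F ⨯ (AlgSp.yon S).obj T ⟶ F) := by
  intro V g
  refine ⟨V ⨯ T, prod.fst, (prodCmp V T).hom ≫ prod.map g (𝟙 _), ?_⟩
  have h1 : IsPullback (prod.map g (𝟙 ((AlgSp.yon S).obj T))) prod.fst prod.fst g :=
    (IsPullback.of_prod_fst_with_id g ((AlgSp.yon S).obj T)).flip
  refine h1.of_iso (prodCmp V T).symm (Iso.refl _) (Iso.refl _) (Iso.refl _) ?_ ?_ ?_ ?_
  · simp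
  · simp [prodCmp, prodComparison_fst]
  · simp
  · simp

/-- The product of a decent sheaf with a representable sheaf is decent. -/
theorem isDecent_prod_yon (hF : AlgSp.IsDecent F) (T : Over S) :
    AlgSp.IsDecent (F ⨯ (AlgSp.yon S).obj T) :=
  isDecent_of_representable prod.fst (representable_prod_fst_yon F T) hF

/-- The second projection of a product with a decent sheaf is a decent morphism. -/
theorem isDecentMor_prod_snd (hF : AlgSp.IsDecent F) (G : AlgSp.Sp S) :
    AlgSp.IsDecentMor (prod.snd : F ⨯ G ⟶ G) := by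
  intro T F' t fst snd sq
  have h1 : IsPullback (prod.map (𝟙 F) t) prod.snd prod.snd t :=
    (isPullback_prod_snd_with_id t F).flip
  let e : F' ≅ F ⨯ (AlgSp.yon S).obj T := sq.isoIsPullback _ _ h1
  exact (isDecent_prod_yon hF T).of_iso e.symm

/-- The product of two decent sheaves is decent. -/
theorem isDecent_prod (hF : AlgSp.IsDecent F) (hG : AlgSp.IsDecent G) :
    AlgSp.IsDecent (F ⨯ G) :=
  isDecent_of_isDecentMor prod.snd (isDecentMor_prod_snd hF G) hG

/-- A fibre product of decent sheaves over a sheaf with representable diagonal is decent. -/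
theorem isDecent_of_isPullback {P X Z Y : AlgSp.Sp S} {fst : P ⟶ X} {snd : P ⟶ Z} {f : X ⟶ Y}
    {g : Z ⟶ Y} (sq : IsPullback fst snd f g) (hY : AlgSp.Representable (Limits.diag Y))
    (hX : AlgSp.IsDecent X) (hZ : AlgSp.IsDecent Z) : AlgSp.IsDecent P := by
  have h1 := isPullback_diag_of_isPullback sq
  have h2 : AlgSp.Representable (prod.lift fst snd) := MorphismProperty.of_isPullback h1 hY
  exact isDecent_of_representable _ h2 (isDecent_prod hX hZ)

end Groth.Agent.Lib.Helper51
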