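import Mathlib.Algebra.Algebra.Epi
import Mathlib.Algebra.Category.Ring.Epi
import Mathlib.LinearAlgebra.Basis.VectorSpace
import Mathlib.RingTheory.TensorProduct.Basic
import Mathlib.AlgebraicGeometry.AffineScheme
import Mathlib.AlgebraicGeometry.Cover.Open

/-!
A monomorphism from a nonempty scheme to the spectrum of a field is an isomorphism (helper51).
-/

set_option autoImplicit false
universe u
open CategoryTheory CategoryTheory.Limits AlgebraicGeometry TensorProduct

namespace Groth.Agent.Lib.Helper51

theorem bijective_algebraMap_of_isEpi_field (L A : Type*) [Field L] [CommRing A] [Nontrivial A]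
    [Algebra L A] [Algebra.IsEpi L A] : Function.Bijective (algebraMap L A) := by
  refine ⟨(algebraMap L A).injective, fun a => ?_⟩
  obtain ⟨π, hπ⟩ := (Algebra.linearMap L A).exists_leftInverse_of_injective
    (LinearMap.ker_eq_bot.mpr (algebraMap L A).injective)
  have h := (Algebra.isEpi_iff_forall_one_tmul_eq L A).mp inferInstance a
  have h2 := congrArg (fun t => TensorProduct.lid L A (TensorProduct.map π LinearMap.id t)) h
  simp only [TensorProduct.map_tmul, LinearMap.id_coe, id_eq, TensorProduct.lid_tmul] at h2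
  have h1 : π 1 = 1 := by
    have := LinearMap.congr_fun hπ 1
    simpa using this
  rw [h1, one_smul] at h2
  exact ⟨π a, by rw [Algebra.algebraMap_eq_smul_one]; exact h2.symm⟩

/-- An epimorphism of commutative rings from a field to a nontrivial ring is bijective. -/
theorem bijective_of_epi_of_field {L : Type u} [Field L] {A : CommRingCat.{u}} [Nontrivial A]
    (φ : CommRingCat.of L ⟶ A) [Epi φ] : Function.Bijective φ.hom := by
  algebraize [φ.hom]
  have h1 : Epi (CommRingCat.ofHom (algebraMap L A)) := by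
    have : CommRingCat.ofHom (algebraMap L A) = φ := rfl
    rw [this]; infer_instance
  have : Algebra.IsEpi L A := CommRingCat.epi_iff_epi.mp h1
  exact bijective_algebraMap_of_isEpi_field L A

theorem isIso_of_mono_of_isAffine_to_spec_field {W : Scheme.{u}} [IsAffine W] [Nonempty ↥W]
    {L : Type u} [Field L] (h : W ⟶ Spec (CommRingCat.of L)) [Mono h] : IsIso h := by
  let φ : CommRingCat.of L ⟶ Γ(W, ⊤) := (Scheme.ΓSpecIso (CommRingCat.of L)).inv ≫ h.appTop
  have hfac : h = W.isoSpec.hom ≫ Spec.map φ := by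
    have h1 := Scheme.toSpecΓ_naturality h
    rw [← SpecMap_ΓSpecIso_hom] at h1
    have h2 : h = (W.toSpecΓ ≫ Spec.map h.appTop) ≫
        Spec.map (Scheme.ΓSpecIso (CommRingCat.of L)).inv := by
      rw [← h1, Category.assoc, ← Spec.map_comp, Iso.inv_hom_id, Spec.map_id, Category.comp_id]
    rw [h2, Category.assoc, ← Spec.map_comp]
    rfl
  have hm : Mono (Spec.map φ) := by
    have : Mono (W.isoSpec.hom ≫ Spec.map φ) := hfac ▸ inferInstance
    have h3 : Spec.map φ = W.isoSpec.inv ≫ (W.isoSpec.hom ≫ Spec.map φ) := by simp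
    rw [h3]
    infer_instance
  have he : Epi φ := by
    constructor
    intro B α β hαβ
    apply Spec.map_injective
    rw [← cancel_mono (Spec.map φ), ← Spec.map_comp, ← Spec.map_comp, hαβ]
  have : Nontrivial Γ(W, ⊤) := by
    by_contra hn
    rw [not_nontrivial_iff_subsingleton] at hn
    have : IsEmpty ↥(Spec Γ(W, ⊤)) := inferInstanceAs (IsEmpty (PrimeSpectrum Γ(W, ⊤)))
    exact this.false (W.isoSpec.hom (Classical.arbitrary _))
  have hb := bijective_of_epi_of_field φ
  have : IsIso φ := (ConcreteCategory.isIso_iff_bijective φ).mpr hb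
  rw [hfac]
  infer_instance

/-- A monomorphism from a nonempty scheme to the spectrum of a field is an isomorphism. -/
theorem isIso_of_mono_to_spec_field {W : Scheme.{u}} [Nonempty ↥W] {L : Type u} [Field L]
    (g : W ⟶ Spec (CommRingCat.of L)) [Mono g] : IsIso g := by
  obtain ⟨w⟩ := ‹Nonempty ↥W›
  obtain ⟨W0, hW0, hw, _⟩ := exists_isAffineOpen_mem_and_subset
    (TopologicalSpace.Opens.mem_top w)
  have : IsAffine W0.toScheme := hW0
  have : Nonempty ↥W0.toScheme := ⟨⟨w, hw⟩⟩
  have : IsIso (W0.ι ≫ g) := isIso_of_mono_of_isAffine_to_spec_field (W0.ι ≫ g)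
  let s : Spec (CommRingCat.of L) ⟶ W := inv (W0.ι ≫ g) ≫ W0.ι
  have hs : s ≫ g = 𝟙 _ := by simp [s]
  have hs' : g ≫ s = 𝟙 _ := by
    rw [← cancel_mono g, Category.assoc, hs, Category.comp_id, Category.id_comp]
  exact ⟨s, hs', hs⟩

end Groth.Agent.Lib.Helper51
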