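import Groth.Agent.Lib.Helper51.AlgSpPoints
import Groth.Agent.Lib.Helper51.MonoField
import Groth.Agent.Lib.Helper51.AlgSpDecent
import Groth.Prelude.Def_AlgSpDec

/-!
Factoring field points through monomorphic field points (helper51).
-/

set_option autoImplicit false
set_option linter.unusedSectionVars false
universe u
open CategoryTheory CategoryTheory.Limits AlgebraicGeometry Opposite

set_option backward.isDefEq.respectTransparency false

namespace Groth.Agent.Lib.Helper51

open AlgSp Groth.Agent.Lib.Helper52

variable {S : Scheme.{u}} {F G : AlgSp.Sp S}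

/-- A field point in the class of a representable monomorphic field point factors uniquely through
it. -/
theorem existsUnique_factor_of_mono_fieldPt (p q : FieldPt F) (hrep : AlgSp.Representable p.toHom)
    (h : Points.mk p = Points.mk q) [Mono p.toHom] :
    ∃! c : q.pt ⟶ p.pt, (AlgSp.yon S).map c ≫ p.toHom = q.toHom := by
  obtain ⟨W, φ, ψ, sq⟩ := exists_isPullback_of_representable hrep q.toHom
  have hmψ : Mono ((AlgSp.yon S).map ψ) := sq.mono_snd_of_mono
  have hmψ' : Mono ψ := (AlgSp.yon S).mono_of_mono_map hmψ
  have hml : Mono ψ.left := inferInstance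
  have hpt : Points.ofPt p.toHom (IsLocalRing.closedPoint p.K) =
      Points.ofPt q.toHom (IsLocalRing.closedPoint q.K) := by
    rw [Points.ofPt_toHom, Points.ofPt_toHom, h]
  obtain ⟨w, _, _⟩ := exists_of_ofPt_eq_ofPt sq hpt
  have hne : Nonempty ↥W.left := ⟨w⟩
  have hiso : IsIso ψ.left := isIso_of_mono_to_spec_field (L := q.K) ψ.left
  have hiso' : IsIso ψ := by
    have : IsIso ((Over.forget S).map ψ) := hiso
    exact isIso_of_reflects_iso ψ (Over.forget S)
  refine ⟨inv ψ ≫ φ, ?_, ?_⟩
  · change (AlgSp.yon S).map (inv ψ ≫ φ) ≫ p.toHom = q.toHom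
    rw [Functor.map_comp, Category.assoc, sq.w, ← Category.assoc, ← Functor.map_comp,
      IsIso.inv_hom_id, CategoryTheory.Functor.map_id, Category.id_comp]
  · intro c' hc'
    apply (AlgSp.yon S).map_injective
    rw [← cancel_mono p.toHom, hc']
    rw [Functor.map_comp, Category.assoc, sq.w, ← Category.assoc, ← Functor.map_comp,
      IsIso.inv_hom_id, CategoryTheory.Functor.map_id, Category.id_comp]

/-- Every field point in the class of a quasi-compact monomorphic field point is
quasi-compact. -/
theorem repWith_quasiCompact_of_mk_eq (p q : FieldPt F) (hm : Mono p.toHom)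
    (hp : AlgSp.RepWith @QuasiCompact p.toHom) (h : Points.mk q = Points.mk p) :
    AlgSp.RepWith @QuasiCompact q.toHom := by
  obtain ⟨c, hc, _⟩ := existsUnique_factor_of_mono_fieldPt p q hp.1 h.symm
  rw [← hc]
  refine (AlgSp.RepWith @QuasiCompact).comp_mem _ _ ?_ hp
  rw [AlgSp.repWith_yon_map_iff]
  have : Subsingleton ↥q.pt.left := inferInstanceAs (Subsingleton (PrimeSpectrum q.K))
  exact quasiCompact_of_subsingleton _

end Groth.Agent.Lib.Helper51
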