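import Mathlib.RingTheory.TensorProduct.Maps
import Mathlib.Algebra.Category.Ring.Constructions
import Mathlib.CategoryTheory.Limits.Shapes.Pullback.IsPullback.Basic
import Mathlib.CategoryTheory.ConcreteCategory.EpiMono

/-!
Surjectivity of the product map out of a tensor product over the integers, in terms of
generation by the two images (helper51).
-/

set_option autoImplicit false
universe u
open CategoryTheory CategoryTheory.Limits TensorProduct

namespace Groth.Agent.Lib.Helper51

section

variable {A B C : Type*} [CommRing A] [CommRing B] [CommRing C]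

theorem surjective_productMap_int_iff (f : A →+* C) (g : B →+* C) :
    Function.Surjective (Algebra.TensorProduct.productMap f.toIntAlgHom g.toIntAlgHom) ↔
      f.range ⊔ g.range = ⊤ := by
  constructor
  · intro h
    rw [eq_top_iff]
    intro c _
    obtain ⟨t, rfl⟩ := h c
    clear * -
    induction t using TensorProduct.induction_on with
    | zero => simp
    | tmul a b =>
      rw [Algebra.TensorProduct.productMap_apply_tmul]
      exact Subring.mul_mem _ ((le_sup_left : f.range ≤ _) ⟨a, rfl⟩) ((le_sup_right : g.range ≤ _) ⟨b, rfl⟩)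
    | add x y hx hy =>
      rw [map_add]
      exact Subring.add_mem _ hx hy
  · intro h c
    have hc : c ∈ f.range ⊔ g.range := by rw [h]; trivial
    have hle : f.range ⊔ g.range ≤
        (Algebra.TensorProduct.productMap f.toIntAlgHom g.toIntAlgHom).toRingHom.range := by
      apply sup_le
      · rintro _ ⟨a, rfl⟩
        exact ⟨a ⊗ₜ 1, by simp⟩
      · rintro _ ⟨b, rfl⟩
        exact ⟨1 ⊗ₜ b, by simp⟩
    obtain ⟨t, ht⟩ := hle hc
    exact ⟨t, ht⟩

end

/-- In a pushout square of commutative rings, the pushout is generated by the two images. -/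
theorem range_sup_range_eq_top_of_isPushout {R A B P : CommRingCat.{u}} {f : R ⟶ A} {g : R ⟶ B}
    {inl : A ⟶ P} {inr : B ⟶ P} (h : IsPushout f g inl inr) :
    inl.hom.range ⊔ inr.hom.range = ⊤ := by
  set D : Subring P := inl.hom.range ⊔ inr.hom.range with hD
  let ι : CommRingCat.of D ⟶ P := CommRingCat.ofHom D.subtype
  let inl' : A ⟶ CommRingCat.of D := CommRingCat.ofHom
    (inl.hom.codRestrict D (fun a => (le_sup_left : inl.hom.range ≤ _) ⟨a, rfl⟩))
  let inr' : B ⟶ CommRingCat.of D := CommRingCat.ofHom
    (inr.hom.codRestrict D (fun b => (le_sup_right : inr.hom.range ≤ _) ⟨b, rfl⟩))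
  have h1 : inl' ≫ ι = inl := by ext; rfl
  have h2 : inr' ≫ ι = inr := by ext; rfl
  have hw : f ≫ inl' = g ≫ inr' := by
    have : Mono ι := ConcreteCategory.mono_of_injective ι Subtype.val_injective
    rw [← cancel_mono ι, Category.assoc, Category.assoc, h1, h2, h.w]
  let φ : P ⟶ CommRingCat.of D := h.desc inl' inr' hw
  have h3 : φ ≫ ι = 𝟙 P := by
    apply h.hom_ext
    · rw [← Category.assoc, h.inl_desc, h1, Category.comp_id]
    · rw [← Category.assoc, h.inr_desc, h2, Category.comp_id]
  rw [eq_top_iff]
  intro c _
  have : c = ι.hom (φ.hom c) := by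
    have := congrArg (fun k => k.hom c) h3
    simpa using this.symm
  rw [this]
  exact (φ.hom c).2

end Groth.Agent.Lib.Helper51
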