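import Groth.Agent.Lib.Helper51.FieldGroupoid
import Groth.Agent.Lib.Helper51.AlgSpOnePt3
import Groth.Agent.Lib.Helper51.TensorGen
import Groth.Agent.Lib.Helper40.SchemeMisc
import Mathlib.Algebra.Category.Ring.Epi

/-!
The quotient of the spectrum of a field by a finite equivalence relation coming from a map to an
algebraic space: construction of monomorphic field points (helper51).
-/

set_option autoImplicit false
set_option linter.unusedSectionVars false
universe u
open CategoryTheory CategoryTheory.Limits AlgebraicGeometry Opposite TensorProduct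

set_option backward.isDefEq.respectTransparency false

namespace Groth.Agent.Lib.Helper51

section Abstract

variable {C : Type*} [Category C]

/-- Descent along an epimorphism with given kernel pair, in a regular epi category. -/
theorem exists_desc_of_epi [IsRegularEpiCategory C] {A Q X R : C} (ε : A ⟶ Q) [Epi ε]
    {r1 r2 : R ⟶ A} (sq : IsPullback r1 r2 ε ε) (q : A ⟶ X) (hq : r1 ≫ q = r2 ≫ q) :
    ∃ p : Q ⟶ X, ε ≫ p = q := by
  have hreg : IsRegularEpi ε := IsRegularEpiCategory.regularEpiOfEpi ε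
  have hcompat : ∀ {Z : C} (g₁ g₂ : Z ⟶ A), g₁ ≫ ε = g₂ ≫ ε → g₁ ≫ q = g₂ ≫ q := by
    intro Z g₁ g₂ hg
    rw [← sq.lift_fst g₁ g₂ hg, Category.assoc, hq, ← Category.assoc, sq.lift_snd]
  exact ⟨EffectiveEpi.desc ε q hcompat, EffectiveEpi.fac ε q _⟩

/-- If `ε` is a universal epimorphism and `ε ≫ p` has the same kernel pair as `ε`, then `p` is a
monomorphism. -/
theorem mono_of_kernelPair_eq [HasPullbacks C] {A Q X R : C} (ε : A ⟶ Q)
    (hε : ∀ {T : C} (u : T ⟶ Q), Epi (pullback.snd ε u)) (p : Q ⟶ X)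
    {r1 r2 : R ⟶ A} (sq : IsPullback r1 r2 (ε ≫ p) (ε ≫ p)) (hr : r1 ≫ ε = r2 ≫ ε) : Mono p := by
  constructor
  intro T u v huv
  have h1 := hε u
  have h2 := hε (pullback.snd ε u ≫ v)
  set a1 := pullback.fst ε u with ha1
  set e1 := pullback.snd ε u with he1
  set b2 := pullback.fst ε (e1 ≫ v) with hb2
  set e2 := pullback.snd ε (e1 ≫ v) with he2
  have c1 : a1 ≫ ε = e1 ≫ u := pullback.condition
  have c2 : b2 ≫ ε = e2 ≫ e1 ≫ v := pullback.condition
  have hcomm : (e2 ≫ a1) ≫ ε ≫ p = b2 ≫ ε ≫ p := by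
    rw [Category.assoc, ← Category.assoc a1, c1, ← Category.assoc b2, c2]
    simp only [Category.assoc]
    rw [huv]
  have h3 : (e2 ≫ a1) ≫ ε = b2 ≫ ε := by
    have l1 := sq.lift_fst _ _ hcomm
    have l2 := sq.lift_snd _ _ hcomm
    calc (e2 ≫ a1) ≫ ε = (sq.lift _ _ hcomm ≫ r1) ≫ ε := by rw [l1]
      _ = (sq.lift _ _ hcomm ≫ r2) ≫ ε := by rw [Category.assoc, hr, ← Category.assoc]
      _ = b2 ≫ ε := by rw [l2]
  rw [Category.assoc, c1, c2] at h3
  rw [← cancel_epi e1, ← cancel_epi e2]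
  exact h3

end Abstract

open AlgSp Groth.Agent.Lib.Helper52

variable {S : Scheme.{u}}

/-- A finite extension of fields gives an fppf covering of spectra. -/
theorem fppf_spec_map_of_finite {k K : Type u} [Field k] [Field K] (ι : k →+* K) (hfin : ι.Finite) :
    LocallyOfFinitePresentation (Spec.map (CommRingCat.ofHom ι)) ∧
      Surjective (Spec.map (CommRingCat.ofHom ι)) ∧ Flat (Spec.map (CommRingCat.ofHom ι)) := by
  refine ⟨?_, ?_, ?_⟩
  · rw [HasRingHomProperty.Spec_iff (P := @LocallyOfFinitePresentation)]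
    exact RingHom.FinitePresentation.of_finiteType.1 (RingHom.FiniteType.of_finite hfin)
  · refine ⟨fun y => ⟨show ↥(Spec (CommRingCat.of K)) from IsLocalRing.closedPoint K, ?_⟩⟩
    exact Subsingleton.elim (α := PrimeSpectrum k) _ _
  · exact flat_of_isAffine_to_spec_field (L := k) _

/-- From the ring-level quotient data to the monomorphic field point. -/
theorem exists_mono_of_isPushout {X : AlgSp.Sp S} {k K : Type u} [Field k] [Field K] (ι : k →+* K)
    (hfin : ι.Finite) {B : CommRingCat.{u}} (s t : CommRingCat.of K ⟶ B)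
    (hpo : IsPushout (CommRingCat.ofHom ι) (CommRingCat.ofHom ι) s t)
    (str : Spec (CommRingCat.of K) ⟶ S) (q : (AlgSp.yon S).obj (Over.mk str) ⟶ X)
    (strR : Spec B ⟶ S) (h1 : Spec.map s ≫ str = strR) (h2 : Spec.map t ≫ str = strR)
    (sq : IsPullback ((AlgSp.yon S).map (Over.homMk (Spec.map s) h1 : Over.mk strR ⟶ Over.mk str))
      ((AlgSp.yon S).map (Over.homMk (Spec.map t) h2 : Over.mk strR ⟶ Over.mk str)) q q) :
    ∃ (strk : Spec (CommRingCat.of k) ⟶ S) (hk : Spec.map (CommRingCat.ofHom ι) ≫ strk = str)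
      (p : (AlgSp.yon S).obj (Over.mk strk) ⟶ X),
      (AlgSp.yon S).map (Over.homMk (Spec.map (CommRingCat.ofHom ι)) hk :
        Over.mk str ⟶ Over.mk strk) ≫ p = q ∧ Mono p := by
  set κ := Spec.map (CommRingCat.ofHom ι) with hκdef
  obtain ⟨hκ1, hκ2, hκ3⟩ := fppf_spec_map_of_finite ι hfin
  have sqS : IsPullback (Spec.map s) (Spec.map t) κ κ := (hpo.op.map Scheme.Spec).flip
  have heff : EffectiveEpi κ := Groth.Agent.Lib.Helper40.SchemeMisc.effectiveEpi_of_fppf κ hκ1 hκ2 hκ3
  have hcompat : ∀ {Z : Scheme.{u}} (g₁ g₂ : Z ⟶ Spec (CommRingCat.of K)),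
      g₁ ≫ κ = g₂ ≫ κ → g₁ ≫ str = g₂ ≫ str := by
    intro Z g₁ g₂ hg
    have l1 := sqS.lift_fst g₁ g₂ hg
    have l2 := sqS.lift_snd g₁ g₂ hg
    calc g₁ ≫ str = (sqS.lift g₁ g₂ hg ≫ Spec.map s) ≫ str := by rw [l1]
      _ = (sqS.lift g₁ g₂ hg ≫ Spec.map t) ≫ str := by
        rw [Category.assoc, h1, Category.assoc, h2]
      _ = g₂ ≫ str := by rw [l2]
  let strk : Spec (CommRingCat.of k) ⟶ S := EffectiveEpi.desc κ str hcompat
  have hk : κ ≫ strk = str := EffectiveEpi.fac κ str _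
  let κO : Over.mk str ⟶ Over.mk strk := Over.homMk κ hk
  let pr1 : Over.mk strR ⟶ Over.mk str := Over.homMk (Spec.map s) h1
  let pr2 : Over.mk strR ⟶ Over.mk str := Over.homMk (Spec.map t) h2
  have sqO : IsPullback pr1 pr2 κO κO := IsPullback.of_map_of_faithful (Over.forget S) sqS
  have sqε := sqO.map (AlgSp.yon S)
  set ε := (AlgSp.yon S).map κO with hε
  have hεfl : AlgSp.RepWith @Flat ε := (AlgSp.repWith_yon_map_iff @Flat κO).2 hκ3
  have hεfp : AlgSp.RepWith @LocallyOfFinitePresentation ε :=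
    (AlgSp.repWith_yon_map_iff @LocallyOfFinitePresentation κO).2 hκ1
  have hεs : AlgSp.RepWith @Surjective ε := (AlgSp.repWith_yon_map_iff @Surjective κO).2 hκ2
  have huniv : ∀ {T : AlgSp.Sp S} (u : T ⟶ (AlgSp.yon S).obj (Over.mk strk)),
      Epi (pullback.snd ε u) := by
    intro T u
    have sqT := IsPullback.of_hasPullback ε u
    have hls := Groth.Agent.S9885.result S _ _ (pullback.snd ε u)
      (MorphismProperty.of_isPullback sqT hεfl) (MorphismProperty.of_isPullback sqT hεfp)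
      (MorphismProperty.of_isPullback sqT hεs)
    infer_instance
  have hepi : Epi ε := by
    have hls := Groth.Agent.S9885.result S _ _ ε hεfl hεfp hεs
    infer_instance
  obtain ⟨p, hp⟩ := exists_desc_of_epi ε sqε q sq.w
  refine ⟨strk, hk, p, hp, ?_⟩
  refine mono_of_kernelPair_eq ε huniv p (r1 := (AlgSp.yon S).map pr1)
    (r2 := (AlgSp.yon S).map pr2) ?_ sqε.w
  rw [hp]
  exact sq

end Groth.Agent.Lib.Helper51
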