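import Groth.Agent.Lib.Helper51.AlgSpOnePt
import Groth.Agent.Lib.Helper51.AlgSpQuotField
import Groth.Agent.Lib.Helper51.AlgSpMonoPt

/-!
Residual spaces and monomorphic field points (helper51).
-/

set_option autoImplicit false
set_option linter.unusedSectionVars false
universe u
open CategoryTheory CategoryTheory.Limits AlgebraicGeometry Opposite

set_option backward.isDefEq.respectTransparency false

namespace Groth.Agent.Lib.Helper51

open AlgSp Groth.Agent.Lib.Helper52

variable {S : Scheme.{u}}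

theorem mk_fieldPtOfHom {F : AlgSp.Sp S} {k : Type u} [Field k] (str : Spec (CommRingCat.of k) ⟶ S)
    (l : (AlgSp.yon S).obj (Over.mk str) ⟶ F) :
    Points.mk (fieldPtOfHom str l) =
      Points.ofPt l (show ↥(Spec (CommRingCat.of k)) from IsLocalRing.closedPoint k) := by
  have h := Points.ofPt_toHom (fieldPtOfHom str l) (IsLocalRing.closedPoint k)
  rw [fieldPtOfHom_toHom] at h
  exact h.symm

/-- The residual space at `x` is the spectrum of a field iff `x` has a monomorphic
representative. -/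
theorem residual_iso_field_iff {X : AlgSp.Sp S} (hX : AlgSp.IsAlgSpace X) (x : Points X)
    {Z : AlgSp.Sp S} (hZ : AlgSp.IsAlgSpace Z) (i : Z ⟶ X) [Mono i]
    (hi : Set.range (Points.map i) = {x})
    (hcov : ∃ (k : Type u) (_ : Field k) (str : Spec (CommRingCat.of k) ⟶ S)
      (p : (AlgSp.yon S).obj (Over.mk str) ⟶ Z),
        AlgSp.LocP @LocallyOfFinitePresentation p ∧ AlgSp.LocP @Flat p ∧ AlgSp.IsSurjectiveMor p) :
    (∃ (k : Type u) (_ : Field k) (str : Spec (CommRingCat.of k) ⟶ S),
        Nonempty (Z ≅ (AlgSp.yon S).obj (Over.mk str))) ↔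
      ∃ p : FieldPt X, Points.mk p = x ∧ Mono p.toHom := by
  constructor
  · rintro ⟨k, _, str, ⟨e⟩⟩
    refine ⟨fieldPtOfHom str (e.inv ≫ i), ?_, ?_⟩
    · rw [mk_fieldPtOfHom, ← Points.map_ofPt]
      have h : Points.map i (Points.ofPt e.inv
          (show ↥(Spec (CommRingCat.of k)) from IsLocalRing.closedPoint k)) ∈
          Set.range (Points.map i) := ⟨_, rfl⟩
      rw [hi] at h
      exact h
    · rw [fieldPtOfHom_toHom]
      infer_instance
  · rintro ⟨q, hq, hm⟩
    obtain ⟨k, _, str, p, hfp, hfl, hs⟩ := hcov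
    have hepi : Epi p := epi_of_locP_flat_lfp_surjective hZ p hfl hfp hs
    set p' : FieldPt X := fieldPtOfHom str (p ≫ i) with hp'
    have hp'hom : p'.toHom = p ≫ i := fieldPtOfHom_toHom _ _
    have hp'x : Points.mk p' = x := by
      rw [hp', mk_fieldPtOfHom, ← Points.map_ofPt]
      have h : Points.map i (Points.ofPt p
          (show ↥(Spec (CommRingCat.of k)) from IsLocalRing.closedPoint k)) ∈
          Set.range (Points.map i) := ⟨_, rfl⟩
      rw [hi] at h
      exact h
    have hrep := hX.representable_from_yon q.toHom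
    obtain ⟨c, hc, -⟩ := existsUnique_factor_of_mono_fieldPt q p' hrep (hq.trans hp'x.symm)
    rw [hp'hom] at hc
    have sq := IsPullback.of_hasPullback p p
    have hcompat : pullback.fst p p ≫ (AlgSp.yon S).map c = pullback.snd p p ≫ (AlgSp.yon S).map c := by
      rw [← cancel_mono q.toHom, Category.assoc, Category.assoc, hc, ← Category.assoc,
        ← Category.assoc, pullback.condition]
    obtain ⟨d, hd⟩ := exists_desc_of_epi p sq ((AlgSp.yon S).map c) hcompat
    have hdi : d ≫ q.toHom = i := by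
      rw [← cancel_epi p, ← Category.assoc, hd, hc]
    have hdm : Mono d := by
      have : Mono (d ≫ q.toHom) := by rw [hdi]; infer_instance
      exact mono_of_mono d q.toHom
    have hne : Nonempty (AlgSp.Points Z) :=
      ⟨Points.ofPt p (show ↥(Spec (CommRingCat.of k)) from IsLocalRing.closedPoint k)⟩
    have hiso : IsIso d := isIso_of_mono_to_yon_field q.str hZ d hne
    exact ⟨q.K, inferInstance, q.str, ⟨asIso d⟩⟩

end Groth.Agent.Lib.Helper51

namespace Groth.Agent.Lib.Helper51

open AlgSp Groth.Agent.Lib.Helper52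

variable {S : Scheme.{u}}

/-- Uniqueness of residual spaces. -/
theorem residual_unique {X : AlgSp.Sp S} (hX : AlgSp.IsAlgSpace X) (x : Points X)
    {Z Z' : AlgSp.Sp S} (hZ : AlgSp.IsAlgSpace Z) (hZ' : AlgSp.IsAlgSpace Z')
    (i : Z ⟶ X) (i' : Z' ⟶ X) [Mono i] [Mono i']
    (hi : Set.range (Points.map i) = {x}) (hi' : Set.range (Points.map i') = {x})
    (hcov : ∃ (k : Type u) (_ : Field k) (str : Spec (CommRingCat.of k) ⟶ S)
      (p : (AlgSp.yon S).obj (Over.mk str) ⟶ Z),
        AlgSp.LocP @LocallyOfFinitePresentation p ∧ AlgSp.LocP @Flat p ∧ AlgSp.IsSurjectiveMor p)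
    (hcov' : ∃ (k : Type u) (_ : Field k) (str : Spec (CommRingCat.of k) ⟶ S)
      (p : (AlgSp.yon S).obj (Over.mk str) ⟶ Z'),
        AlgSp.LocP @LocallyOfFinitePresentation p ∧ AlgSp.LocP @Flat p ∧ AlgSp.IsSurjectiveMor p) :
    ∃ e : Z' ≅ Z, e.hom ≫ i = i' := by
  have sq := IsPullback.of_hasPullback i i'
  have hW : AlgSp.IsAlgSpace (pullback i i') :=
    Groth.Agent.Lib.Helper30.isAlgSpace_of_isPullback hX.diag hZ hZ' sq
  have hz : x ∈ Set.range (Points.map i) := by rw [hi]; rfl
  have hz' : x ∈ Set.range (Points.map i') := by rw [hi']; rfl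
  obtain ⟨z, hz⟩ := hz
  obtain ⟨z', hz'⟩ := hz'
  obtain ⟨w, -, -⟩ := exists_point_of_isPullback sq z z' (hz.trans hz'.symm)
  obtain ⟨k, _, str, p, hfp, hfl, hs⟩ := hcov
  obtain ⟨k', _, str', p', hfp', hfl', hs'⟩ := hcov'
  have h1 : IsIso (pullback.fst i i') := by
    rcases isEmpty_or_isIso_of_mono_of_field_cover hW hZ (pullback.fst i i') str p hfp hfl hs with
      h | h
    · exact (h.false w).elim
    · exact h
  have h2 : IsIso (pullback.snd i i') := by
    rcases isEmpty_or_isIso_of_mono_of_field_cover hW hZ' (pullback.snd i i') str' p' hfp' hfl'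
      hs' with h | h
    · exact (h.false w).elim
    · exact h
  refine ⟨(asIso (pullback.snd i i')).symm ≪≫ asIso (pullback.fst i i'), ?_⟩
  simp only [Iso.trans_hom, Iso.symm_hom, asIso_inv, asIso_hom, Category.assoc]
  rw [pullback.condition, IsIso.inv_hom_id_assoc]

end Groth.Agent.Lib.Helper51
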