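import Groth.Agent.Lib.Helper51.AlgSpResidualSpace
import Groth.Agent.Lib.Helper51.AlgSpResidual
import Groth.Agent.Lib.Helper51.AlgSpQuotField9
import Groth.Agent.Lib.Helper51.AlgSpOnePt3
import Groth.Agent.Lib.Helper51.AlgSpOpenCoverRep
import Groth.Agent.Lib.Helper51.AlgSpEtaleMor
import Groth.Agent.Lib.Helper30.AlgSpOpenImm

/-!
An algebraic space etale over the spectrum of a field is a scheme (helper51).
-/

set_option autoImplicit false
set_option linter.unusedSectionVars false
universe u
open CategoryTheory CategoryTheory.Limits AlgebraicGeometry Opposite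

set_option backward.isDefEq.respectTransparency false

namespace Groth.Agent.Lib.Helper51

/-- The residue field point of a scheme etale over a field is an open immersion. -/
theorem isOpenImmersion_fromSpecResidueField_of_etale_field {F : Scheme.{u}} {κ : Type u}
    [Field κ] (g : F ⟶ Spec (CommRingCat.of κ)) [Etale g] (u : F) :
    IsOpenImmersion (F.fromSpecResidueField u) := by
  obtain ⟨V, ψ, -, sq⟩ := exists_isPullback_fibre_of_etale_field g (𝟙 F) u
  have hψ : IsIso ψ := sq.isIso_snd_of_isIso
  have h : F.fromSpecResidueField u = inv ψ ≫ V.ι := by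
    rw [IsIso.eq_inv_comp, ← sq.w, Category.comp_id]
  rw [h]
  infer_instance

open AlgSp Groth.Agent.Lib.Helper30 Groth.Agent.Lib.Helper52

variable {S : Scheme.{u}}

/-- The residual space at the image of a point of an etale chart, with its presentation. -/
theorem exists_residualSpace_of_chart {X : AlgSp.Sp S} (hX : AlgSp.IsAlgSpace X) {U : Over S}
    (φ : (AlgSp.yon S).obj U ⟶ X) (hφ : AlgSp.RepWith @Etale φ) (u : ↥U.left) :
    ∃ (Z : AlgSp.Sp S) (_ : AlgSp.IsAlgSpace Z) (i : Z ⟶ X)
      (z : (AlgSp.yon S).obj (Over.mk (U.left.fromSpecResidueField u ≫ U.hom)) ⟶ Z),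
      Mono i ∧ Set.range (Points.map i) = {Points.ofPt φ u} ∧ AlgSp.RepWith @Etale z ∧
        AlgSp.RepWith @Surjective z ∧
        z ≫ i = (AlgSp.yon S).map (Over.homMk (U.left.fromSpecResidueField u) rfl :
          Over.mk (U.left.fromSpecResidueField u ≫ U.hom) ⟶ U) ≫ φ := by
  let str : Spec (CommRingCat.of (U.left.residueField u)) ⟶ S :=
    U.left.fromSpecResidueField u ≫ U.hom
  let c : Over.mk str ⟶ U := Over.homMk (U.left.fromSpecResidueField u) rfl
  let ξ : (AlgSp.yon S).obj (Over.mk str) ⟶ X := (AlgSp.yon S).map c ≫ φ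
  obtain ⟨R, s, t, sq⟩ := exists_isPullback_of_representable (hX.representable_from_yon ξ) ξ
  obtain ⟨hte, hts⟩ := etale_kernelPair_of_residueField_chart φ hφ u s t sq
  have hfac : Sheaf.toImage ξ ≫ Sheaf.imageι ξ = ξ := Sheaf.toImage_ι ξ
  have sqz : IsPullback ((AlgSp.yon S).map s) ((AlgSp.yon S).map t) (Sheaf.toImage ξ)
      (Sheaf.toImage ξ) := by
    apply isPullback_of_comp_mono (Sheaf.imageι ξ)
    rw [hfac]
    exact sq
  obtain ⟨hZ, hze, hzs⟩ := isAlgSpace_of_epi_of_etale_kernelPair hX (Sheaf.imageι ξ)
    (Sheaf.toImage ξ) s t sqz hte hts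
  have hpt : Points.ofPt ξ (IsLocalRing.closedPoint (U.left.residueField u)) = Points.ofPt φ u := by
    rw [ofPt_yon_map_comp]
    congr 1
    exact Scheme.fromSpecResidueField_apply _ _
  refine ⟨Sheaf.image ξ, hZ, Sheaf.imageι ξ, Sheaf.toImage ξ, inferInstance, ?_, hze, hzs, hfac⟩
  have hsurj := surjective_map_of_repWith_surjective hzs
  have h0 : Points.map ξ = Points.map (Sheaf.imageι ξ) ∘ Points.map (Sheaf.toImage ξ) := by
    funext y
    rw [Function.comp_apply, ← Points.map_comp, hfac]
  have h1 : Set.range (Points.map (Sheaf.imageι ξ)) = Set.range (Points.map ξ) := by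
    rw [h0, Set.range_comp, hsurj.range_eq, Set.image_univ]
  rw [h1, range_map_yon_field str ξ, hpt]


/-- The kernel pair of a field point which is etale over a field has finitely many points. -/
theorem finite_kernelPair_of_etale_over_field {X : AlgSp.Sp S} {k K : Type u} [Field k] [Field K]
    (str : Spec (CommRingCat.of k) ⟶ S) (strK : Spec (CommRingCat.of K) ⟶ S)
    (f : X ⟶ (AlgSp.yon S).obj (Over.mk str)) (ξ : (AlgSp.yon S).obj (Over.mk strK) ⟶ X)
    (g : Over.mk strK ⟶ Over.mk str) (hg : (AlgSp.yon S).map g = ξ ≫ f) (hge : Etale g.left)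
    {R : Over S} (s t : R ⟶ Over.mk strK)
    (sq : IsPullback ((AlgSp.yon S).map s) ((AlgSp.yon S).map t) ξ ξ) : Finite ↥R.left := by
  have hfin : IsFinite g.left := isFinite_of_etale_spec_field (K := k) (L := K) g.left
  have hw : s ≫ g = t ≫ g := (AlgSp.yon S).map_injective (by
    rw [Functor.map_comp, Functor.map_comp, hg, ← Category.assoc, sq.w, Category.assoc])
  have hw' : s.left ≫ g.left = t.left ≫ g.left := congrArg CommaMorphism.left hw
  let m : R.left ⟶ pullback g.left g.left := pullback.lift s.left t.left hw'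
  have hm1 : m ≫ pullback.fst g.left g.left = s.left := pullback.lift_fst _ _ _
  have hm2 : m ≫ pullback.snd g.left g.left = t.left := pullback.lift_snd _ _ _
  have hm : Mono m := by
    constructor
    intro T a b hab
    have h1 : a ≫ s.left = b ≫ s.left := by
      rw [← hm1, ← Category.assoc, hab, Category.assoc]
    have h2 : a ≫ t.left = b ≫ t.left := by
      rw [← hm2, ← Category.assoc, hab, Category.assoc]
    let T' : Over S := Over.mk (a ≫ R.hom)
    let a' : T' ⟶ R := Over.homMk a rfl
    have hb : b ≫ R.hom = a ≫ R.hom := by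
      rw [← Over.w s, ← Category.assoc, ← h1, Category.assoc]
    let b' : T' ⟶ R := Over.homMk b hb
    have e1 : a' ≫ s = b' ≫ s := Over.OverMorphism.ext h1
    have e2 : a' ≫ t = b' ≫ t := Over.OverMorphism.ext h2
    have e3 : (AlgSp.yon S).map a' = (AlgSp.yon S).map b' := sq.hom_ext
      (by rw [← Functor.map_comp, ← Functor.map_comp, e1])
      (by rw [← Functor.map_comp, ← Functor.map_comp, e2])
    have e4 : a' = b' := (AlgSp.yon S).map_injective e3
    exact congrArg CommaMorphism.left e4
  have hP : Finite ↥(pullback g.left g.left) :=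
    finite_of_isFinite_spec_field (κ := K)
      (show pullback g.left g.left ⟶ Spec (CommRingCat.of K) from pullback.fst g.left g.left)
  exact Finite.of_injective m m.injective

/-- An algebraic space etale over the spectrum of a field is a scheme. -/
theorem isRepresentable_of_isEtaleMor_to_spec_field {X : AlgSp.Sp S} (hX : AlgSp.IsAlgSpace X)
    {k : Type u} [Field k] (str : Spec (CommRingCat.of k) ⟶ S)
    (f : X ⟶ (AlgSp.yon S).obj (Over.mk str)) (hf : AlgSp.IsEtaleMor f) :
    X.obj.IsRepresentable := by
  obtain ⟨U, φ, hφe, hφs⟩ := hX.atlas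
  let g : U ⟶ Over.mk str := (AlgSp.yon S).preimage (φ ≫ f)
  have hg : (AlgSp.yon S).map g = φ ≫ f := Functor.map_preimage _ _
  have hge : Etale g.left := (AlgSp.repWith_yon_map_iff @Etale g).1 (hg ▸ hf φ hφe)
  have key : ∀ u : ↥U.left, ∃ (V : Over S) (j : (AlgSp.yon S).obj V ⟶ X),
      AlgSp.RepWith @IsOpenImmersion j ∧ ∃ v : ↥V.left, Points.ofPt j v = Points.ofPt φ u := by
    intro u
    have hoi : IsOpenImmersion (U.left.fromSpecResidueField u) :=
      isOpenImmersion_fromSpecResidueField_of_etale_field (κ := k)
        (show U.left ⟶ Spec (CommRingCat.of k) from g.left) u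
    set c : Over.mk (U.left.fromSpecResidueField u ≫ U.hom) ⟶ U :=
      Over.homMk (U.left.fromSpecResidueField u) rfl with hc
    have hce : Etale c.left := (inferInstance : Etale (U.left.fromSpecResidueField u))
    obtain ⟨Z, hZ, i, z, hm, hr, hze, hzs, hfac⟩ := exists_residualSpace_of_chart hX φ hφe u
    haveI := hm
    have hξe : AlgSp.RepWith @Etale ((AlgSp.yon S).map c ≫ φ) :=
      repWith_etale_yon_map_comp c hce φ hφe
    have hie : AlgSp.IsEtaleMor i := by
      apply isEtaleMor_of_locP hX
      refine Groth.Agent.Lib.Helper78.AlgSpLocP.locP_of_precomp_chart etLocalST_etale i z hze hzs ?_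
      rw [hfac]
      exact Groth.Agent.Lib.Helper30.locP_of_repWith @Etale @Etale
        (fun k i hk hi => by
          have : Etale k := hk
          have : Etale i := hi
          infer_instance) hξe
    have hio : AlgSp.RepWith @IsOpenImmersion i :=
      repWith_isOpenImmersion_of_isEtaleMor_mono hZ hX i hie
    obtain ⟨R, s, t, sqR⟩ := exists_isPullback_of_representable hξe.1 ((AlgSp.yon S).map c ≫ φ)
    have hcg : Etale (c ≫ g).left := by
      show Etale (c.left ≫ g.left)
      infer_instance
    have hRfin : Finite ↥R.left :=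
      finite_kernelPair_of_etale_over_field (K := U.left.residueField u) str
        (U.left.fromSpecResidueField u ≫ U.hom) f ((AlgSp.yon S).map c ≫ φ) (c ≫ g)
        (by rw [Functor.map_comp, hg, Category.assoc]) hcg s t sqR
    obtain ⟨p, hp, hpm⟩ := exists_mono_fieldPt_of_finite_fibre ((AlgSp.yon S).map c ≫ φ) hξe t s
      sqR (show ↥(Spec (CommRingCat.of (U.left.residueField u))) from
        IsLocalRing.closedPoint (U.left.residueField u)) (Set.toFinite _)
    have hpt : Points.ofPt ((AlgSp.yon S).map c ≫ φ)
        (show ↥(Spec (CommRingCat.of (U.left.residueField u))) from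
          IsLocalRing.closedPoint (U.left.residueField u)) = Points.ofPt φ u := by
      rw [ofPt_yon_map_comp]
      congr 1
      exact Scheme.fromSpecResidueField_apply _ _
    have hcov : ∃ (k' : Type u) (_ : Field k') (str' : Spec (CommRingCat.of k') ⟶ S)
        (q : (AlgSp.yon S).obj (Over.mk str') ⟶ Z),
        AlgSp.LocP @LocallyOfFinitePresentation q ∧ AlgSp.LocP @Flat q ∧
          AlgSp.IsSurjectiveMor q := by
      refine ⟨U.left.residueField u, inferInstance, U.left.fromSpecResidueField u ≫ U.hom, z,
        ?_, ?_, surjective_map_of_repWith_surjective hzs⟩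
      · exact Groth.Agent.Lib.Helper30.locP_of_repWith @Etale @LocallyOfFinitePresentation
          (fun k i hk hi => by
            have : Etale k := hk
            have : Etale i := hi
            infer_instance) hze
      · exact Groth.Agent.Lib.Helper30.locP_of_repWith @Etale @Flat
          (fun k i hk hi => by
            have : Etale k := hk
            have : Etale i := hi
            infer_instance) hze
    obtain ⟨k', _, str', ⟨e⟩⟩ :=
      (residual_iso_field_iff hX (Points.ofPt φ u) hZ i hr hcov).2 ⟨p, hp.trans hpt, hpm⟩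
    refine ⟨Over.mk str', e.inv ≫ i,
      ((AlgSp.RepWith @IsOpenImmersion).cancel_left_of_respectsIso e.inv i).2 hio,
      (show ↥(Spec (CommRingCat.of k')) from IsLocalRing.closedPoint k'), ?_⟩
    have hmem : Points.ofPt (e.inv ≫ i)
        (show ↥(Over.mk str').left from IsLocalRing.closedPoint k') ∈
        Set.range (Points.map i) :=
      ⟨Points.map e.inv (Points.ofScheme (Over.mk str') (IsLocalRing.closedPoint k')), by
        rw [Points.ofPt_eq_map_ofScheme, Points.map_comp]⟩
    rw [hr] at hmem
    exact hmem
  choose V j hj v hv using key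
  refine isRepresentable_of_open_cover_points j hj ?_
  intro x
  obtain ⟨u, rfl⟩ := surjective_ofPt_of_repWith_surjective φ hφs x
  exact ⟨u, v u, hv u⟩

end Groth.Agent.Lib.Helper51
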