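import Groth.Agent.Lib.Helper51.AlgSpSchImFlat
import Groth.Agent.Lib.Helper30.AlgSpQC
import Groth.Agent.Lib.Helper30.AlgSpProper
import Groth.Agent.Lib.Helper30.AlgSpUCqc
import Groth.Agent.Lib.Helper78.AlgSpFpqcSingle
import Groth.Agent.Lib.Helper78.AlgSpLocPLoft
import Groth.Agent.Lib.Helper78.AlgSpMisc

set_option autoImplicit false
set_option linter.unusedSectionVars false
universe u
open CategoryTheory CategoryTheory.Limits AlgebraicGeometry Opposite

set_option backward.isDefEq.respectTransparency false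

namespace Groth.Agent.Lib.Helper51.KerAt

open AlgSp Groth.Agent.Lib.Helper52 Groth.Agent.Lib.Helper51

variable {S : Scheme.{u}}

/-- if `h' ≫ p` is quasi-compact and `h'` is surjective, then `p` is quasi-compact. -/
theorem isQuasiCompactMor_of_surjective_comp {X Z B : AlgSp.Sp S} (_hX : AlgSp.IsAlgSpace X)
    (hZ : AlgSp.IsAlgSpace Z) (hB : AlgSp.IsAlgSpace B) (h' : X ⟶ Z) (p : Z ⟶ B)
    (hs : AlgSp.IsSurjectiveMor h') (hq : AlgSp.IsQuasiCompactMor (h' ≫ p)) :
    AlgSp.IsQuasiCompactMor p := by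
  intro W W' hW hWqc w fst snd sq
  have hW' : AlgSp.IsAlgSpace W' :=
    Groth.Agent.Lib.Helper30.isAlgSpace_of_isPullback hB.diag hZ hW sq
  have sqX := IsPullback.of_hasPullback h' fst
  have big := sqX.paste_vert sq
  have hXW : AlgSp.IsQuasiCompactSp (pullback h' fst) := hq hW hWqc w _ _ big
  have hs' : AlgSp.IsSurjectiveMor (pullback.snd h' fst) :=
    Groth.Agent.Lib.Helper78.AlgSpFpqcSingle.isSurjectiveMor_of_isPullback sqX hs
  have := compactSpace_points_of_isQuasiCompactSp hXW
  rw [isQuasiCompactSp_iff_compactSpace_points hW']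
  exact Function.Surjective.compactSpace (Points.continuous_map _) hs'

/-- if `h' ≫ p` is universally closed and `h'` is surjective, then `p` is universally
closed. -/
theorem isUnivClosedMor_of_surjective_comp {X Z B : AlgSp.Sp S}
    (h' : X ⟶ Z) (p : Z ⟶ B)
    (hs : AlgSp.IsSurjectiveMor h') (hq : AlgSp.IsUnivClosedMor (h' ≫ p)) :
    AlgSp.IsUnivClosedMor p := by
  intro W W' hW w fst snd sq
  have sqX := IsPullback.of_hasPullback h' fst
  have big := sqX.paste_vert sq
  have hc : IsClosedMap (Points.map (pullback.snd h' fst ≫ snd)) := hq hW w _ _ big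
  have hs' : AlgSp.IsSurjectiveMor (pullback.snd h' fst) :=
    Groth.Agent.Lib.Helper78.AlgSpFpqcSingle.isSurjectiveMor_of_isPullback sqX hs
  intro C hC
  have : Points.map snd '' C =
      Points.map (pullback.snd h' fst ≫ snd) '' (Points.map (pullback.snd h' fst) ⁻¹' C) := by
    ext y
    constructor
    · rintro ⟨c, hc', rfl⟩
      obtain ⟨x, rfl⟩ := hs' c
      exact ⟨x, hc', Points.map_comp _ _ x⟩
    · rintro ⟨x, hx, rfl⟩
      exact ⟨_, hx, (Points.map_comp _ _ x).symm⟩
  rw [this]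
  exact hc _ (hC.preimage (Points.continuous_map _))

/-- a composite of separated morphisms is separated. -/
theorem isSeparatedMor_comp {X Y Z : AlgSp.Sp S} (f : X ⟶ Y) (g : Y ⟶ Z)
    (hf : AlgSp.IsSeparatedMor f) (hg : AlgSp.IsSeparatedMor g) : AlgSp.IsSeparatedMor (f ≫ g) :=
  ((AlgSp.RepWith (S := S) @IsClosedImmersion).diagonal).comp_mem f g hf hg

/-- a representable closed immersion is separated. -/
theorem isSeparatedMor_of_mono {X Y : AlgSp.Sp S} (f : X ⟶ Y) [Mono f] :
    AlgSp.IsSeparatedMor f :=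
  MorphismProperty.of_isIso (AlgSp.RepWith (S := S) @IsClosedImmersion) (pullback.diagonal f)

/-- the scheme theoretic image of a proper space in a separated, locally of finite type space is
proper, and the source surjects onto it. -/
theorem schImage_proper_of_proper_source {X Y Z B : AlgSp.Sp S} (hX : AlgSp.IsAlgSpace X)
    (hY : AlgSp.IsAlgSpace Y) (hZ : AlgSp.IsAlgSpace Z) (hB : AlgSp.IsAlgSpace B)
    (h : X ⟶ Y) (g : Y ⟶ B) (hf : AlgSp.IsProperMor (h ≫ g)) (hg : AlgSp.IsSeparatedMor g)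
    (hg' : AlgSp.LocP @LocallyOfFiniteType g) (i : Z ⟶ Y) (hZi : AlgSp.IsSchImage h i)
    (h' : X ⟶ Z) (fac : h' ≫ i = h) :
    AlgSp.IsProperMor (i ≫ g) ∧ AlgSp.IsSurjectiveMor h' := by
  obtain ⟨hfs, ⟨hflft, hfqc⟩, hfuc⟩ := hf
  have huc : AlgSp.IsUnivClosedMor h :=
    Groth.Agent.Lib.Helper30.isUnivClosedMor_of_comp_of_isSeparatedMor hX hY hB h g hg hfuc
  have hqc : AlgSp.IsQuasiCompactMor h :=
    Groth.Agent.Lib.Helper30.isQuasiCompactMor_of_isUnivClosedMor hX hY h huc
  haveI : Mono i := ClosedSub.mono_of_repWith_isClosedImmersion i hZi.1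
  have hsurj : AlgSp.IsSurjectiveMor h' := by
    intro z
    have h1 := range_subset_closure_of_isSchImage_qc hX hY hZ h hqc i hZi ⟨z, rfl⟩
    have hcl : IsClosed (Set.range (Points.map h)) := by
      rw [← Set.image_univ]
      exact Groth.Agent.Lib.Helper30.isClosedMap_of_isUnivClosedMor hY huc _ isClosed_univ
    rw [hcl.closure_eq] at h1
    obtain ⟨x, hx⟩ := h1
    refine ⟨x, injective_map_of_mono i ?_⟩
    rw [← Points.map_comp, fac, hx]
  refine ⟨⟨?_, ⟨?_, ?_⟩, ?_⟩, hsurj⟩
  · exact isSeparatedMor_comp i g (isSeparatedMor_of_mono i) hg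
  · refine Groth.Agent.Lib.Helper78.AlgSpLocP.locP_comp
      Groth.Agent.Lib.Helper78.AlgSpLocPLoft.etLocalST_loft i g hY.atlas ?_ hg'
    refine Groth.Agent.Lib.Helper78.AlgSpMisc.locP_of_repWith
      Groth.Agent.Lib.Helper78.AlgSpLocPLoft.etLocalST_loft i hY.atlas ?_
    refine MorphismProperty.relative_monotone ?_ _ hZi.1
    intro A B' k hk
    have : IsClosedImmersion k.left := hk
    change LocallyOfFiniteType k.left
    infer_instance
  · apply isQuasiCompactMor_of_surjective_comp hX hZ hB h' (i ≫ g) hsurj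
    rw [← Category.assoc, fac]
    exact hfqc
  · apply isUnivClosedMor_of_surjective_comp h' (i ≫ g) hsurj
    rw [← Category.assoc, fac]
    exact hfuc

end Groth.Agent.Lib.Helper51.KerAt
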