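import Groth.Agent.Lib.Helper51.AlgSpSchImProper
import Groth.Agent.Lib.Helper30.AlgSpSep
import Groth.Agent.Lib.Helper78.AlgSpLocP5
import Groth.Agent.Lib.Helper78.AlgSpLocPLoft
import Groth.Agent.Lib.Helper78.AlgSpMisc
import Mathlib.AlgebraicGeometry.ZariskisMainTheorem

set_option autoImplicit false
set_option linter.unusedSectionVars false
universe u
open CategoryTheory CategoryTheory.Limits AlgebraicGeometry Opposite

set_option backward.isDefEq.respectTransparency false

namespace Groth.Agent.Lib.Helper51.KerAt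

open AlgSp Groth.Agent.Lib.Helper52 Groth.Agent.Lib.Helper51

variable {S : Scheme.{u}}

/-- the diagonal of a morphism of algebraic spaces is locally of finite type. -/
theorem locP_lft_diagonal {W Y : AlgSp.Sp S} (hW : AlgSp.IsAlgSpace W) (hY : AlgSp.IsAlgSpace Y)
    (q : W ⟶ Y) : AlgSp.LocP @LocallyOfFiniteType (pullback.diagonal q) := by
  have hD : AlgSp.IsAlgSpace (pullback q q) :=
    Groth.Agent.Lib.Helper30.isAlgSpace_of_isPullback hY.diag hW hW (IsPullback.of_hasPullback q q)
  refine Groth.Agent.Lib.Helper78.AlgSpLocP.locP_of_comp_cancel'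
    (P := @LocallyOfFiniteType) (Q := ⊤)
    Groth.Agent.Lib.Helper78.AlgSpLocPLoft.etLocalST_loft
    (fun u v _ h => by
      have : LocallyOfFiniteType (u ≫ v) := h
      exact locallyOfFiniteType_of_comp u v)
    (pullback.diagonal q) (pullback.fst q q) hW.atlas hD.atlas hW.atlas
    (fun _ _ _ _ _ _ _ _ => trivial) ?_
  rw [pullback.diagonal_fst]
  exact Groth.Agent.Lib.Helper30.locP_of_repWith @Etale @LocallyOfFiniteType
    (fun k i hk hi => by
      have : Etale k := hk
      have : Etale i := hi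
      change LocallyOfFiniteType (k ≫ i)
      infer_instance) (MorphismProperty.id_mem _ _)

/-- separatedness descends along a surjective universally closed morphism. -/
theorem isSeparatedMor_of_surjective_univClosed_comp {W' W Y : AlgSp.Sp S}
    (hW' : AlgSp.IsAlgSpace W') (hW : AlgSp.IsAlgSpace W) (hY : AlgSp.IsAlgSpace Y)
    (π : W' ⟶ W) (q : W ⟶ Y) (hπs : AlgSp.IsSurjectiveMor π) (hπc : AlgSp.IsUnivClosedMor π)
    (hsep : AlgSp.IsSeparatedMor (π ≫ q)) : AlgSp.IsSeparatedMor q := by
  have hD : AlgSp.IsAlgSpace (pullback q q) :=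
    Groth.Agent.Lib.Helper30.isAlgSpace_of_isPullback hY.diag hW hW (IsPullback.of_hasPullback q q)
  have hD' : AlgSp.IsAlgSpace (pullback (π ≫ q) (π ≫ q)) :=
    Groth.Agent.Lib.Helper30.isAlgSpace_of_isPullback hY.diag hW' hW'
      (IsPullback.of_hasPullback (π ≫ q) (π ≫ q))
  have hD'' : AlgSp.IsAlgSpace (pullback q (π ≫ q)) :=
    Groth.Agent.Lib.Helper30.isAlgSpace_of_isPullback hY.diag hW hW'
      (IsPullback.of_hasPullback q (π ≫ q))
  -- first step
  have hw₁ : (pullback.fst (π ≫ q) (π ≫ q) ≫ π) ≫ q =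
      pullback.snd (π ≫ q) (π ≫ q) ≫ π ≫ q := by
    rw [Category.assoc]; exact pullback.condition
  let m₁ : pullback (π ≫ q) (π ≫ q) ⟶ pullback q (π ≫ q) := pullback.lift _ _ hw₁
  have hm₁₁ : m₁ ≫ pullback.fst q (π ≫ q) = pullback.fst (π ≫ q) (π ≫ q) ≫ π :=
    pullback.lift_fst _ _ _
  have hm₁₂ : m₁ ≫ pullback.snd q (π ≫ q) = pullback.snd (π ≫ q) (π ≫ q) :=
    pullback.lift_snd _ _ _
  have sq₁ : IsPullback m₁ (pullback.fst (π ≫ q) (π ≫ q)) (pullback.fst q (π ≫ q)) π := by
    refine IsPullback.of_right ?_ hm₁₁ (IsPullback.of_hasPullback q (π ≫ q)).flip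
    rw [hm₁₂]
    exact (IsPullback.of_hasPullback (π ≫ q) (π ≫ q)).flip
  have hm₁c : AlgSp.IsUnivClosedMor m₁ :=
    Groth.Agent.Lib.Helper30.isUnivClosedMor_snd_of_isPullback sq₁.flip hπc
  -- second step
  have hw₂ : pullback.fst q (π ≫ q) ≫ q = (pullback.snd q (π ≫ q) ≫ π) ≫ q := by
    rw [Category.assoc]; exact pullback.condition
  let m₂ : pullback q (π ≫ q) ⟶ pullback q q := pullback.lift _ _ hw₂
  have hm₂₁ : m₂ ≫ pullback.fst q q = pullback.fst q (π ≫ q) := pullback.lift_fst _ _ _
  have hm₂₂ : m₂ ≫ pullback.snd q q = pullback.snd q (π ≫ q) ≫ π := pullback.lift_snd _ _ _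
  have sq₂ : IsPullback m₂ (pullback.snd q (π ≫ q)) (pullback.snd q q) π := by
    refine IsPullback.of_right ?_ hm₂₂ (IsPullback.of_hasPullback q q)
    rw [hm₂₁]
    exact IsPullback.of_hasPullback q (π ≫ q)
  have hm₂c : AlgSp.IsUnivClosedMor m₂ :=
    Groth.Agent.Lib.Helper30.isUnivClosedMor_snd_of_isPullback sq₂.flip hπc
  -- the diagonal
  have hcomm : pullback.diagonal (π ≫ q) ≫ m₁ ≫ m₂ = π ≫ pullback.diagonal q := by
    apply pullback.hom_ext
    · rw [Category.assoc, Category.assoc, hm₂₁, hm₁₁, ← Category.assoc, pullback.diagonal_fst,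
        Category.id_comp, Category.assoc, pullback.diagonal_fst, Category.comp_id]
    · rw [Category.assoc, Category.assoc, hm₂₂, ← Category.assoc m₁, hm₁₂, ← Category.assoc,
        pullback.diagonal_snd, Category.id_comp, Category.assoc, pullback.diagonal_snd,
        Category.comp_id]
  have hΔ'c : AlgSp.IsUnivClosedMor (pullback.diagonal (π ≫ q)) :=
    Groth.Agent.Lib.Helper30.isUnivClosedMor_of_repWith_isClosedImmersion hsep
  have hcomp : AlgSp.IsUnivClosedMor (pullback.diagonal (π ≫ q) ≫ m₁ ≫ m₂) :=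
    Groth.Agent.Lib.Helper30.isUnivClosedMor_comp hD' hD hΔ'c
      (Groth.Agent.Lib.Helper30.isUnivClosedMor_comp hD'' hD hm₁c hm₂c)
  rw [hcomm] at hcomp
  have hΔc : AlgSp.IsUnivClosedMor (pullback.diagonal q) :=
    isUnivClosedMor_of_surjective_comp π _ hπs hcomp
  have hrep : AlgSp.Representable (pullback.diagonal q) :=
    Groth.Agent.Lib.Helper30.representable_diagonal hW.diag q
  have hlft : AlgSp.RepWith @LocallyOfFiniteType (pullback.diagonal q) :=
    Groth.Agent.Lib.Helper78.AlgSpMisc.repWith_of_locP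
      Groth.Agent.Lib.Helper78.AlgSpLocPLoft.etLocalST_loft _ hrep hW.atlas hD
      (locP_lft_diagonal hW hY q)
  refine ⟨hrep, fun T V g fst snd sq => ?_⟩
  change IsClosedImmersion snd.left
  rw [IsClosedImmersion.iff_isProper_and_mono]
  haveI hmono : Mono snd.left := by
    haveI : Mono ((AlgSp.yon S).map snd) := MorphismProperty.of_isPullback
      (P := MorphismProperty.monomorphisms (AlgSp.Sp S)) sq
      (MorphismProperty.monomorphisms.infer_property (pullback.diagonal q))
    haveI : Mono snd := (AlgSp.yon S).mono_of_mono_map this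
    infer_instance
  haveI : UniversallyClosed snd.left :=
    Groth.Agent.Lib.Helper30.universallyClosed_of_isUnivClosedMor hΔc g fst snd sq
  haveI : LocallyOfFiniteType snd.left := hlft.2 g fst snd sq
  exact ⟨{}, hmono⟩

end Groth.Agent.Lib.Helper51.KerAt
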