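import Groth.Agent.Lib.Helper51.AlgSpClosedSub

set_option autoImplicit false
set_option linter.unusedSectionVars false
universe u
open CategoryTheory CategoryTheory.Limits AlgebraicGeometry Opposite

set_option backward.isDefEq.respectTransparency false

namespace Groth.Agent.Lib.Helper51.ClosedSub

open AlgSp Groth.Agent.Lib.Helper52 Groth.Agent.Lib.Helper51 Groth.Agent.Lib.Helper51.RedInd

variable {S : Scheme.{u}}

/-- The image of a closed immersion into an algebraic space is closed. -/
theorem isClosed_range_map_of_isClosedImmersion {Z Y : AlgSp.Sp S} (hY : AlgSp.IsAlgSpace Y)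
    (i : Z ⟶ Y) (hi : AlgSp.RepWith @IsClosedImmersion i) :
    IsClosed (Set.range (Points.map i)) := by
  obtain ⟨U, a, ha, has⟩ := hY.atlas
  rw [← (isQuotientMap_ofPt a ha has).isClosed_preimage]
  have sq := hi.rep.isPullback a
  have hc : IsClosedImmersion (hi.rep.snd a).left := hi.property a _ _ sq
  have : Points.ofPt a ⁻¹' Set.range (Points.map i) = Set.range (hi.rep.snd a).left := by
    ext u
    exact ofPt_mem_range_map_iff sq u
  rw [this]
  exact (hi.rep.snd a).left.isClosedEmbedding.isClosed_range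

/-- A morphism from a reduced space whose image lies in a closed subspace factors through
it. -/
theorem exists_factor_of_isReducedSp {W Z Y : AlgSp.Sp S} (i : Z ⟶ Y)
    (hi : AlgSp.RepWith @IsClosedImmersion i) (hW : AlgSp.IsReducedSp W) (g : W ⟶ Y)
    (h : Set.range (Points.map g) ⊆ Set.range (Points.map i)) : ∃ g' : W ⟶ Z, g' ≫ i = g := by
  obtain ⟨V, b, hbe, hbs, hV⟩ := hW
  have hbepi : Epi b := Groth.Agent.Lib.Helper30.epi_of_repWith_etale_surjective b hbe hbs
  have himono : Mono i := mono_of_repWith_isClosedImmersion i hi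
  have sq := hi.rep.isPullback (b ≫ g)
  have hc : IsClosedImmersion (hi.rep.snd (b ≫ g)).left := hi.property (b ≫ g) _ _ sq
  have hs : Surjective (hi.rep.snd (b ≫ g)).left := by
    refine ⟨fun v => ?_⟩
    apply (ofPt_mem_range_map_iff sq v).1
    apply h
    rw [Points.ofPt_eq_map_ofScheme, Points.map_comp]
    exact ⟨_, rfl⟩
  have hVr : IsReduced V.left := hV
  have hiso : IsIso (hi.rep.snd (b ≫ g)).left := isIso_of_isClosedImmersion_of_surjective _
  have hiso' : IsIso (hi.rep.snd (b ≫ g)) := by
    have : IsIso ((Over.forget S).map (hi.rep.snd (b ≫ g))) := hiso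
    exact isIso_of_reflects_iso _ (Over.forget S)
  have hstrong : StrongEpi b := strongEpi_of_epi b
  have csq : CommSq ((AlgSp.yon S).map (inv (hi.rep.snd (b ≫ g))) ≫ hi.rep.fst (b ≫ g)) b i g := by
    refine ⟨?_⟩
    rw [Category.assoc, sq.w, ← Category.assoc, ← Functor.map_comp, IsIso.inv_hom_id,
      CategoryTheory.Functor.map_id, Category.id_comp]
  exact ⟨csq.lift, csq.fac_right⟩

end Groth.Agent.Lib.Helper51.ClosedSub

namespace Groth.Agent.Lib.Helper51.ClosedSub

open AlgSp Groth.Agent.Lib.Helper52 Groth.Agent.Lib.Helper51 Groth.Agent.Lib.Helper51.RedInd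

variable {S : Scheme.{u}}

theorem range_map_subset_of_factor {A B D : AlgSp.Sp S} (k : A ⟶ B) (j : B ⟶ D) (i : A ⟶ D)
    (h : k ≫ j = i) : Set.range (Points.map i) ⊆ Set.range (Points.map j) := by
  rintro _ ⟨x, rfl⟩
  exact ⟨Points.map k x, by rw [← Points.map_comp, h]⟩

/-- The scheme theoretic image of a morphism from a reduced space is the reduced induced
structure on the closure of the image. -/
theorem isRedInduced_of_isSchImage {X Y Z : AlgSp.Sp S} (hY : AlgSp.IsAlgSpace Y) (f : X ⟶ Y)
    (i : Z ⟶ Y) (hX : AlgSp.IsReducedSp X) (hZ : AlgSp.IsSchImage f i) :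
    AlgSp.IsRedInduced (closure (Set.range (Points.map f))) i := by
  obtain ⟨hi, ⟨f', hf'⟩, hmin⟩ := hZ
  obtain ⟨ZT, hZT, iT, hiT, hiTr, hZTred⟩ :=
    exists_isRedInduced hY (closure (Set.range (Points.map f))) isClosed_closure
  have himono : Mono i := mono_of_repWith_isClosedImmersion i hi
  have hiTmono : Mono iT := mono_of_repWith_isClosedImmersion iT hiT
  obtain ⟨fT, hfT⟩ := exists_factor_of_isReducedSp iT hiT hX f (by rw [hiTr]; exact subset_closure)
  obtain ⟨k, hk⟩ := hmin iT hZT hiT ⟨fT, hfT⟩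
  have h1 : Set.range (Points.map i) ⊆ closure (Set.range (Points.map f)) := by
    rw [← hiTr]; exact range_map_subset_of_factor k iT i hk
  have h2 : closure (Set.range (Points.map f)) ⊆ Set.range (Points.map i) :=
    (isClosed_range_map_of_isClosedImmersion hY i hi).closure_subset_iff.2
      (range_map_subset_of_factor f' i f hf')
  obtain ⟨m, hm⟩ := exists_factor_of_isReducedSp i hi hZTred iT (by rw [hiTr]; exact h2)
  have hkm : k ≫ m = 𝟙 Z := by
    rw [← cancel_mono i, Category.assoc, hm, hk, Category.id_comp]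
  have hmk : m ≫ k = 𝟙 ZT := by
    rw [← cancel_mono iT, Category.assoc, hk, hm, Category.id_comp]
  have hmiso : IsIso m := ⟨k, hmk, hkm⟩
  refine ⟨hi, le_antisymm h1 h2, ?_⟩
  obtain ⟨V, b, hbe, hbs, hV⟩ := hZTred
  exact ⟨V, b ≫ m, (MorphismProperty.cancel_right_of_respectsIso (AlgSp.RepWith @Etale) b m).2 hbe,
    (MorphismProperty.cancel_right_of_respectsIso (AlgSp.RepWith @Surjective) b m).2 hbs, hV⟩

end Groth.Agent.Lib.Helper51.ClosedSub
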