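import Groth.Agent.Lib.Helper51.AlgSpSepDescent
import Groth.Agent.Lib.Helper51.AlgSpSchImRed

set_option autoImplicit false
set_option linter.unusedSectionVars false
universe u
open CategoryTheory CategoryTheory.Limits AlgebraicGeometry Opposite

set_option backward.isDefEq.respectTransparency false

namespace Groth.Agent.Lib.Helper51.KerAt

open AlgSp Groth.Agent.Lib.Helper52 Groth.Agent.Lib.Helper51

variable {S : Scheme.{u}}

/-- if the `h' k ≫ p` are quasi-compact for a finite jointly surjective family `h'`, then `p` is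
quasi-compact. -/
theorem isQuasiCompactMor_of_jointly_surjective_comp {ι : Type*} [Finite ι] {Z B : AlgSp.Sp S}
    (X : ι → AlgSp.Sp S) (hZ : AlgSp.IsAlgSpace Z) (hB : AlgSp.IsAlgSpace B) (h' : ∀ k, X k ⟶ Z)
    (p : Z ⟶ B) (hs : ∀ z : Points Z, ∃ k x, Points.map (h' k) x = z)
    (hq : ∀ k, AlgSp.IsQuasiCompactMor (h' k ≫ p)) :
    AlgSp.IsQuasiCompactMor p := by
  intro W W' hW hWqc w fst snd sq
  have hW' : AlgSp.IsAlgSpace W' :=
    Groth.Agent.Lib.Helper30.isAlgSpace_of_isPullback hB.diag hZ hW sq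
  have sqX := fun k => IsPullback.of_hasPullback (h' k) fst
  have big := fun k => (sqX k).paste_vert sq
  have hXW : ∀ k, AlgSp.IsQuasiCompactSp (pullback (h' k) fst) :=
    fun k => hq k hW hWqc w _ _ (big k)
  rw [isQuasiCompactSp_iff_compactSpace_points hW']
  have hc : ∀ k, IsCompact (Set.range (Points.map (pullback.snd (h' k) fst))) := fun k => by
    have := compactSpace_points_of_isQuasiCompactSp (hXW k)
    exact isCompact_range (Points.continuous_map _)
  have hun : (⋃ k, Set.range (Points.map (pullback.snd (h' k) fst))) = Set.univ := by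
    rw [Set.eq_univ_iff_forall]
    intro y
    obtain ⟨k, x, hx⟩ := hs (Points.map fst y)
    obtain ⟨w', -, hw'⟩ := Groth.Agent.Lib.Helper52.exists_point_of_isPullback (sqX k) x y hx
    exact Set.mem_iUnion.2 ⟨k, w', hw'⟩
  exact ⟨by rw [← hun]; exact isCompact_iUnion hc⟩

/-- if the `h' k ≫ p` are universally closed for a finite jointly surjective family `h'`, then `p`
is universally closed. -/
theorem isUnivClosedMor_of_jointly_surjective_comp {ι : Type*} [Finite ι] {Z B : AlgSp.Sp S}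
    (X : ι → AlgSp.Sp S) (h' : ∀ k, X k ⟶ Z)
    (p : Z ⟶ B) (hs : ∀ z : Points Z, ∃ k x, Points.map (h' k) x = z)
    (hq : ∀ k, AlgSp.IsUnivClosedMor (h' k ≫ p)) :
    AlgSp.IsUnivClosedMor p := by
  intro W W' hW w fst snd sq
  have sqX := fun k => IsPullback.of_hasPullback (h' k) fst
  have big := fun k => (sqX k).paste_vert sq
  have hc : ∀ k, IsClosedMap (Points.map (pullback.snd (h' k) fst ≫ snd)) :=
    fun k => hq k hW w _ _ (big k)
  intro C hC
  have : Points.map snd '' C =
      ⋃ k, Points.map (pullback.snd (h' k) fst ≫ snd) ''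
        (Points.map (pullback.snd (h' k) fst) ⁻¹' C) := by
    ext y
    rw [Set.mem_iUnion]
    constructor
    · rintro ⟨c, hc', rfl⟩
      obtain ⟨k, x, hx⟩ := hs (Points.map fst c)
      obtain ⟨w', -, hw'⟩ := Groth.Agent.Lib.Helper52.exists_point_of_isPullback (sqX k) x c hx
      exact ⟨k, w', by rw [Set.mem_preimage, hw']; exact hc', by rw [Points.map_comp, hw']⟩
    · rintro ⟨k, x, hx, rfl⟩
      exact ⟨_, hx, (Points.map_comp _ _ x).symm⟩
  rw [this]
  exact isClosed_iUnion_of_finite fun k => hc k _ (hC.preimage (Points.continuous_map _))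

/-- for `π` universally closed with `π ≫ q` separated, `π ≫ Δ_q` is universally closed. -/
theorem isUnivClosedMor_comp_diagonal {W' W Y : AlgSp.Sp S}
    (hW' : AlgSp.IsAlgSpace W') (hW : AlgSp.IsAlgSpace W) (hY : AlgSp.IsAlgSpace Y)
    (π : W' ⟶ W) (q : W ⟶ Y) (hπc : AlgSp.IsUnivClosedMor π)
    (hsep : AlgSp.IsSeparatedMor (π ≫ q)) :
    AlgSp.IsUnivClosedMor (π ≫ pullback.diagonal q) := by
  have hD : AlgSp.IsAlgSpace (pullback q q) :=
    Groth.Agent.Lib.Helper30.isAlgSpace_of_isPullback hY.diag hW hW (IsPullback.of_hasPullback q q)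
  have hD' : AlgSp.IsAlgSpace (pullback (π ≫ q) (π ≫ q)) :=
    Groth.Agent.Lib.Helper30.isAlgSpace_of_isPullback hY.diag hW' hW'
      (IsPullback.of_hasPullback (π ≫ q) (π ≫ q))
  have hD'' : AlgSp.IsAlgSpace (pullback q (π ≫ q)) :=
    Groth.Agent.Lib.Helper30.isAlgSpace_of_isPullback hY.diag hW hW'
      (IsPullback.of_hasPullback q (π ≫ q))
  have hw₁ : (pullback.fst (π ≫ q) (π ≫ q) ≫ π) ≫ q =
      pullback.snd (π ≫ q) (π ≫ q) ≫ π ≫ q := by
    rw [Category.assoc]; exact pullback.condition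
  let m₁ : pullback (π ≫ q) (π ≫ q) ⟶ pullback q (π ≫ q) := pullback.lift _ _ hw₁
  have hm₁₁ : m₁ ≫ pullback.fst q (π ≫ q) = pullback.fst (π ≫ q) (π ≫ q) ≫ π :=
    pullback.lift_fst _ _ _
  have hm₁₂ : m₁ ≫ pullback.snd q (π ≫ q) = pullback.snd (π ≫ q) (π ≫ q) :=
    pullback.lift_snd _ _ _
  have sq₁ : IsPullback m₁ (pullback.fst (π ≫ q) (π ≫ q)) (pullback.fst q (π ≫ q)) π := by
    refine IsPullback.of_right ?_ hm₁₁ (IsPullback.of_hasPullback q (π ≫ q)).flip
    rw [hm₁₂]
    exact (IsPullback.of_hasPullback (π ≫ q) (π ≫ q)).flip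
  have hm₁c : AlgSp.IsUnivClosedMor m₁ :=
    Groth.Agent.Lib.Helper30.isUnivClosedMor_snd_of_isPullback sq₁.flip hπc
  have hw₂ : pullback.fst q (π ≫ q) ≫ q = (pullback.snd q (π ≫ q) ≫ π) ≫ q := by
    rw [Category.assoc]; exact pullback.condition
  let m₂ : pullback q (π ≫ q) ⟶ pullback q q := pullback.lift _ _ hw₂
  have hm₂₁ : m₂ ≫ pullback.fst q q = pullback.fst q (π ≫ q) := pullback.lift_fst _ _ _
  have hm₂₂ : m₂ ≫ pullback.snd q q = pullback.snd q (π ≫ q) ≫ π := pullback.lift_snd _ _ _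
  have sq₂ : IsPullback m₂ (pullback.snd q (π ≫ q)) (pullback.snd q q) π := by
    refine IsPullback.of_right ?_ hm₂₂ (IsPullback.of_hasPullback q q)
    rw [hm₂₁]
    exact IsPullback.of_hasPullback q (π ≫ q)
  have hm₂c : AlgSp.IsUnivClosedMor m₂ :=
    Groth.Agent.Lib.Helper30.isUnivClosedMor_snd_of_isPullback sq₂.flip hπc
  have hcomm : pullback.diagonal (π ≫ q) ≫ m₁ ≫ m₂ = π ≫ pullback.diagonal q := by
    apply pullback.hom_ext
    · rw [Category.assoc, Category.assoc, hm₂₁, hm₁₁, ← Category.assoc, pullback.diagonal_fst,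
        Category.id_comp, Category.assoc, pullback.diagonal_fst, Category.comp_id]
    · rw [Category.assoc, Category.assoc, hm₂₂, ← Category.assoc m₁, hm₁₂, ← Category.assoc,
        pullback.diagonal_snd, Category.id_comp, Category.assoc, pullback.diagonal_snd,
        Category.comp_id]
  have hΔ'c : AlgSp.IsUnivClosedMor (pullback.diagonal (π ≫ q)) :=
    Groth.Agent.Lib.Helper30.isUnivClosedMor_of_repWith_isClosedImmersion hsep
  have hcomp : AlgSp.IsUnivClosedMor (pullback.diagonal (π ≫ q) ≫ m₁ ≫ m₂) :=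
    Groth.Agent.Lib.Helper30.isUnivClosedMor_comp hD' hD hΔ'c
      (Groth.Agent.Lib.Helper30.isUnivClosedMor_comp hD'' hD hm₁c hm₂c)
  rw [hcomm] at hcomp
  exact hcomp

/-- a morphism of algebraic spaces with universally closed diagonal is separated. -/
theorem isSeparatedMor_of_isUnivClosedMor_diagonal {W Y : AlgSp.Sp S}
    (hW : AlgSp.IsAlgSpace W) (hY : AlgSp.IsAlgSpace Y) (q : W ⟶ Y)
    (hΔc : AlgSp.IsUnivClosedMor (pullback.diagonal q)) : AlgSp.IsSeparatedMor q := by
  have hD : AlgSp.IsAlgSpace (pullback q q) :=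
    Groth.Agent.Lib.Helper30.isAlgSpace_of_isPullback hY.diag hW hW (IsPullback.of_hasPullback q q)
  have hrep : AlgSp.Representable (pullback.diagonal q) :=
    Groth.Agent.Lib.Helper30.representable_diagonal hW.diag q
  have hlft : AlgSp.RepWith @LocallyOfFiniteType (pullback.diagonal q) :=
    Groth.Agent.Lib.Helper78.AlgSpMisc.repWith_of_locP
      Groth.Agent.Lib.Helper78.AlgSpLocPLoft.etLocalST_loft _ hrep hW.atlas hD
      (locP_lft_diagonal hW hY q)
  refine ⟨hrep, fun T V g fst snd sq => ?_⟩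
  change IsClosedImmersion snd.left
  rw [IsClosedImmersion.iff_isProper_and_mono]
  haveI hmono : Mono snd.left := by
    haveI : Mono ((AlgSp.yon S).map snd) := MorphismProperty.of_isPullback
      (P := MorphismProperty.monomorphisms (AlgSp.Sp S)) sq
      (MorphismProperty.monomorphisms.infer_property (pullback.diagonal q))
    haveI : Mono snd := (AlgSp.yon S).mono_of_mono_map this
    infer_instance
  haveI : UniversallyClosed snd.left :=
    Groth.Agent.Lib.Helper30.universallyClosed_of_isUnivClosedMor hΔc g fst snd sq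
  haveI : LocallyOfFiniteType snd.left := hlft.2 g fst snd sq
  exact ⟨{}, hmono⟩

/-- separatedness descends along a finite jointly surjective family of universally closed
morphisms. -/
theorem isSeparatedMor_of_jointly_surjective_univClosed_comp {ι : Type*} [Finite ι]
    {W Y : AlgSp.Sp S} (W' : ι → AlgSp.Sp S)
    (hW' : ∀ k, AlgSp.IsAlgSpace (W' k)) (hW : AlgSp.IsAlgSpace W) (hY : AlgSp.IsAlgSpace Y)
    (π : ∀ k, W' k ⟶ W) (q : W ⟶ Y) (hπs : ∀ z : Points W, ∃ k x, Points.map (π k) x = z)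
    (hπc : ∀ k, AlgSp.IsUnivClosedMor (π k))
    (hsep : ∀ k, AlgSp.IsSeparatedMor (π k ≫ q)) : AlgSp.IsSeparatedMor q :=
  isSeparatedMor_of_isUnivClosedMor_diagonal hW hY q
    (isUnivClosedMor_of_jointly_surjective_comp W' π _ hπs
      (fun k => isUnivClosedMor_comp_diagonal (hW' k) hW hY (π k) q (hπc k) (hsep k)))

end Groth.Agent.Lib.Helper51.KerAt
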