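import Groth.Agent.Lib.Helper51.AlgSpPull

/-!
The diagonal of a sheaf on schemes over `S` and fibre products of charts (helper51).
-/

set_option autoImplicit false
set_option linter.unusedSectionVars false
universe u
open CategoryTheory CategoryTheory.Limits AlgebraicGeometry Opposite

set_option backward.isDefEq.respectTransparency false

namespace Groth.Agent.Lib.Helper51

section General

variable {C : Type*} [Category C] [HasBinaryProducts C]

theorem isPullback_prod_snd_with_id {A B : C} (f : A ⟶ B) (X : C) :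
    IsPullback prod.snd (prod.map (𝟙 X) f) f prod.snd := by
  refine ⟨⟨by simp⟩, ⟨PullbackCone.IsLimit.mk _
    (fun s => prod.lift (s.snd ≫ prod.fst) s.fst) ?_ ?_ ?_⟩⟩
  · intro s
    simp
  · intro s
    apply Limits.prod.hom_ext
    · simp
    · simp [s.condition]
  · intro s m h₁ h₂
    apply Limits.prod.hom_ext
    · simp [← h₂]
    · simpa using h₁

/-- The magic square: `A ×_Z B` is the pullback of the diagonal of `Z` along `a × b`. -/
theorem isPullback_diag_of_isPullback {W A B Z : C} {fst : W ⟶ A} {snd : W ⟶ B} {a : A ⟶ Z}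
    {b : B ⟶ Z} (h : IsPullback fst snd a b) :
    IsPullback (fst ≫ a) (prod.lift fst snd) (Limits.diag Z) (prod.map a b) := by
  refine ⟨⟨by ext <;> simp [h.w]⟩, ⟨PullbackCone.IsLimit.mk _
    (fun s => h.lift (s.snd ≫ prod.fst) (s.snd ≫ prod.snd) ?_) ?_ ?_ ?_⟩⟩
  · have h1 := s.condition =≫ prod.fst
    have h2 := s.condition =≫ prod.snd
    simp only [Category.assoc, prod.lift_fst, prod.lift_snd, Category.comp_id, prod.map_fst,
      prod.map_snd] at h1 h2
    rw [Category.assoc, Category.assoc, ← h1, ← h2]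
  · intro s
    have h1 := s.condition =≫ prod.fst
    simp only [Category.assoc, prod.lift_fst, Category.comp_id, prod.map_fst] at h1
    rw [← Category.assoc, h.lift_fst, Category.assoc, h1]
  · intro s
    ext
    · simp
    · simp
  · intro s m _ h2
    apply h.hom_ext
    · rw [h.lift_fst, ← h2]; simp
    · rw [h.lift_snd, ← h2]; simp

/-- Changing the bottom corner of a pullback square along an isomorphism. -/
theorem isPullback_of_iso_bot {P X Y Y' Z : C} {fst : P ⟶ X} {snd : P ⟶ Y} {f : X ⟶ Z}
    {g : Y ⟶ Z} (h : IsPullback fst snd f g) (e : Y' ≅ Y) (snd' : P ⟶ Y')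
    (hs : snd' ≫ e.hom = snd) : IsPullback fst snd' f (e.hom ≫ g) :=
  h.of_iso (Iso.refl _) (Iso.refl _) e.symm (Iso.refl _) (by simp) (by simp [← hs]) (by simp)
    (by simp)

end General

open AlgSp Groth.Agent.Lib.Helper52

variable {S : Scheme.{u}} {F G : AlgSp.Sp S}

/-- Products of representable morphisms with a property `P`. -/
theorem repWith_prod_map (P : MorphismProperty Scheme.{u}) [P.IsStableUnderBaseChange]
    [P.IsMultiplicative] {A B A' B' : AlgSp.Sp S} {p : A ⟶ B} {q : A' ⟶ B'}
    (hp : AlgSp.RepWith P p) (hq : AlgSp.RepWith P q) : AlgSp.RepWith P (prod.map p q) := by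
  have h1 : AlgSp.RepWith P (prod.map p (𝟙 A')) :=
    MorphismProperty.of_isPullback (IsPullback.of_prod_fst_with_id p A') hp
  have h2 : AlgSp.RepWith P (prod.map (𝟙 B) q) :=
    MorphismProperty.of_isPullback (isPullback_prod_snd_with_id q B) hq
  have : prod.map p q = prod.map p (𝟙 A') ≫ prod.map (𝟙 B) q := by simp
  rw [this]
  exact (AlgSp.RepWith P).comp_mem _ _ h1 h2

/-- The comparison isomorphism `h_{U × V} ≅ h_U × h_V`. -/
noncomputable def prodCmp (U V : Over S) :
    (AlgSp.yon S).obj (U ⨯ V) ≅ (AlgSp.yon S).obj U ⨯ (AlgSp.yon S).obj V :=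
  asIso (prodComparison (AlgSp.yon S) U V)

theorem yon_map_lift_prodCmp {W U V : Over S} (fst : W ⟶ U) (snd : W ⟶ V) :
    (AlgSp.yon S).map (prod.lift fst snd) ≫ (prodCmp U V).hom =
      prod.lift ((AlgSp.yon S).map fst) ((AlgSp.yon S).map snd) := by
  unfold prodCmp
  simp only [asIso_hom, prodComparison, prod.comp_lift, ← Functor.map_comp, prod.lift_fst,
    prod.lift_snd]

/-- The chart of `F × F` defined by two charts of `F`. -/
noncomputable def chart2 {U V : Over S} (a : (AlgSp.yon S).obj U ⟶ F)
    (b : (AlgSp.yon S).obj V ⟶ F) : (AlgSp.yon S).obj (U ⨯ V) ⟶ F ⨯ F :=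
  (prodCmp U V).hom ≫ prod.map a b

theorem repWith_chart2 (P : MorphismProperty Scheme.{u}) [P.IsStableUnderBaseChange]
    [P.IsMultiplicative] {U V : Over S} {a : (AlgSp.yon S).obj U ⟶ F}
    {b : (AlgSp.yon S).obj V ⟶ F} (ha : AlgSp.RepWith P a) (hb : AlgSp.RepWith P b) :
    AlgSp.RepWith P (chart2 a b) := by
  unfold chart2
  exact MorphismProperty.RespectsIso.precomp _ _ _ (repWith_prod_map P ha hb)

/-- The fibre product of two charts is the pullback of the diagonal along the product chart. -/
theorem isPullback_diag_chart2 {W U V : Over S} {fst : W ⟶ U} {snd : W ⟶ V}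
    {a : (AlgSp.yon S).obj U ⟶ F} {b : (AlgSp.yon S).obj V ⟶ F}
    (sq : IsPullback ((AlgSp.yon S).map fst) ((AlgSp.yon S).map snd) a b) :
    IsPullback ((AlgSp.yon S).map fst ≫ a) ((AlgSp.yon S).map (prod.lift fst snd))
      (Limits.diag F) (chart2 a b) :=
  isPullback_of_iso_bot (isPullback_diag_of_isPullback sq) (prodCmp U V) _
    (yon_map_lift_prodCmp fst snd)

end Groth.Agent.Lib.Helper51

namespace Groth.Agent.Lib.Helper51

open AlgSp Groth.Agent.Lib.Helper52

variable {S : Scheme.{u}} {F G : AlgSp.Sp S}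

/-- The underlying scheme of a product of compact schemes over a quasi-separated base is
compact. -/
theorem compactSpace_prod_left [QuasiSeparatedSpace ↥S] (U V : Over S) [CompactSpace ↥U.left]
    [CompactSpace ↥V.left] : CompactSpace ↥(U ⨯ V).left := by
  have : CompactSpace ↥(pullback U.hom V.hom) := inferInstance
  exact (Scheme.homeoOfIso (Over.prodLeftIsoPullback U V)).symm.compactSpace

/-- If the diagonal of `F` is quasi-compact then the fibre product of two compact charts is
compact (over a quasi-separated base). -/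
theorem compactSpace_of_isPullback_of_isQuasiSeparatedSp [QuasiSeparatedSpace ↥S]
    (hF : AlgSp.IsQuasiSeparatedSp F) {U V P : Over S} (a : (AlgSp.yon S).obj U ⟶ F)
    (b : (AlgSp.yon S).obj V ⟶ F) (fst : P ⟶ U) (snd : P ⟶ V) [CompactSpace ↥U.left]
    [CompactSpace ↥V.left]
    (h : IsPullback ((AlgSp.yon S).map fst) ((AlgSp.yon S).map snd) a b) :
    CompactSpace ↥P.left := by
  have h1 : QuasiCompact (prod.lift fst snd).left :=
    hF.2 (chart2 a b) _ _ (isPullback_diag_chart2 h)
  have := compactSpace_prod_left U V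
  exact QuasiCompact.compactSpace_of_compactSpace (prod.lift fst snd).left

end Groth.Agent.Lib.Helper51
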