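import Groth.Agent.Lib.Helper51.AlgSpQuotField6
import Groth.Agent.Lib.Helper51.AlgSpOpen
import Groth.Agent.Lib.Helper51.AlgSpPoints2

/-!
Decency is Zariski local (helper51).
-/

set_option autoImplicit false
set_option linter.unusedSectionVars false
universe u
open CategoryTheory CategoryTheory.Limits AlgebraicGeometry Opposite TensorProduct

set_option backward.isDefEq.respectTransparency false

namespace Groth.Agent.Lib.Helper51

open AlgSp Groth.Agent.Lib.Helper30 Groth.Agent.Lib.Helper52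

variable {S : Scheme.{u}}

/-- Finiteness of a fibre of a chart on a compact scheme is a local question on the chart. -/
theorem finite_fibre_of_locally_finite {X : AlgSp.Sp S} {U : Over S} [CompactSpace ↥U.left]
    (φ : (AlgSp.yon S).obj U ⟶ X) (x : Points X)
    (h : ∀ u : ↥U.left, ∃ N : Set ↥U.left, IsOpen N ∧ u ∈ N ∧
      (N ∩ Points.ofPt φ ⁻¹' {x}).Finite) : (Points.ofPt φ ⁻¹' {x}).Finite := by
  choose N hN1 hN2 hN3 using h
  obtain ⟨t, -, ht⟩ := isCompact_univ.elim_nhds_subcover N (fun u _ => (hN1 u).mem_nhds (hN2 u))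
  refine (Set.Finite.biUnion t.finite_toSet (fun u _ => hN3 u)).subset ?_
  intro u hu
  have hu' := ht (Set.mem_univ u)
  rw [Set.mem_iUnion₂] at hu'
  obtain ⟨v, hv, huv⟩ := hu'
  exact Set.mem_biUnion hv ⟨huv, hu⟩

/-- The image of an open immersion is open. -/
theorem isOpen_range_map_of_isOpenImmersion {X' X : AlgSp.Sp S} (j : X' ⟶ X)
    (hj : AlgSp.RepWith @IsOpenImmersion j) : IsOpen (Set.range (Points.map j)) := by
  rw [Points.isOpen_iff]
  intro T g
  have sq := hj.1.isPullback g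
  have ho : IsOpenImmersion (hj.1.snd g).left := hj.2 g _ _ sq
  have : Points.ofPt g ⁻¹' Set.range (Points.map j) = Set.range (hj.1.snd g).left := by
    ext t
    exact ofPt_mem_range_map_iff sq t
  rw [this]
  exact (hj.1.snd g).left.isOpenEmbedding.isOpen_range

/-- In a space with a Zariski covering by decent spaces, affine etale charts have finite
fibres. -/
theorem finite_fibre_of_isZarCover {X : AlgSp.Sp S} {ι : Type u} (Xi : ι → AlgSp.Sp S)
    (j : ∀ i, Xi i ⟶ X) (hj : AlgSp.IsZarCover Xi j) (hd : ∀ i, AlgSp.IsDecent (Xi i))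
    {U : Over S} [IsAffine U.left] (φ : (AlgSp.yon S).obj U ⟶ X) (hφ : AlgSp.RepWith @Etale φ)
    (x : Points X) : (Points.ofPt φ ⁻¹' {x}).Finite := by
  apply finite_fibre_of_locally_finite
  intro u
  obtain ⟨l, hl⟩ := hj.2 (Points.ofPt φ u)
  have hmono : Mono (j l) := mono_of_repWith (fun g (_ : IsOpenImmersion g) => inferInstance) (hj.1 l)
  have hWo := isOpen_range_map_of_isOpenImmersion (j l) (hj.1 l)
  have hN0 : IsOpen (Points.ofPt φ ⁻¹' Set.range (Points.map (j l))) :=
    hWo.preimage (Points.continuous_ofPt φ)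
  obtain ⟨U', hU', huU', hU'N⟩ := exists_isAffineOpen_mem_and_subset
    (U := ⟨_, hN0⟩) (x := u) hl
  refine ⟨(U' : Set ↥U.left), U'.isOpen, huU', ?_⟩
  have hea : AlgSp.RepWith @Etale ((AlgSp.yon S).map (opensOverι U U') ≫ φ) :=
    (AlgSp.RepWith @Etale).comp_mem _ _
      ((AlgSp.repWith_yon_map_iff @Etale _).2 inferInstance) hφ
  have hrange : Set.range (Points.map ((AlgSp.yon S).map (opensOverι U U') ≫ φ)) ⊆
      Set.range (Points.map (j l)) := by
    rw [range_map_eq_range_ofPt, range_ofPt_opensOverι_comp]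
    rintro _ ⟨u', hu', rfl⟩
    exact hU'N hu'
  obtain ⟨ψ, hψ⟩ := exists_factor_of_range_subset (j l) (hj.1 l) _ hrange
  have hψe : AlgSp.RepWith @Etale ψ := repWith_of_comp_mono ψ (j l) (by rw [hψ]; exact hea)
  by_cases hx : x ∈ Set.range (Points.map (j l))
  · obtain ⟨xl, rfl⟩ := hx
    obtain ⟨pl, hpl, -, hql⟩ := hd l xl
    have : IsAffine (opensOver U U').left := hU'
    have hfin := finite_fibre_of_quasiCompact_fieldPt pl hql ψ hψe
    refine (hfin.image U'.ι).subset ?_
    rintro u' ⟨hu'1, hu'2⟩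
    refine ⟨(⟨u', hu'1⟩ : ↥(U' : Scheme.{u})), ?_, rfl⟩
    rw [Set.mem_preimage, Set.mem_singleton_iff, hpl]
    apply injective_map_of_mono (j l)
    rw [Points.map_ofPt, hψ, ofPt_yon_map_comp]
    exact hu'2
  · convert Set.finite_empty
    rw [Set.eq_empty_iff_forall_notMem]
    rintro u' ⟨hu'1, hu'2⟩
    apply hx
    rw [Set.mem_preimage, Set.mem_singleton_iff] at hu'2
    rw [← hu'2]
    exact hU'N hu'1

/-- Decency is Zariski local. -/
theorem isDecent_of_isZarCover {X : AlgSp.Sp S} (hX : AlgSp.IsAlgSpace X) {ι : Type u}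
    (Xi : ι → AlgSp.Sp S) (j : ∀ i, Xi i ⟶ X) (hj : AlgSp.IsZarCover Xi j)
    (hd : ∀ i, AlgSp.IsDecent (Xi i)) : AlgSp.IsDecent X := by
  intro x
  obtain ⟨i, xi, rfl⟩ := hj.2 x
  obtain ⟨pi, hpi, hmi, hqi⟩ := hd i xi
  have hmono : Mono (j i) := mono_of_repWith (fun g (_ : IsOpenImmersion g) => inferInstance) (hj.1 i)
  have hm : Mono (pi.map (j i)).toHom := by
    rw [FieldPt.toHom_map]
    exact mono_comp _ _
  refine ⟨pi.map (j i), by rw [← Points.map_mk, hpi], hm, ?_⟩
  refine repWith_quasiCompact_of_mono_of_finite_fibres hX _ ?_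
  intro U φ hU hφ
  exact finite_fibre_of_isZarCover Xi j hj hd φ hφ _

end Groth.Agent.Lib.Helper51
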