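import Groth.Agent.Lib.Helper51.AlgSpOpenCoverRep
import Groth.Agent.Lib.Helper51.AlgSpOpen
import Groth.Agent.Lib.Helper51.AlgSpQuotField7
import Groth.Agent.Lib.Helper51.AlgSpPoints2
import Groth.Agent.Lib.Helper78.AlgSpBasic

/-!
The largest open subspace of an algebraic space which is a scheme (helper51).
-/

set_option autoImplicit false
set_option linter.unusedSectionVars false
universe u
open CategoryTheory CategoryTheory.Limits AlgebraicGeometry Opposite

set_option backward.isDefEq.respectTransparency false

namespace Groth.Agent.Lib.Helper51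

open AlgSp Groth.Agent.Lib.Helper52

variable {S : Scheme.{u}}

/-- The schematic locus: the set of points lying in an open subscheme. -/
def schematicLocus (X : AlgSp.Sp S) : Set (Points X) :=
  {x | ∃ (V : Over S) (j : (AlgSp.yon S).obj V ⟶ X), AlgSp.RepWith @IsOpenImmersion j ∧
    x ∈ Set.range (Points.ofPt j)}

theorem isOpen_schematicLocus (X : AlgSp.Sp S) : IsOpen (schematicLocus X) := by
  rw [isOpen_iff_forall_mem_open]
  rintro x ⟨V, j, hj, hx⟩
  refine ⟨Set.range (Points.ofPt j), ?_, ?_, hx⟩
  · rintro y hy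
    exact ⟨V, j, hj, hy⟩
  · rw [← range_map_eq_range_ofPt]
    exact isOpen_range_map_of_isOpenImmersion j hj

/-- An algebraic space has a largest open subspace which is a scheme. -/
theorem exists_largest_open_subscheme {X : AlgSp.Sp S} (hX : AlgSp.IsAlgSpace X) :
    ∃ (X' : AlgSp.Sp S) (j : X' ⟶ X), AlgSp.IsAlgSpace X' ∧ AlgSp.RepWith @IsOpenImmersion j ∧
      X'.obj.IsRepresentable ∧
      ∀ (X'' : AlgSp.Sp S) (j'' : X'' ⟶ X), AlgSp.RepWith @IsOpenImmersion j'' →
        X''.obj.IsRepresentable → ∃ k : X'' ⟶ X', k ≫ j = j'' := by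
  have hW := isOpen_schematicLocus X
  have hι := repWith_isOpenImmersion_openSpι (schematicLocus X) hW
  have hmono : Mono (openSpι X (schematicLocus X)) :=
    mono_of_repWith (fun g (_ : IsOpenImmersion g) => inferInstance) hι
  refine ⟨openSp X (schematicLocus X), openSpι X (schematicLocus X),
    isAlgSpace_openSp (schematicLocus X) hW hX, hι, ?_, ?_⟩
  · obtain ⟨U, φ, hφe, hφs⟩ := hX.atlas
    have hsurj := surjective_ofPt_of_repWith_surjective φ hφs
    let ι : Type u := {u : ↥U.left // Points.ofPt φ u ∈ schematicLocus X}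
    choose V j hj v hv using fun i : ι => i.2
    have hsub : ∀ i, Set.range (Points.map (j i)) ⊆
        Set.range (Points.map (openSpι X (schematicLocus X))) := by
      intro i
      rw [range_map_openSpι, range_map_eq_range_ofPt]
      intro y hy
      exact ⟨V i, j i, hj i, hy⟩
    choose k hk using fun i => exists_factor_of_range_subset _ hι (j i) (hsub i)
    have hkr : ∀ i, AlgSp.RepWith @IsOpenImmersion (k i) := fun i =>
      repWith_of_comp_mono (k i) (openSpι X (schematicLocus X)) ((hk i).symm ▸ hj i)
    apply isRepresentable_of_open_cover_points k hkr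
    intro y
    have hy : Points.map (openSpι X (schematicLocus X)) y ∈ schematicLocus X :=
      (range_map_openSpι (schematicLocus X)).subset ⟨y, rfl⟩
    obtain ⟨u, hu⟩ := hsurj (Points.map (openSpι X (schematicLocus X)) y)
    let i : ι := ⟨u, hu ▸ hy⟩
    refine ⟨i, v i, ?_⟩
    apply injective_map_of_mono (openSpι X (schematicLocus X))
    rw [Points.map_ofPt, hk i, hv i, hu]
  · intro X'' j'' hj'' hrep
    obtain ⟨V, ⟨r⟩⟩ := hrep
    let e := AlgSp.isoOfRepresentableBy r
    have he : AlgSp.RepWith @IsOpenImmersion (e.hom ≫ j'') :=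
      (AlgSp.RepWith @IsOpenImmersion).comp_mem _ _ (Groth.Agent.Lib.Helper78.AlgSpBasic.repWith_of_isIso _ e.hom) hj''
    apply exists_factor_of_range_subset _ hι j''
    rw [range_map_openSpι]
    rintro _ ⟨y, rfl⟩
    refine ⟨V, e.hom ≫ j'', he, ?_⟩
    rw [← range_map_eq_range_ofPt]
    refine ⟨Points.map e.inv y, ?_⟩
    rw [← Points.map_comp, ← Category.assoc, e.inv_hom_id, Category.id_comp]

end Groth.Agent.Lib.Helper51
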