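import Groth.Agent.Lib.Helper51.AlgSpCharts
import Mathlib.AlgebraicGeometry.Morphisms.FlatDescent
import Mathlib.AlgebraicGeometry.Morphisms.LocalFlatDescent
import Mathlib.CategoryTheory.Limits.Constructions.Over.Connected

/-!
Pullback toolkit for representable morphisms of sheaves on schemes over `S`, and locality on the
base for the fppf topology (helper51).
-/

set_option autoImplicit false
set_option linter.unusedSectionVars false
universe u
open CategoryTheory CategoryTheory.Limits AlgebraicGeometry Opposite

set_option backward.isDefEq.respectTransparency false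

namespace Groth.Agent.Lib.Helper51

open AlgSp Groth.Agent.Lib.Helper52

variable {S : Scheme.{u}} {F G : AlgSp.Sp S}

/-- A pullback square between representable sheaves gives a pullback square of schemes. -/
theorem isPullback_left_of_yon {A B C D : Over S} {f' : A ⟶ B} {g' : A ⟶ C} {g : B ⟶ D}
    {f : C ⟶ D}
    (h : IsPullback ((AlgSp.yon S).map f') ((AlgSp.yon S).map g') ((AlgSp.yon S).map g)
      ((AlgSp.yon S).map f)) : IsPullback f'.left g'.left g.left f.left := by
  have w : f' ≫ g = g' ≫ f := (AlgSp.yon S).map_injective (by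
    rw [Functor.map_comp, Functor.map_comp]; exact h.w)
  have h1 : IsPullback f' g' g f := IsPullback.of_map (AlgSp.yon S) w h
  exact h1.map (Over.forget S)

/-- Base change of a represented pullback square: the square of schemes is a pullback. -/
theorem exists_isPullback_left_of_isPullback {f : F ⟶ G} {T T' W W' : Over S}
    {g : (AlgSp.yon S).obj T ⟶ G} {q : T' ⟶ T} {fstT : (AlgSp.yon S).obj W ⟶ F} {sndT : W ⟶ T}
    {fst' : (AlgSp.yon S).obj W' ⟶ F} {snd' : W' ⟶ T'}
    (sqT : IsPullback fstT ((AlgSp.yon S).map sndT) f g)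
    (sq' : IsPullback fst' ((AlgSp.yon S).map snd') f ((AlgSp.yon S).map q ≫ g)) :
    ∃ l : W' ⟶ W, (AlgSp.yon S).map l ≫ fstT = fst' ∧
      IsPullback l.left snd'.left sndT.left q.left := by
  have h1 := IsPullback.of_right' sq' sqT
  obtain ⟨l, hl⟩ := (AlgSp.yon S).map_surjective
    (sqT.lift fst' ((AlgSp.yon S).map snd' ≫ (AlgSp.yon S).map q)
      (by rw [sq'.w, Category.assoc]))
  rw [← hl] at h1
  refine ⟨l, ?_, isPullback_left_of_yon h1⟩
  rw [hl, sqT.lift_fst]

section Descent

variable (P : MorphismProperty Scheme.{u}) [P.IsStableUnderBaseChange]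
  [P.DescendsAlong (@Surjective ⊓ @Flat ⊓ @LocallyOfFinitePresentation)]

/-- A property of morphisms of schemes which is stable under base change and fppf local on the
target can be checked on one etale surjective chart of the target. -/
theorem repWith_of_chart {f : F ⟶ G} (hf : AlgSp.Representable f) {V : Over S}
    (p : (AlgSp.yon S).obj V ⟶ G) (hp : AlgSp.RepWith @Etale p)
    (hs : AlgSp.RepWith @Surjective p) (h : P (hf.snd p).left) : AlgSp.RepWith P f := by
  apply MorphismProperty.relative_of_snd hf
  intro T g
  -- the pullback of the chart along `g`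
  obtain ⟨T', r, q, sqb⟩ := exists_isPullback_of_representable hp.1 g
  have hq : Etale q.left := hp.2 g _ q sqb
  have hqs : Surjective q.left := hs.2 g _ q sqb
  obtain ⟨g'', hg''⟩ : ∃ g'' : (AlgSp.yon S).obj T' ⟶ G, g'' = (AlgSp.yon S).map q ≫ g :=
    ⟨_, rfl⟩
  obtain ⟨W', snd', fst', sq'⟩ := hf g''
  have sq'T := sq'
  rw [hg''] at sq'T
  have sq'V := sq'
  rw [hg'', ← sqb.w] at sq'V
  obtain ⟨l1, _, h1⟩ := exists_isPullback_left_of_isPullback (hf.isPullback g) sq'T
  obtain ⟨l2, _, h2⟩ := exists_isPullback_left_of_isPullback (hf.isPullback p) sq'V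
  have hP' : P snd'.left := P.of_isPullback h2 h
  exact MorphismProperty.of_isPullback_of_descendsAlong
    (Q := @Surjective ⊓ @Flat ⊓ @LocallyOfFinitePresentation) h1.flip
    ⟨⟨hqs, inferInstance⟩, inferInstance⟩ hP'

end Descent

end Groth.Agent.Lib.Helper51
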