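import Groth.Agent.Lib.Helper51.EtaleQF
import Groth.Prelude.Def_Dual3
import Mathlib.RingTheory.QuasiFinite.Basic
import Mathlib.RingTheory.AlgebraicIndependent.TranscendenceBasis

set_option autoImplicit false
universe u
open CategoryTheory AlgebraicGeometry Topology TopologicalSpace

namespace Groth.Agent.Lib.Helper51.ResTrdeg

/-- for a quasi-finite local homomorphism of local rings, the residue field extension is
finite. -/
theorem finite_residueField_of_quasiFinite {R A : Type u} [CommRing R] [CommRing A] [IsLocalRing R]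
    [IsLocalRing A] [Algebra R A] [IsLocalHom (algebraMap R A)] [Algebra.QuasiFinite R A] :
    Module.Finite (IsLocalRing.ResidueField R) (IsLocalRing.ResidueField A) := by
  have h1 : Algebra.QuasiFinite R (IsLocalRing.ResidueField A) :=
    inferInstanceAs (Algebra.QuasiFinite R (A ⧸ IsLocalRing.maximalIdeal A))
  have h2 : Algebra.QuasiFinite (IsLocalRing.ResidueField R) (IsLocalRing.ResidueField A) :=
    .of_restrictScalars R _ _
  exact .of_quasiFinite

/-- transcendence degrees of residue fields add up along a composition. -/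
theorem resTrdeg_comp {U V W : Scheme.{u}} (h₁ : U ⟶ V) (h₂ : V ⟶ W) (x : U) :
    Dual3.resTrdeg (h₁ ≫ h₂) x = Dual3.resTrdeg h₂ (h₁ x) + Dual3.resTrdeg h₁ x := by
  unfold Dual3.resTrdeg
  letI a₁ : Algebra (W.residueField (h₂ (h₁ x))) (V.residueField (h₁ x)) :=
    (h₂.residueFieldMap (h₁ x)).hom.toAlgebra
  letI a₂ : Algebra (V.residueField (h₁ x)) (U.residueField x) :=
    (h₁.residueFieldMap x).hom.toAlgebra
  letI a₃ : Algebra (W.residueField (h₂ (h₁ x))) (U.residueField x) :=
    ((h₁ ≫ h₂).residueFieldMap x).hom.toAlgebra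
  haveI : IsScalarTower (W.residueField (h₂ (h₁ x))) (V.residueField (h₁ x))
      (U.residueField x) := IsScalarTower.of_algebraMap_eq' (by
    change ((h₁ ≫ h₂).residueFieldMap x).hom = _
    rw [Scheme.residueFieldMap_comp]
    rfl)
  exact (trdeg_add_eq (W.residueField (h₂ (h₁ x))) (V.residueField (h₁ x))
    (A := U.residueField x)).symm

/-- at a point where the morphism is quasi-finite the residue field extension has transcendence
degree zero. -/
theorem resTrdeg_eq_zero_of_quasiFiniteAt {U V : Scheme.{u}} (h : U ⟶ V) (x : U)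
    (hq : h.QuasiFiniteAt x) : Dual3.resTrdeg h x = 0 := by
  unfold Dual3.resTrdeg
  letI : Algebra (V.presheaf.stalk (h x)) (U.presheaf.stalk x) := (h.stalkMap x).hom.toAlgebra
  haveI : IsLocalHom (algebraMap (V.presheaf.stalk (h x)) (U.presheaf.stalk x)) :=
    inferInstanceAs (IsLocalHom (h.stalkMap x).hom)
  haveI : Algebra.QuasiFinite (V.presheaf.stalk (h x)) (U.presheaf.stalk x) := hq
  have hfin : Module.Finite (IsLocalRing.ResidueField (V.presheaf.stalk (h x)))
      (IsLocalRing.ResidueField (U.presheaf.stalk x)) := finite_residueField_of_quasiFinite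
  have hfin₂ : (algebraMap (IsLocalRing.ResidueField (V.presheaf.stalk (h x)))
      (IsLocalRing.ResidueField (U.presheaf.stalk x))).Finite := RingHom.finite_algebraMap.mpr hfin
  have hfin₃ : (h.residueFieldMap x).hom.Finite := hfin₂
  letI : Algebra (V.residueField (h x)) (U.residueField x) := (h.residueFieldMap x).hom.toAlgebra
  have hfin' : Module.Finite (V.residueField (h x)) (U.residueField x) := hfin₃
  haveI : Algebra.IsAlgebraic (V.residueField (h x)) (U.residueField x) :=
    Algebra.IsAlgebraic.of_finite _ _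
  exact trdeg_eq_zero

theorem resTrdeg_eq_zero_of_locallyQuasiFinite {U V : Scheme.{u}} (h : U ⟶ V)
    [LocallyQuasiFinite h] (x : U) : Dual3.resTrdeg h x = 0 :=
  resTrdeg_eq_zero_of_quasiFiniteAt h x (h.quasiFiniteAt x)

theorem resTrdeg_etale_comp {W U V : Scheme.{u}} (φ : W ⟶ U) [Etale φ] (h : U ⟶ V) (w : W) :
    Dual3.resTrdeg (φ ≫ h) w = Dual3.resTrdeg h (φ w) := by
  rw [resTrdeg_comp, resTrdeg_eq_zero_of_locallyQuasiFinite φ w, add_zero]

theorem resTrdeg_comp_etale {U V V' : Scheme.{u}} (h : U ⟶ V) (ψ : V ⟶ V') [Etale ψ] (x : U) :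
    Dual3.resTrdeg (h ≫ ψ) x = Dual3.resTrdeg h x := by
  rw [resTrdeg_comp, resTrdeg_eq_zero_of_locallyQuasiFinite ψ (h x), zero_add]

end Groth.Agent.Lib.Helper51.ResTrdeg
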