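import Groth.Agent.Lib.Helper51.AlgSpFtPts3

/-!
Characterisations of finite type points by one-point spaces (helper51).
-/

set_option autoImplicit false
set_option linter.unusedSectionVars false
universe u
open CategoryTheory CategoryTheory.Limits AlgebraicGeometry Opposite

set_option backward.isDefEq.respectTransparency false

namespace Groth.Agent.Lib.Helper51

open AlgSp Groth.Agent.Lib.Helper30 Groth.Agent.Lib.Helper52 Groth.Agent.Lib.Helper81.FtPts

variable {S : Scheme.{u}}

/-- The image of the points of the spectrum of a field. -/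
theorem range_map_yon_field {X : AlgSp.Sp S} {k : Type u} [Field k]
    (str : Spec (CommRingCat.of k) ⟶ S) (ξ : (AlgSp.yon S).obj (Over.mk str) ⟶ X) :
    Set.range (Points.map ξ) = {Points.ofPt ξ (IsLocalRing.closedPoint k)} := by
  have hsub := subsingleton_points_yon_field str
  apply Set.Subset.antisymm
  · rintro _ ⟨y, rfl⟩
    rw [Set.mem_singleton_iff, Points.ofPt_eq_map_ofScheme]
    congr 1
    exact Subsingleton.elim _ _
  · rintro _ rfl
    exact ⟨_, (Points.ofPt_eq_map_ofScheme ξ _).symm⟩

/-- A point in the image of a one-point space locally of finite type over `X` is a finite type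
point. -/
theorem isFtPt_of_onePt_lft {X Z : AlgSp.Sp S} (hZ : AlgSp.IsAlgSpace Z) (f : Z ⟶ X)
    (hne : Nonempty (Points Z)) (hf : AlgSp.LocP @LocallyOfFiniteType f) (x : Points X)
    (hr : Set.range (Points.map f) = {x}) : IsFtPt X x := by
  obtain ⟨z0⟩ := hne
  obtain ⟨z1, -, k, _, str, ζ, hζ, hz1⟩ :=
    exists_isFtPt_of_isLocallyClosed hZ Set.univ isClosed_univ.isLocallyClosed ⟨z0, trivial⟩
  refine ⟨k, inferInstance, str, ζ ≫ f, ?_, ?_⟩
  · exact Groth.Agent.Lib.Helper78.AlgSpLocP.locP_comp
      Groth.Agent.Lib.Helper78.AlgSpLocPLoft.etLocalST_loft ζ f hZ.atlas hζ hf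
  · rw [← Points.map_ofPt, hz1]
    have : Points.map f z1 ∈ Set.range (Points.map f) := ⟨z1, rfl⟩
    rw [hr] at this
    exact this

/-- A point in the image of an etale chart from the spectrum of a field followed by a morphism
locally of finite type is a finite type point. -/
theorem isFtPt_of_etale_field_chart_lft {X Z : AlgSp.Sp S} (f : Z ⟶ X) {k : Type u} [Field k]
    (str : Spec (CommRingCat.of k) ⟶ S) (z : (AlgSp.yon S).obj (Over.mk str) ⟶ Z)
    (hz : AlgSp.RepWith @Etale z) (hf : AlgSp.LocP @LocallyOfFiniteType f) :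
    IsFtPt X (Points.ofPt (z ≫ f) (IsLocalRing.closedPoint k)) :=
  ⟨k, inferInstance, str, z ≫ f,
    Groth.Agent.Lib.Helper78.AlgSpLocP.locP_precomp_chart f z hz hf, rfl⟩

end Groth.Agent.Lib.Helper51
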