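import Groth.Agent.Lib.Helper51.AlgSpCharts
import Groth.Agent.Lib.Helper51.EtaleQF
import Mathlib.AlgebraicGeometry.Morphisms.UniversallyOpen

/-!
Specializations between points of an etale chart lying over the same point of an algebraic
space (helper51).
-/

set_option autoImplicit false
set_option linter.unusedSectionVars false
universe u
open CategoryTheory CategoryTheory.Limits AlgebraicGeometry Opposite

set_option backward.isDefEq.respectTransparency false

namespace Groth.Agent.Lib.Helper51

/-- Abstract descending chain argument. -/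
theorem eq_of_specializes_of_measure {U : Type*} [TopologicalSpace U] (F : Set U) (μ : U → ℕ)
    (hμ : ∀ a ∈ F, ∀ b ∈ F, a ⤳ b → a ≠ b → μ a < μ b)
    (key : ∀ v ∈ F, ∀ v' ∈ F, v' ⤳ v → v' ≠ v → ∃ v'' ∈ F, v'' ⤳ v' ∧ v'' ≠ v') :
    ∀ v ∈ F, ∀ v' ∈ F, v' ⤳ v → v' = v := by
  have main : ∀ n : ℕ, ∀ v ∈ F, ∀ v' ∈ F, μ v' = n → v' ⤳ v → v' = v := by
    intro n
    induction n using Nat.strong_induction_on with
    | _ n ih =>
      intro v hv v' hv' hn hs
      by_contra hne
      obtain ⟨v'', hv'', hs'', hne''⟩ := key v hv v' hv' hs hne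
      have hlt : μ v'' < n := hn ▸ hμ v'' hv'' v' hv' hs'' hne''
      exact hne'' (ih (μ v'') hlt v' hv' v'' hv'' rfl hs'')
  intro v hv v' hv' hs
  exact main _ v hv v' hv' rfl hs

/-- The counting measure on a finite subset of a T0 space. -/
theorem ncard_lt_of_specializes {U : Type*} [TopologicalSpace U] [T0Space U] {F : Set U}
    (hF : F.Finite) {a b : U} (hb : b ∈ F) (hab : a ⤳ b) (hne : a ≠ b) :
    {z ∈ F | z ⤳ a}.ncard < {z ∈ F | z ⤳ b}.ncard := by
  apply Set.ncard_lt_ncard
  · refine ⟨fun z hz => ⟨hz.1, hz.2.trans hab⟩, fun h => ?_⟩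
    have : b ⤳ a := (h ⟨hb, specializes_rfl⟩).2
    exact hne ((this.antisymm hab).eq).symm
  · exact hF.subset (fun z hz => hz.1)

open AlgSp Groth.Agent.Lib.Helper52

variable {S : Scheme.{u}} {F G : AlgSp.Sp S}

/-- The key step: a nontrivial specialization in a fibre of an etale chart produces a further
nontrivial generization in the same fibre. -/
theorem exists_strict_generization {U W : Over S} {a : (AlgSp.yon S).obj U ⟶ F}
    (ha : AlgSp.RepWith @Etale a) {φ ψ : W ⟶ U}
    (sq : IsPullback ((AlgSp.yon S).map φ) ((AlgSp.yon S).map ψ) a a) {v v' : ↥U.left}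
    (he : Points.ofPt a v' = Points.ofPt a v) (hs : v' ⤳ v) (hne : v' ≠ v) :
    ∃ v'' : ↥U.left, Points.ofPt a v'' = Points.ofPt a v' ∧ v'' ⤳ v' ∧ v'' ≠ v' := by
  have hφ : Etale φ.left := ha.2 a _ φ sq.flip
  have hψ : Etale ψ.left := ha.2 a _ ψ sq
  obtain ⟨r, hr1, hr2⟩ := exists_of_ofPt_eq_ofPt sq he
  have hgen : GeneralizingMap ψ.left := Flat.generalizingMap ψ.left
  have hs' : v' ⤳ ψ.left r := by rw [hr2]; exact hs
  obtain ⟨r', hr's, hr'v⟩ := hgen hs'
  refine ⟨φ.left r', ?_, ?_, ?_⟩
  · rw [ofPt_eq_ofPt_of_isPullback sq r', hr'v]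
  · rw [← hr1]
    exact hr's.map φ.left.continuous
  · intro heq
    have hdisc : _root_.IsDiscrete (φ.left ⁻¹' {v'}) := φ.left.isDiscrete_preimage_singleton v'
    have h1 : r' ∈ φ.left ⁻¹' {v'} := heq
    have h2 : r ∈ φ.left ⁻¹' {v'} := hr1
    have : r' = r := hdisc.eq_of_specializes hr's h1 h2
    apply hne
    rw [← hr'v, this, hr2]

/-- In a finite fibre of an etale chart there are no nontrivial specializations. -/
theorem eq_of_specializes_of_finite_fibre {U : Over S} {a : (AlgSp.yon S).obj U ⟶ F}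
    (ha : AlgSp.RepWith @Etale a) (x : Points F) (hfin : (Points.ofPt a ⁻¹' {x}).Finite)
    {v v' : ↥U.left} (hv : Points.ofPt a v = x) (hv' : Points.ofPt a v' = x) (hs : v' ⤳ v) :
    v' = v := by
  obtain ⟨W, φ, ψ, sq⟩ := exists_isPullback_of_representable ha.1 a
  refine eq_of_specializes_of_measure (Points.ofPt a ⁻¹' {x})
    (fun w => {z ∈ Points.ofPt a ⁻¹' {x} | z ⤳ w}.ncard) ?_ ?_ v hv v' hv' hs
  · intro p _ q hq hpq hne
    exact ncard_lt_of_specializes hfin hq hpq hne
  · intro w hw w' hw' hs' hne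
    have he : Points.ofPt a w' = Points.ofPt a w := by
      rw [Set.mem_preimage, Set.mem_singleton_iff] at hw hw'
      rw [hw, hw']
    obtain ⟨w'', h1, h2, h3⟩ := exists_strict_generization ha sq he hs' hne
    exact ⟨w'', by rw [Set.mem_preimage, Set.mem_singleton_iff, h1]; exact hw', h2, h3⟩

/-- Restricting a chart to an open subscheme containing the two points. -/
theorem eq_of_specializes_of_finite_fibres_affine (x : Points F)
    (hx : ∀ (V : Over S) (b : (AlgSp.yon S).obj V ⟶ F), IsAffine V.left →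
      AlgSp.RepWith @Etale b → (Points.ofPt b ⁻¹' {x}).Finite)
    {U : Over S} (a : (AlgSp.yon S).obj U ⟶ F) (ha : AlgSp.RepWith @Etale a) (u u' : ↥U.left)
    (hu : Points.ofPt a u = x) (hu' : Points.ofPt a u' = x) (hs : u' ⤳ u) : u = u' := by
  obtain ⟨U0, hU0, huU0, _⟩ := exists_isAffineOpen_mem_and_subset
    (TopologicalSpace.Opens.mem_top u)
  have hu'U0 : u' ∈ U0 := hs.mem_open U0.2 huU0
  let b := (AlgSp.yon S).map (opensOverι U U0) ≫ a
  have hb : AlgSp.RepWith @Etale b := repWith_etale_yon_map_comp _ inferInstance a ha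
  let v : ↥(opensOver U U0).left := ⟨u, huU0⟩
  let v' : ↥(opensOver U U0).left := ⟨u', hu'U0⟩
  have hιv : (opensOverι U U0).left v = u := rfl
  have hιv' : (opensOverι U U0).left v' = u' := rfl
  have hbv : Points.ofPt b v = x := by
    change Points.ofPt ((AlgSp.yon S).map (opensOverι U U0) ≫ a) v = x
    rw [ofPt_yon_map_comp, hιv, hu]
  have hbv' : Points.ofPt b v' = x := by
    change Points.ofPt ((AlgSp.yon S).map (opensOverι U U0) ≫ a) v' = x
    rw [ofPt_yon_map_comp, hιv', hu']
  have hsv : v' ⤳ v := by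
    have : Topology.IsInducing (Subtype.val : ↥U0 → ↥U.left) := Topology.IsInducing.subtypeVal
    exact this.specializes_iff.mp hs
  have hfin := hx (opensOver U U0) b hU0 hb
  have := eq_of_specializes_of_finite_fibre hb x hfin hbv hbv' hsv
  rw [← hιv, ← hιv', this]

end Groth.Agent.Lib.Helper51

namespace Groth.Agent.Lib.Helper51

open AlgSp Groth.Agent.Lib.Helper52

variable {S : Scheme.{u}} {F G : AlgSp.Sp S}

/-- A compact scheme etale over the spectrum of a field is finite. -/
theorem finite_of_etale_over_field {W : Scheme.{u}} {K : Type u} [Field K]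
    (ψ : W ⟶ Spec (CommRingCat.of K)) [Etale ψ] [CompactSpace ↥W] : Finite ↥W := by
  have hfin := ψ.finite_preimage_singleton (IsLocalRing.closedPoint K)
  have huniv : ψ ⁻¹' {IsLocalRing.closedPoint K} = Set.univ := by
    ext w
    simp only [Set.mem_preimage, Set.mem_singleton_iff, Set.mem_univ, iff_true]
    exact Subsingleton.elim (α := PrimeSpectrum K) _ _
  rw [huniv] at hfin
  exact Set.finite_univ_iff.mp hfin

/-- If a point is represented by a quasi-compact monomorphism from the spectrum of a field, then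
every affine etale chart has finite fibre over it. -/
theorem finite_fibre_of_quasiCompact_fieldPt (p : FieldPt F)
    (hq : AlgSp.RepWith @QuasiCompact p.toHom) {V : Over S} [IsAffine V.left]
    (b : (AlgSp.yon S).obj V ⟶ F) (hb : AlgSp.RepWith @Etale b) :
    (Points.ofPt b ⁻¹' {Points.mk p}).Finite := by
  obtain ⟨W, φ, ψ, sq⟩ := exists_isPullback_of_representable hb.1 p.toHom
  have hψ : Etale ψ.left := hb.2 p.toHom _ ψ sq
  have hφ : QuasiCompact φ.left := hq.2 b _ φ sq.flip
  have hc : CompactSpace ↥W.left := QuasiCompact.compactSpace_of_compactSpace φ.left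
  have hW : Finite ↥W.left := finite_of_etale_over_field (K := p.K) ψ.left
  refine (Set.finite_range φ.left).subset ?_
  intro v hv
  rw [Set.mem_preimage, Set.mem_singleton_iff,
    ← Points.ofPt_toHom p (IsLocalRing.closedPoint p.K)] at hv
  obtain ⟨w, hw, _⟩ := exists_of_ofPt_eq_ofPt sq hv
  exact ⟨w, hw⟩

/-- In a decent sheaf, points of an etale chart over the same point do not specialize to each
other. -/
theorem eq_of_specializes_of_isDecent (hF : AlgSp.IsDecent F) {U : Over S}
    (a : (AlgSp.yon S).obj U ⟶ F) (ha : AlgSp.RepWith @Etale a) (u u' : ↥U.left)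
    (he : Points.ofPt a u = Points.ofPt a u') (hs : u' ⤳ u) : u = u' := by
  obtain ⟨p, hp, _, hq⟩ := hF (Points.ofPt a u)
  refine eq_of_specializes_of_finite_fibres_affine (Points.ofPt a u) ?_ a ha u u' rfl he.symm hs
  intro V b hV hb
  rw [← hp]
  exact finite_fibre_of_quasiCompact_fieldPt p hq b hb

end Groth.Agent.Lib.Helper51
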