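import Groth.Agent.Lib.Helper51.ReducedFactor
import Groth.Agent.Lib.Helper51.EtaleQF
import Groth.Agent.Lib.Helper51.EtaleReduced
import Mathlib.AlgebraicGeometry.ResidueField

/-!
Fibres of morphisms from schemes etale over a field (helper51).
-/

set_option autoImplicit false
universe u
open CategoryTheory CategoryTheory.Limits AlgebraicGeometry Opposite

namespace Groth.Agent.Lib.Helper51

/-- A morphism from a reduced scheme whose image is a single point `u` factors through
`Spec κ(u)`. -/
theorem exists_factor_fromSpecResidueField_of_isReduced {V U : Scheme.{u}} [IsReduced V]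
    (h : V ⟶ U) (u : U) (hu : ∀ v : V, h v = u) :
    ∃ ψ : V ⟶ Spec (U.residueField u), ψ ≫ U.fromSpecResidueField u = h := by
  obtain ⟨W, hW, huW, -⟩ := exists_isAffineOpen_mem_and_subset (TopologicalSpace.Opens.mem_top u)
  have hrange : Set.range h ⊆ Set.range W.ι := by
    rintro _ ⟨v, rfl⟩
    rw [hu v, Scheme.Opens.range_ι]
    exact huW
  let h' : V ⟶ W := IsOpenImmersion.lift W.ι h hrange
  have hh' : h' ≫ W.ι = h := IsOpenImmersion.lift_fac _ _ _
  let e : (W : Scheme) ≅ Spec Γ(U, W) := hW.isoSpec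
  let h'' : V ⟶ Spec Γ(U, W) := h' ≫ e.hom
  let w0 : ↥(W : Scheme.{u}) := ⟨u, huW⟩
  let 𝔮 : PrimeSpectrum Γ(U, W) := e.hom w0
  have h𝔮 : ∀ v, h'' v = 𝔮 := by
    intro v
    show e.hom (h' v) = e.hom w0
    congr 1
    apply W.ι.injective
    have := congrArg (fun k => k v) hh'
    simp only [Scheme.Hom.comp_apply] at this
    rw [this, hu v]
    rfl
  obtain ⟨ψ0, hψ0⟩ := exists_factor_residueField_of_isReduced h'' 𝔮 h𝔮
  set j := Spec.map (CommRingCat.ofHom (algebraMap Γ(U, W) 𝔮.asIdeal.ResidueField)) with hj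
  let f : Spec (CommRingCat.of 𝔮.asIdeal.ResidueField) ⟶ U := j ≫ e.inv ≫ W.ι
  have hjpt : j (IsLocalRing.closedPoint 𝔮.asIdeal.ResidueField) = 𝔮 := by
    apply PrimeSpectrum.ext
    show Ideal.comap (algebraMap Γ(U, W) 𝔮.asIdeal.ResidueField)
      (IsLocalRing.maximalIdeal 𝔮.asIdeal.ResidueField) = 𝔮.asIdeal
    rw [IsLocalRing.maximalIdeal_eq_bot, ← RingHom.ker_eq_comap_bot,
      Ideal.ker_algebraMap_residueField]
  have hf : f (IsLocalRing.closedPoint 𝔮.asIdeal.ResidueField) = u := by
    show W.ι (e.inv (j _)) = u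
    rw [hjpt]
    show W.ι (e.inv (e.hom w0)) = u
    have : e.inv (e.hom w0) = w0 := by
      show (e.hom ≫ e.inv) w0 = w0
      rw [e.hom_inv_id]
      rfl
    rw [this]
    rfl
  have key := Scheme.descResidueField_stalkClosedPointTo_fromSpecResidueField _ U f
  have hcongr := U.residueFieldCongr_fromSpecResidueField hf.symm
  refine ⟨ψ0 ≫ Spec.map (Scheme.descResidueField (Scheme.stalkClosedPointTo f)) ≫
    Spec.map (U.residueFieldCongr hf.symm).hom, ?_⟩
  rw [Category.assoc, Category.assoc, hcongr, key]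
  show ψ0 ≫ j ≫ e.inv ≫ W.ι = h
  rw [← Category.assoc, hψ0]
  show (h' ≫ e.hom) ≫ e.inv ≫ W.ι = h
  rw [Category.assoc, e.hom_inv_id_assoc, hh']

/-- A scheme etale over the spectrum of a field is discrete. -/
theorem discreteTopology_of_etale_spec_field {F : Scheme.{u}} {κ : Type u} [Field κ]
    (g : F ⟶ Spec (CommRingCat.of κ)) [Etale g] : DiscreteTopology F := by
  have hdisc := g.isDiscrete_preimage_singleton
    (show ↥(Spec (CommRingCat.of κ)) from IsLocalRing.closedPoint κ)
  have huniv : g ⁻¹' {show ↥(Spec (CommRingCat.of κ)) from IsLocalRing.closedPoint κ} =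
      Set.univ := by
    ext x
    simp only [Set.mem_preimage, Set.mem_univ, iff_true]
    exact Subsingleton.elim (α := PrimeSpectrum κ) _ _
  rw [huniv] at hdisc
  exact isDiscrete_univ_iff.mp hdisc

/-- For `F` etale over a field and `h : F ⟶ U`, the fibre product of `F` with `Spec κ(u)` over `U` is
the open subscheme of `F` on `h ⁻¹ {u}`. -/
theorem exists_isPullback_fibre_of_etale_field {F U : Scheme.{u}} {κ : Type u} [Field κ]
    (g : F ⟶ Spec (CommRingCat.of κ)) [Etale g] (h : F ⟶ U) (u : U) :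
    ∃ (V : F.Opens) (ψ : (V : Scheme.{u}) ⟶ Spec (U.residueField u)),
      (V : Set F) = h ⁻¹' {u} ∧ IsPullback V.ι ψ h (U.fromSpecResidueField u) := by
  have hd : DiscreteTopology F := discreteTopology_of_etale_spec_field g
  obtain ⟨V, hVeq⟩ : ∃ V : F.Opens, (V : Set F) = h ⁻¹' {u} := ⟨⟨_, isOpen_discrete _⟩, rfl⟩
  have hred : IsReduced F := isReduced_of_etale g
  have hV : ∀ v : (V : Scheme.{u}), (V.ι ≫ h) v = u := by
    intro v
    rw [Scheme.Hom.comp_apply]
    have : V.ι v ∈ (V : Set F) := by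
      have := Set.mem_range_self (f := V.ι) v
      rwa [Scheme.Opens.range_ι] at this
    rw [hVeq] at this
    exact this
  obtain ⟨ψ, hψ⟩ := exists_factor_fromSpecResidueField_of_isReduced (V.ι ≫ h) u hV
  refine ⟨V, ψ, hVeq, ?_⟩
  have hw : V.ι ≫ h = ψ ≫ U.fromSpecResidueField u := hψ.symm
  have hlift : ∀ c : PullbackCone h (U.fromSpecResidueField u),
      Set.range c.fst ⊆ Set.range V.ι := by
    intro c
    rintro _ ⟨x, rfl⟩
    rw [Scheme.Opens.range_ι, hVeq]
    show h (c.fst x) = u
    have := congrArg (fun k => k x) c.condition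
    simp only [Scheme.Hom.comp_apply] at this
    rw [this, Scheme.fromSpecResidueField_apply]
  refine ⟨⟨hw⟩, ⟨PullbackCone.IsLimit.mk hw
    (fun c => IsOpenImmersion.lift V.ι c.fst (hlift c)) ?_ ?_ ?_⟩⟩
  · intro c
    exact IsOpenImmersion.lift_fac _ _ _
  · intro c
    rw [← cancel_mono (U.fromSpecResidueField u), Category.assoc, hψ, ← Category.assoc,
      IsOpenImmersion.lift_fac, c.condition]
  · intro c m hm1 _
    rw [← cancel_mono V.ι, hm1, IsOpenImmersion.lift_fac]

/-- A finite scheme etale over a field is affine and finite over it. -/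
theorem isFinite_of_etale_of_finite {V : Scheme.{u}} {κ : Type u} [Field κ]
    (g : V ⟶ Spec (CommRingCat.of κ)) [Etale g] [Finite V] : IsFinite g := by
  have : CompactSpace V := Finite.compactSpace
  have : QuasiCompact g := inferInstance
  have : IsArtinianRing (CommRingCat.of κ) := inferInstanceAs (IsArtinianRing κ)
  have : IsLocallyArtinian (Spec (CommRingCat.of κ)) := by
    rw [Scheme.isLocallyArtinianScheme_Spec]; infer_instance
  exact IsFinite.of_locallyQuasiFinite g

end Groth.Agent.Lib.Helper51
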