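import Groth.Agent.Lib.Helper51.FieldFibre
import Groth.Agent.Lib.Helper51.MonoField
import Mathlib.AlgebraicGeometry.Morphisms.ClosedImmersion
import Mathlib.AlgebraicGeometry.Morphisms.SurjectiveOnStalks

/-!
A quasi-compact monomorphism from a scheme etale over a field, all of whose image points are
closed, is a closed immersion (helper51).
-/

set_option autoImplicit false
universe u
open CategoryTheory CategoryTheory.Limits AlgebraicGeometry Opposite

namespace Groth.Agent.Lib.Helper51

/-- A monomorphism from a scheme etale over a field is surjective on stalks. -/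
theorem surjectiveOnStalks_of_mono_of_etale_field {V U : Scheme.{u}} {κ : Type u} [Field κ]
    (g : V ⟶ Spec (CommRingCat.of κ)) [Etale g] (v : V ⟶ U) [Mono v] : SurjectiveOnStalks v := by
  choose W ψ hW hsq using fun z : V => exists_isPullback_fibre_of_etale_field g v (v z)
  refine IsZariskiLocalAtSource.of_iSup_eq_top (P := @SurjectiveOnStalks) W ?_ fun z => ?_
  · rw [eq_top_iff]
    intro z _
    rw [TopologicalSpace.Opens.mem_iSup]
    refine ⟨z, ?_⟩
    show z ∈ (W z : Set V)
    rw [hW z]
    rfl
  · have hmono : Mono (ψ z) := (hsq z).mono_snd_of_mono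
    have hne : Nonempty ↥(W z : Scheme.{u}) := by
      have hz : z ∈ (W z : Set V) := by rw [hW z]; rfl
      exact ⟨⟨z, hz⟩⟩
    have hiso : IsIso (ψ z) := isIso_of_mono_to_spec_field (L := ↥(U.residueField (v z))) (ψ z)
    rw [(hsq z).w]
    infer_instance

/-- A monomorphism from a finite scheme etale over a field, all of whose image points are closed,
is a closed immersion. -/
theorem isClosedImmersion_of_mono_of_finite_of_closed_points {V U : Scheme.{u}} {κ : Type u}
    [Field κ] (g : V ⟶ Spec (CommRingCat.of κ)) [Etale g] [Finite V] (v : V ⟶ U) [Mono v]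
    (hcl : ∀ z : V, IsClosed ({v z} : Set U)) : IsClosedImmersion v := by
  have h1 : SurjectiveOnStalks v := surjectiveOnStalks_of_mono_of_etale_field g v
  refine ⟨?_⟩
  refine Topology.IsClosedEmbedding.of_continuous_injective_isClosedMap v.continuous v.injective ?_
  intro A _
  have : v '' A = ⋃ z ∈ A, {v z} := by
    ext y
    simp only [Set.mem_image, Set.mem_iUnion, Set.mem_singleton_iff, exists_prop]
    constructor
    · rintro ⟨z, hz, rfl⟩; exact ⟨z, hz, rfl⟩
    · rintro ⟨z, hz, rfl⟩; exact ⟨z, hz, rfl⟩
  rw [this]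
  exact (Set.toFinite A).isClosed_biUnion fun z _ => hcl z

end Groth.Agent.Lib.Helper51

namespace Groth.Agent.Lib.Helper51

/-- A quasi-compact monomorphism from a scheme etale over a field, all of whose image points are
closed, is a closed immersion. -/
theorem isClosedImmersion_of_mono_of_quasiCompact_of_closed_points {V U : Scheme.{u}} {κ : Type u}
    [Field κ] (g : V ⟶ Spec (CommRingCat.of κ)) [Etale g] (v : V ⟶ U) [Mono v] [QuasiCompact v]
    (hcl : ∀ z : V, IsClosed ({v z} : Set U)) : IsClosedImmersion v := by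
  refine IsZariskiLocalAtTarget.of_forall_exists_morphismRestrict (P := @IsClosedImmersion) ?_
  intro x
  obtain ⟨W, hW, hxW, -⟩ := exists_isAffineOpen_mem_and_subset
    (TopologicalSpace.Opens.mem_top x)
  refine ⟨W, hxW, ?_⟩
  have hc : CompactSpace ↥(v ⁻¹ᵁ W : Scheme.{u}) :=
    isCompact_iff_compactSpace.1 (QuasiCompact.isCompact_preimage (f := v) _ W.2 hW.isCompact)
  have he : Etale ((v ⁻¹ᵁ W).ι ≫ g) := inferInstance
  have hfin : Finite ↥(v ⁻¹ᵁ W : Scheme.{u}) := by
    have hfin0 := ((v ⁻¹ᵁ W).ι ≫ g).finite_preimage_singleton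
      (show ↥(Spec (CommRingCat.of κ)) from IsLocalRing.closedPoint κ)
    have huniv : ((v ⁻¹ᵁ W).ι ≫ g) ⁻¹'
        {show ↥(Spec (CommRingCat.of κ)) from IsLocalRing.closedPoint κ} = Set.univ := by
      ext w
      simp only [Set.mem_preimage, Set.mem_univ, iff_true]
      exact Subsingleton.elim (α := PrimeSpectrum κ) _ _
    rw [huniv] at hfin0
    exact Set.finite_univ_iff.mp hfin0
  have hmono : Mono (v ∣_ W) := (isPullback_morphismRestrict v W).mono_fst_of_mono
  refine isClosedImmersion_of_mono_of_finite_of_closed_points ((v ⁻¹ᵁ W).ι ≫ g) (v ∣_ W) ?_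
  intro z
  have h1 : ({(v ∣_ W) z} : Set ↥(W : Scheme.{u})) = Subtype.val ⁻¹' {v z.1} := by
    ext y
    simp only [Set.mem_singleton_iff]
    rw [← morphismRestrict_base_coe v W z]
    exact Subtype.ext_iff
  rw [h1]
  exact (hcl z.1).preimage continuous_subtype_val

end Groth.Agent.Lib.Helper51
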