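import Groth.Agent.Lib.Helper51.AlgSpSpecial
import Groth.Agent.Lib.Helper38.ImmDescent

/-!
Lifting generizations along etale charts of algebraic spaces, and the Kolmogorov property of
decent spaces (helper51).
-/

set_option autoImplicit false
set_option linter.unusedSectionVars false
universe u
open CategoryTheory CategoryTheory.Limits AlgebraicGeometry Opposite

set_option backward.isDefEq.respectTransparency false

namespace Groth.Agent.Lib.Helper51

open AlgSp Groth.Agent.Lib.Helper52

variable {S : Scheme.{u}} {F G : AlgSp.Sp S}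

/-- Generizations represented by quasi-compact field points lift along etale charts. -/
theorem exists_generization_of_quasiCompact_fieldPt (x : Points F) (p : FieldPt F)
    (h : Points.mk p ⤳ x) (hq : AlgSp.RepWith @QuasiCompact p.toHom) {U : Over S}
    (a : (AlgSp.yon S).obj U ⟶ F) (ha : AlgSp.RepWith @Etale a) (u : ↥U.left)
    (hu : Points.ofPt a u = x) :
    ∃ u' : ↥U.left, u' ⤳ u ∧ Points.ofPt a u' = Points.mk p := by
  obtain ⟨W, φ, ψ, sq⟩ := exists_isPullback_of_representable ha.1 p.toHom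
  have hφ : QuasiCompact φ.left := hq.2 a _ φ sq.flip
  have hrange : ∀ w : ↥W.left, Points.ofPt a (φ.left w) = Points.mk p := fun w => by
    rw [ofPt_eq_ofPt_of_isPullback sq w, Points.ofPt_toHom]
  have hcl : u ∈ closure (Set.range φ.left) := by
    rw [mem_closure_iff]
    intro O hO huO
    have hopen : IsOpen (Points.ofPt a '' O) := isOpenMap_ofPt_of_etale a ha O hO
    have hx : x ∈ Points.ofPt a '' O := ⟨u, huO, hu⟩
    obtain ⟨o, hoO, ho⟩ := h.mem_open hopen hx
    rw [← Points.ofPt_toHom p (IsLocalRing.closedPoint p.K)] at ho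
    obtain ⟨w, hw, _⟩ := exists_of_ofPt_eq_ofPt sq ho
    exact ⟨o, hoO, w, hw⟩
  obtain ⟨w, hw⟩ := Groth.Agent.Lib.Helper38.ImmDescent.exists_specializes_of_mem_closure_range φ.left hcl
  exact ⟨φ.left w, hw, hrange w⟩

/-- The points of a decent algebraic space form a Kolmogorov space. -/
theorem t0Space_points_of_isDecent (hF : AlgSp.IsAlgSpace F) (hd : AlgSp.IsDecent F) :
    T0Space (Points F) := by
  obtain ⟨U, a, ha, has⟩ := hF.atlas
  refine ⟨fun x x' hxx' => ?_⟩
  obtain ⟨u, hu⟩ := surjective_ofPt_of_repWith_surjective a has x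
  obtain ⟨p', hp', _, hq'⟩ := hd x'
  obtain ⟨p, hp, _, hq⟩ := hd x
  -- lift the generization x' of x
  obtain ⟨u', hu'u, hu'⟩ := exists_generization_of_quasiCompact_fieldPt x p'
    (hp' ▸ hxx'.specializes') hq' a ha u hu
  -- lift the generization x of x'
  obtain ⟨u'', hu''u', hu''⟩ := exists_generization_of_quasiCompact_fieldPt x' p
    (hp ▸ hxx'.specializes) hq a ha u' (hu'.trans hp')
  have h1 : u = u'' := eq_of_specializes_of_isDecent hd a ha u u''
    (hu.trans (hp.symm.trans hu''.symm)) (hu''u'.trans hu'u)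
  have h2 : u' ⤳ u'' := h1 ▸ hu'u
  have h3 : u' = u'' := ((h2.antisymm hu''u').eq)
  rw [← hu, h1, ← h3, hu', hp']

end Groth.Agent.Lib.Helper51

namespace Groth.Agent.Lib.Helper51

open AlgSp Groth.Agent.Lib.Helper52

variable {S : Scheme.{u}} {F G : AlgSp.Sp S}

/-- A chart diagram through a given point of the source, over a given etale surjective chart of
the target. -/
theorem exists_chart_diagram_through (f : F ⟶ G) (hF : AlgSp.IsAlgSpace F) {V : Over S}
    (b : (AlgSp.yon S).obj V ⟶ G) (hb : AlgSp.RepWith @Etale b)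
    (hbs : AlgSp.RepWith @Surjective b) (y : Points F) :
    ∃ (W : Over S) (a : (AlgSp.yon S).obj W ⟶ F) (h : W ⟶ V) (w : ↥W.left),
      AlgSp.RepWith @Etale a ∧ a ≫ f = (AlgSp.yon S).map h ≫ b ∧ Points.ofPt a w = y := by
  obtain ⟨T, c, hc, hcs⟩ := hF.atlas
  obtain ⟨t, rfl⟩ := surjective_ofPt_of_repWith_surjective c hcs y
  obtain ⟨W, ψ, φ, sq⟩ := exists_isPullback_of_representable hb.1 (c ≫ f)
  -- sq : IsPullback (yon.map ψ) (yon.map φ) b (c ≫ f)
  have hφe : Etale φ.left := hb.2 (c ≫ f) _ φ sq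
  have hφs : Surjective φ.left := hbs.2 (c ≫ f) _ φ sq
  obtain ⟨w, hw⟩ := hφs.surj t
  refine ⟨W, (AlgSp.yon S).map φ ≫ c, ψ, w, repWith_etale_yon_map_comp φ hφe c hc, ?_, ?_⟩
  · rw [Category.assoc]; exact sq.w.symm
  · rw [ofPt_yon_map_comp, hw]

/-- Generizations represented by quasi-compact field points lift along flat morphisms. -/
theorem exists_generization_of_flat (f : F ⟶ G) (hF : AlgSp.IsAlgSpace F)
    (hG : AlgSp.IsAlgSpace G) (hf : AlgSp.LocP @Flat f) (x : Points G) (p : FieldPt G)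
    (h : Points.mk p ⤳ x) (hq : AlgSp.RepWith @QuasiCompact p.toHom) (y : Points F)
    (hy : Points.map f y = x) :
    ∃ y' : Points F, y' ⤳ y ∧ Points.map f y' = Points.mk p := by
  obtain ⟨V, b, hb, hbs⟩ := hG.atlas
  obtain ⟨W, a, ψ, w, ha, comm, hw⟩ := exists_chart_diagram_through f hF b hb hbs y
  have hflat : Flat ψ.left := hf a b ψ ha hb comm
  have hv : Points.ofPt b (ψ.left w) = x := by
    rw [← ofPt_yon_map_comp, ← comm, ← Points.map_ofPt, hw, hy]
  obtain ⟨v', hv's, hv'⟩ := exists_generization_of_quasiCompact_fieldPt x p h hq b hb _ hv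
  obtain ⟨w', hw's, hw'⟩ := (Flat.generalizingMap ψ.left) hv's
  refine ⟨Points.ofPt a w', ?_, ?_⟩
  · rw [← hw]
    exact hw's.map (Points.continuous_ofPt a)
  · rw [Points.map_ofPt, comm, ofPt_yon_map_comp, hw', hv']

end Groth.Agent.Lib.Helper51
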