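import Groth.Agent.Lib.Helper51.LinTop

/-!
Adic topologies and ideals of definition (helper51).
-/

set_option autoImplicit false
set_option linter.unusedSectionVars false
universe u v w

open Topology Filter

namespace Groth.Agent.Lib.Helper51

section

variable {A : Type u} [CommRing A] [TopologicalSpace A] [IsTopologicalRing A]

/-- If the topology is `J`-adic then `J` is an ideal of definition. -/
theorem isIdealOfDefinition_of_isAdic {J : Ideal A} (hJ : IsAdic J) :
    LinTop.IsIdealOfDefinition A J := by
  rw [isAdic_iff] at hJ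
  refine ⟨by simpa using hJ.1 1, fun U hU => ?_⟩
  obtain ⟨n, hn⟩ := hJ.2 U hU
  rcases Nat.eq_zero_or_pos n with h0 | hpos
  · subst h0
    refine ⟨1, Nat.one_pos, fun x _ => hn ?_⟩
    simp
  · exact ⟨n, hpos, hn⟩

/-- An ideal of definition has a power inside any open ideal. -/
theorem exists_pow_le_of_isIdealOfDefinition {I : Ideal A} (hI : LinTop.IsIdealOfDefinition A I)
    {I' : Ideal A} (hI' : IsOpen (I' : Set A)) : ∃ n : ℕ, 0 < n ∧ I ^ n ≤ I' := by
  obtain ⟨n, hn, h⟩ := hI.2 (I' : Set A) (hI'.mem_nhds I'.zero_mem)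
  exact ⟨n, hn, h⟩

/-- A ring with an adic topology is linearly topologized. -/
theorem isLinearTopology_of_isAdic {J : Ideal A} (hJ : IsAdic J) : IsLinearTopology A A := by
  have h1 := hJ.hasBasis_nhds_zero
  exact IsLinearTopology.mk_of_hasBasis A h1

end

end Groth.Agent.Lib.Helper51
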