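import Groth.Agent.Lib.Helper51.EtaleQF
import Mathlib.AlgebraicGeometry.Morphisms.UniversallyOpen
import Mathlib.AlgebraicGeometry.Properties
import Mathlib.Topology.KrullDimension

set_option autoImplicit false
universe u
open CategoryTheory AlgebraicGeometry Topology TopologicalSpace

namespace Groth.Agent.Lib.Helper51.Coheight

/-- in a discrete subspace there are no nontrivial specializations. -/
theorem eq_of_specializes_of_isDiscrete {α : Type*} [TopologicalSpace α] {s : Set α}
    (hs : IsDiscrete s) {a b : α} (ha : a ∈ s) (hb : b ∈ s) (h : b ⤳ a) : a = b := by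
  obtain ⟨O, hO, hOs⟩ := (isDiscrete_iff_forall_mem_exists_isOpen.1 hs) a ha
  have haO : a ∈ O := (hOs.symm ▸ Set.mem_singleton a : a ∈ O ∩ s).1
  have hbO : b ∈ O := h.mem_open hO haO
  have : b ∈ O ∩ s := ⟨hbO, hb⟩
  rw [hOs] at this
  exact this.symm

theorem strictMono_of_locallyQuasiFinite {W U : Scheme.{u}} (φ : W ⟶ U) [LocallyQuasiFinite φ] :
    StrictMono (φ : W → U) := by
  intro a b hab
  have h1 : b ⤳ a := hab.1
  have h2 : ¬ a ⤳ b := hab.2
  refine ⟨h1.map φ.continuous, fun h3 => h2 ?_⟩
  have heq : φ a = φ b := (h3.antisymm (h1.map φ.continuous)).eq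
  have hd := φ.isDiscrete_preimage_singleton (φ a)
  have : a = b := eq_of_specializes_of_isDiscrete hd (a := a) (b := b) rfl heq.symm h1
  rw [this]

theorem coheight_le_of_locallyQuasiFinite {W U : Scheme.{u}} (φ : W ⟶ U) [LocallyQuasiFinite φ]
    (w : W) : Order.coheight w ≤ Order.coheight (φ w) :=
  Order.coheight_le_coheight_apply_of_strictMono _ (strictMono_of_locallyQuasiFinite φ) w

theorem coheight_eq_of_flat_of_locallyQuasiFinite {W U : Scheme.{u}} (φ : W ⟶ U) [Flat φ]
    [LocallyQuasiFinite φ] (w : W) : Order.coheight w = Order.coheight (φ w) := by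
  refine Order.coheight_eq_of_strictMono _ (strictMono_of_locallyQuasiFinite φ) ?_ w
  intro a b hab
  have h1 : b ⤳ φ a := hab.1
  have h2 : ¬ φ a ⤳ b := hab.2
  obtain ⟨a', ha', rfl⟩ := Flat.generalizingMap (f := φ) h1
  exact ⟨a', ⟨ha', fun h => h2 (h.map φ.continuous)⟩, rfl⟩

theorem coheight_eq_of_etale {W U : Scheme.{u}} (φ : W ⟶ U) [Etale φ] (w : W) :
    Order.coheight w = Order.coheight (φ w) :=
  coheight_eq_of_flat_of_locallyQuasiFinite φ w

attribute [local instance] specializationOrder in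
theorem topologicalKrullDim_eq_iSup_coheight (V : Scheme.{u}) :
    topologicalKrullDim V = ⨆ v : V, (Order.coheight v : WithBot ℕ∞) := by
  rw [topologicalKrullDim, Order.krullDim_eq_of_orderIso (irreducibleSetEquivPoints (α := V))]
  exact Order.krullDim_eq_iSup_coheight

theorem topologicalKrullDim_le_of_locallyQuasiFinite {W U : Scheme.{u}} (φ : W ⟶ U)
    [LocallyQuasiFinite φ] : topologicalKrullDim W ≤ topologicalKrullDim U := by
  rw [topologicalKrullDim_eq_iSup_coheight, topologicalKrullDim_eq_iSup_coheight]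
  refine iSup_le fun w => le_trans ?_ (le_iSup _ (φ w))
  exact WithBot.coe_le_coe.2 (coheight_le_of_locallyQuasiFinite φ w)

theorem topologicalKrullDim_eq_of_etale_of_surjective {W U : Scheme.{u}} (φ : W ⟶ U)
    [Etale φ] [Surjective φ] : topologicalKrullDim W = topologicalKrullDim U := by
  refine le_antisymm (topologicalKrullDim_le_of_locallyQuasiFinite φ) ?_
  rw [topologicalKrullDim_eq_iSup_coheight, topologicalKrullDim_eq_iSup_coheight]
  refine iSup_le fun v => ?_
  obtain ⟨w, rfl⟩ := φ.surjective v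
  rw [← coheight_eq_of_etale φ w]
  exact le_iSup (fun w : W => (Order.coheight w : WithBot ℕ∞)) w

theorem ringKrullDim_stalk_eq_of_etale {W U : Scheme.{u}} (φ : W ⟶ U) [Etale φ] (w : W) :
    ringKrullDim (W.presheaf.stalk w) = ringKrullDim (U.presheaf.stalk (φ w)) := by
  rw [ringKrullDim_stalk_eq_coheight, ringKrullDim_stalk_eq_coheight, coheight_eq_of_etale φ w]

theorem ringKrullDim_stalk_le_of_locallyQuasiFinite {W U : Scheme.{u}} (φ : W ⟶ U)
    [LocallyQuasiFinite φ] (w : W) :
    ringKrullDim (W.presheaf.stalk w) ≤ ringKrullDim (U.presheaf.stalk (φ w)) := by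
  rw [ringKrullDim_stalk_eq_coheight, ringKrullDim_stalk_eq_coheight]
  exact WithBot.coe_le_coe.2 (coheight_le_of_locallyQuasiFinite φ w)

end Groth.Agent.Lib.Helper51.Coheight
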