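import Groth.Agent.Lib.Helper30.AlgSpAffDesc2
import Groth.Agent.Lib.Helper30.AlgSpAffTested2
import Groth.Agent.Lib.Helper30.AlgSpDesc
import Groth.Agent.Lib.Helper51.AlgSpDiag
import Groth.Agent.Lib.Helper51.SchemeCoheight
import Mathlib.AlgebraicGeometry.Artinian

set_option autoImplicit false
set_option linter.unusedSectionVars false
universe u
set_option maxHeartbeats 400000
set_option backward.isDefEq.respectTransparency false

open CategoryTheory CategoryTheory.Limits AlgebraicGeometry MorphismProperty AlgSp Opposite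

namespace Groth.Agent.Lib.Helper51.ArtAff

variable {S : Scheme.{u}}

open Groth.Agent.Lib.Helper30 Groth.Agent.Lib.Helper52 Groth.Agent.Lib.Helper51

/-- a compact scheme étale over an Artinian scheme is affine. -/
theorem isAffine_of_etale_of_artinian {W B : Scheme.{u}} (φ : W ⟶ B) [Etale φ] [CompactSpace W]
    [IsArtinianScheme B] : IsAffine W := by
  haveI : IsLocallyNoetherian W := LocallyOfFiniteType.isLocallyNoetherian φ
  have h1 : topologicalKrullDim W ≤ topologicalKrullDim B :=
    Groth.Agent.Lib.Helper51.Coheight.topologicalKrullDim_le_of_locallyQuasiFinite φ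
  have h2 : topologicalKrullDim B ≤ 0 := topologicalKrullDim_zero_of_discreteTopology B
  haveI : IsLocallyArtinian W := IsLocallyArtinian.of_topologicalKrullDim_le_zero (h1.trans h2)
  haveI : IsArtinianScheme W := { }
  infer_instance

/-- Core: the fibre product of an Artinian scheme with a compact étale chart is affine. -/
theorem isAffine_pullback_artinian [QuasiSeparatedSpace ↥S] {X : Sp S}
    (hX : IsQuasiSeparatedSp X) {B V' W : Over S} [IsArtinianScheme B.left] [CompactSpace V'.left]
    (a : (yon S).obj B ⟶ X) (q : (yon S).obj V' ⟶ X) (hq : RepWith @Etale q)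
    (w₁ : W ⟶ B) (w₂ : W ⟶ V') (sq : IsPullback ((yon S).map w₁) ((yon S).map w₂) a q) :
    IsAffine W.left := by
  haveI : CompactSpace B.left := inferInstance
  haveI : CompactSpace W.left := compactSpace_of_isPullback_of_isQuasiSeparatedSp hX a q w₁ w₂ sq
  haveI : Etale w₁.left := hq.2 a _ w₁ sq.flip
  exact isAffine_of_etale_of_artinian w₁.left

theorem affTested_mono {Q Q' : MorphismProperty Scheme.{u}} (hQ : Q ≤ Q') {F G : Sp S} {f : F ⟶ G}
    (h : AffTested Q f) : AffTested Q' f := by
  intro Z hZ g
  obtain ⟨W, i, fst, sq, hW, hi⟩ := h hZ g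
  exact ⟨W, i, fst, sq, hW, hQ _ hi⟩

theorem isAffineMor_of_artinian [QuasiSeparatedSpace ↥S] {X : Sp S} (hXa : IsAlgSpace X)
    (hX : IsQuasiSeparatedSp X) {B : Over S} [IsArtinianScheme B.left] (a : (yon S).obj B ⟶ X) :
    IsAffineMor a := by
  obtain ⟨V, p, hp, hps⟩ := hXa.atlas
  obtain ⟨P, φ, ψ, sqP⟩ := exists_isPullback_of_representable hp.1 a
  have hφ : IsAffineHom φ.left := by
    apply IsZariskiLocalAtTarget.of_openCover (P := @IsAffineHom) V.left.affineCover
    intro i
    let Vi : Over S := Over.mk (V.left.affineCover.f i ≫ V.hom)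
    let ei : Vi ⟶ V := Over.homMk (V.left.affineCover.f i) rfl
    obtain ⟨Wi, w1, w2, sqW, sqWl⟩ := isPullback_over' φ ei
    have big := (sqW.map (AlgSp.yon S)).paste_horiz sqP.flip
    rw [← Functor.map_comp] at big
    have hτ : RepWith @Etale ((yon S).map ei ≫ p) :=
      (RepWith (S := S) @Etale).comp_mem _ _
        ((repWith_yon_map_iff @Etale ei).2 (inferInstanceAs (Etale (V.left.affineCover.f i)))) hp
    haveI : CompactSpace Vi.left := inferInstanceAs (CompactSpace (V.left.affineCover.X i))
    haveI : IsAffine Vi.left := inferInstanceAs (IsAffine (V.left.affineCover.X i))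
    haveI : IsAffine Wi.left := isAffine_pullback_artinian hX a _ hτ (w1 ≫ ψ) w2 big
    have hw2 : IsAffineHom w2.left := inferInstance
    have hiso : sqWl.isoPullback.hom ≫ pullback.snd φ.left ei.left = w2.left :=
      sqWl.isoPullback_hom_snd
    rw [← hiso] at hw2
    exact (MorphismProperty.cancel_left_of_respectsIso @IsAffineHom _ _).1 hw2
  have h1 : RepWith @IsAffineHom ((yon S).map φ) := (repWith_yon_map_iff @IsAffineHom φ).2 hφ
  have h2 : AffTested @IsAffineHom ((yon S).map φ) :=
    affTested_of_repWith @IsAffineHom (fun i hi => hi) h1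
  have h3 : AffTested (⊤ : MorphismProperty Scheme.{u}) ((yon S).map φ) :=
    affTested_mono le_top h2
  have h4 : AffTested (⊤ : MorphismProperty Scheme.{u}) a :=
    Groth.Agent.Lib.Helper30.AffDesc.affTested_of_etale_cover ⊤ a V p hp hps _ _ sqP.flip h3
  intro Z hZ g
  obtain ⟨W, i, fst, sq, hW, _⟩ := h4 hZ g
  exact ⟨W, i, fst, sq, hW⟩

end Groth.Agent.Lib.Helper51.ArtAff
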