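import Groth.Agent.Lib.Helper51.AlgSpIdealShf
import Groth.Prelude.Def_AlgSpOX2

set_option autoImplicit false
set_option linter.unusedSectionVars false
universe u
open CategoryTheory CategoryTheory.Limits AlgebraicGeometry Opposite

set_option backward.isDefEq.respectTransparency false

namespace Groth.Agent.Lib.Helper51.IdealShf

open AlgSp Groth.Agent.Lib.Helper52 Groth.Agent.Lib.Helper51

variable {S : Scheme.{u}}

theorem isLocallySurjective_bcRingHom_of_isClosedImmersion {Z X : AlgSp.Sp S} (i : Z ⟶ X)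
    (hi : AlgSp.RepWith @IsClosedImmersion i) :
    Presheaf.IsLocallySurjective (AlgSp.etTop X) (AlgSp.bcRingHom hi.1).hom := by
  constructor
  intro E s
  -- cover by affine opens
  let ι := E.obj.left.left.affineOpens
  have hcov : Sieve.ofArrows (fun V : ι => resEt E V.1) (fun V => resEtι E V.1) ∈ AlgSp.etTop X E := by
    apply AlgSp.ofArrows_mem_etTop
    intro x
    obtain ⟨V, hV, hxV, -⟩ := exists_isAffineOpen_mem_and_subset
      (TopologicalSpace.Opens.mem_top x)
    exact ⟨⟨V, hV⟩, ⟨x, hxV⟩, rfl⟩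
  refine (AlgSp.etTop X).superset_covering ?_ hcov
  rintro E' g ⟨_, a, _, ⟨V⟩, rfl⟩
  apply Sieve.downward_closed
  -- on the affine piece
  set E₁ := resEt E V.1 with hE₁
  haveI hA : IsAffine E₁.obj.left.left := V.2
  have hcl : IsClosedImmersion (AlgSp.EtOver.bcπ hi.1 E₁).left :=
    hi.2 E₁.obj.hom _ _ (AlgSp.EtOver.isPullback_bcObj hi.1 E₁)
  obtain ⟨-, hsurj⟩ := IsClosedImmersion.isAffine_surjective_of_isAffine
    (AlgSp.EtOver.bcπ hi.1 E₁).left
  obtain ⟨t₀, ht₀⟩ := hsurj
    ((AlgSp.EtOver.bcMap hi.1 (resEtι E V.1)).hom.left.left.appTop.hom s.down)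
  refine ⟨ULift.up t₀, ?_⟩
  exact congrArg ULift.up ht₀

end Groth.Agent.Lib.Helper51.IdealShf
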