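import Groth.Agent.Lib.Helper51.AlgSpGeomPt
import Mathlib.RingTheory.Algebraic.Cardinality
import Mathlib.FieldTheory.IsAlgClosed.Classification

/-!
# Lifting points to big algebraically closed fields along arbitrary morphisms (helper51)
-/

set_option autoImplicit false
set_option linter.unusedSectionVars false
universe u
open Cardinal

namespace Groth.Agent.Lib.Helper51.BigPt

/-- An extension `M/K` of smaller cardinality than the algebraically closed extension `k/K` embeds
into `k` over `K`. -/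
theorem exists_algHom_of_card_lt {K M k : Type u} [Field K] [Field M] [Field k] [Algebra K M]
    [Algebra K k] [IsAlgClosed k] (h : #M < #k) : Nonempty (M →ₐ[K] k) := by
  obtain ⟨ι, B, hB⟩ := exists_isTranscendenceBasis' K M
  obtain ⟨ι', B', hB'⟩ := exists_isTranscendenceBasis' K k
  have hle : #ι ≤ #ι' := by
    by_contra hlt
    rw [not_le] at hlt
    have h1 : #k ≤ max (max #K #ι') ℵ₀ := IsAlgClosed.cardinal_le_max_transcendence_basis' B' hB'
    have hιM : #ι ≤ #M := Cardinal.mk_le_of_injective hB.1.injective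
    have hKM : #K ≤ #M := Cardinal.mk_le_of_injective (algebraMap K M).injective
    have hk0 : #k ≤ ℵ₀ := by
      by_contra hc
      rw [not_le] at hc
      have : max (max #K #ι') ℵ₀ < #k :=
        max_lt (max_lt (lt_of_le_of_lt hKM h) (lt_of_lt_of_le hlt (le_trans hιM h.le))) hc
      exact absurd h1 (not_le.2 this)
    have hMfin : #M < ℵ₀ := lt_of_lt_of_le h hk0
    haveI : Finite M := Cardinal.lt_aleph0_iff_finite.1 hMfin
    haveI : Module.Finite K M := Module.Finite.of_finite
    have : IsEmpty ι := by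
      constructor; intro i
      have halg : IsAlgebraic K (B i) := Algebra.IsAlgebraic.isAlgebraic (B i)
      exact (hB.1.transcendental i) halg
    have h0 : #ι = 0 := Cardinal.mk_eq_zero _
    rw [h0] at hlt
    exact absurd hlt (not_lt.2 zero_le)
  obtain ⟨e⟩ : Nonempty (ι ↪ ι') := (Cardinal.le_def _ _).1 hle
  have hind : AlgebraicIndependent K (B' ∘ e) := hB'.1.comp e e.injective
  let A := Algebra.adjoin K (Set.range B)
  let g0 : A →ₐ[K] k := (MvPolynomial.aeval (B' ∘ e)).comp hB.1.aevalEquiv.symm.toAlgHom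
  have g0inj : Function.Injective g0 := by
    have : Function.Injective (MvPolynomial.aeval (R := K) (B' ∘ e)) := hind
    exact this.comp hB.1.aevalEquiv.symm.injective
  letI : Algebra A k := g0.toRingHom.toAlgebra
  haveI : IsScalarTower K A k := IsScalarTower.of_algebraMap_eq (fun r => (g0.commutes r).symm)
  haveI : Algebra.IsAlgebraic A M := hB.isAlgebraic
  haveI : Module.IsTorsionFree A k := Module.isTorsionFree_iff_algebraMap_injective.2 g0inj
  let ψ0 : M →ₐ[A] k := IsAlgClosed.lift
  exact ⟨ψ0.restrictScalars K⟩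

theorem card_lt_of_finite {L M k : Type u} [Field L] [Field M] [Field k] [IsAlgClosed k]
    (φ : L →+* M) (hφ : φ.Finite) (h : #L < #k) : #M < #k := by
  letI := φ.toAlgebra
  haveI : Module.Finite L M := hφ
  rcases finite_or_infinite L with hL | hL
  · haveI : Finite M := Module.finite_of_finite L
    haveI : Infinite k := IsAlgClosed.instInfinite
    exact lt_of_lt_of_le (Cardinal.lt_aleph0_of_finite M) (Cardinal.aleph0_le_mk k)
  · haveI : Algebra.IsAlgebraic L M := inferInstance
    have h1 : #M ≤ max #L ℵ₀ := Algebra.IsAlgebraic.cardinalMk_le_max L M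
    have h2 : max #L ℵ₀ = #L := max_eq_left (Cardinal.aleph0_le_mk L)
    rw [h2] at h1
    exact lt_of_le_of_lt h1 h

section Sp

open CategoryTheory CategoryTheory.Limits AlgebraicGeometry Opposite AlgSp
open Groth.Agent.Lib.Helper52 Groth.Agent.Lib.Helper51

set_option backward.isDefEq.respectTransparency false

theorem exists_finite_residue_of_etale {W : Scheme.{u}} {L : Type u} [Field L]
    (g : W ⟶ Spec (CommRingCat.of L)) [Etale g] (w : W) :
    ∃ φ : CommRingCat.of L ⟶ W.residueField w,
      Spec.map φ = W.fromSpecResidueField w ≫ g ∧ φ.hom.Finite := by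
  have hd : DiscreteTopology W := discreteTopology_of_etale_spec_field g
  have hci : IsClosedImmersion (W.fromSpecResidueField w) :=
    isClosed_singleton_iff_isClosedImmersion.mp (isClosed_discrete _)
  have hfin : IsFinite (W.fromSpecResidueField w ≫ g) :=
    (isFinite_iff_locallyOfFiniteType_of_jacobsonSpace
      (f := W.fromSpecResidueField w ≫ g)).mpr inferInstance
  obtain ⟨φ, hφ⟩ : ∃ φ : CommRingCat.of L ⟶ W.residueField w,
      Spec.map φ = W.fromSpecResidueField w ≫ g := ⟨Spec.preimage _, Spec.map_preimage _⟩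
  rw [← hφ] at hfin
  exact ⟨φ, hφ, (IsFinite.SpecMap_iff _).1 hfin⟩

theorem exists_factor_residueField {V : Scheme.{u}} {k : Type u} [Field k]
    (g : Spec (CommRingCat.of k) ⟶ V) (v0 : V) (h : g (IsLocalRing.closedPoint k) = v0) :
    ∃ φ : V.residueField v0 ⟶ CommRingCat.of k, Spec.map φ ≫ V.fromSpecResidueField v0 = g := by
  subst h
  exact ⟨_, Scheme.descResidueField_stalkClosedPointTo_fromSpecResidueField k V g⟩

variable {S : Scheme.{u}}

theorem exists_lift_big_geometric_point {X Y : AlgSp.Sp S} (hY : AlgSp.IsAlgSpace Y) (f : X ⟶ Y)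
    {U : Over S} (a : (AlgSp.yon S).obj U ⟶ X) (has : AlgSp.RepWith @Surjective a)
    (ybar : AlgSp.FieldPt Y) (hy : ybar.IsGeometric)
    (hk : ∀ u : ↥U.left, Cardinal.mk ↥(U.left.residueField u) < Cardinal.mk ybar.K)
    (x : AlgSp.Points X) (hx : AlgSp.Points.map f x = AlgSp.Points.mk ybar) :
    ∃ xbar : (AlgSp.yon S).obj ybar.pt ⟶ X, xbar ≫ f = ybar.toHom ∧
      AlgSp.Points.ofPt xbar (IsLocalRing.closedPoint ybar.K) = x := by
  haveI : IsAlgClosed ybar.K := hy
  obtain ⟨u, hu⟩ := surjective_ofPt_of_repWith_surjective a has x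
  obtain ⟨V, b, v, -, hb, hv⟩ := exists_affine_etale_chart_at hY (Points.mk ybar)
  obtain ⟨vbar, hvb1, hvb2⟩ := exists_lift_of_etale_chart b hb ybar hy v hv
  obtain ⟨Lp, hLp⟩ : ∃ Lp : Over S, Lp = Over.mk (U.left.fromSpecResidueField u ≫ U.hom) := ⟨_, rfl⟩
  subst hLp
  let ιu : Over.mk (U.left.fromSpecResidueField u ≫ U.hom) ⟶ U :=
    Over.homMk (U.left.fromSpecResidueField u) rfl
  obtain ⟨W, ψ1, ψ2, sq⟩ :=
    exists_isPullback_of_representable hb.1 ((AlgSp.yon S).map ιu ≫ a ≫ f)
  have het : Etale ψ2.left := hb.2 _ _ ψ2 sq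
  have hpt : Points.ofPt b v = Points.ofPt ((AlgSp.yon S).map ιu ≫ a ≫ f)
      (IsLocalRing.closedPoint (U.left.residueField u)) := by
    rw [hv, ofPt_yon_map_comp, ← hx, ← hu, Points.map_ofPt]
    congr 1
    exact (Scheme.fromSpecResidueField_apply _ _).symm
  obtain ⟨w, hw1, hw2⟩ := exists_of_ofPt_eq_ofPt sq hpt
  obtain ⟨φL, hφL, hφLfin⟩ :=
    exists_finite_residue_of_etale (L := U.left.residueField u) ψ2.left w
  have hcard : #(W.left.residueField w) < #ybar.K := card_lt_of_finite φL.hom hφLfin (hk u)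
  obtain ⟨φK, hφK⟩ := exists_factor_residueField vbar.left (ψ1.left w) (hvb2.trans hw1.symm)
  obtain ⟨κ, hκdef⟩ : ∃ κ : V.left.residueField (ψ1.left w) ⟶ W.left.residueField w,
      κ = ψ1.left.residueFieldMap w := ⟨_, rfl⟩
  have hκ : Spec.map κ ≫ V.left.fromSpecResidueField (ψ1.left w) =
      W.left.fromSpecResidueField w ≫ ψ1.left := by
    rw [hκdef]; exact Scheme.Hom.SpecMap_residueFieldMap_fromSpecResidueField _ w
  letI : Algebra (V.left.residueField (ψ1.left w)) (W.left.residueField w) := κ.hom.toAlgebra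
  letI : Algebra (V.left.residueField (ψ1.left w)) ybar.K := φK.hom.toAlgebra
  obtain ⟨ψ⟩ := exists_algHom_of_card_lt (K := V.left.residueField (ψ1.left w))
    (M := W.left.residueField w) (k := ybar.K) hcard
  have hψ : κ ≫ CommRingCat.ofHom ψ.toRingHom = φK := by
    ext r; exact ψ.commutes r
  have hstr : (Spec.map (CommRingCat.ofHom ψ.toRingHom) ≫ W.left.fromSpecResidueField w) ≫
      ψ1.left = vbar.left := by
    rw [Category.assoc, ← hκ, ← Category.assoc, ← Spec.map_comp, hψ, hφK]
  let wbar : ybar.pt ⟶ W :=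
    Over.homMk (Spec.map (CommRingCat.ofHom ψ.toRingHom) ≫ W.left.fromSpecResidueField w) (by
      have h1 : ψ1.left ≫ V.hom = W.hom := Over.w ψ1
      have h2 : vbar.left ≫ V.hom = ybar.str := Over.w vbar
      show (_ ≫ _) ≫ W.hom = ybar.str
      rw [← h1, ← Category.assoc, hstr, h2])
  have hwb1 : wbar ≫ ψ1 = vbar := Over.OverMorphism.ext hstr
  refine ⟨(AlgSp.yon S).map (wbar ≫ ψ2) ≫ (AlgSp.yon S).map ιu ≫ a, ?_, ?_⟩
  · rw [Category.assoc, Category.assoc, Functor.map_comp, Category.assoc, ← sq.w,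
      ← Category.assoc, ← Functor.map_comp, hwb1, hvb1]
  · have hpt2 : ∀ t, ((wbar ≫ ψ2) ≫ ιu).left t = u := by
      intro t
      have h0 : ((wbar ≫ ψ2) ≫ ιu).left = (wbar ≫ ψ2).left ≫ U.left.fromSpecResidueField u := rfl
      rw [h0, Scheme.Hom.comp_apply]
      exact Scheme.fromSpecResidueField_apply u _
    rw [← Category.assoc, ← Functor.map_comp, ofPt_yon_map_comp, ← hu, hpt2]

end Sp

end Groth.Agent.Lib.Helper51.BigPt
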