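import Groth.Agent.Lib.Helper80.Boot2

set_option autoImplicit false
universe u
open CategoryTheory CategoryTheory.Limits AlgebraicGeometry Opposite
open AlgSp

namespace Groth.Agent.Lib.Helper51.Boot

variable {S : Scheme.{u}}

set_option backward.isDefEq.respectTransparency false

open Groth.Agent.Lib.Helper80

/-- `S10095`: cancellation for `RepBySp`. -/
theorem repBySp_of_comp {F G H : PSp S} (a : F ⟶ G) (b : G ⟶ H)
    (hΔ : RepBySp (pullback.diagonal b)) (hab : RepBySp (a ≫ b)) : RepBySp a := by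
  have sqΓ := pullback_lift_diagonal_isPullback a b
  have h1 : RepBySp (pullback.lift (𝟙 F) a (by simp) : F ⟶ pullback (a ≫ b) b) :=
    repBySp_of_isPullback sqΓ hΔ
  have h2 : RepBySp (pullback.snd (a ≫ b) b) :=
    repBySp_of_isPullback (IsPullback.of_hasPullback (a ≫ b) b) hab
  have h3 := repBySp_comp _ _ h1 h2
  rwa [pullback.lift_snd] at h3

section Prod
variable {C : Type*} [Category C] [HasBinaryProducts C]

theorem isPullback_prod_fst_map {A B : C} (a : A ⟶ B) (D : C) :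
    IsPullback (prod.fst : A ⨯ D ⟶ A) (prod.map a (𝟙 D)) a (prod.fst : B ⨯ D ⟶ B) := by
  refine ⟨⟨by simp⟩, ⟨PullbackCone.IsLimit.mk _ (fun c => prod.lift c.fst (c.snd ≫ prod.snd))
    ?_ ?_ ?_⟩⟩
  · intro c; simp
  · intro c
    apply Limits.prod.hom_ext
    · simp [c.condition]
    · simp
  · intro c m hm1 hm2
    apply Limits.prod.hom_ext
    · simp [hm1]
    · simp [← hm2]

theorem isPullback_prod_snd_map {A B : C} (D : C) (a : A ⟶ B) :
    IsPullback (prod.snd : D ⨯ A ⟶ A) (prod.map (𝟙 D) a) a (prod.snd : D ⨯ B ⟶ B) := by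
  refine ⟨⟨by simp⟩, ⟨PullbackCone.IsLimit.mk _ (fun c => prod.lift (c.snd ≫ prod.fst) c.fst)
    ?_ ?_ ?_⟩⟩
  · intro c; simp
  · intro c
    apply Limits.prod.hom_ext
    · simp
    · simp [c.condition]
  · intro c m hm1 hm2
    apply Limits.prod.hom_ext
    · simp [← hm2]
    · simp [hm1]

end Prod

/-- `S10094`: products of maps representable by algebraic spaces. -/
theorem repBySp_prod_map {F₁ G₁ F₂ G₂ : PSp S} (a₁ : F₁ ⟶ G₁) (a₂ : F₂ ⟶ G₂)
    (h₁ : RepBySp a₁) (h₂ : RepBySp a₂) : RepBySp (prod.map a₁ a₂) := by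
  have e : prod.map a₁ a₂ = prod.map a₁ (𝟙 F₂) ≫ prod.map (𝟙 G₁) a₂ := by
    rw [prod.map_map, Category.comp_id, Category.id_comp]
  rw [e]
  exact repBySp_comp _ _ (repBySp_of_isPullback (isPullback_prod_fst_map a₁ F₂) h₁)
    (repBySp_of_isPullback (isPullback_prod_snd_map G₁ a₂) h₂)

end Groth.Agent.Lib.Helper51.Boot
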