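import Groth.Agent.Lib.Helper80.Boot2
import Groth.Agent.Lib.Helper78.AlgSpFibre

set_option autoImplicit false
universe u
open CategoryTheory CategoryTheory.Limits AlgebraicGeometry Opposite
open AlgSp

namespace Groth.Agent.Lib.Helper51.Boot

variable {S : Scheme.{u}}

set_option backward.isDefEq.respectTransparency false

open Groth.Agent.Lib.Helper80

/-- every map from a scheme to a presheaf which is an algebraic space is representable by algebraic
spaces. -/
theorem repBySp_of_isAlgSpaceP {X : PSp S} (hX : IsAlgSpaceP X) {U : Over S}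
    (σ : (pyon S).obj U ⟶ X) : RepBySp σ := by
  obtain ⟨hsh, halg⟩ := hX
  let σ' : (yon S).obj U ⟶ (⟨X, hsh⟩ : Sp S) := ObjectProperty.homMk σ
  have h1 : Representable σ' :=
    Groth.Agent.Lib.Helper78.AlgSpFibre.repAll_of_isAlgSpace halg σ'
  exact Representable.repBySp h1

/-- `S10090`: the relative diagonal of a map representable by algebraic spaces. -/
theorem repBySp_diagonal {F G : PSp S} (a : F ⟶ G) (ha : RepBySp a) :
    RepBySp (pullback.diagonal a) := by
  intro U ξ F' fst snd sq
  set ξ1 : (pyon S).obj U ⟶ F := ξ ≫ pullback.fst a a with hξ1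
  set ξ2 : (pyon S).obj U ⟶ F := ξ ≫ pullback.snd a a with hξ2
  set η : (pyon S).obj U ⟶ G := ξ1 ≫ a with hη
  have h2 : ξ2 ≫ a = 𝟙 _ ≫ η := by
    rw [Category.id_comp, hη, hξ1, hξ2, Category.assoc, Category.assoc, pullback.condition]
  have h1 : ξ1 ≫ a = 𝟙 _ ≫ η := by rw [Category.id_comp]
  have hX : IsAlgSpaceP (pullback a η) := ha η _ _ (IsPullback.of_hasPullback a η)
  let σ1 : (pyon S).obj U ⟶ pullback a η := pullback.lift ξ1 (𝟙 _) h1
  let σ2 : (pyon S).obj U ⟶ pullback a η := pullback.lift ξ2 (𝟙 _) h2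
  have hσ1 : RepBySp σ1 := repBySp_of_isAlgSpaceP hX σ1
  have e1 : snd ≫ ξ1 = fst := by
    rw [hξ1, ← Category.assoc, ← sq.w, Category.assoc, pullback.diagonal_fst, Category.comp_id]
  have e2 : snd ≫ ξ2 = fst := by
    rw [hξ2, ← Category.assoc, ← sq.w, Category.assoc, pullback.diagonal_snd, Category.comp_id]
  have key : IsPullback snd snd σ1 σ2 := by
    have hw : snd ≫ σ1 = snd ≫ σ2 := by
      apply pullback.hom_ext
      · rw [Category.assoc, Category.assoc, pullback.lift_fst, pullback.lift_fst, e1, e2]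
      · rw [Category.assoc, Category.assoc, pullback.lift_snd, pullback.lift_snd]
    have hxy : ∀ c : PullbackCone σ1 σ2, c.fst = c.snd := by
      intro c
      have := congrArg (· ≫ pullback.snd a η) c.condition
      simpa only [σ1, σ2, Category.assoc, pullback.lift_snd, Category.comp_id] using this
    have hξ12 : ∀ c : PullbackCone σ1 σ2, c.fst ≫ ξ1 = c.fst ≫ ξ2 := by
      intro c
      have := congrArg (· ≫ pullback.fst a η) c.condition
      simp only [σ1, σ2, Category.assoc, pullback.lift_fst] at this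
      rw [this, hxy c]
    have hlift : ∀ c : PullbackCone σ1 σ2, (c.fst ≫ ξ1) ≫ pullback.diagonal a = c.fst ≫ ξ := by
      intro c
      apply pullback.hom_ext
      · rw [Category.assoc, pullback.diagonal_fst, Category.comp_id, Category.assoc]
      · rw [Category.assoc, pullback.diagonal_snd, Category.comp_id, Category.assoc, hξ12 c]
    refine ⟨⟨hw⟩, ⟨PullbackCone.IsLimit.mk _ (fun c => sq.lift (c.fst ≫ ξ1) c.fst (hlift c))
      ?_ ?_ ?_⟩⟩
    · intro c; exact sq.lift_snd _ _ _
    · intro c; rw [sq.lift_snd]; exact hxy c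
    · intro c m hm1 hm2
      apply sq.hom_ext
      · rw [sq.lift_fst, ← hm1, Category.assoc, e1]
      · rw [sq.lift_snd, hm1]
  exact hσ1 σ2 snd snd key

end Groth.Agent.Lib.Helper51.Boot
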