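import Groth.Agent.Lib.Helper51.AlgSpBoot4
import Groth.Agent.Lib.Helper51.AlgSpBoot3

set_option autoImplicit false
universe u
open CategoryTheory CategoryTheory.Limits AlgebraicGeometry Opposite
open AlgSp

namespace Groth.Agent.Lib.Helper51.Boot

variable {S : Scheme.{u}}

set_option backward.isDefEq.respectTransparency false

open Groth.Agent.Lib.Helper80

section Cat
variable {C : Type*} [Category C] [HasBinaryProducts C]

/-- the magic square. -/
theorem isPullback_diag_prod_map {A B F P : C} {fst : P ⟶ A} {snd : P ⟶ B} {ξ : A ⟶ F} {η : B ⟶ F}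
    (sq : IsPullback fst snd ξ η) :
    IsPullback (fst ≫ ξ) (prod.lift fst snd) (Limits.diag F) (prod.map ξ η) := by
  have hw : (fst ≫ ξ) ≫ Limits.diag F = prod.lift fst snd ≫ prod.map ξ η := by
    apply Limits.prod.hom_ext
    · simp
    · simp [sq.w]
  have h1 : ∀ c : PullbackCone (Limits.diag F) (prod.map ξ η),
      (c.snd ≫ prod.fst) ≫ ξ = c.fst := by
    intro c
    have := congrArg (· ≫ prod.fst) c.condition
    simp only [Category.assoc, Limits.diag, prod.lift_fst, Category.comp_id, prod.map_fst] at this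
    rw [Category.assoc]; exact this.symm
  have h2 : ∀ c : PullbackCone (Limits.diag F) (prod.map ξ η),
      (c.snd ≫ prod.snd) ≫ η = c.fst := by
    intro c
    have := congrArg (· ≫ prod.snd) c.condition
    simp only [Category.assoc, Limits.diag, prod.lift_snd, Category.comp_id, prod.map_snd] at this
    rw [Category.assoc]; exact this.symm
  refine ⟨⟨hw⟩, ⟨PullbackCone.IsLimit.mk _
    (fun c => sq.lift (c.snd ≫ prod.fst) (c.snd ≫ prod.snd) ((h1 c).trans (h2 c).symm)) ?_ ?_ ?_⟩⟩
  · intro c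
    rw [← Category.assoc, sq.lift_fst, h1]
  · intro c
    apply Limits.prod.hom_ext
    · rw [Category.assoc, prod.lift_fst, sq.lift_fst]
    · rw [Category.assoc, prod.lift_snd, sq.lift_snd]
  · intro c m hm1 hm2
    apply sq.hom_ext
    · rw [sq.lift_fst, ← hm2, Category.assoc, prod.lift_fst]
    · rw [sq.lift_snd, ← hm2, Category.assoc, prod.lift_snd]

/-- the equalizer as a base change of the diagonal of the target. -/
theorem isPullback_lift_diag {V F P Q : C} {fst : P ⟶ F} {snd : P ⟶ V} {ζ : V ⟶ F ⨯ F}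
    (sq : IsPullback fst snd (Limits.diag F) ζ) {p1 p2 : Q ⟶ V}
    (sqQ : IsPullback p1 p2 (ζ ≫ prod.fst) (ζ ≫ prod.snd)) :
    ∃ l : P ⟶ Q, IsPullback l snd (prod.lift p1 p2) (Limits.diag V) := by
  have e1 : snd ≫ ζ ≫ prod.fst = fst := by
    rw [← Category.assoc, ← sq.w, Category.assoc]; simp
  have e2 : snd ≫ ζ ≫ prod.snd = fst := by
    rw [← Category.assoc, ← sq.w, Category.assoc]; simp
  refine ⟨sqQ.lift snd snd (e1.trans e2.symm), ?_⟩
  have hw : sqQ.lift snd snd (e1.trans e2.symm) ≫ prod.lift p1 p2 = snd ≫ Limits.diag V := by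
    apply Limits.prod.hom_ext
    · simp
    · simp
  have h1 : ∀ c : PullbackCone (prod.lift p1 p2) (Limits.diag V), c.fst ≫ p1 = c.snd := by
    intro c
    have := congrArg (· ≫ prod.fst) c.condition
    simpa only [Category.assoc, Limits.diag, prod.lift_fst, Category.comp_id] using this
  have h2 : ∀ c : PullbackCone (prod.lift p1 p2) (Limits.diag V), c.fst ≫ p2 = c.snd := by
    intro c
    have := congrArg (· ≫ prod.snd) c.condition
    simpa only [Category.assoc, Limits.diag, prod.lift_snd, Category.comp_id] using this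
  have h3 : ∀ c : PullbackCone (prod.lift p1 p2) (Limits.diag V),
      (c.snd ≫ ζ ≫ prod.fst) ≫ Limits.diag F = c.snd ≫ ζ := by
    intro c
    apply Limits.prod.hom_ext
    · simp
    · simp only [Category.assoc, Limits.diag, prod.lift_snd, Category.comp_id]
      have hq := sqQ.w
      calc c.snd ≫ ζ ≫ prod.fst = (c.fst ≫ p1) ≫ ζ ≫ prod.fst := by rw [h1 c]
        _ = c.fst ≫ p1 ≫ ζ ≫ prod.fst := Category.assoc _ _ _
        _ = c.fst ≫ p2 ≫ ζ ≫ prod.snd := by rw [hq]
        _ = (c.fst ≫ p2) ≫ ζ ≫ prod.snd := (Category.assoc _ _ _).symm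
        _ = c.snd ≫ ζ ≫ prod.snd := by rw [h2 c]
  refine ⟨⟨hw⟩, ⟨PullbackCone.IsLimit.mk _
    (fun c => sq.lift (c.snd ≫ ζ ≫ prod.fst) c.snd (h3 c)) ?_ ?_ ?_⟩⟩
  · intro c
    apply sqQ.hom_ext
    · rw [Category.assoc, sqQ.lift_fst, sq.lift_snd, h1]
    · rw [Category.assoc, sqQ.lift_snd, sq.lift_snd, h2]
  · intro c
    exact sq.lift_snd _ _ _
  · intro c m hm1 hm2
    apply sq.hom_ext
    · rw [sq.lift_fst, ← hm2, Category.assoc, e1]
    · rw [sq.lift_snd, hm2]

end Cat

/-- isomorphisms are representable by algebraic spaces. -/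
theorem repBySp_of_isIso {F G : PSp S} (e : F ⟶ G) [IsIso e] : RepBySp e := by
  intro U ξ F' fst snd sq
  have : IsIso snd := sq.isIso_snd_of_isIso
  have hU : IsAlgSpaceP ((pyon S).obj U) :=
    (isAlgSpaceP_obj_iff ((yon S).obj U)).2 (IsAlgSpace.yon_obj U)
  exact hU.of_iso (asIso snd).symm

theorem repBySp_pyon_map {A B : Over S} (g : A ⟶ B) : RepBySp ((pyon S).map g) :=
  Representable.repBySp (representable_yon_map g)

theorem repBySp_diag_pyon (V : Over S) : RepBySp (Limits.diag ((pyon S).obj V)) := by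
  have e : Limits.diag ((pyon S).obj V) =
      (pyon S).map (Limits.diag V) ≫ prodComparison (pyon S) V V := by
    apply Limits.prod.hom_ext
    · rw [Category.assoc, prodComparison_fst, ← Functor.map_comp]
      simp
    · rw [Category.assoc, prodComparison_snd, ← Functor.map_comp]
      simp
  rw [e]
  exact repBySp_comp _ _ (repBySp_pyon_map _) (repBySp_of_isIso _)

/-- `S10097`. -/
theorem repBySp_diag_iff (F : PSp S) :
    RepBySp (Limits.diag F) ↔ ∀ (T : Over S) (ξ : (pyon S).obj T ⟶ F), RepBySp ξ := by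
  constructor
  · intro hΔ T ξ U η F' fst snd sq
    have sq' := isPullback_diag_prod_map sq
    let e := asIso (prodComparison (pyon S) T U)
    have sq'' : IsPullback (fst ≫ ξ) (prod.lift fst snd ≫ e.inv) (Limits.diag F)
        (e.hom ≫ prod.map ξ η) :=
      sq'.of_iso (Iso.refl _) (Iso.refl _) e.symm (Iso.refl _) (by simp) (by simp) (by simp)
        (by simp)
    exact hΔ _ _ _ sq''
  · intro h V ζ F' fst snd sq
    have hQ : IsAlgSpaceP (pullback (ζ ≫ prod.fst) (ζ ≫ prod.snd)) :=
      h V _ _ _ _ (IsPullback.of_hasPullback _ _)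
    obtain ⟨l, hl⟩ := isPullback_lift_diag sq
      (IsPullback.of_hasPullback (ζ ≫ prod.fst) (ζ ≫ prod.snd))
    exact isAlgSpaceP_of_isPullback (repBySp_diag_pyon V) hQ hl

end Groth.Agent.Lib.Helper51.Boot
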