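import Groth.Agent.Lib.Helper51.LCDescent
import Groth.Agent.Lib.Helper51.AlgSpPoints
import Groth.Agent.Lib.Helper78.LocConstr
import Groth.Prelude.Def_AlgSp4

set_option autoImplicit false
set_option linter.unusedSectionVars false
universe u
set_option maxHeartbeats 400000
set_option backward.isDefEq.respectTransparency false

open CategoryTheory CategoryTheory.Limits AlgebraicGeometry MorphismProperty AlgSp Opposite Topology

namespace Groth.Agent.Lib.Helper51.Chev

variable {S : Scheme.{u}}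

open Groth.Agent.Lib.Helper52 Groth.Agent.Lib.Helper51

theorem isLocallyConstructible_of_isOpenEmbedding_cover {X : Type*} [TopologicalSpace X]
    {ι : Type*} {Z : ι → Type*} [∀ i, TopologicalSpace (Z i)] (g : ∀ i, Z i → X)
    (hg : ∀ i, IsOpenEmbedding (g i)) (hcov : ∀ x, ∃ i z, g i z = x) {s : Set X}
    (H : ∀ i, IsLocallyConstructible (g i ⁻¹' s)) : IsLocallyConstructible s := by
  have hcover : TopologicalSpace.IsOpenCover
      (fun i => (⟨Set.range (g i), (hg i).isOpen_range⟩ : TopologicalSpace.Opens X)) := by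
    apply TopologicalSpace.IsOpenCover.of_sets (fun i => (hg i).isOpen_range)
    rw [Set.eq_univ_iff_forall]
    intro x
    obtain ⟨i, z, rfl⟩ := hcov x
    exact Set.mem_iUnion.2 ⟨i, z, rfl⟩
  apply IsLocallyConstructible.of_isOpenCover hcover
  intro i
  let e := (hg i).isEmbedding.toHomeomorph
  have := (H i).preimage_of_isOpenEmbedding e.symm.isOpenEmbedding
  have heq : ((Subtype.val : Set.range (g i) → X) ⁻¹' s) = e.symm ⁻¹' (g i ⁻¹' s) := by
    ext ⟨x, z, rfl⟩
    simp only [Set.mem_preimage]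
    have : e.symm ⟨g i z, z, rfl⟩ = z := by
      apply e.injective
      rw [Homeomorph.apply_symm_apply]
      rfl
    rw [this]
  exact heq ▸ this

theorem isLocallyConstructible_image_chart {X Y : Sp S} (f : X ⟶ Y)
    (hq : IsQuasiCompactMor f) (hfp : LocP @LocallyOfFinitePresentation f)
    (E : Set (Points X))
    (hE : ∀ (U : Over S) (φ : (yon S).obj U ⟶ X), RepWith @Etale φ →
        IsLocallyConstructible (Points.ofPt φ ⁻¹' E))
    {V₀ : Over S} [CompactSpace V₀.left] [QuasiSeparatedSpace V₀.left]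
    (φ₀ : (yon S).obj V₀ ⟶ Y) (hφ₀ : RepWith @Etale φ₀) :
    IsLocallyConstructible (Points.ofPt φ₀ ⁻¹' (Points.map f '' E)) := by
  have sqU : IsPullback (pullback.fst f φ₀) (pullback.snd f φ₀) f φ₀ :=
    IsPullback.of_hasPullback f φ₀
  have hV₀qc : IsQuasiCompactSp ((yon S).obj V₀) :=
    ⟨V₀, 𝟙 _, repWith_id @Etale V₀, repWith_id @Surjective V₀, inferInstance⟩
  have hX₀qc : IsQuasiCompactSp (pullback f φ₀) :=
    hq (IsAlgSpace.yon_obj V₀) hV₀qc φ₀ _ _ sqU
  obtain ⟨U₀, a₀, ha₀e, ha₀s, hU₀c⟩ := hX₀qc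
  haveI : CompactSpace U₀.left := hU₀c
  obtain ⟨h₀, hh₀⟩ := (yon S).map_surjective (a₀ ≫ pullback.snd f φ₀)
  have hpr₁ : RepWith @Etale (pullback.fst f φ₀) :=
    MorphismProperty.of_isPullback (P := RepWith @Etale) sqU.flip hφ₀
  have hc : RepWith @Etale (a₀ ≫ pullback.fst f φ₀) :=
    (RepWith (S := S) @Etale).comp_mem _ _ ha₀e hpr₁
  have hcomm : (a₀ ≫ pullback.fst f φ₀) ≫ f = (yon S).map h₀ ≫ φ₀ := by
    rw [hh₀, Category.assoc, Category.assoc, sqU.w]
  haveI : LocallyOfFinitePresentation h₀.left := hfp _ φ₀ h₀ hc hφ₀ hcomm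
  haveI : QuasiCompact h₀.left := inferInstance
  have hE₀ := hE U₀ _ hc
  have himg := h₀.left.isLocallyConstructible_image hE₀
  have heq : Points.ofPt φ₀ ⁻¹' (Points.map f '' E) =
      h₀.left '' (Points.ofPt (a₀ ≫ pullback.fst f φ₀) ⁻¹' E) := by
    ext v
    constructor
    · rintro ⟨e, heE, hev⟩
      have hxv : Points.map f e = Points.map φ₀ (Points.ofScheme V₀ v) := by
        rw [hev, ← Points.ofPt_eq_map_ofScheme]
      obtain ⟨z, hz1, hz2⟩ := exists_point_of_isPullback sqU e (Points.ofScheme V₀ v) hxv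
      obtain ⟨u₀, rfl⟩ := surjective_ofPt_of_repWith_surjective a₀ ha₀s z
      refine ⟨u₀, ?_, ?_⟩
      · show Points.ofPt (a₀ ≫ pullback.fst f φ₀) u₀ ∈ E
        rw [← Points.map_ofPt, hz1]
        exact heE
      · apply ofScheme_injective V₀
        rw [← hz2, Points.map_ofPt, ← hh₀, Points.ofPt_eq_map_ofScheme, map_yon_map_ofScheme]
    · rintro ⟨u₀, hu₀, rfl⟩
      refine ⟨_, hu₀, ?_⟩
      rw [Points.map_ofPt, hcomm, ofPt_yon_map_comp]
  rw [heq]
  exact himg

theorem isLocallyConstructible_image {X Y : Sp S} (f : X ⟶ Y)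
    (hq : IsQuasiCompactMor f) (hfp : LocP @LocallyOfFinitePresentation f)
    (E : Set (Points X))
    (hE : ∀ (U : Over S) (φ : (yon S).obj U ⟶ X), RepWith @Etale φ →
        IsLocallyConstructible (Points.ofPt φ ⁻¹' E))
    {V : Over S} (φ : (yon S).obj V ⟶ Y) (hφ : RepWith @Etale φ) :
    IsLocallyConstructible (Points.ofPt φ ⁻¹' (Points.map f '' E)) := by
  apply isLocallyConstructible_of_isOpenEmbedding_cover
    (fun i => ((V.left.affineCover.f i : V.left.affineCover.X i → V.left)))
    (fun i => (V.left.affineCover.f i).isOpenEmbedding)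
    (fun x => V.left.affineCover.exists_eq x)
  intro i
  let Vi : Over S := Over.mk (V.left.affineCover.f i ≫ V.hom)
  let ei : Vi ⟶ V := Over.homMk (V.left.affineCover.f i) rfl
  have hτ : RepWith @Etale ((yon S).map ei ≫ φ) :=
    (RepWith (S := S) @Etale).comp_mem _ _
      ((repWith_yon_map_iff @Etale ei).2 (inferInstanceAs (Etale (V.left.affineCover.f i)))) hφ
  haveI : CompactSpace Vi.left := inferInstanceAs (CompactSpace (V.left.affineCover.X i))
  haveI : QuasiSeparatedSpace Vi.left :=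
    inferInstanceAs (QuasiSeparatedSpace (V.left.affineCover.X i))
  have := isLocallyConstructible_image_chart f hq hfp E hE ((yon S).map ei ≫ φ) hτ
  have heq : Points.ofPt ((yon S).map ei ≫ φ) ⁻¹' (Points.map f '' E) =
      (V.left.affineCover.f i : V.left.affineCover.X i → V.left) ⁻¹'
        (Points.ofPt φ ⁻¹' (Points.map f '' E)) := by
    ext v
    simp only [Set.mem_preimage]
    rw [ofPt_yon_map_comp]
    rfl
  rw [← heq]
  exact this

end Groth.Agent.Lib.Helper51.Chev
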