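import Groth.Agent.Lib.Helper51.AlgSpRedFactor
import Groth.Agent.Lib.Helper51.AlgSpPoints2
import Groth.Prelude.Def_AlgSpSub

/-!
A morphism from a reduced algebraic space factors through a closed subspace as soon as it does
so on points (helper51).
-/

set_option autoImplicit false
set_option linter.unusedSectionVars false
universe u
open CategoryTheory CategoryTheory.Limits AlgebraicGeometry Opposite

set_option backward.isDefEq.respectTransparency false

namespace Groth.Agent.Lib.Helper51

open AlgSp Groth.Agent.Lib.Helper52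

variable {S : Scheme.{u}}

theorem exists_factor_of_reduced_of_closedImmersion {X Y Z : AlgSp.Sp S} (i : Z ⟶ X)
    (hi : AlgSp.RepWith @IsClosedImmersion i) (hY : AlgSp.IsReducedSp Y) (f : Y ⟶ X)
    (h : Set.range (Points.map f) ⊆ Set.range (Points.map i)) : ∃ g : Y ⟶ Z, g ≫ i = f := by
  have hmono : Mono i := mono_of_repWith (fun g (_ : IsClosedImmersion g) => inferInstance) hi
  obtain ⟨V, a, hae, has, hVred⟩ := hY
  have : IsReduced V.left := hVred
  have sq := hi.1.isPullback (a ≫ f)
  have hci : IsClosedImmersion (hi.1.snd (a ≫ f)).left := hi.2 (a ≫ f) _ _ sq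
  have hsurj : Function.Surjective (hi.1.snd (a ≫ f)).left := by
    intro v
    have h1 : Points.ofPt (a ≫ f) v ∈ Set.range (Points.map i) := by
      apply h
      exact ⟨Points.ofPt a v, Points.map_ofPt a f v⟩
    exact (ofPt_mem_range_map_iff sq v).1 h1
  have : Surjective (hi.1.snd (a ≫ f)).left := ⟨hsurj⟩
  have hiso : IsIso (hi.1.snd (a ≫ f)).left := isIso_of_isClosedImmersion_of_surjective _
  have hiso'' : IsIso ((Over.forget S).map (hi.1.snd (a ≫ f))) := hiso
  have hiso' : IsIso (hi.1.snd (a ≫ f)) := isIso_of_reflects_iso _ (Over.forget S)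
  have hepi : Epi a := Groth.Agent.Lib.Helper30.epi_of_repWith_etale_surjective a hae has
  refine exists_factor_of_epi_of_mono i f a
    ((AlgSp.yon S).map (inv (hi.1.snd (a ≫ f))) ≫ hi.1.fst (a ≫ f)) ?_
  rw [Category.assoc, sq.w, ← Category.assoc, ← Functor.map_comp, IsIso.inv_hom_id,
    CategoryTheory.Functor.map_id, Category.id_comp]

end Groth.Agent.Lib.Helper51
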