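import Groth.Agent.Lib.Helper51.AlgSpSchImProper

set_option autoImplicit false
set_option linter.unusedSectionVars false
universe u
open CategoryTheory CategoryTheory.Limits AlgebraicGeometry Opposite

set_option backward.isDefEq.respectTransparency false

namespace Groth.Agent.Lib.Helper51.KerAt

open AlgSp Groth.Agent.Lib.Helper52 Groth.Agent.Lib.Helper51

variable {S : Scheme.{u}}

/-- the image of a space proper over `B` in a space separated and locally of finite type over `B`
is closed and underlies a closed subspace proper over `B`. -/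
theorem exists_closedSubspace_image_isProperMor {Y B Z : AlgSp.Sp S} (hY : AlgSp.IsAlgSpace Y)
    (hB : AlgSp.IsAlgSpace B) (hZ : AlgSp.IsAlgSpace Z) (b : Y ⟶ B) (h : Z ⟶ Y)
    (hb : AlgSp.LocP @LocallyOfFiniteType b) (hbs : AlgSp.IsSeparatedMor b)
    (hZp : AlgSp.IsProperMor (h ≫ b)) :
    IsClosed (Set.range (Points.map h)) ∧
      ∃ (Z' : AlgSp.Sp S) (_ : AlgSp.IsAlgSpace Z') (i' : Z' ⟶ Y),
        AlgSp.RepWith @IsClosedImmersion i' ∧
          Set.range (Points.map i') = Set.range (Points.map h) ∧ AlgSp.IsProperMor (i' ≫ b) := by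
  obtain ⟨Z', hZ', i', hi'⟩ := ClosedSub.exists_isSchImage hZ hY h
  obtain ⟨h', hh'⟩ := hi'.2.1
  obtain ⟨hprop, hsurj⟩ :=
    schImage_proper_of_proper_source hZ hY hZ' hB h b hZp hbs hb i' hi' h' hh'
  have hrange : Set.range (Points.map i') = Set.range (Points.map h) := by
    rw [← hh']
    have : Points.map (h' ≫ i') = Points.map i' ∘ Points.map h' :=
      funext (Points.map_comp h' i')
    rw [this, Set.range_comp, hsurj.range_eq, Set.image_univ]
  refine ⟨?_, Z', hZ', i', hi'.1, hrange, hprop⟩
  rw [← hrange, ← Set.image_univ]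
  exact Groth.Agent.Lib.Helper30.isClosedMap_of_isUnivClosedMor hY
    (Groth.Agent.Lib.Helper30.isUnivClosedMor_of_repWith_isClosedImmersion hi'.1) _ isClosed_univ

end Groth.Agent.Lib.Helper51.KerAt
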