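import Groth.Agent.Lib.Helper51.AlgSpSepDescent
import Groth.Agent.Lib.Helper51.AlgSpClosedImProper

set_option autoImplicit false
set_option linter.unusedSectionVars false
universe u
open CategoryTheory CategoryTheory.Limits AlgebraicGeometry Opposite

set_option backward.isDefEq.respectTransparency false

namespace Groth.Agent.Lib.Helper51.KerAt

open AlgSp Groth.Agent.Lib.Helper52 Groth.Agent.Lib.Helper51

variable {S : Scheme.{u}}

/-- the image under a universally closed morphism `h` of a space proper over `B` in a space locally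
of finite type over `B` is closed and underlies a closed subspace proper over `B`. -/
theorem exists_closedSubspace_image_isProperMor_of_univClosed {Y B Z : AlgSp.Sp S}
    (hY : AlgSp.IsAlgSpace Y)
    (hB : AlgSp.IsAlgSpace B) (hZ : AlgSp.IsAlgSpace Z) (b : Y ⟶ B) (h : Z ⟶ Y)
    (hb : AlgSp.LocP @LocallyOfFiniteType b) (huc : AlgSp.IsUnivClosedMor h)
    (hZp : AlgSp.IsProperMor (h ≫ b)) :
    IsClosed (Set.range (Points.map h)) ∧
      ∃ (Z' : AlgSp.Sp S) (_ : AlgSp.IsAlgSpace Z') (i' : Z' ⟶ Y),
        AlgSp.RepWith @IsClosedImmersion i' ∧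
          Set.range (Points.map i') = Set.range (Points.map h) ∧ AlgSp.IsProperMor (i' ≫ b) := by
  obtain ⟨Z', hZ', i', hi'⟩ := ClosedSub.exists_isSchImage hZ hY h
  obtain ⟨h', hh'⟩ := hi'.2.1
  obtain ⟨hfs, ⟨hflft, hfqc⟩, hfuc⟩ := hZp
  have hqc : AlgSp.IsQuasiCompactMor h :=
    Groth.Agent.Lib.Helper30.isQuasiCompactMor_of_isUnivClosedMor hZ hY h huc
  haveI : Mono i' := ClosedSub.mono_of_repWith_isClosedImmersion i' hi'.1
  have hcl : IsClosed (Set.range (Points.map h)) := by
    rw [← Set.image_univ]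
    exact Groth.Agent.Lib.Helper30.isClosedMap_of_isUnivClosedMor hY huc _ isClosed_univ
  have hsurj : AlgSp.IsSurjectiveMor h' := by
    intro z
    have h1 := range_subset_closure_of_isSchImage_qc hZ hY hZ' h hqc i' hi' ⟨z, rfl⟩
    rw [hcl.closure_eq] at h1
    obtain ⟨x, hx⟩ := h1
    refine ⟨x, injective_map_of_mono i' ?_⟩
    rw [← Points.map_comp, hh', hx]
  have hrange : Set.range (Points.map i') = Set.range (Points.map h) := by
    rw [← hh']
    have : Points.map (h' ≫ i') = Points.map i' ∘ Points.map h' :=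
      funext (Points.map_comp h' i')
    rw [this, Set.range_comp, hsurj.range_eq, Set.image_univ]
  have hh'uc : AlgSp.IsUnivClosedMor h' :=
    Groth.Agent.Lib.Helper30.isUnivClosedMor_of_comp_of_isSeparatedMor hZ hZ' hY h' i'
      (isSeparatedMor_of_mono i') (by rw [hh']; exact huc)
  refine ⟨hcl, Z', hZ', i', hi'.1, hrange, ⟨?_, ⟨?_, ?_⟩, ?_⟩⟩
  · refine isSeparatedMor_of_surjective_univClosed_comp hZ hZ' hB h' (i' ≫ b) hsurj hh'uc ?_
    rw [← Category.assoc, hh']
    exact hfs
  · refine Groth.Agent.Lib.Helper78.AlgSpLocP.locP_comp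
      Groth.Agent.Lib.Helper78.AlgSpLocPLoft.etLocalST_loft i' b hY.atlas ?_ hb
    refine Groth.Agent.Lib.Helper78.AlgSpMisc.locP_of_repWith
      Groth.Agent.Lib.Helper78.AlgSpLocPLoft.etLocalST_loft i' hY.atlas ?_
    refine MorphismProperty.relative_monotone ?_ _ hi'.1
    intro A B' k hk
    have : IsClosedImmersion k.left := hk
    change LocallyOfFiniteType k.left
    infer_instance
  · apply isQuasiCompactMor_of_surjective_comp hZ hZ' hB h' (i' ≫ b) hsurj
    rw [← Category.assoc, hh']
    exact hfqc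
  · apply isUnivClosedMor_of_surjective_comp h' (i' ≫ b) hsurj
    rw [← Category.assoc, hh']
    exact hfuc

end Groth.Agent.Lib.Helper51.KerAt
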