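import Mathlib.Topology.Inseparable
import Mathlib.Topology.Separation.Basic
import Mathlib.Topology.DiscreteSubset
import Mathlib.Order.Preorder.Finite

/-!
No specializations inside locally finite saturated fibres (helper51).
-/

set_option autoImplicit false
universe u
open Topology

namespace Groth.Agent.Lib.Helper51

/-- In a discrete subspace there are no nontrivial specializations. -/
theorem eq_of_specializes_of_isDiscrete {X : Type*} [TopologicalSpace X] {s : Set X}
    (hs : IsDiscrete s) {x y : X} (hx : x ∈ s) (hy : y ∈ s) (h : x ⤳ y) : x = y := by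
  have hd : DiscreteTopology s := hs.to_subtype
  have hopen : IsOpen ({⟨y, hy⟩} : Set s) := isOpen_discrete _
  obtain ⟨O, hO, hOeq⟩ := isOpen_induced_iff.mp hopen
  have hyO : y ∈ O := by
    have : (⟨y, hy⟩ : s) ∈ Subtype.val ⁻¹' O := by rw [hOeq]; rfl
    exact this
  have hxO : x ∈ O := h.mem_open hO hyO
  have : (⟨x, hx⟩ : s) ∈ Subtype.val ⁻¹' O := hxO
  rw [hOeq] at this
  exact congrArg Subtype.val this

/-- Let `s, t : R → U` be continuous with `s` generalizing and `t` with discrete fibres, and let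
`F ⊆ U` be a locally finite subset which is a single orbit of the relation `R`. Then there are no
nontrivial specializations inside `F`. -/
theorem eq_of_specializes_of_orbit {U R : Type*} [TopologicalSpace U] [TopologicalSpace R]
    [T0Space U] (s t : R → U) (hs : GeneralizingMap s) (ht : Continuous t)
    (htd : ∀ u, IsDiscrete (t ⁻¹' {u})) (F : Set U)
    (hfin : ∀ v ∈ F, ∃ O : Set U, IsOpen O ∧ v ∈ O ∧ (F ∩ O).Finite)
    (htrans : ∀ u ∈ F, ∀ v ∈ F, ∃ r, s r = v ∧ t r = u)
    (hsat : ∀ r, s r ∈ F → t r ∈ F) {u v : U} (hu : u ∈ F) (hv : v ∈ F) (h : u ⤳ v) : u = v := by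
  by_contra hne
  obtain ⟨O, hO, hvO, hFO⟩ := hfin v hv
  -- the finite set of generizations of `u` inside `F`
  have hGfin : {w | w ∈ F ∧ w ⤳ u}.Finite := by
    refine hFO.subset ?_
    rintro w ⟨hwF, hwu⟩
    exact ⟨hwF, (hwu.trans h).mem_open hO hvO⟩
  let _ : Preorder U := specializationPreorder U
  have hle : ∀ a b : U, a ≤ b ↔ b ⤳ a := fun a b => Iff.rfl
  obtain ⟨w0, hw0u, hw0max⟩ := hGfin.exists_le_maximal (a := u) ⟨hu, specializes_rfl⟩
  have hw0F : w0 ∈ F := hw0max.1.1
  have hw0u' : w0 ⤳ u := hw0max.1.2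
  have hmax : ∀ w ∈ F, w ⤳ w0 → w = w0 := by
    intro w hwF hww0
    have hwG : w ∈ {w | w ∈ F ∧ w ⤳ u} := ⟨hwF, hww0.trans hw0u'⟩
    have h1 : w ≤ w0 := hw0max.2 hwG ((hle w0 w).2 hww0)
    exact (((hle w w0).1 h1).antisymm hww0).eq.symm
  have hw0v : w0 ⤳ v := hw0u'.trans h
  have hw0ne : w0 ≠ v := by
    intro heq
    apply hne
    have : v ⤳ u := heq ▸ hw0u'
    exact (h.antisymm this).eq
  obtain ⟨r, hrs, hrt⟩ := htrans w0 hw0F v hv
  obtain ⟨r', hr'r, hr's⟩ := hs (hrs ▸ hw0v)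
  have h1 : t r' ⤳ w0 := hrt ▸ hr'r.map ht
  have h2 : t r' ∈ F := hsat r' (hr's ▸ hw0F)
  have h3 : t r' = w0 := hmax _ h2 h1
  have h4 : r' = r := eq_of_specializes_of_isDiscrete (htd w0) h3 hrt hr'r
  apply hw0ne
  rw [← hr's, h4, hrs]

end Groth.Agent.Lib.Helper51
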