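import Groth.Agent.Lib.Helper51.AlgSpQuotField15
import Groth.Agent.Lib.Helper51.SpecFibre
import Groth.Agent.Lib.Helper51.SchemeClosedPts
import Mathlib.AlgebraicGeometry.Morphisms.UniversallyOpen

/-!
Closed points of decent spaces are represented by closed immersions (helper51).
-/

set_option autoImplicit false
set_option linter.unusedSectionVars false
universe u
open CategoryTheory CategoryTheory.Limits AlgebraicGeometry Opposite TensorProduct

set_option backward.isDefEq.respectTransparency false

namespace Groth.Agent.Lib.Helper51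

open AlgSp Groth.Agent.Lib.Helper30 Groth.Agent.Lib.Helper52

variable {S : Scheme.{u}}

/-- Over a point with a quasi-compact monomorphic representative, the fibre of an etale chart has
no nontrivial specializations. -/
theorem eq_of_specializes_of_ofPt_eq {X : AlgSp.Sp S} (p : FieldPt X)
    (hq : AlgSp.RepWith @QuasiCompact p.toHom) {U : Over S} (φ : (AlgSp.yon S).obj U ⟶ X)
    (hφ : AlgSp.RepWith @Etale φ) {u v : ↥U.left} (hu : Points.ofPt φ u = Points.mk p)
    (hv : Points.ofPt φ v = Points.mk p) (h : u ⤳ v) : u = v := by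
  obtain ⟨R, t, s, sqR⟩ := exists_isPullback_of_representable hφ.1 φ
  have hs_et : Etale s.left := hφ.2 φ ((AlgSp.yon S).map t) s sqR
  have ht_et : Etale t.left := hφ.2 φ ((AlgSp.yon S).map s) t sqR.flip
  refine eq_of_specializes_of_orbit s.left t.left (Flat.generalizingMap (f := s.left))
    t.left.continuous (fun u => t.left.isDiscrete_preimage_singleton u)
    (Points.ofPt φ ⁻¹' {Points.mk p}) ?_ ?_ ?_ hu hv h
  · intro w hw
    obtain ⟨U'', hU'', hwU'', -⟩ := exists_isAffineOpen_mem_and_subset
      (TopologicalSpace.Opens.mem_top w)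
    have hea : AlgSp.RepWith @Etale ((AlgSp.yon S).map (opensOverι U U'') ≫ φ) :=
      repWith_etale_yon_map_comp (opensOverι U U'') inferInstance φ hφ
    have : IsAffine (opensOver U U'').left := hU''
    have h1 := finite_fibre_of_quasiCompact_fieldPt p hq _ hea
    refine ⟨(U'' : Set ↥U.left), U''.2, hwU'', (h1.image U''.ι).subset ?_⟩
    rintro y ⟨hy1, hy2⟩
    refine ⟨(⟨y, hy2⟩ : ↥(U'' : Scheme.{u})), ?_, rfl⟩
    rw [Set.mem_preimage, Set.mem_singleton_iff, ofPt_yon_map_comp]
    exact hy1
  · intro a ha b hb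
    have hab : Points.ofPt φ a = Points.ofPt φ b := by
      rw [Set.mem_preimage, Set.mem_singleton_iff] at ha hb
      rw [ha, hb]
    obtain ⟨r, hr1, hr2⟩ := exists_of_ofPt_eq_ofPt sqR hab
    exact ⟨r, hr2, hr1⟩
  · intro r hr
    rw [Set.mem_preimage, Set.mem_singleton_iff] at hr ⊢
    rw [ofPt_eq_ofPt_of_isPullback sqR r]
    exact hr

/-- Over a closed point with a quasi-compact monomorphic representative, all points of the fibre
of an etale chart are closed. -/
theorem isClosed_singleton_of_ofPt_eq {X : AlgSp.Sp S} (p : FieldPt X)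
    (hq : AlgSp.RepWith @QuasiCompact p.toHom)
    (hx : IsClosed ({Points.mk p} : Set (Points X))) {U : Over S}
    (φ : (AlgSp.yon S).obj U ⟶ X) (hφ : AlgSp.RepWith @Etale φ) {u : ↥U.left}
    (hu : Points.ofPt φ u = Points.mk p) : IsClosed ({u} : Set ↥U.left) := by
  have hF : IsClosed (Points.ofPt φ ⁻¹' {Points.mk p}) := hx.preimage (Points.continuous_ofPt φ)
  rw [← closure_eq_iff_isClosed]
  apply Set.Subset.antisymm _ subset_closure
  intro y hy
  have hyF : y ∈ Points.ofPt φ ⁻¹' {Points.mk p} :=
    (hF.closure_subset_iff.2 (Set.singleton_subset_iff.2 hu)) hy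
  have hspec : u ⤳ y := specializes_iff_mem_closure.2 hy
  exact (eq_of_specializes_of_ofPt_eq p hq φ hφ hu hyF hspec).symm

/-- A closed point with a quasi-compact monomorphic representative is represented by a closed
immersion. -/
theorem repWith_isClosedImmersion_of_isClosed {X : AlgSp.Sp S} (hX : AlgSp.IsAlgSpace X)
    (p : FieldPt X) [Mono p.toHom] (hq : AlgSp.RepWith @QuasiCompact p.toHom)
    (hx : IsClosed ({Points.mk p} : Set (Points X))) :
    AlgSp.RepWith @IsClosedImmersion p.toHom := by
  obtain ⟨U', φ', hφ'e, hφ's⟩ := hX.atlas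
  have hrep := hX.representable_from_yon p.toHom
  obtain ⟨V, a, v, sq⟩ := exists_isPullback_of_representable hrep φ'
  refine repWith_of_etale_cover @IsClosedImmersion sq hrep hφ'e hφ's ?_
  rw [AlgSp.repWith_yon_map_iff]
  have hmv : Mono ((AlgSp.yon S).map v) := sq.mono_snd_of_mono
  have hmv' : Mono v := (AlgSp.yon S).mono_of_mono_map hmv
  have hml : Mono v.left := inferInstance
  have ha : Etale a.left := hφ'e.2 p.toHom _ a sq.flip
  have hvq : QuasiCompact v.left := hq.2 φ' _ v sq
  refine isClosedImmersion_of_mono_of_quasiCompact_of_closed_points (κ := p.K) a.left v.left ?_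
  intro z
  refine isClosed_singleton_of_ofPt_eq p hq hx φ' hφ'e ?_
  rw [← ofPt_eq_ofPt_of_isPullback sq z]
  exact Points.ofPt_toHom p _

end Groth.Agent.Lib.Helper51
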