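import Groth.Agent.Lib.Helper51.AlgSpClosedPt
import Groth.Agent.Lib.Helper51.AlgSpResidual
import Mathlib.AlgebraicGeometry.Morphisms.Proper
import Mathlib.AlgebraicGeometry.Morphisms.Integral

/-!
Points algebraic over a closed point of the base are closed in a decent space (helper51).
-/

set_option autoImplicit false
set_option linter.unusedSectionVars false
universe u
open CategoryTheory CategoryTheory.Limits AlgebraicGeometry Opposite TensorProduct

set_option backward.isDefEq.respectTransparency false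

namespace Groth.Agent.Lib.Helper51

open AlgSp Groth.Agent.Lib.Helper30 Groth.Agent.Lib.Helper52

variable {S : Scheme.{u}}

/-- Let `Spec k ⟶ X` lie over a closed point `s` of `S` with `k` integral over `κ(s)`. Then in any
etale chart `U` of `X` the points of `Spec k ×_X U` map to closed points of `U`. -/
theorem isClosed_singleton_of_integral_over_closed {X : AlgSp.Sp S} (s : ↥S)
    (hs : IsClosed ({s} : Set ↥S)) (k : Type u) [Field k]
    (φ : S.residueField s ⟶ CommRingCat.of k) (hφ : φ.hom.IsIntegral)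
    (p : (AlgSp.yon S).obj (Over.mk (Spec.map φ ≫ S.fromSpecResidueField s)) ⟶ X)
    {U : Over S} (a : (AlgSp.yon S).obj U ⟶ X) (ha : AlgSp.RepWith @Etale a) {W : Over S}
    (prk : W ⟶ Over.mk (Spec.map φ ≫ S.fromSpecResidueField s)) (prU : W ⟶ U)
    (sq : IsPullback ((AlgSp.yon S).map prk) ((AlgSp.yon S).map prU) p a) (w : ↥W.left) :
    IsClosed ({prU.left w} : Set ↥U.left) := by
  have hprk : Etale prk.left := ha.2 p _ prk sq.flip
  have hd : DiscreteTopology ↥W.left := discreteTopology_of_etale_spec_field (κ := k) prk.left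
  obtain ⟨Ww, hWw⟩ : ∃ Ww : W.left.Opens, (Ww : Set ↥W.left) = {w} :=
    ⟨⟨{w}, isOpen_discrete _⟩, rfl⟩
  have hfw : Finite ↥(Ww : Scheme.{u}) := Set.finite_coe_iff.mpr (hWw ▸ Set.finite_singleton w)
  have hfin : IsFinite (Ww.ι ≫ prk.left) :=
    isFinite_of_etale_of_finite (κ := k) (Ww.ι ≫ prk.left)
  have hι : ∀ y : ↥(Ww : Scheme.{u}), Ww.ι y = w := by
    intro y
    have : Ww.ι y ∈ (Ww : Set ↥W.left) := by
      have := Set.mem_range_self (f := Ww.ι) y
      rwa [Scheme.Opens.range_ι] at this
    rw [hWw] at this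
    exact this
  rw [← closure_eq_iff_isClosed]
  apply Set.Subset.antisymm _ subset_closure
  intro z hz
  have hspec : prU.left w ⤳ z := specializes_iff_mem_closure.2 hz
  obtain ⟨O, hO, hzO, -⟩ := exists_isAffineOpen_mem_and_subset
    (TopologicalSpace.Opens.mem_top z)
  have huO : prU.left w ∈ O := hspec.mem_open O.2 hzO
  have hrange : Set.range (Ww.ι ≫ prU.left) ⊆ Set.range O.ι := by
    rintro _ ⟨y, rfl⟩
    rw [Scheme.Opens.range_ι, Scheme.Hom.comp_apply, hι y]
    exact huO
  set h : (Ww : Scheme.{u}) ⟶ (O : Scheme.{u}) :=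
    IsOpenImmersion.lift O.ι (Ww.ι ≫ prU.left) hrange with hdef
  have hh : h ≫ O.ι = Ww.ι ≫ prU.left := IsOpenImmersion.lift_fac _ _ _
  have hcomp : h ≫ (O.ι ≫ U.hom) =
      (Ww.ι ≫ prk.left) ≫ Spec.map φ ≫ S.fromSpecResidueField s := by
    rw [← Category.assoc, hh, Category.assoc, Over.w prU, Category.assoc]
    congr 1
    exact (Over.w prk).symm
  have hci : IsClosedImmersion (S.fromSpecResidueField s) :=
    isClosed_singleton_iff_isClosedImmersion.mp hs
  have hint : IsIntegralHom (Spec.map φ) := by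
    rw [IsIntegralHom.SpecMap_iff]; exact hφ
  have huc : UniversallyClosed (h ≫ (O.ι ≫ U.hom)) := by
    rw [hcomp]
    infer_instance
  have hOaff : IsAffine (O : Scheme.{u}) := hO
  have hsep : IsSeparated (O.ι ≫ U.hom) := inferInstance
  have huch : UniversallyClosed h := UniversallyClosed.of_comp_of_isSeparated h (O.ι ≫ U.hom)
  have hcl : IsClosed (Set.range h) := h.isClosedMap.isClosed_range
  have hrange' : Set.range h = {(⟨prU.left w, huO⟩ : ↥(O : Scheme.{u}))} := by
    ext y
    constructor
    · rintro ⟨y', rfl⟩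
      rw [Set.mem_singleton_iff]
      apply Subtype.ext
      have := congrArg (fun g => g y') hh
      simp only [Scheme.Hom.comp_apply] at this
      rw [hι y'] at this
      exact this
    · intro hy
      rw [Set.mem_singleton_iff] at hy
      have hne : Nonempty ↥(Ww : Scheme.{u}) := by
        have hw : w ∈ (Ww : Set ↥W.left) := by rw [hWw]; rfl
        exact ⟨⟨w, hw⟩⟩
      obtain ⟨y'⟩ := hne
      refine ⟨y', ?_⟩
      rw [hy]
      apply Subtype.ext
      have := congrArg (fun g => g y') hh
      simp only [Scheme.Hom.comp_apply] at this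
      rw [hι y'] at this
      exact this
  rw [hrange'] at hcl
  have hspec' : (⟨prU.left w, huO⟩ : ↥(O : Scheme.{u})) ⤳ ⟨z, hzO⟩ :=
    (subtype_specializes_iff _ _).2 hspec
  have hz' : (⟨z, hzO⟩ : ↥(O : Scheme.{u})) ∈ closure {(⟨prU.left w, huO⟩ : ↥(O : Scheme.{u}))} :=
    specializes_iff_mem_closure.1 hspec'
  rw [hcl.closure_eq, Set.mem_singleton_iff] at hz'
  exact congrArg Subtype.val hz'

end Groth.Agent.Lib.Helper51

namespace Groth.Agent.Lib.Helper51

open AlgSp Groth.Agent.Lib.Helper30 Groth.Agent.Lib.Helper52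

variable {S : Scheme.{u}}

/-- A subset of a scheme all of whose points are closed and which meets every affine open in a
finite set is closed. -/
theorem isClosed_of_locally_finite_closed_points {U : Scheme.{u}} (F : Set ↥U)
    (hcl : ∀ u ∈ F, IsClosed ({u} : Set ↥U))
    (hfin : ∀ O : U.Opens, IsAffineOpen O → (F ∩ (O : Set ↥U)).Finite) : IsClosed F := by
  have hcov : TopologicalSpace.IsOpenCover (fun i : U.affineOpens => (i : U.Opens)) :=
    AlgebraicGeometry.iSup_affineOpens_eq_top U
  rw [hcov.isClosed_iff_coe_preimage]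
  intro O
  have h1 : (Subtype.val ⁻¹' F : Set ↥(O : U.Opens)) =
      ⋃ u ∈ F ∩ ((O : U.Opens) : Set ↥U), Subtype.val ⁻¹' {u} := by
    ext y
    simp only [Set.mem_preimage, Set.mem_iUnion, Set.mem_singleton_iff, exists_prop]
    constructor
    · intro hy
      exact ⟨y.1, ⟨hy, y.2⟩, rfl⟩
    · rintro ⟨u, ⟨hu, -⟩, rfl⟩
      exact hu
  rw [h1]
  exact (hfin O O.2).isClosed_biUnion fun u hu => (hcl u hu.1).preimage continuous_subtype_val

/-- On a decent space, a point lying over a closed point `s` of the base with residue field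
integral over `κ(s)` is closed. -/
theorem isClosed_point_of_integral_over_closed {X : AlgSp.Sp S} (hX : AlgSp.IsAlgSpace X)
    (hd : AlgSp.IsDecent X) (s : ↥S) (hs : IsClosed ({s} : Set ↥S)) (k : Type u) [Field k]
    (φ : S.residueField s ⟶ CommRingCat.of k) (hφ : φ.hom.IsIntegral)
    (p : (AlgSp.yon S).obj (Over.mk (Spec.map φ ≫ S.fromSpecResidueField s)) ⟶ X)
    (t : ↥(Spec (CommRingCat.of k))) :
    IsClosed ({Points.ofPt p t} : Set (Points X)) := by
  obtain ⟨p', hp'x, hm, hq⟩ := hd (Points.ofPt p t)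
  obtain ⟨U', φ', hφ'e, hφ's⟩ := hX.atlas
  rw [← (isQuotientMap_ofPt φ' hφ'e hφ's).isClosed_preimage]
  obtain ⟨W, prk, prU, sq⟩ := exists_isPullback_of_representable (hX.representable_from_yon p) φ'
  refine isClosed_of_locally_finite_closed_points _ ?_ ?_
  · intro u hu
    rw [Set.mem_preimage, Set.mem_singleton_iff] at hu
    obtain ⟨w, -, hw2⟩ := exists_of_ofPt_eq_ofPt sq hu.symm
    rw [← hw2]
    exact isClosed_singleton_of_integral_over_closed s hs k φ hφ p φ' hφ'e prk prU sq w
  · intro O hO
    have hea : AlgSp.RepWith @Etale ((AlgSp.yon S).map (opensOverι U' O) ≫ φ') :=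
      repWith_etale_yon_map_comp (opensOverι U' O) inferInstance φ' hφ'e
    have : IsAffine (opensOver U' O).left := hO
    have h1 := finite_fibre_of_quasiCompact_fieldPt p' hq _ hea
    refine (h1.image O.ι).subset ?_
    rintro y ⟨hy1, hy2⟩
    refine ⟨(⟨y, hy2⟩ : ↥(O : Scheme.{u})), ?_, rfl⟩
    rw [Set.mem_preimage, Set.mem_singleton_iff, ofPt_yon_map_comp, hp'x]
    exact hy1

end Groth.Agent.Lib.Helper51

namespace Groth.Agent.Lib.Helper51

open AlgSp Groth.Agent.Lib.Helper30 Groth.Agent.Lib.Helper52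

variable {S : Scheme.{u}}

theorem repWith_isFinite_comp {F G H : AlgSp.Sp S} (f : F ⟶ G) (g : G ⟶ H)
    (hf : AlgSp.RepWith @IsFinite f) (hg : AlgSp.RepWith @IsFinite g) :
    AlgSp.RepWith @IsFinite (f ≫ g) :=
  (AlgSp.RepWith @IsFinite).comp_mem _ _ hf hg

theorem repWith_isClosedImmersion_comp {F G H : AlgSp.Sp S} (f : F ⟶ G) (g : G ⟶ H)
    (hf : AlgSp.RepWith @IsClosedImmersion f) (hg : AlgSp.RepWith @IsClosedImmersion g) :
    AlgSp.RepWith @IsClosedImmersion (f ≫ g) :=
  (AlgSp.RepWith @IsClosedImmersion).comp_mem _ _ hf hg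

theorem repWith_isFinite_of_isClosedImmersion {F G : AlgSp.Sp S} (f : F ⟶ G)
    (hf : AlgSp.RepWith @IsClosedImmersion f) : AlgSp.RepWith @IsFinite f := by
  refine MorphismProperty.relative_monotone ?_ _ hf
  intro A B k hk
  have : IsClosedImmersion k.left := hk
  show IsFinite k.left
  infer_instance

/-- On a decent space, a field point lying over a closed point `s` of the base with field finite
over `κ(s)` is finite, and a closed immersion if the field is `κ(s)`. -/
theorem repWith_isFinite_of_finite_over_closed {X : AlgSp.Sp S} (hX : AlgSp.IsAlgSpace X)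
    (hd : AlgSp.IsDecent X) (s : ↥S) (hs : IsClosed ({s} : Set ↥S)) (k : Type u) [Field k]
    (φ : S.residueField s ⟶ CommRingCat.of k) (hφ : φ.hom.Finite)
    (p : (AlgSp.yon S).obj (Over.mk (Spec.map φ ≫ S.fromSpecResidueField s)) ⟶ X) :
    AlgSp.RepWith @IsFinite p ∧
      (Function.Bijective φ.hom → AlgSp.RepWith @IsClosedImmersion p) := by
  set t : ↥(Spec (CommRingCat.of k)) := IsLocalRing.closedPoint k with ht
  have hx : IsClosed ({Points.ofPt p t} : Set (Points X)) :=
    isClosed_point_of_integral_over_closed hX hd s hs k φ hφ.to_isIntegral p t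
  obtain ⟨q, hqx, hm, hqc⟩ := hd (Points.ofPt p t)
  have hqcl : AlgSp.RepWith @IsClosedImmersion q.toHom := by
    apply repWith_isClosedImmersion_of_isClosed hX q hqc
    rw [hqx]; exact hx
  set p' : FieldPt X := fieldPtOfHom (Spec.map φ ≫ S.fromSpecResidueField s) p with hp'
  have hp'hom : p'.toHom = p := fieldPtOfHom_toHom _ _
  have hp'x : Points.mk p' = Points.ofPt p t := mk_fieldPtOfHom _ p
  have hrep := hX.representable_from_yon q.toHom
  obtain ⟨c, hc, -⟩ := existsUnique_factor_of_mono_fieldPt q p' hrep (hqx.trans hp'x.symm)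
  rw [hp'hom] at hc
  -- the structure morphism of `q` factors through `Spec κ(s)`
  have hcw : c.left ≫ q.str = Spec.map φ ≫ S.fromSpecResidueField s := Over.w c
  have hqs : ∀ y : ↥(Spec (CommRingCat.of q.K)), q.str y = s := by
    intro y
    have hy : y = c.left t := Subsingleton.elim (α := PrimeSpectrum q.K) _ _
    have h1 : (c.left ≫ q.str) t = (Spec.map φ ≫ S.fromSpecResidueField s) t :=
      congrArg (fun g : Spec (CommRingCat.of k) ⟶ S => g t) hcw
    have h2 : (c.left ≫ q.str) t = q.str (c.left t) := rfl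
    have h3 : (Spec.map φ ≫ S.fromSpecResidueField s) t =
        S.fromSpecResidueField s (Spec.map φ t) := rfl
    rw [hy, ← h2, h1, h3]
    exact Scheme.fromSpecResidueField_apply _ _
  have hred : IsReduced (Spec (CommRingCat.of q.K)) := inferInstance
  obtain ⟨ψ', hψ'⟩ := exists_factor_fromSpecResidueField_of_isReduced q.str s hqs
  have hmono : Mono (S.fromSpecResidueField s) := inferInstance
  have hcψ : c.left ≫ ψ' = Spec.map φ := by
    rw [← cancel_mono (S.fromSpecResidueField s), Category.assoc, hψ', hcw]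
  have hsep : IsSeparated ψ' := inferInstance
  have hfin : IsFinite (Spec.map φ) := by
    rw [IsFinite.SpecMap_iff]; exact hφ
  have hcfin : IsFinite c.left := by
    have : IsFinite (c.left ≫ ψ') := by rw [hcψ]; exact hfin
    exact IsFinite.of_comp c.left ψ'
  refine ⟨?_, fun hbij => ?_⟩
  · rw [← hc]
    exact repWith_isFinite_comp _ _ ((AlgSp.repWith_yon_map_iff @IsFinite c).2 hcfin)
      (repWith_isFinite_of_isClosedImmersion _ hqcl)
  · have hiso : IsIso (Spec.map φ) := by
      have : IsIso φ := by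
        rw [← ConcreteCategory.isIso_iff_bijective] at hbij
        exact hbij
      infer_instance
    have hcci : IsClosedImmersion c.left := by
      have : IsClosedImmersion (c.left ≫ ψ') := by rw [hcψ]; infer_instance
      exact IsClosedImmersion.of_comp c.left ψ'
    rw [← hc]
    exact repWith_isClosedImmersion_comp _ _
      ((AlgSp.repWith_yon_map_iff @IsClosedImmersion c).2 hcci) hqcl

end Groth.Agent.Lib.Helper51
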