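import Groth.Agent.Lib.Helper51.AlgSpRedInduced
import Groth.Agent.Lib.Helper30.AlgSpMor
import Groth.Agent.Lib.Helper30.AlgSpDesc

set_option autoImplicit false
set_option linter.unusedSectionVars false
universe u
open CategoryTheory CategoryTheory.Limits AlgebraicGeometry Opposite

set_option backward.isDefEq.respectTransparency false

namespace Groth.Agent.Lib.Helper51.ClosedSub

open AlgSp Groth.Agent.Lib.Helper52 Groth.Agent.Lib.Helper51 Groth.Agent.Lib.Helper51.RedInd

variable {S : Scheme.{u}}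

/-- The closed subscheme of a scheme over `S` cut out by an ideal sheaf, as a scheme over `S`. -/
noncomputable def subOver (U : Over S) (I : Scheme.IdealSheafData U.left) : Over S :=
  Over.mk (I.subschemeι ≫ U.hom)

/-- The inclusion of the closed subscheme. -/
noncomputable def subOverι (U : Over S) (I : Scheme.IdealSheafData U.left) : subOver U I ⟶ U :=
  Over.homMk I.subschemeι rfl

instance (U : Over S) (I : Scheme.IdealSheafData U.left) :
    IsClosedImmersion (subOverι U I).left :=
  inferInstanceAs (IsClosedImmersion I.subschemeι)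

theorem ker_subOverι (U : Over S) (I : Scheme.IdealSheafData U.left) :
    (subOverι U I).left.ker = I :=
  Scheme.IdealSheafData.ker_subschemeι I

theorem repWith_subOverι (U : Over S) (I : Scheme.IdealSheafData U.left) :
    AlgSp.RepWith @IsClosedImmersion ((AlgSp.yon S).map (subOverι U I)) :=
  (AlgSp.repWith_yon_map_iff @IsClosedImmersion (subOverι U I)).2 inferInstance

theorem mono_yon_map_of_isClosedImmersion {A B : Over S} (c : A ⟶ B)
    (hc : IsClosedImmersion c.left) : Mono ((AlgSp.yon S).map c) :=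
  mono_of_repWith (P := @IsClosedImmersion)
    (fun g (_ : IsClosedImmersion g) => inferInstance)
    ((AlgSp.repWith_yon_map_iff @IsClosedImmersion c).2 hc)

/-- A morphism of schemes over `S` factors through a closed subscheme as soon as the ideal is
contained in its kernel. -/
theorem exists_lift_subOver {U W : Over S} (I : Scheme.IdealSheafData U.left) (w : W ⟶ U)
    (h : I ≤ w.left.ker) : ∃ l : W ⟶ subOver U I, l ≫ subOverι U I = w := by
  have hk : (subOverι U I).left.ker ≤ w.left.ker := by rw [ker_subOverι]; exact h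
  refine ⟨Over.homMk (IsClosedImmersion.lift (subOverι U I).left w.left hk) ?_, ?_⟩
  · change IsClosedImmersion.lift (subOverι U I).left w.left hk ≫ I.subschemeι ≫ U.hom = W.hom
    rw [← Category.assoc]
    have : IsClosedImmersion.lift (subOverι U I).left w.left hk ≫ I.subschemeι = w.left :=
      IsClosedImmersion.lift_fac (subOverι U I).left w.left hk
    rw [this]
    exact Over.w w
  · exact Over.OverMorphism.ext (IsClosedImmersion.lift_fac (subOverι U I).left w.left hk)

theorem le_ker_of_factor {U W : Over S} (I : Scheme.IdealSheafData U.left) (w : W ⟶ U)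
    (l : W ⟶ subOver U I) (h : l ≫ subOverι U I = w) : I ≤ w.left.ker := by
  have h1 : (subOverι U I).left.ker ≤ (l.left ≫ (subOverι U I).left).ker :=
    Scheme.Hom.le_ker_comp l.left (subOverι U I).left
  rw [ker_subOverι] at h1
  have h2 : l.left ≫ (subOverι U I).left = w.left := congrArg CommaMorphism.left h
  rw [h2] at h1
  exact h1

end Groth.Agent.Lib.Helper51.ClosedSub

namespace Groth.Agent.Lib.Helper51.ClosedSub

open AlgSp Groth.Agent.Lib.Helper52 Groth.Agent.Lib.Helper51 Groth.Agent.Lib.Helper51.RedInd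

variable {S : Scheme.{u}}

/-- The kernel of a base change of a closed immersion. -/
theorem ker_of_isPullback_closedImmersion {P R Zc U : Scheme.{u}} {r : P ⟶ R} {p1 : P ⟶ Zc}
    {s : R ⟶ U} {c : Zc ⟶ U} [IsClosedImmersion c] (sq : IsPullback r p1 s c) :
    r.ker = c.ker.comap s := by
  have h1 : r = sq.isoPullback.hom ≫ pullback.fst s c := (sq.isoPullback_hom_fst).symm
  rw [h1, Scheme.Hom.ker_comp_of_isIso, Scheme.IdealSheafData.ker_fst_of_isClosedImmersion]

/-- An ideal sheaf on an atlas which is invariant under the etale equivalence relation of the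
atlas defines a closed subspace. -/
theorem exists_closedSubspace_of_invariant {Y : AlgSp.Sp S} (hY : AlgSp.IsAlgSpace Y)
    {U R : Over S} (a : (AlgSp.yon S).obj U ⟶ Y) (ha : AlgSp.RepWith @Etale a)
    (has : AlgSp.RepWith @Surjective a) (s t : R ⟶ U)
    (sqR : IsPullback ((AlgSp.yon S).map s) ((AlgSp.yon S).map t) a a)
    (I : Scheme.IdealSheafData U.left) (hI : I.comap s.left = I.comap t.left) :
    ∃ (Z : AlgSp.Sp S) (_ : AlgSp.IsAlgSpace Z) (i : Z ⟶ Y)
      (z : (AlgSp.yon S).obj (subOver U I) ⟶ Z),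
      AlgSp.RepWith @IsClosedImmersion i ∧ AlgSp.RepWith @Etale z ∧
        AlgSp.RepWith @Surjective z ∧ IsPullback z ((AlgSp.yon S).map (subOverι U I)) i a := by
  let c' := subOverι U I
  have hc'mono : Mono ((AlgSp.yon S).map c') := mono_yon_map_of_isClosedImmersion c' inferInstance
  let ξ : (AlgSp.yon S).obj (subOver U I) ⟶ Y := (AlgSp.yon S).map c' ≫ a
  obtain ⟨P, r, p1, sqO, sqL⟩ := Groth.Agent.Lib.Helper30.isPullback_over' s c'
  have sqP : IsPullback ((AlgSp.yon S).map (r ≫ t)) ((AlgSp.yon S).map p1) a ξ := by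
    rw [Functor.map_comp]
    exact (sqO.map (AlgSp.yon S)).paste_horiz sqR.flip
  have hp1e : Etale p1.left := ha.property ξ _ p1 sqP
  have hp1s : Surjective p1.left := has.property ξ _ p1 sqP
  have hker : I ≤ (r ≫ t).left.ker := by
    have h1 : r.left.ker = I.comap s.left := by
      rw [ker_of_isPullback_closedImmersion sqL, ker_subOverι]
    change I ≤ (r.left ≫ t.left).ker
    rw [Scheme.Hom.ker_comp, h1, hI]
    exact Scheme.IdealSheafData.le_map_comap _ _
  obtain ⟨l, hl⟩ := exists_lift_subOver I (r ≫ t) hker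
  have hlY : (AlgSp.yon S).map l ≫ (AlgSp.yon S).map c' = (AlgSp.yon S).map (r ≫ t) := by
    rw [← Functor.map_comp, hl]
  have sqK : IsPullback ((AlgSp.yon S).map p1) ((AlgSp.yon S).map l) ξ ξ :=
    isPullback_kernelPair_of_factor sqP.flip ((AlgSp.yon S).map c') rfl _ hlY
  have hfac : Sheaf.toImage ξ ≫ Sheaf.imageι ξ = ξ := Sheaf.toImage_ι ξ
  have sqz : IsPullback ((AlgSp.yon S).map l) ((AlgSp.yon S).map p1) (Sheaf.toImage ξ)
      (Sheaf.toImage ξ) := by
    apply isPullback_of_comp_mono (Sheaf.imageι ξ)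
    rw [hfac]
    exact sqK.flip
  obtain ⟨hZb, hze, hzs⟩ := isAlgSpace_of_epi_of_etale_kernelPair hY (Sheaf.imageι ξ)
    (Sheaf.toImage ξ) l p1 sqz hp1e hp1s
  have sqI : IsPullback (Sheaf.toImage ξ) ((AlgSp.yon S).map c') (Sheaf.imageι ξ) a := by
    refine isPullback_image_of_factor (Sheaf.toImage ξ) (Sheaf.imageι ξ) a ((AlgSp.yon S).map c')
      hfac.symm (p1 := (AlgSp.yon S).map p1) (q := (AlgSp.yon S).map (r ≫ t)) ?_
      ((AlgSp.yon S).map l) hlY sqz.w
    rw [hfac]
    exact sqP.flip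
  have hci : AlgSp.RepWith @IsClosedImmersion (Sheaf.imageι ξ) :=
    Groth.Agent.Lib.Helper30.AffDesc.repWith_isClosedImmersion_of_etale_cover (Sheaf.imageι ξ)
      U a ha has (Sheaf.toImage ξ) ((AlgSp.yon S).map c') sqI (repWith_subOverι U I)
  exact ⟨Sheaf.image ξ, hZb, Sheaf.imageι ξ, Sheaf.toImage ξ, hci, hze, hzs, sqI⟩

end Groth.Agent.Lib.Helper51.ClosedSub

namespace Groth.Agent.Lib.Helper51.ClosedSub

open AlgSp Groth.Agent.Lib.Helper52 Groth.Agent.Lib.Helper51 Groth.Agent.Lib.Helper51.RedInd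

variable {S : Scheme.{u}}

/-- A chart level morphism factors through a closed subspace iff the ideal of the closed
subspace in the chart is contained in its kernel. -/
theorem exists_factor_iff {Y Z : AlgSp.Sp S} (i : Z ⟶ Y) {U ZU : Over S}
    (a : (AlgSp.yon S).obj U ⟶ Y) (c : ZU ⟶ U) (hc : IsClosedImmersion c.left)
    (z : (AlgSp.yon S).obj ZU ⟶ Z) (sq : IsPullback z ((AlgSp.yon S).map c) i a) {W : Over S}
    (w : W ⟶ U) :
    (∃ φ : (AlgSp.yon S).obj W ⟶ Z, φ ≫ i = (AlgSp.yon S).map w ≫ a) ↔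
      c.left.ker ≤ w.left.ker := by
  constructor
  · rintro ⟨φ, hφ⟩
    let w0 : (AlgSp.yon S).obj W ⟶ (AlgSp.yon S).obj ZU := sq.lift φ ((AlgSp.yon S).map w) hφ
    have hw0 : w0 ≫ (AlgSp.yon S).map c = (AlgSp.yon S).map w := sq.lift_snd _ _ _
    let w' : W ⟶ ZU := (AlgSp.yon S).preimage w0
    have hw' : w' ≫ c = w := (AlgSp.yon S).map_injective (by
      rw [Functor.map_comp, Functor.map_preimage]; exact hw0)
    have h1 : c.left.ker ≤ (w'.left ≫ c.left).ker := Scheme.Hom.le_ker_comp w'.left c.left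
    have h2 : w'.left ≫ c.left = w.left := congrArg CommaMorphism.left hw'
    rw [h2] at h1
    exact h1
  · intro hk
    let l : W ⟶ ZU := Over.homMk (IsClosedImmersion.lift c.left w.left hk) (by
      rw [← Over.w c, ← Category.assoc, IsClosedImmersion.lift_fac]
      exact Over.w w)
    have hl : l ≫ c = w := Over.OverMorphism.ext (IsClosedImmersion.lift_fac c.left w.left hk)
    refine ⟨(AlgSp.yon S).map l ≫ z, ?_⟩
    rw [Category.assoc, sq.w, ← Category.assoc, ← Functor.map_comp, hl]

theorem comap_le_comap_of_isPullback {Y Z : AlgSp.Sp S} (i : Z ⟶ Y) {U ZU R : Over S}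
    (a : (AlgSp.yon S).obj U ⟶ Y) (c : ZU ⟶ U) (hc : IsClosedImmersion c.left)
    (z : (AlgSp.yon S).obj ZU ⟶ Z) (sq : IsPullback z ((AlgSp.yon S).map c) i a) (s t : R ⟶ U)
    (hst : (AlgSp.yon S).map s ≫ a = (AlgSp.yon S).map t ≫ a) :
    c.left.ker.comap s.left ≤ c.left.ker.comap t.left := by
  obtain ⟨A, r, p, sqO, sqL⟩ := Groth.Agent.Lib.Helper30.isPullback_over' t c
  rw [← ker_of_isPullback_closedImmersion sqL, ← Scheme.IdealSheafData.le_map_iff_comap_le,
    Scheme.IdealSheafData.map_ker]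
  change c.left.ker ≤ (r ≫ s).left.ker
  rw [← exists_factor_iff i a c hc z sq (r ≫ s)]
  refine ⟨(AlgSp.yon S).map p ≫ z, ?_⟩
  rw [Category.assoc, sq.w, ← Category.assoc, ← Functor.map_comp, ← sqO.w, Functor.map_comp,
    Functor.map_comp, Category.assoc, Category.assoc, hst]

theorem comap_eq_comap_of_isPullback {Y Z : AlgSp.Sp S} (i : Z ⟶ Y) {U ZU R : Over S}
    (a : (AlgSp.yon S).obj U ⟶ Y) (c : ZU ⟶ U) (hc : IsClosedImmersion c.left)
    (z : (AlgSp.yon S).obj ZU ⟶ Z) (sq : IsPullback z ((AlgSp.yon S).map c) i a) (s t : R ⟶ U)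
    (hst : (AlgSp.yon S).map s ≫ a = (AlgSp.yon S).map t ≫ a) :
    c.left.ker.comap s.left = c.left.ker.comap t.left :=
  le_antisymm (comap_le_comap_of_isPullback i a c hc z sq s t hst)
    (comap_le_comap_of_isPullback i a c hc z sq t s hst.symm)

end Groth.Agent.Lib.Helper51.ClosedSub

namespace Groth.Agent.Lib.Helper51.ClosedSub

open AlgSp Groth.Agent.Lib.Helper52 Groth.Agent.Lib.Helper51 Groth.Agent.Lib.Helper51.RedInd

variable {S : Scheme.{u}}

theorem mono_of_repWith_isClosedImmersion {Z Y : AlgSp.Sp S} (i : Z ⟶ Y)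
    (hi : AlgSp.RepWith @IsClosedImmersion i) : Mono i :=
  mono_of_repWith (P := @IsClosedImmersion) (fun g (_ : IsClosedImmersion g) => inferInstance) hi

/-- Every morphism of algebraic spaces has a scheme theoretic image. -/
theorem exists_isSchImage {X Y : AlgSp.Sp S} (hX : AlgSp.IsAlgSpace X) (hY : AlgSp.IsAlgSpace Y)
    (f : X ⟶ Y) :
    ∃ (Z : AlgSp.Sp S) (_ : AlgSp.IsAlgSpace Z) (i : Z ⟶ Y), AlgSp.IsSchImage f i := by
  obtain ⟨U, a, ha, has⟩ := hY.atlas
  obtain ⟨R, s, t, sqR⟩ := exists_isPullback_of_representable ha.rep a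
  obtain ⟨V, b, hb, hbs⟩ := hX.atlas
  have hbepi : Epi b := Groth.Agent.Lib.Helper30.epi_of_repWith_etale_surjective b hb hbs
  obtain ⟨W, w, v, sqW⟩ := exists_isPullback_of_representable ha.rep (b ≫ f)
  have hve : Etale v.left := ha.property (b ≫ f) _ v sqW
  have hvs : Surjective v.left := has.property (b ≫ f) _ v sqW
  have hvepi : Epi ((AlgSp.yon S).map v) :=
    Groth.Agent.Lib.Helper30.epi_of_repWith_etale_surjective _
      ((AlgSp.repWith_yon_map_iff @Etale v).2 hve) ((AlgSp.repWith_yon_map_iff @Surjective v).2 hvs)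
  let e : (AlgSp.yon S).obj W ⟶ X := (AlgSp.yon S).map v ≫ b
  have heepi : Epi e := epi_comp _ _
  have he : e ≫ f = (AlgSp.yon S).map w ≫ a := by
    rw [Category.assoc]; exact sqW.w.symm
  let 𝓘 : Set (Scheme.IdealSheafData U.left) :=
    {I | I.comap s.left = I.comap t.left ∧ I ≤ w.left.ker}
  have hinv : (sSup 𝓘).comap s.left = (sSup 𝓘).comap t.left := by
    rw [(Scheme.IdealSheafData.map_gc s.left).l_sSup, (Scheme.IdealSheafData.map_gc t.left).l_sSup]
    exact iSup_congr fun I => iSup_congr fun hI => hI.1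
  have hle : sSup 𝓘 ≤ w.left.ker := sSup_le fun I hI => hI.2
  obtain ⟨Z, hZ, i, z, hci, hze, hzs, sqI⟩ :=
    exists_closedSubspace_of_invariant hY a ha has s t sqR (sSup 𝓘) hinv
  have himono : Mono i := mono_of_repWith_isClosedImmersion i hci
  have hzepi : Epi z := Groth.Agent.Lib.Helper30.epi_of_repWith_etale_surjective z hze hzs
  refine ⟨Z, hZ, i, hci, ?_, ?_⟩
  · obtain ⟨φ, hφ⟩ := (exists_factor_iff i a (subOverι U (sSup 𝓘)) inferInstance z sqI w).2
      (by rw [ker_subOverι]; exact hle)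
    have hstrong : StrongEpi e := strongEpi_of_epi e
    have csq : CommSq φ e i f := ⟨by rw [hφ, he]⟩
    exact ⟨csq.lift, csq.fac_right⟩
  · intro Z' i' hZ' hi' hf''
    obtain ⟨f'', hf''⟩ := hf''
    let ZU' : Over S := hi'.rep.pullback a
    let g' : (AlgSp.yon S).obj ZU' ⟶ Z' := hi'.rep.fst a
    let c'' : ZU' ⟶ U := hi'.rep.snd a
    have sq' : IsPullback g' ((AlgSp.yon S).map c'') i' a := hi'.rep.isPullback a
    have hc'' : IsClosedImmersion c''.left := hi'.property a g' c'' sq'
    have hmem : c''.left.ker ∈ 𝓘 := by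
      refine ⟨comap_eq_comap_of_isPullback i' a c'' hc'' g' sq' s t sqR.w, ?_⟩
      exact (exists_factor_iff i' a c'' hc'' g' sq' w).1 ⟨e ≫ f'', by rw [Category.assoc, hf'', he]⟩
    have hle' : c''.left.ker ≤ (subOverι U (sSup 𝓘)).left.ker := by
      rw [ker_subOverι]; exact le_sSup hmem
    obtain ⟨φ', hφ'⟩ := (exists_factor_iff i' a c'' hc'' g' sq' (subOverι U (sSup 𝓘))).2 hle'
    have hi'mono : Mono i' := mono_of_repWith_isClosedImmersion i' hi'
    have hstrong : StrongEpi z := strongEpi_of_epi z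
    have csq : CommSq φ' z i' i := ⟨by rw [hφ', sqI.w]⟩
    exact ⟨csq.lift, csq.fac_right⟩

end Groth.Agent.Lib.Helper51.ClosedSub
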