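import Groth.Agent.Lib.Helper51.AlgSpSober

/-!
Codimension zero points of quasi-separated algebraic spaces are the generic points of irreducible
components (helper51).
-/

set_option autoImplicit false
set_option linter.unusedSectionVars false
universe u
open CategoryTheory CategoryTheory.Limits AlgebraicGeometry Opposite Topology TopologicalSpace

set_option backward.isDefEq.respectTransparency false

namespace Groth.Agent.Lib.Helper51.Sober

open AlgSp Groth.Agent.Lib.Helper51 Groth.Agent.Lib.Helper52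

variable {S : Scheme.{u}}

theorem ringKrullDim_stalk_eq_zero_iff {U : Scheme.{u}} (u : ↥U) :
    ringKrullDim ↥(U.presheaf.stalk u) = 0 ↔ ∀ u' : ↥U, u' ⤳ u → u' = u := by
  rw [ringKrullDim_stalk_eq_coheight]
  have h0 : ((Order.coheight u : ℕ∞) : WithBot ℕ∞) = 0 ↔ Order.coheight u = 0 := by
    exact_mod_cast Iff.rfl
  rw [h0, Order.coheight_eq_zero]
  constructor
  · intro h u' hu'
    have h1 : u ⤳ u' := h (show u ≤ u' from hu')
    exact (hu'.antisymm h1).eq
  · intro h b hb
    have : b = u := h b hb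
    rw [this]

/-- Fibres of the map on points of a quasi-compact etale chart from an affine scheme are finite. -/
theorem finite_fibre_ofPt {Y : AlgSp.Sp S} {U : Over S} [IsAffine U.left]
    (p : (AlgSp.yon S).obj U ⟶ Y) (hq : AlgSp.RepWith @QuasiCompact p)
    (he : AlgSp.RepWith @Etale p) (x : Points Y) : (Points.ofPt p ⁻¹' {x}).Finite := by
  by_cases hne : (Points.ofPt p ⁻¹' {x}).Nonempty
  · obtain ⟨u, hu⟩ := hne
    have hu' : Points.ofPt p u = x := hu
    subst hu'
    obtain ⟨R, s, t, hR⟩ := exists_isPullback_of_representable he.1 p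
    have h1 : Points.ofPt p ⁻¹' {Points.ofPt p u} = t.left '' (s.left ⁻¹' {u}) := by
      rw [← preimage_ofPt_image hR, Set.image_singleton]
    rw [h1]
    refine Set.Finite.image _ ?_
    have hqu : AlgSp.RepWith @QuasiCompact (FieldPt.ofPt p u).toHom := by
      rw [FieldPt.toHom_ofPt]
      refine (AlgSp.RepWith @QuasiCompact).comp_mem _ _ ?_ hq
      rw [AlgSp.repWith_yon_map_iff]
      have : Subsingleton ↥(FieldPt.ofPt p u).pt.left :=
        inferInstanceAs (Subsingleton (PrimeSpectrum (FieldPt.ofPt p u).K))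
      exact quasiCompact_of_subsingleton _
    exact finite_fibre_source_of_quasiCompact p s t hR.flip u he hqu
  · rw [Set.not_nonempty_iff_eq_empty.1 hne]
    exact Set.finite_empty

/-- Generizations lift along an open continuous map with finite fibres. -/
theorem exists_specializes_of_isOpenMap_of_finite {A B : Type*} [TopologicalSpace A]
    [TopologicalSpace B] (f : A → B) (ho : IsOpenMap f) (a : A) (b' : B) (hb : b' ⤳ f a)
    (hfin : (f ⁻¹' {b'}).Finite) : ∃ a' : A, f a' = b' ∧ a' ⤳ a := by
  have hmem : a ∈ closure (f ⁻¹' {b'}) := by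
    rw [mem_closure_iff]
    intro o ho' hao
    have : b' ∈ f '' o := hb.mem_open (ho o ho') ⟨a, hao, rfl⟩
    obtain ⟨v, hvo, hv⟩ := this
    exact ⟨v, hvo, hv⟩
  rw [← Set.biUnion_of_singleton (f ⁻¹' {b'}), hfin.closure_biUnion] at hmem
  simp only [Set.mem_iUnion, exists_prop] at hmem
  obtain ⟨v, hv, hav⟩ := hmem
  exact ⟨v, hv, specializes_iff_mem_closure.2 hav⟩

theorem codim_zero_iff [QuasiSeparatedSpace ↥S] (X : AlgSp.Space S)
    (hqs : AlgSp.IsQuasiSeparatedSp X.obj) (x : AlgSp.Points X.obj) :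
    AlgSp.HasAt (fun U u => ringKrullDim ↥(U.presheaf.stalk u) = 0) X.obj x ↔
      ∃ Z ∈ irreducibleComponents (AlgSp.Points X.obj), IsGenericPoint x Z := by
  obtain ⟨hsob, ht0⟩ := sober_of_zlqs X ⟨PUnit, fun _ => X, fun _ => 𝟙 X,
    ⟨fun _ => (AlgSp.RepWith @IsOpenImmersion).id_mem _, fun y => ⟨PUnit.unit, y, by
      show Points.map (𝟙 X.obj) y = y
      rw [Points.map_id]⟩⟩, fun _ => hqs⟩
  constructor
  · rintro ⟨U, a, u, ha, rfl, hdim⟩
    have hgen := (ringKrullDim_stalk_eq_zero_iff u).1 hdim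
    have hxmax : ∀ x', x' ⤳ Points.ofPt a u → x' = Points.ofPt a u := by
      intro x' hx'
      obtain ⟨V₀, hV₀, huV₀, -⟩ := exists_isAffineOpen_mem_and_subset
        (TopologicalSpace.Opens.mem_top u)
      have hea : AlgSp.RepWith @Etale ((AlgSp.yon S).map (opensOverι U V₀) ≫ a) :=
        (AlgSp.RepWith @Etale).comp_mem _ _
          ((AlgSp.repWith_yon_map_iff @Etale _).2 inferInstance) ha
      haveI : IsAffine (opensOver U V₀).left := hV₀
      have hUqc : QuasiCompact (opensOver U V₀).hom := inferInstance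
      have hqa := repWith_quasiCompact_of_isQuasiSeparatedSp hqs hUqc _ hea.1
      have hfin := finite_fibre_ofPt _ hqa hea x'
      have hu₀ : Points.ofPt ((AlgSp.yon S).map (opensOverι U V₀) ≫ a)
          (⟨u, huV₀⟩ : ↥(V₀ : Scheme.{u})) = Points.ofPt a u := by
        rw [ofPt_yon_map_comp]; rfl
      obtain ⟨v, hv, hvu⟩ := exists_specializes_of_isOpenMap_of_finite _
        (isOpenMap_ofPt_of_etale _ hea) (⟨u, huV₀⟩ : ↥(V₀ : Scheme.{u})) x' (hu₀ ▸ hx') hfin
      have h2 : (opensOverι U V₀).left v ⤳ u := hvu.map (opensOverι U V₀).left.continuous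
      have h3 := hgen _ h2
      rw [← hv, ofPt_yon_map_comp, h3]
    refine ⟨closure {Points.ofPt a u}, ⟨isIrreducible_singleton.closure, ?_⟩, rfl⟩
    intro T hT hZT
    obtain ⟨ξ, hξ⟩ := QuasiSober.sober hT.closure isClosed_closure
    have hxT : Points.ofPt a u ∈ closure T := subset_closure (hZT (subset_closure rfl))
    rw [← hξ.def] at hxT
    have hξx : ξ = Points.ofPt a u := hxmax ξ (specializes_iff_mem_closure.2 hxT)
    have : closure T = closure {Points.ofPt a u} := by rw [← hξ.def, hξx]
    rw [← this]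
    exact subset_closure
  · rintro ⟨Z, hZ, hx⟩
    have hxmax : ∀ x', x' ⤳ x → x' = x := by
      intro x' hx'
      have h1 : Z ⊆ closure {x'} := by
        rw [← hx.def]; exact specializes_iff_closure_subset.1 hx'
      have h2 : closure {x'} ⊆ Z := hZ.2 isIrreducible_singleton.closure h1
      have h3 : IsGenericPoint x' Z := Set.Subset.antisymm h2 h1
      exact h3.eq hx
    obtain ⟨U, φ, u, hU, hφ, hu⟩ := exists_affine_etale_chart_at X.property x
    have hUqc : QuasiCompact U.hom := inferInstance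
    have hqa := repWith_quasiCompact_of_isQuasiSeparatedSp hqs hUqc φ hφ.1
    have hfin := finite_fibre_ofPt φ hqa hφ x
    obtain ⟨u'', hu''F, hmax⟩ := hfin.exists_maximal ⟨u, hu⟩
    have hu''x : Points.ofPt φ u'' = x := hu''F
    refine ⟨U, φ, u'', hφ, hu''x, (ringKrullDim_stalk_eq_zero_iff u'').2 ?_⟩
    intro w hw
    have hwx : Points.ofPt φ w ⤳ Points.ofPt φ u'' := hw.map (Points.continuous_ofPt φ)
    rw [hu''x] at hwx
    have hwF : w ∈ Points.ofPt φ ⁻¹' {x} := hxmax _ hwx
    have h1 : u'' ⤳ w := hmax hwF (show u'' ≤ w from hw)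
    exact (hw.antisymm h1).eq

end Groth.Agent.Lib.Helper51.Sober
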