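import Groth.Agent.Lib.Helper51.SchemeCoheight
import Groth.Agent.Lib.Helper51.AlgSpPoints
import Groth.Prelude.Def_AlgSpDec
import Groth.Prelude.Def_Flat

set_option autoImplicit false
universe u
open CategoryTheory CategoryTheory.Limits AlgebraicGeometry Topology TopologicalSpace
open AlgSp

namespace Groth.Agent.Lib.Helper51.DimCharts

open Groth.Agent.Lib.Helper52 Groth.Agent.Lib.Helper51 Groth.Agent.Lib.Helper51.Coheight

variable {S : Scheme.{u}}

set_option backward.isDefEq.respectTransparency false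

/-- a quantity of pointed schemes invariant under etale morphisms does not depend on the etale chart
through a point of a sheaf. -/
theorem chart_independent {α : Type*} (Q : ∀ U : Scheme.{u}, ↥U → α)
    (hQ : ∀ {W U : Scheme.{u}} (φ : W ⟶ U) [Etale φ] (w : W), Q W w = Q U (φ w))
    {X : Sp S} {U₁ U₂ : Over S} (a₁ : (yon S).obj U₁ ⟶ X) (a₂ : (yon S).obj U₂ ⟶ X)
    (ha₁ : RepWith @Etale a₁) (ha₂ : RepWith @Etale a₂) (u₁ : ↥U₁.left) (u₂ : ↥U₂.left)
    (h : Points.ofPt a₁ u₁ = Points.ofPt a₂ u₂) : Q U₁.left u₁ = Q U₂.left u₂ := by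
  obtain ⟨W, φ, ψ, sq⟩ := exists_isPullback_of_representable ha₁.1 a₂
  have hψ : Etale ψ.left := ha₁.2 a₂ _ ψ sq
  have hφ : Etale φ.left := ha₂.2 a₁ _ φ sq.flip
  obtain ⟨w, hw₁, hw₂⟩ := exists_of_ofPt_eq_ofPt sq h
  rw [← hw₁, ← hw₂, ← hQ φ.left w, ← hQ ψ.left w]

theorem hasAt_iff_forall {α : Type*} (Q : ∀ U : Scheme.{u}, ↥U → α)
    (hQ : ∀ {W U : Scheme.{u}} (φ : W ⟶ U) [Etale φ] (w : W), Q W w = Q U (φ w))
    {X : Sp S} (hX : IsAlgSpace X) (x : Points X) (d : α) :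
    HasAt (fun U u => Q U u = d) X x ↔
      ∀ (U : Over S) (a : (yon S).obj U ⟶ X) (u : ↥U.left),
        RepWith @Etale a → Points.ofPt a u = x → Q U.left u = d := by
  constructor
  · rintro ⟨U₀, a₀, u₀, ha₀, hx₀, hd⟩ U a u ha hx
    rw [← hd]
    exact chart_independent Q hQ a a₀ ha ha₀ u u₀ (hx.trans hx₀.symm)
  · intro h
    obtain ⟨U, a, ha, has⟩ := hX.atlas
    obtain ⟨u, hu⟩ := surjective_ofPt_of_repWith_surjective a has x
    exact ⟨U, a, u, ha, hu, h U a u ha hu⟩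

theorem hasAt_iff_of_isEtaleMor {α : Type*} (Q : ∀ U : Scheme.{u}, ↥U → α)
    (hQ : ∀ {W U : Scheme.{u}} (φ : W ⟶ U) [Etale φ] (w : W), Q W w = Q U (φ w))
    {X Y : Sp S} (hX : IsAlgSpace X) (f : X ⟶ Y) (hf : IsEtaleMor f) (x : Points X) (d : α) :
    HasAt (fun U u => Q U u = d) X x ↔ HasAt (fun U u => Q U u = d) Y (Points.map f x) := by
  constructor
  · rintro ⟨U, a, u, ha, hx, hd⟩
    exact ⟨U, a ≫ f, u, hf a ha, by rw [← hx]; rfl, hd⟩
  · rintro ⟨V, b, v, hb, hy, hd⟩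
    obtain ⟨U, a, ha, has⟩ := hX.atlas
    obtain ⟨u, hu⟩ := surjective_ofPt_of_repWith_surjective a has x
    refine ⟨U, a, u, ha, hu, ?_⟩
    rw [← hd]
    refine chart_independent Q hQ (a ≫ f) b (hf a ha) hb u v ?_
    rw [hy, ← hu]
    rfl

end Groth.Agent.Lib.Helper51.DimCharts
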