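import Groth.Agent.S9334
import Groth.Agent.Lib.Helper98.AlgSpLqf
import Groth.Agent.Lib.Helper51.SchemeCoheight
import Groth.Agent.Lib.Helper51.AlgSpDimCharts

set_option autoImplicit false
universe u
open CategoryTheory CategoryTheory.Limits AlgebraicGeometry Topology TopologicalSpace
open AlgSp

namespace Groth.Agent.Lib.Helper51.CodimZeroFib

open Groth.Agent.Lib.Helper98.AlgSpLqf Groth.Agent.Lib.Helper51.Coheight

theorem stalk_dim_zero_iff_isMax {U : Scheme.{u}} (u : U) :
    ringKrullDim (U.presheaf.stalk u) = 0 ↔ IsMax u := by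
  rw [ringKrullDim_stalk_eq_coheight, ← Order.coheight_eq_zero]
  exact_mod_cast Iff.rfl

theorem isMax_iff_forall_specializes {U : Scheme.{u}} (u : U) :
    IsMax u ↔ ∀ b : U, b ⤳ u → b = u := by
  constructor
  · intro h b hb
    have h1 : u ≤ b := hb
    have h2 : u ⤳ b := h h1
    exact (hb.antisymm h2).eq
  · intro h b hb
    have : b = u := h b hb
    rw [this]

theorem stalk_dim_zero_of_lqfNear {U V : Scheme.{u}} (h : U ⟶ V) (u : U)
    (hq : LqfNear U V h u) (hv : ringKrullDim (V.presheaf.stalk (h u)) = 0) :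
    ringKrullDim (U.presheaf.stalk u) = 0 := by
  obtain ⟨W, hu, h1, h2⟩ := hq
  have e1 := ringKrullDim_stalk_eq_of_etale W.ι ⟨u, hu⟩
  have e2 := ringKrullDim_stalk_le_of_locallyQuasiFinite (W.ι ≫ h) ⟨u, hu⟩
  have e3 : (W.ι ≫ h) ⟨u, hu⟩ = h u := rfl
  have e4 : W.ι ⟨u, hu⟩ = u := rfl
  rw [e3, hv, e1, e4] at e2
  exact le_antisymm e2 ringKrullDim_nonneg_of_nontrivial

theorem quasiFiniteAt_of_fibre_isMax {U V : Scheme.{u}} (h : U ⟶ V) [LocallyOfFiniteType h] (u : U)
    (hmax : ∀ u' : U, h u' = h u → ∀ b : U, b ⤳ u' → b = u') : h.QuasiFiniteAt u := by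
  rw [Groth.Agent.S9334.result]
  have hemb := (h.fiberι (h u)).isEmbedding
  have hι : h.fiberι (h u) (h.asFiber u) = u := Scheme.Hom.fiberι_asFiber h u
  have hfib : ∀ x' : h.fiber (h u), h (h.fiberι (h u) x') = h u := by
    intro x'
    have : h.fiberι (h u) x' ∈ Set.range (h.fiberι (h u)) := ⟨x', rfl⟩
    rw [Scheme.Hom.range_fiberι] at this
    exact this
  constructor
  · apply isClosed_of_closure_subset
    intro y hy
    have hs : h.asFiber u ⤳ y := specializes_iff_mem_closure.2 hy
    have hs' : h.fiberι (h u) (h.asFiber u) ⤳ h.fiberι (h u) y :=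
      hs.map (h.fiberι (h u)).continuous
    have := hmax _ (hfib y) _ hs'
    exact hemb.injective this.symm
  · intro x' hx'
    have hs' : h.fiberι (h u) x' ⤳ h.fiberι (h u) (h.asFiber u) :=
      hx'.map (h.fiberι (h u)).continuous
    rw [hι] at hs'
    have := hmax u rfl _ hs'
    apply hemb.injective
    rw [this, hι]

/-- every point has a maximal generization. -/
theorem exists_isMax_specializes {U : Scheme.{u}} (u : U) :
    ∃ η : U, η ⤳ u ∧ ∀ b : U, b ⤳ η → b = η := by
  have hirr : IsIrreducible (irreducibleComponent u) := isIrreducible_irreducibleComponent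
  have hcl : IsClosed (irreducibleComponent u) := isClosed_irreducibleComponent
  obtain ⟨η, hη⟩ := QuasiSober.sober hirr hcl
  refine ⟨η, ?_, ?_⟩
  · rw [specializes_iff_mem_closure, hη.def]
    exact mem_irreducibleComponent
  · intro b hb
    have h1 : closure {η} ⊆ closure {b} := by
      apply closure_minimal _ isClosed_closure
      rw [Set.singleton_subset_iff]
      exact specializes_iff_mem_closure.1 hb
    have h2 : irreducibleComponent u ⊆ closure {b} := hη.def ▸ h1
    have h3 : closure {b} = irreducibleComponent u :=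
      (eq_irreducibleComponent (isIrreducible_singleton.closure.isPreirreducible) h2)
    have hb' : IsGenericPoint b (irreducibleComponent u) := h3
    exact hb'.eq hη

theorem isMax_of_quasiFiniteAt_of_isMax {U V : Scheme.{u}} (h : U ⟶ V) [LocallyOfFiniteType h]
    (u : U) (hv : ∀ b : V, b ⤳ h u → b = h u)
    (hq : ∀ u' : U, h u' = h u → (∀ b : U, b ⤳ u' → b = u') → h.QuasiFiniteAt u') :
    ∀ b : U, b ⤳ u → b = u := by
  obtain ⟨η, hηu, hηmax⟩ := exists_isMax_specializes u
  have hhη : h η = h u := hv _ (hηu.map h.continuous)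
  have hqf := hq η hhη hηmax
  rw [Groth.Agent.S9334.result] at hqf
  obtain ⟨hcl, -⟩ := hqf
  have hemb := (h.fiberι (h η)).isEmbedding
  have hmem : u ∈ Set.range (h.fiberι (h η)) := by
    rw [Scheme.Hom.range_fiberι]
    exact hhη.symm
  obtain ⟨xu, hxu⟩ := hmem
  have hι : h.fiberι (h η) (h.asFiber η) = η := Scheme.Hom.fiberι_asFiber h η
  have hs : h.asFiber η ⤳ xu := by
    rw [← hemb.isInducing.specializes_iff, hι, hxu]
    exact hηu
  have hxeq : xu = h.asFiber η := by
    have : xu ∈ closure ({h.asFiber η} : Set _) := specializes_iff_mem_closure.1 hs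
    rw [hcl.closure_eq] at this
    exact this
  have hueq : u = η := by rw [← hxu, hxeq, hι]
  rw [hueq]
  exact hηmax

variable {S : Scheme.{u}}

open Groth.Agent.Lib.Helper52 Groth.Agent.Lib.Helper51 Groth.Agent.Lib.Helper98.AlgSpPtLocal
open Groth.Agent.Lib.Helper51.DimCharts

set_option backward.isDefEq.respectTransparency false

/-- a chart diagram through a point over a fixed chart of the target. -/
theorem exists_chart_over {X Y : Sp S} (hX : IsAlgSpace X) (f : X ⟶ Y) {V : Over S}
    (b : (yon S).obj V ⟶ Y) (hb : RepWith @Etale b) (v : V.left) (x : Points X)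
    (hx : Points.map f x = Points.ofPt b v) :
    ∃ (U : Over S) (a : (yon S).obj U ⟶ X) (h : U ⟶ V) (u : U.left), RepWith @Etale a ∧
      a ≫ f = (yon S).map h ≫ b ∧ Points.ofPt a u = x ∧ h.left u = v := by
  obtain ⟨U₀, a₀, ha₀, ha₀s⟩ := hX.atlas
  obtain ⟨u₀, rfl⟩ := surjective_ofPt_of_repWith_surjective a₀ ha₀s x
  obtain ⟨W, φ, ψ, sq⟩ := exists_isPullback_of_representable hb.1 (a₀ ≫ f)
  haveI hψ : Etale ψ.left := hb.2 (a₀ ≫ f) _ ψ sq
  have hpt : Points.ofPt b v = Points.ofPt (a₀ ≫ f) u₀ := hx.symm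
  obtain ⟨w, hw₁, hw₂⟩ := exists_of_ofPt_eq_ofPt sq hpt
  refine ⟨W, (yon S).map ψ ≫ a₀, φ, w, ?_, ?_, ?_, hw₁⟩
  · exact (RepWith (S := S) @Etale).comp_mem _ _ ((repWith_yon_map_iff @Etale ψ).2 hψ) ha₀
  · rw [Category.assoc]; exact sq.w.symm
  · rw [ofPt_yon_map_comp, hw₂]

theorem stalk_hQ : ∀ {W U : Scheme.{u}} (φ : W ⟶ U) [Etale φ] (w : W),
    ringKrullDim (W.presheaf.stalk w) = ringKrullDim (U.presheaf.stalk (φ w)) :=
  fun φ _ w => ringKrullDim_stalk_eq_of_etale φ w

theorem main {X Y : Sp S} (hX : IsAlgSpace X) (f : X ⟶ Y)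
    (hf : LocP @LocallyOfFiniteType f) (y : Points Y)
    (hy : HasAt (fun U u => ringKrullDim (U.presheaf.stalk u) = 0) Y y) :
    ((∀ x : Points X, Points.map f x = y →
        HasAt (fun U u => ringKrullDim (U.presheaf.stalk u) = 0) X x) ↔
      (∀ x : Points X, Points.map f x = y → HasAtMor LqfNear f x)) ∧
    ((∀ x : Points X, Points.map f x = y →
        HasAt (fun U u => ringKrullDim (U.presheaf.stalk u) = 0) X x → HasAtMor LqfNear f x) →
      ∀ x : Points X, Points.map f x = y →
        HasAt (fun U u => ringKrullDim (U.presheaf.stalk u) = 0) X x) := by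
  obtain ⟨V, b, v, hb, hyv, hv0⟩ := hy
  have hvmax : ∀ b' : V.left, b' ⤳ v → b' = v :=
    (isMax_iff_forall_specializes v).1 ((stalk_dim_zero_iff_isMax v).1 hv0)
  -- points of a chart over v lie over y
  have hover : ∀ {U : Over S} (a : (yon S).obj U ⟶ X) (h : U ⟶ V)
      (_ : a ≫ f = (yon S).map h ≫ b) (u' : U.left), h.left u' = v →
      Points.map f (Points.ofPt a u') = y := by
    intro U a h comm u' hu'
    rw [Points.map_ofPt, comm, ofPt_yon_map_comp, hu', hyv]
  refine ⟨⟨?_, ?_⟩, ?_⟩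
  · intro H1 x hx
    obtain ⟨U, a, h, u, ha, comm, hxu, huv⟩ := exists_chart_over hX f b hb v x (hx.trans hyv.symm)
    haveI : LocallyOfFiniteType h.left := hf a b h ha hb comm
    refine ⟨U, V, a, b, h, u, ha, hb, comm, hxu, ?_⟩
    rw [lqfNear_iff_quasiFiniteAt]
    apply quasiFiniteAt_of_fibre_isMax
    intro u' hu'
    have hx' := hover a h comm u' (hu'.trans huv)
    have h0 := (hasAt_iff_forall (fun U u => ringKrullDim (U.presheaf.stalk u)) stalk_hQ hX _ 0).1
      (H1 _ hx') U a u' ha rfl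
    exact (isMax_iff_forall_specializes u').1 ((stalk_dim_zero_iff_isMax u').1 h0)
  · intro H2 x hx
    obtain ⟨U, a, h, u, ha, comm, hxu, huv⟩ := exists_chart_over hX f b hb v x (hx.trans hyv.symm)
    have hq : LqfNear _ _ h.left u :=
      (hasAtMor_iff_of_chart etLocalPt_lqfNear f a b h ha hb comm u).1 (hxu ▸ H2 x hx)
    refine ⟨U, a, u, ha, hxu, ?_⟩
    exact stalk_dim_zero_of_lqfNear h.left u hq (by rw [huv]; exact hv0)
  · intro H3 x hx
    obtain ⟨U, a, h, u, ha, comm, hxu, huv⟩ := exists_chart_over hX f b hb v x (hx.trans hyv.symm)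
    haveI : LocallyOfFiniteType h.left := hf a b h ha hb comm
    refine ⟨U, a, u, ha, hxu, ?_⟩
    show ringKrullDim (U.left.presheaf.stalk u) = 0
    rw [stalk_dim_zero_iff_isMax, isMax_iff_forall_specializes]
    apply isMax_of_quasiFiniteAt_of_isMax h.left u (by rw [huv]; exact hvmax)
    intro u' hu' hu'max
    have hx' := hover a h comm u' (hu'.trans huv)
    have h0 : HasAt (fun U u => ringKrullDim (U.presheaf.stalk u) = 0) X (Points.ofPt a u') :=
      ⟨U, a, u', ha, rfl, (stalk_dim_zero_iff_isMax u').2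
        ((isMax_iff_forall_specializes u').2 hu'max)⟩
    have hq : LqfNear _ _ h.left u' :=
      (hasAtMor_iff_of_chart etLocalPt_lqfNear f a b h ha hb comm u').1 (H3 _ hx' h0)
    exact (lqfNear_iff_quasiFiniteAt h.left u').1 hq

end Groth.Agent.Lib.Helper51.CodimZeroFib
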