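import Groth.Agent.Lib.Helper51.SpectralQuot
import Groth.Agent.Lib.Helper51.AlgSpCodimZero

/-!
Etale locally constructible subsets of the points of a quasi-separated algebraic space are the
locally constructible subsets (helper51).
-/

set_option autoImplicit false
set_option linter.unusedSectionVars false
universe u
open CategoryTheory CategoryTheory.Limits AlgebraicGeometry Opposite Topology TopologicalSpace
open Set.Notation

set_option backward.isDefEq.respectTransparency false

namespace Groth.Agent.Lib.Helper51.Sober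

open AlgSp Groth.Agent.Lib.Helper51 Groth.Agent.Lib.Helper52 Groth.Agent.Lib.Helper51.SpecQuot

variable {S : Scheme.{u}}

/-- The map on points of a chart, with codomain restricted to its range. -/
noncomputable def fO {Y : AlgSp.Sp S} {U : Over S} (φ : (AlgSp.yon S).obj U ⟶ Y) :
    ↥U.left → ↥(Set.range (Points.ofPt φ)) := fun u => ⟨Points.ofPt φ u, u, rfl⟩

theorem chart_props [QuasiSeparatedSpace ↥S] (X : AlgSp.Space S)
    (hqs : AlgSp.IsQuasiSeparatedSp X.obj) {U : Over S} [IsAffine U.left]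
    (φ : (AlgSp.yon S).obj U ⟶ X.obj) (hφ : AlgSp.RepWith @Etale φ) :
    IsOpen (Set.range (Points.ofPt φ)) ∧ CompactSpace ↥(Set.range (Points.ofPt φ)) ∧
      QuasiSober ↥(Set.range (Points.ofPt φ)) ∧ T0Space ↥(Set.range (Points.ofPt φ)) ∧
      PrespectralSpace ↥(Set.range (Points.ofPt φ)) ∧
      QuasiSeparatedSpace ↥(Set.range (Points.ofPt φ)) ∧ Continuous (fO φ) ∧
      Function.Surjective (fO φ) ∧
      (∀ K : Set ↥(Set.range (Points.ofPt φ)), IsOpen K → IsCompact K →
        IsOpen (fO φ ⁻¹' K) ∧ IsCompact (fO φ ⁻¹' K)) := by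
  obtain ⟨hsob, ht0⟩ := sober_of_zlqs X ⟨PUnit, fun _ => X, fun _ => 𝟙 X,
    ⟨fun _ => (AlgSp.RepWith @IsOpenImmersion).id_mem _, fun y => ⟨PUnit.unit, y, by
      show Points.map (𝟙 X.obj) y = y
      rw [Points.map_id]⟩⟩, fun _ => hqs⟩
  have hO : IsOpen (Set.range (Points.ofPt φ)) := (isOpenMap_ofPt_of_etale φ hφ).isOpen_range
  have hqsO : QuasiSober ↥(Set.range (Points.ofPt φ)) := hO.isOpenEmbedding_subtypeVal.quasiSober
  have ht0O : T0Space ↥(Set.range (Points.ofPt φ)) := inferInstance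
  have hcont : Continuous (fO φ) := (Points.continuous_ofPt φ).subtype_mk _
  have hsurj : Function.Surjective (fO φ) := by
    rintro ⟨_, u, rfl⟩
    exact ⟨u, rfl⟩
  have hopen : IsOpenMap (fO φ) := by
    intro N hN
    have : fO φ '' N = Subtype.val ⁻¹' (Points.ofPt φ '' N) := by
      ext ⟨z, hz⟩
      constructor
      · rintro ⟨v, hv, hvz⟩
        exact ⟨v, hv, congrArg Subtype.val hvz⟩
      · rintro ⟨v, hv, hvz⟩
        exact ⟨v, hv, Subtype.ext hvz⟩
    rw [this]
    exact (isOpenMap_ofPt_of_etale φ hφ _ hN).preimage continuous_subtype_val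
  have hUqc : QuasiCompact U.hom := inferInstance
  have hqa := repWith_quasiCompact_of_isQuasiSeparatedSp hqs hUqc φ hφ.1
  obtain ⟨R, s, t, hR⟩ := exists_isPullback_of_representable hφ.1 φ
  have hsq : QuasiCompact s.left := hqa.2 φ _ s hR.flip
  have H : ∀ K : Set ↥U.left, IsOpen K → IsCompact K → IsCompact (fO φ ⁻¹' (fO φ '' K)) := by
    intro K hKo hKc
    have : fO φ ⁻¹' (fO φ '' K) = t.left '' (s.left ⁻¹' K) := by
      rw [← preimage_ofPt_image hR K]
      ext v
      constructor
      · rintro ⟨w, hw, hwv⟩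
        exact ⟨w, hw, congrArg Subtype.val hwv⟩
      · rintro ⟨w, hw, hwv⟩
        exact ⟨w, hw, Subtype.ext hwv⟩
    rw [this]
    exact (hsq.isCompact_preimage _ hKo hKc).image t.left.continuous
  obtain ⟨h1, h2, h3, h4⟩ := quot_props (fO φ) hcont hopen hsurj H
  exact ⟨hO, h1, hqsO, ht0O, h4, h3, hcont, hsurj, h2⟩

theorem isLocallyConstructible_iff [QuasiSeparatedSpace ↥S] (X : AlgSp.Space S)
    (hX : AlgSp.IsQuasiSeparatedSp X.obj) (E : Set (AlgSp.Points X.obj)) :
    (∀ (U : Over S) (a : (AlgSp.yon S).obj U ⟶ X.obj), AlgSp.RepWith @Etale a →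
        IsLocallyConstructible (AlgSp.Points.ofPt a ⁻¹' E)) ↔
      IsLocallyConstructible E := by
  constructor
  · intro h x
    obtain ⟨U, φ, u, hU, hφ, hu⟩ := exists_affine_etale_chart_at X.property x
    obtain ⟨hO, hc, hqso, ht0, hps, hqsep, hcont, hsurj, hpre⟩ := chart_props X hX φ hφ
    refine ⟨Set.range (Points.ofPt φ), hO.mem_nhds ⟨u, hu⟩, hO, ?_⟩
    have h1 : IsConstructible (Points.ofPt φ ⁻¹' E) := (h U φ hφ).isConstructible
    exact isConstructible_of_preimage (fO φ) hsurj hpre _ h1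
  · intro hE U a ha u
    obtain ⟨W, hW, huW, -⟩ := exists_isAffineOpen_mem_and_subset
      (TopologicalSpace.Opens.mem_top u)
    have hea : AlgSp.RepWith @Etale ((AlgSp.yon S).map (opensOverι U W) ≫ a) :=
      (AlgSp.RepWith @Etale).comp_mem _ _
        ((AlgSp.repWith_yon_map_iff @Etale _).2 inferInstance) ha
    haveI : IsAffine (opensOver U W).left := hW
    obtain ⟨hO, hc, hqso, ht0, hps, hqsep, hcont, hsurj, hpre⟩ := chart_props X hX _ hea
    refine ⟨(W : Set ↥U.left), W.2.mem_nhds huW, W.2, ?_⟩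
    have hEO : IsConstructible ((Set.range (Points.ofPt ((AlgSp.yon S).map (opensOverι U W) ≫ a)))
        ↓∩ E) :=
      (hE.preimage_of_isOpenEmbedding hO.isOpenEmbedding_subtypeVal).isConstructible
    have h2 := hEO.preimage hcont (fun s hs hsr =>
      ((hpre s hs hsr.isCompact).2.isRetrocompact (hpre s hs hsr.isCompact).1))
    have h3 : (fO ((AlgSp.yon S).map (opensOverι U W) ≫ a)) ⁻¹'
        ((Set.range (Points.ofPt ((AlgSp.yon S).map (opensOverι U W) ≫ a))) ↓∩ E) =
        ((W : Set ↥U.left) ↓∩ (Points.ofPt a ⁻¹' E)) := by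
      ext w
      show Points.ofPt ((AlgSp.yon S).map (opensOverι U W) ≫ a) w ∈ E ↔ Points.ofPt a w.1 ∈ E
      rw [ofPt_yon_map_comp]
      rfl
    rw [← h3]
    exact h2

end Groth.Agent.Lib.Helper51.Sober
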