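import Groth.Agent.Lib.Helper51.AlgSpIdealShf

set_option autoImplicit false
set_option linter.unusedSectionVars false
universe u
open CategoryTheory CategoryTheory.Limits AlgebraicGeometry Opposite

set_option backward.isDefEq.respectTransparency false

namespace Groth.Agent.Lib.Helper51.IdealShf

open AlgSp Groth.Agent.Lib.Helper52 Groth.Agent.Lib.Helper51 Groth.Agent.Lib.Helper51.ClosedSub

variable {S : Scheme.{u}}

/-- two chart form: the ideals of a closed subspace on two charts have the same pullback to a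
scheme mapping compatibly to both. -/
theorem comap_le_comap_of_isPullback₂ {Y Z : AlgSp.Sp S} (i : Z ⟶ Y) {U₁ ZU₁ U₂ ZU₂ R : Over S}
    (a₁ : (AlgSp.yon S).obj U₁ ⟶ Y) (c₁ : ZU₁ ⟶ U₁) (hc₁ : IsClosedImmersion c₁.left)
    (z₁ : (AlgSp.yon S).obj ZU₁ ⟶ Z) (sq₁ : IsPullback z₁ ((AlgSp.yon S).map c₁) i a₁)
    (a₂ : (AlgSp.yon S).obj U₂ ⟶ Y) (c₂ : ZU₂ ⟶ U₂) (hc₂ : IsClosedImmersion c₂.left)
    (z₂ : (AlgSp.yon S).obj ZU₂ ⟶ Z) (sq₂ : IsPullback z₂ ((AlgSp.yon S).map c₂) i a₂)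
    (s : R ⟶ U₁) (t : R ⟶ U₂)
    (hst : (AlgSp.yon S).map s ≫ a₁ = (AlgSp.yon S).map t ≫ a₂) :
    c₁.left.ker.comap s.left ≤ c₂.left.ker.comap t.left := by
  obtain ⟨A, r, p, sqO, sqL⟩ := Groth.Agent.Lib.Helper30.isPullback_over' t c₂
  rw [← ker_of_isPullback_closedImmersion sqL, ← Scheme.IdealSheafData.le_map_iff_comap_le,
    Scheme.IdealSheafData.map_ker]
  change c₁.left.ker ≤ (r ≫ s).left.ker
  rw [← exists_factor_iff i a₁ c₁ hc₁ z₁ sq₁ (r ≫ s)]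
  refine ⟨(AlgSp.yon S).map p ≫ z₂, ?_⟩
  rw [Category.assoc, sq₂.w, ← Category.assoc, ← Functor.map_comp, ← sqO.w, Functor.map_comp,
    Functor.map_comp, Category.assoc, Category.assoc, hst]

theorem comap_eq_comap_of_isPullback₂ {Y Z : AlgSp.Sp S} (i : Z ⟶ Y) {U₁ ZU₁ U₂ ZU₂ R : Over S}
    (a₁ : (AlgSp.yon S).obj U₁ ⟶ Y) (c₁ : ZU₁ ⟶ U₁) (hc₁ : IsClosedImmersion c₁.left)
    (z₁ : (AlgSp.yon S).obj ZU₁ ⟶ Z) (sq₁ : IsPullback z₁ ((AlgSp.yon S).map c₁) i a₁)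
    (a₂ : (AlgSp.yon S).obj U₂ ⟶ Y) (c₂ : ZU₂ ⟶ U₂) (hc₂ : IsClosedImmersion c₂.left)
    (z₂ : (AlgSp.yon S).obj ZU₂ ⟶ Z) (sq₂ : IsPullback z₂ ((AlgSp.yon S).map c₂) i a₂)
    (s : R ⟶ U₁) (t : R ⟶ U₂)
    (hst : (AlgSp.yon S).map s ≫ a₁ = (AlgSp.yon S).map t ≫ a₂) :
    c₁.left.ker.comap s.left = c₂.left.ker.comap t.left :=
  le_antisymm (comap_le_comap_of_isPullback₂ i a₁ c₁ hc₁ z₁ sq₁ a₂ c₂ hc₂ z₂ sq₂ s t hst)
    (comap_le_comap_of_isPullback₂ i a₂ c₂ hc₂ z₂ sq₂ a₁ c₁ hc₁ z₁ sq₁ t s hst.symm)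

/-- the ideal family of a closed subspace agrees with a quasi-coherent family as soon as this
holds on one atlas. -/
theorem idealOfRep_eq_of_chart {X Z : AlgSp.Sp S} (I : AlgSp.IdealEt X) (hI : I.IsQCoh) (i : Z ⟶ X)
    (hi : AlgSp.RepWith @IsClosedImmersion i) {U ZU : Over S} (a : (AlgSp.yon S).obj U ⟶ X)
    (ha : AlgSp.RepWith @Etale a) (has : AlgSp.RepWith @Surjective a) (c : ZU ⟶ U)
    (z : (AlgSp.yon S).obj ZU ⟶ Z) (sq : IsPullback z ((AlgSp.yon S).map c) i a)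
    (hc : c.left.ker = sheafData I hI (AlgSp.EtOver.mk a ha)) : AlgSp.idealOfRep hi.1 = I := by
  have hcc : IsClosedImmersion c.left := hi.property a z c sq
  apply AlgSp.IdealEt.ext
  funext E hE
  obtain ⟨W, φ, ψ, sqW⟩ := exists_isPullback_of_representable ha.rep E.obj.hom
  have hψe : Etale ψ.left := ha.property E.obj.hom _ ψ sqW
  have hψs : Surjective ψ.left := has.property E.obj.hom _ ψ sqW
  have hφe : Etale φ.left := E.property.property a _ φ sqW.flip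
  let EW : AlgSp.EtOver X := AlgSp.EtOver.mk ((AlgSp.yon S).map ψ ≫ E.obj.hom)
    (repWith_etale_yon_map_comp ψ hψe E.obj.hom E.property)
  let ψh : EW ⟶ E := AlgSp.EtOver.homMk ψ rfl
  let φh : EW ⟶ AlgSp.EtOver.mk a ha := AlgSp.EtOver.homMk φ sqW.w
  have sqE := AlgSp.EtOver.isPullback_bcObj hi.1 E
  have hcE : IsClosedImmersion (AlgSp.EtOver.bcπ hi.1 E).left := hi.property _ _ _ sqE
  have h1 : (AlgSp.EtOver.bcπ hi.1 E).left.ker.comap ψ.left = c.left.ker.comap φ.left :=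
    comap_eq_comap_of_isPullback₂ i E.obj.hom (AlgSp.EtOver.bcπ hi.1 E) hcE _ sqE a c hcc z sq
      ψ φ sqW.w.symm
  have h2 : (sheafData I hI E).comap ψ.left = c.left.ker.comap φ.left := by
    rw [hc]
    exact (sheafData_comap I hI ψh).trans (sheafData_comap I hI φh).symm
  have hflat : Flat ψ.left := inferInstance
  have h3 : (AlgSp.EtOver.bcπ hi.1 E).left.ker = sheafData I hI E :=
    IdealDesc.eq_of_comap_eq_of_flat_surjective ψ.left _ _ (h1.trans h2.symm)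
  rw [Scheme.ker_of_isAffine, sheafData_of_isAffine I hI E hE] at h3
  have h4 := congrArg (fun J => J.ideal ⟨⊤, isAffineOpen_top E.obj.left.left⟩) h3
  simp only [Scheme.IdealSheafData.ofIdealTop_ideal] at h4
  have h5 : ∀ K : Ideal Γ(E.obj.left.left, ⊤),
      K.map (E.obj.left.left.presheaf.map (homOfLE (le_top : (⊤ : E.obj.left.left.Opens) ≤ ⊤)).op).hom
        = K := by
    intro K
    have : (homOfLE (le_top : (⊤ : E.obj.left.left.Opens) ≤ ⊤)) = 𝟙 _ := rfl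
    rw [this, op_id, CategoryTheory.Functor.map_id]
    exact Ideal.map_id K
  rw [h5, h5] at h4
  exact h4

/-- every quasi-coherent family of ideals cuts out a closed subspace. -/
theorem exists_isCutOutBy {X : AlgSp.Sp S} (hX : AlgSp.IsAlgSpace X) (I : AlgSp.IdealEt X)
    (hI : I.IsQCoh) :
    ∃ (Z : AlgSp.Sp S) (_ : AlgSp.IsAlgSpace Z) (i : Z ⟶ X), AlgSp.IsCutOutBy I i := by
  obtain ⟨U, a, ha, has⟩ := hX.atlas
  obtain ⟨R, s, t, sqR⟩ := exists_isPullback_of_representable ha.rep a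
  have hse : Etale s.left := ha.property a _ s sqR.flip
  let Ea : AlgSp.EtOver X := AlgSp.EtOver.mk a ha
  let ER : AlgSp.EtOver X := AlgSp.EtOver.mk ((AlgSp.yon S).map s ≫ a)
    (repWith_etale_yon_map_comp s hse a ha)
  let sh : ER ⟶ Ea := AlgSp.EtOver.homMk s rfl
  let th : ER ⟶ Ea := AlgSp.EtOver.homMk t sqR.w.symm
  have hinv : (sheafData I hI Ea).comap s.left = (sheafData I hI Ea).comap t.left :=
    (sheafData_comap I hI sh).trans (sheafData_comap I hI th).symm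
  obtain ⟨Z, hZ, i, z, hci, hze, hzs, sqI⟩ :=
    exists_closedSubspace_of_invariant hX a ha has s t sqR (sheafData I hI Ea) hinv
  refine ⟨Z, hZ, i, hci, ?_⟩
  exact idealOfRep_eq_of_chart I hI i hci a ha has (subOverι U (sheafData I hI Ea)) z sqI
    (ker_subOverι U _)

end Groth.Agent.Lib.Helper51.IdealShf
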