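import Groth.Agent.Lib.Helper51.SchemeCoheight
import Groth.Agent.Lib.Helper51.AlgSpPoints
import Groth.Prelude.Def_AlgSpDec
import Groth.Prelude.Def_Flat

set_option autoImplicit false
universe u
open CategoryTheory CategoryTheory.Limits AlgebraicGeometry Topology TopologicalSpace
open AlgSp

namespace Groth.Agent.Lib.Helper51.DimCharts

open Groth.Agent.Lib.Helper52 Groth.Agent.Lib.Helper51 Groth.Agent.Lib.Helper51.Coheight

variable {S : Scheme.{u}}

set_option backward.isDefEq.respectTransparency false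

theorem topologicalKrullDim_le_dim {X : Sp S} {U : Over S} (a : (yon S).obj U ⟶ X)
    (ha : RepWith @Etale a) : topologicalKrullDim ↥U.left ≤ dim X :=
  le_iSup_of_le U (le_iSup_of_le a (le_iSup_of_le ha le_rfl))

theorem dim_le_iff {X : Sp S} (d : WithBot ℕ∞) :
    dim X ≤ d ↔ ∀ (U : Over S) (a : (yon S).obj U ⟶ X), RepWith @Etale a →
      topologicalKrullDim ↥U.left ≤ d := by
  unfold dim
  simp only [iSup_le_iff]

theorem dim_le_of_isEtaleMor {X Y : Sp S} (f : X ⟶ Y) (hf : IsEtaleMor f) : dim X ≤ dim Y := by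
  rw [dim_le_iff]
  intro U a ha
  exact topologicalKrullDim_le_dim (a ≫ f) (hf a ha)

theorem dim_eq_of_isEtaleMor_of_surjective {X Y : Sp S} (hX : IsAlgSpace X) (f : X ⟶ Y)
    (hf : IsEtaleMor f) (hs : IsSurjectiveMor f) : dim X = dim Y := by
  refine le_antisymm (dim_le_of_isEtaleMor f hf) ?_
  rw [dim_le_iff]
  intro V b hb
  obtain ⟨U, a, ha, has⟩ := hX.atlas
  have haf := hf a ha
  have hsurj : Function.Surjective (Points.map (a ≫ f)) := by
    intro y
    obtain ⟨x, rfl⟩ := hs y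
    obtain ⟨z, rfl⟩ := surjective_map_of_repWith_surjective has x
    exact ⟨z, Points.map_comp a f z⟩
  have hafs : RepWith @Surjective (a ≫ f) := repWith_surjective_of_surjective_map haf.1 hsurj
  obtain ⟨W, φ, ψ, sq⟩ := exists_isPullback_of_representable haf.1 b
  haveI hψ : Etale ψ.left := haf.2 b _ ψ sq
  haveI hψs : Surjective ψ.left := hafs.2 b _ ψ sq
  have hφ : Etale φ.left := hb.2 (a ≫ f) _ φ sq.flip
  rw [← topologicalKrullDim_eq_of_etale_of_surjective ψ.left]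
  refine topologicalKrullDim_le_dim ((yon S).map φ ≫ a) ?_
  exact (RepWith (S := S) @Etale).comp_mem _ _ ((repWith_yon_map_iff @Etale φ).2 hφ) ha

theorem dim_le_of_locP_locallyQuasiFinite {X Y : Sp S} (hY : IsAlgSpace Y) (f : X ⟶ Y)
    (hf : LocP (@LocallyQuasiFinite ⊓ @LocallyOfFiniteType) f) : dim X ≤ dim Y := by
  rw [dim_le_iff]
  intro U a ha
  obtain ⟨V, b, hb, hbs⟩ := hY.atlas
  obtain ⟨W, φ, ψ, sq⟩ := exists_isPullback_of_representable hb.1 (a ≫ f)
  haveI hψ : Etale ψ.left := hb.2 (a ≫ f) _ ψ sq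
  haveI hψs : Surjective ψ.left := hbs.2 (a ≫ f) _ ψ sq
  have hψa : RepWith @Etale ((yon S).map ψ ≫ a) :=
    (RepWith (S := S) @Etale).comp_mem _ _ ((repWith_yon_map_iff @Etale ψ).2 hψ) ha
  have hφ : (@LocallyQuasiFinite ⊓ @LocallyOfFiniteType) φ.left :=
    hf ((yon S).map ψ ≫ a) b φ hψa hb (by rw [Category.assoc]; exact sq.w.symm)
  haveI : LocallyQuasiFinite φ.left := hφ.1
  rw [← topologicalKrullDim_eq_of_etale_of_surjective ψ.left]
  exact le_trans (topologicalKrullDim_le_of_locallyQuasiFinite φ.left)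
    (topologicalKrullDim_le_dim b hb)

theorem stalk_dim_le_of_locP_locallyQuasiFinite {X Y : Sp S} (f : X ⟶ Y)
    (hf : LocP (@LocallyQuasiFinite ⊓ @LocallyOfFiniteType) f) (x : Points X) (d e : WithBot ℕ∞)
    (hx : HasAt (fun U u => ringKrullDim ↥(U.presheaf.stalk u) = d) X x)
    (hy : HasAt (fun V v => ringKrullDim ↥(V.presheaf.stalk v) = e) Y (Points.map f x)) :
    d ≤ e := by
  obtain ⟨U, a, u, ha, hxu, hd⟩ := hx
  obtain ⟨V, b, v, hb, hyv, he⟩ := hy
  obtain ⟨W, φ, ψ, sq⟩ := exists_isPullback_of_representable hb.1 (a ≫ f)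
  haveI hψ : Etale ψ.left := hb.2 (a ≫ f) _ ψ sq
  have hψa : RepWith @Etale ((yon S).map ψ ≫ a) :=
    (RepWith (S := S) @Etale).comp_mem _ _ ((repWith_yon_map_iff @Etale ψ).2 hψ) ha
  have hφ : (@LocallyQuasiFinite ⊓ @LocallyOfFiniteType) φ.left :=
    hf ((yon S).map ψ ≫ a) b φ hψa hb (by rw [Category.assoc]; exact sq.w.symm)
  haveI : LocallyQuasiFinite φ.left := hφ.1
  have hpt : Points.ofPt b v = Points.ofPt (a ≫ f) u := by
    rw [hyv, ← hxu]; rfl
  obtain ⟨w, hw₁, hw₂⟩ := exists_of_ofPt_eq_ofPt sq hpt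
  rw [← hd, ← he, ← hw₁, ← hw₂, ← ringKrullDim_stalk_eq_of_etale ψ.left w]
  exact ringKrullDim_stalk_le_of_locallyQuasiFinite φ.left w

end Groth.Agent.Lib.Helper51.DimCharts
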