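import Groth.Agent.Lib.Helper51.SchemeCoheightFlat
import Groth.Agent.Lib.Helper51.AlgSpDimCharts2

set_option autoImplicit false
universe u
open CategoryTheory CategoryTheory.Limits AlgebraicGeometry Topology TopologicalSpace
open AlgSp

namespace Groth.Agent.Lib.Helper51.DimCharts

open Groth.Agent.Lib.Helper52 Groth.Agent.Lib.Helper51 Groth.Agent.Lib.Helper51.Coheight

variable {S : Scheme.{u}}

set_option backward.isDefEq.respectTransparency false

/-- for a flat morphism, some chart at `f x` has local ring of dimension at most that of a given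
chart at `x`. -/
theorem exists_chart_stalk_dim_le_of_locP_flat {X Y : Sp S} (hY : IsAlgSpace Y) (f : X ⟶ Y)
    (hf : LocP @Flat f) (x : Points X) (d : WithBot ℕ∞)
    (hx : HasAt (fun U u => ringKrullDim ↥(U.presheaf.stalk u) = d) X x) :
    HasAt (fun V v => ringKrullDim ↥(V.presheaf.stalk v) ≤ d) Y (Points.map f x) := by
  obtain ⟨U, a, u, ha, hxu, hd⟩ := hx
  obtain ⟨V, b, hb, hbs⟩ := hY.atlas
  obtain ⟨W, φ, ψ, sq⟩ := exists_isPullback_of_representable hb.1 (a ≫ f)
  haveI hψ : Etale ψ.left := hb.2 (a ≫ f) _ ψ sq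
  have hψa : RepWith @Etale ((yon S).map ψ ≫ a) :=
    (RepWith (S := S) @Etale).comp_mem _ _ ((repWith_yon_map_iff @Etale ψ).2 hψ) ha
  haveI hφ : Flat φ.left :=
    hf ((yon S).map ψ ≫ a) b φ hψa hb (by rw [Category.assoc]; exact sq.w.symm)
  obtain ⟨v, hv⟩ := surjective_ofPt_of_repWith_surjective b hbs (Points.map f x)
  have hpt : Points.ofPt b v = Points.ofPt (a ≫ f) u := by
    rw [hv, ← hxu]; rfl
  obtain ⟨w, hw₁, hw₂⟩ := exists_of_ofPt_eq_ofPt sq hpt
  refine ⟨V, b, v, hb, hv, ?_⟩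
  rw [← hd, ← hw₁, ← hw₂, ← ringKrullDim_stalk_eq_of_etale ψ.left w]
  exact ringKrullDim_stalk_apply_le_of_flat φ.left w

theorem hasAt_codim_zero_of_locP_flat {X Y : Sp S} (hY : IsAlgSpace Y) (f : X ⟶ Y)
    (hf : LocP @Flat f) (x : Points X)
    (hx : HasAt (fun U u => ringKrullDim ↥(U.presheaf.stalk u) = 0) X x) :
    HasAt (fun U u => ringKrullDim ↥(U.presheaf.stalk u) = 0) Y (Points.map f x) := by
  obtain ⟨V, b, v, hb, hv, hle⟩ := exists_chart_stalk_dim_le_of_locP_flat hY f hf x 0 hx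
  exact ⟨V, b, v, hb, hv, le_antisymm hle ringKrullDim_nonneg_of_nontrivial⟩

end Groth.Agent.Lib.Helper51.DimCharts
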