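import Mathlib.AlgebraicGeometry.ValuativeCriterion
import Mathlib.AlgebraicGeometry.Morphisms.QuasiCompact
import Mathlib.RingTheory.Ideal.MinimalPrime.Localization

set_option autoImplicit false
universe u

open CategoryTheory CategoryTheory.Limits AlgebraicGeometry IsLocalRing

namespace Groth.Agent.Lib.Helper51.ValRing

/-- a point in the closure of the image of a morphism of affine schemes is a specialization
of a point of the image. -/
theorem exists_specializes_of_mem_closure_range_spec {R B : CommRingCat.{u}} (ψ : B ⟶ R)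
    (u : Spec B) (hu : u ∈ closure (Set.range (Spec.map ψ))) :
    ∃ r : Spec R, Spec.map ψ r ⤳ u := by
  have h1 : u ∈ closure (Set.range (PrimeSpectrum.comap ψ.hom)) := hu
  rw [PrimeSpectrum.closure_range_comap] at h1
  have h1'' : (RingHom.ker ψ.hom : Set B) ⊆ PrimeSpectrum.asIdeal u := h1
  have h1' : RingHom.ker ψ.hom ≤ PrimeSpectrum.asIdeal u := SetLike.coe_subset_coe.mp h1''
  haveI : (PrimeSpectrum.asIdeal u).IsPrime := PrimeSpectrum.isPrime u
  obtain ⟨p₀, hp₀, hle⟩ := Ideal.exists_minimalPrimes_le h1'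
  rw [RingHom.ker_eq_comap_bot] at hp₀
  obtain ⟨p', hp', -, hcomap⟩ := Ideal.exists_comap_eq_of_mem_minimalPrimes ψ.hom p₀ hp₀
  refine ⟨(⟨p', hp'⟩ : PrimeSpectrum R), ?_⟩
  have h5 : (PrimeSpectrum.comap ψ.hom ⟨p', hp'⟩ : PrimeSpectrum B) ≤ (u : PrimeSpectrum B) := by
    change Ideal.comap ψ.hom p' ≤ PrimeSpectrum.asIdeal u
    rw [hcomap]
    exact hle
  exact (PrimeSpectrum.le_iff_specializes _ _).1 h5

/-- a point in the closure of the image of a quasi-compact morphism to an affine scheme is a
specialization of a point of the image. -/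
theorem exists_specializes_of_mem_closure_range {Q U : Scheme.{u}} (w : Q ⟶ U) [QuasiCompact w]
    [IsAffine U] (u : U) (hu : u ∈ closure (Set.range w)) : ∃ q₀ : Q, w q₀ ⤳ u := by
  have : CompactSpace Q := QuasiCompact.compactSpace_of_compactSpace w
  obtain ⟨R, g, hg⟩ := compactSpace_iff_exists.mp this
  let e := U.isoSpec
  let ψ : Γ(U, ⊤) ⟶ R := Spec.preimage (g ≫ w ≫ e.hom)
  have hψ : Spec.map ψ = g ≫ w ≫ e.hom := Spec.map_preimage _
  have hu' : e.hom u ∈ closure (Set.range (Spec.map ψ)) := by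
    have h2 : e.hom u ∈ closure (e.hom '' Set.range w) :=
      image_closure_subset_closure_image e.hom.continuous (Set.mem_image_of_mem _ hu)
    refine closure_mono ?_ h2
    rintro _ ⟨_, ⟨q, rfl⟩, rfl⟩
    obtain ⟨r, rfl⟩ := hg q
    exact ⟨r, by rw [hψ]; rfl⟩
  obtain ⟨r, hr⟩ := exists_specializes_of_mem_closure_range_spec ψ (e.hom u) hu'
  refine ⟨g r, ?_⟩
  have h3 := hr.map e.inv.continuous
  rw [hψ] at h3
  simpa using h3

/-- a specialization `g q₀ ⤳ p` is realised by a valuation ring whose generic point lifts to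
the source of `g`. -/
theorem exists_valuationRing_of_specializes_map {Q P : Scheme.{u}} (g : Q ⟶ P) (q₀ : Q) {p : P}
    (h : g q₀ ⤳ p) :
    ∃ (A : Type u) (_ : CommRing A) (_ : IsDomain A) (_ : ValuationRing A)
      (ι : Spec (CommRingCat.of A) ⟶ P) (ξ : Spec (CommRingCat.of (FractionRing A)) ⟶ Q),
      ι (closedPoint A) = p ∧
        ξ ≫ g = Spec.map (CommRingCat.ofHom (algebraMap A (FractionRing A))) ≫ ι := by
  let K := Q.residueField q₀
  let stp : P.presheaf.stalk p ⟶ K :=
    P.presheaf.stalkSpecializes h ≫ g.stalkMap q₀ ≫ Q.residue q₀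
  obtain ⟨A, hA, hA_local⟩ := exists_factor_valuationRing stp.hom
  let stA : P.presheaf.stalk p ⟶ .of A :=
    CommRingCat.ofHom (stp.hom.codRestrict _ hA)
  let e : FractionRing A ≃ₐ[A] K := FractionRing.algEquiv A K
  let ξ : Spec (CommRingCat.of (FractionRing A)) ⟶ Q :=
    Spec.map (CommRingCat.ofHom (e.symm : K →+* FractionRing A)) ≫ Q.fromSpecResidueField q₀
  refine ⟨A, inferInstance, inferInstance, inferInstance,
    Spec.map stA ≫ P.fromSpecStalk p, ξ, ?_, ?_⟩
  · have : Spec.map stA (closedPoint A) = closedPoint (P.presheaf.stalk p) :=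
      comap_closedPoint (S := A) (stp.hom.codRestrict A.toSubring hA)
    exact Eq.trans (congrArg (P.fromSpecStalk p) this) P.fromSpecStalk_closedPoint
  · have hring : stp ≫ CommRingCat.ofHom (e.symm : K →+* FractionRing A) =
        stA ≫ CommRingCat.ofHom (algebraMap A (FractionRing A)) := by
      ext x
      change e.symm (stp.hom x) = algebraMap A (FractionRing A) ⟨stp.hom x, hA x⟩
      rw [← e.symm.commutes]
      rfl
    change (Spec.map _ ≫ Q.fromSpecResidueField q₀) ≫ g = _
    rw [Scheme.fromSpecResidueField, Category.assoc, Category.assoc,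
      ← Scheme.SpecMap_stalkMap_fromSpecStalk,
      ← Scheme.SpecMap_stalkSpecializes_fromSpecStalk h]
    simp only [← Spec.map_comp_assoc]
    rw [← hring]
    rfl

end Groth.Agent.Lib.Helper51.ValRing
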