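import Groth.Agent.S4450
import Groth.Agent.Lib.Helper51.SchemeValRing
import Mathlib.RingTheory.PowerSeries.Inverse

set_option autoImplicit false
universe u

open CategoryTheory CategoryTheory.Limits AlgebraicGeometry IsLocalRing

namespace Groth.Agent.Lib.Helper51.ValRing

/-- a specialization `g q₀ ⤳ p` in a locally Noetherian scheme, for `g` locally of finite type,
is realised by a discrete valuation ring whose generic point lifts to the source of `g`. -/
theorem exists_dvr_of_specializes_map {Q P : Scheme.{u}} [IsLocallyNoetherian P] (g : Q ⟶ P)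
    [LocallyOfFiniteType g] (q₀ : Q) {p : P} (h : g q₀ ⤳ p) :
    ∃ (A : Type u) (_ : CommRing A) (_ : IsDomain A) (_ : IsDiscreteValuationRing A)
      (ι : Spec (CommRingCat.of A) ⟶ P) (ξ : Spec (CommRingCat.of (FractionRing A)) ⟶ Q),
      ι (closedPoint A) = p ∧
        ξ ≫ g = Spec.map (CommRingCat.ofHom (algebraMap A (FractionRing A))) ≫ ι := by
  by_cases hne : p = g q₀
  · -- the point is in the image: use a power series ring over the residue field
    let K₀ := Q.residueField q₀
    let A := PowerSeries K₀
    let c : K₀ ⟶ CommRingCat.of A := CommRingCat.ofHom (PowerSeries.C : K₀ →+* PowerSeries K₀)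
    refine ⟨A, inferInstance, inferInstance, inferInstance,
      Spec.map c ≫ Q.fromSpecResidueField q₀ ≫ g,
      Spec.map (CommRingCat.ofHom (algebraMap A (FractionRing A))) ≫ Spec.map c ≫
        Q.fromSpecResidueField q₀, ?_, ?_⟩
    · rw [hne]
      exact congrArg g (Scheme.fromSpecResidueField_apply q₀ _)
    · simp only [Category.assoc]
  · obtain ⟨A, hh, hA, hcl, hcomp⟩ := Groth.Agent.S4450.main4450 g q₀ p h hne
    let e : FractionRing A ≃ₐ[A] (Q.residueField q₀) := FractionRing.algEquiv A _
    refine ⟨A, inferInstance, inferInstance, hA, hh,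
      Spec.map (CommRingCat.ofHom (e.symm : (Q.residueField q₀) →+* FractionRing A)) ≫
        Q.fromSpecResidueField q₀, hcl, ?_⟩
    rw [Category.assoc, ← hcomp, ← Spec.map_comp_assoc]
    congr 2
    ext x
    change e.symm (algebraMap A _ x) = algebraMap A (FractionRing A) x
    exact e.symm.commutes x

end Groth.Agent.Lib.Helper51.ValRing
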