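import Groth.Agent.Lib.Helper51.AlgSpValSchIm
import Groth.Agent.Lib.Helper51.SchemeDvrSpec

set_option autoImplicit false
set_option linter.unusedSectionVars false
universe u
open CategoryTheory CategoryTheory.Limits AlgebraicGeometry Opposite

set_option backward.isDefEq.respectTransparency false

namespace Groth.Agent.Lib.Helper51.KerAt

open AlgSp Groth.Agent.Lib.Helper52 Groth.Agent.Lib.Helper51

variable {S : Scheme.{u}}

/-- a locally Noetherian affine etale chart through a point of a locally Noetherian space. -/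
theorem exists_affine_noeth_etale_chart_at {Y : AlgSp.Sp S} (hYn : AlgSp.IsLocNoethSp Y)
    (y : Points Y) : ∃ (U : Over S) (φ : (AlgSp.yon S).obj U ⟶ Y) (u : ↥U.left),
      IsAffine U.left ∧ IsLocallyNoetherian U.left ∧ AlgSp.RepWith @Etale φ ∧
        Points.ofPt φ u = y := by
  obtain ⟨U1, φ1, hφ1e, hφ1s, hU1⟩ := hYn
  obtain ⟨u1, hu1⟩ := surjective_ofPt_of_repWith_surjective φ1 hφ1s y
  obtain ⟨U0, hU0, hu1U0, -⟩ := exists_isAffineOpen_mem_and_subset
    (TopologicalSpace.Opens.mem_top u1)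
  have hea : AlgSp.RepWith @Etale ((AlgSp.yon S).map (opensOverι U1 U0) ≫ φ1) :=
    (AlgSp.RepWith @Etale).comp_mem _ _
      ((AlgSp.repWith_yon_map_iff @Etale _).2 inferInstance) hφ1e
  have hN : IsLocallyNoetherian (opensOver U1 U0).left :=
    isLocallyNoetherian_of_isOpenImmersion U0.ι
  refine ⟨opensOver U1 U0, _, (⟨u1, hu1U0⟩ : ↥(U0 : Scheme.{u})), hU0, hN, hea, ?_⟩
  rw [ofPt_yon_map_comp, ← hu1]
  rfl

/-- a point in the closure of the image of a morphism of finite type to a locally Noetherian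
space is reached by a discrete valuation ring whose generic point lifts. -/
theorem exists_dvr_diagram_of_mem_closure_image {X Y : AlgSp.Sp S} (hX : AlgSp.IsAlgSpace X)
    (hY : AlgSp.IsAlgSpace Y) (f : X ⟶ Y) (hft : AlgSp.IsFiniteTypeMor f)
    (hYn : AlgSp.IsLocNoethSp Y) (y : AlgSp.Points Y)
    (hy : y ∈ closure (Set.range (AlgSp.Points.map f))) :
    ∃ (A : Type u) (_ : CommRing A) (_ : IsDomain A) (_ : IsDiscreteValuationRing A)
      (a : Spec (CommRingCat.of A) ⟶ S) (α : (AlgSp.yon S).obj (Over.mk a) ⟶ Y)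
      (κ : (AlgSp.yon S).obj (Over.mk (Spec.map (CommRingCat.ofHom
        (algebraMap A (FractionRing A))) ≫ a)) ⟶ X),
      κ ≫ f = (AlgSp.yon S).map (Over.homMk (Spec.map (CommRingCat.ofHom
        (algebraMap A (FractionRing A))))) ≫ α ∧
      AlgSp.Points.map α (AlgSp.Points.schemeEquiv (Over.mk a) (IsLocalRing.closedPoint A)) =
        y := by
  obtain ⟨U, φ, u, hU, hUn, hφ, hu⟩ := exists_affine_noeth_etale_chart_at hYn y
  haveI : IsAffine U.left := hU
  haveI : IsLocallyNoetherian U.left := hUn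
  obtain ⟨Q, q, w, hqe, hqs, hw, hwq, -⟩ := exists_qc_chart hX hY f hft.2 φ
  haveI : QuasiCompact w.left := hwq
  -- `w` is locally of finite type
  have hae : AlgSp.RepWith @Etale (q ≫ pullback.fst f φ) :=
    (AlgSp.RepWith @Etale).comp_mem _ _ hqe
      (MorphismProperty.of_isPullback (IsPullback.of_hasPullback f φ).flip hφ)
  have hcomm : (q ≫ pullback.fst f φ) ≫ f = (AlgSp.yon S).map w ≫ φ := by
    rw [hw, Category.assoc, Category.assoc, pullback.condition]
  haveI : LocallyOfFiniteType w.left := hft.1 _ φ w hae hφ hcomm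
  -- `u` is in the closure of the image of `w`
  have h1 : u ∈ closure (Set.range w.left) := by
    rw [mem_closure_iff]
    intro N hN huN
    have hopen : IsOpen (Points.ofPt φ '' N) := isOpenMap_ofPt_of_etale φ hφ N hN
    obtain ⟨_, ⟨n, hnN, rfl⟩, ⟨x, hx⟩⟩ :=
      mem_closure_iff.1 hy _ hopen ⟨u, huN, hu⟩
    rw [Points.ofPt_eq_map_ofScheme] at hx
    obtain ⟨ω, hω₁, hω₂⟩ := exists_point_of_isPullback (IsPullback.of_hasPullback f φ) x
      (Points.ofScheme U n) hx
    obtain ⟨q₁, hq₁⟩ := surjective_ofPt_of_repWith_surjective q hqs ω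
    refine ⟨n, hnN, q₁, ?_⟩
    have h2 : Points.ofPt ((AlgSp.yon S).map w) q₁ = Points.ofScheme U n := by
      rw [hw, ← Points.map_ofPt, hq₁, hω₂]
    have h3 : Points.ofPt ((AlgSp.yon S).map w) q₁ = Points.ofScheme U (w.left q₁) := by
      have := ofPt_yon_map_comp w (𝟙 _) q₁
      rw [Category.comp_id] at this
      rw [this]
    rw [h3] at h2
    exact (Points.schemeEquiv U).injective h2
  obtain ⟨q₀, hq₀⟩ := ValRing.exists_specializes_of_mem_closure_range w.left u h1
  obtain ⟨A, iA, iD, iV, ι, ξ, hι, hξ⟩ := ValRing.exists_dvr_of_specializes_map w.left q₀ hq₀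
  have hξ' : ξ ≫ Q.hom = Spec.map (CommRingCat.ofHom (algebraMap A (FractionRing A))) ≫
      ι ≫ U.hom := by
    rw [← Over.w w, ← Category.assoc, hξ, Category.assoc]
  let ι' : Over.mk (ι ≫ U.hom) ⟶ U := Over.homMk ι rfl
  let ξ' : Over.mk (Spec.map (CommRingCat.ofHom (algebraMap A (FractionRing A))) ≫
      ι ≫ U.hom) ⟶ Q := Over.homMk ξ hξ'
  refine ⟨A, iA, iD, iV, ι ≫ U.hom, (AlgSp.yon S).map ι' ≫ φ,
    (AlgSp.yon S).map ξ' ≫ q ≫ pullback.fst f φ, ?_, ?_⟩
  · have hOver : ξ' ≫ w = (Over.homMk (Spec.map (CommRingCat.ofHom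
        (algebraMap A (FractionRing A)))) rfl : Over.mk (Spec.map (CommRingCat.ofHom
        (algebraMap A (FractionRing A))) ≫ ι ≫ U.hom) ⟶ Over.mk (ι ≫ U.hom)) ≫ ι' := by
      apply Over.OverMorphism.ext
      exact hξ
    have hyon := congrArg (fun k => (AlgSp.yon S).map k ≫ φ) hOver
    simp only [Functor.map_comp, Category.assoc] at hyon
    calc ((AlgSp.yon S).map ξ' ≫ q ≫ pullback.fst f φ) ≫ f
        = (AlgSp.yon S).map ξ' ≫ (AlgSp.yon S).map w ≫ φ := by
          rw [hw]; simp only [Category.assoc]; rw [pullback.condition]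
      _ = _ := hyon
  · change Points.map _ (Points.ofScheme _ _) = y
    rw [← Points.ofPt_eq_map_ofScheme, ofPt_yon_map_comp]
    change Points.ofPt φ (ι (IsLocalRing.closedPoint A)) = y
    rw [hι, hu]

end Groth.Agent.Lib.Helper51.KerAt
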