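import Groth.Agent.Lib.Helper51.AlgSpDvrSep
import Groth.Agent.Lib.Helper51.AlgSpPoints
import Groth.Agent.S9209

set_option autoImplicit false
set_option linter.unusedSectionVars false
universe u
set_option maxHeartbeats 400000
set_option backward.isDefEq.respectTransparency false

open CategoryTheory CategoryTheory.Limits AlgebraicGeometry MorphismProperty AlgSp Opposite

namespace Groth.Agent.Lib.Helper51.DvrSep

variable {S : Scheme.{u}}

open Groth.Agent.Lib.Helper30 Groth.Agent.Lib.Helper52 Groth.Agent.Lib.Helper51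

/-- dense-image refinement, chart piece. -/
theorem univClosed_chart_of_dense_dvr {U W Z : Sp S} (h : U ⟶ W) (g : W ⟶ Z) [Mono g]
    (hlft : RepWith @LocallyOfFiniteType g) (hqc : RepWith @QuasiCompact g)
    (hh : IsFiniteTypeMor h) (hdense : Dense (Set.range (Points.map h)))
    (hval : ∀ sq : ValSq (h ≫ g), IsDiscreteValuationRing sq.A →
      ∃ l : (yon S).obj sq.ptA ⟶ W, (yon S).map sq.j ≫ l = sq.top ≫ h ∧ l ≫ g = sq.bot)
    {T₀ V₀ : Over S} (τ : (yon S).obj T₀ ⟶ Z) (fst : (yon S).obj V₀ ⟶ W) (snd : V₀ ⟶ T₀)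
    (sq : IsPullback fst ((yon S).map snd) g τ) (hτ : RepWith @Etale τ)
    [CompactSpace T₀.left] [IsLocallyNoetherian T₀.left] :
    UniversallyClosed snd.left := by
  haveI h2 : LocallyOfFiniteType snd.left := hlft.2 τ fst snd sq
  haveI h4 : QuasiCompact snd.left := hqc.2 τ fst snd sq
  haveI h3 : Mono snd.left := by
    have : Mono ((AlgSp.yon S).map snd) :=
      MorphismProperty.of_isPullback (P := MorphismProperty.monomorphisms _) sq ‹Mono g›
    have : Mono snd := (AlgSp.yon S).mono_of_mono_map this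
    exact inferInstanceAs (Mono ((Over.forget S).map snd))
  haveI : CompactSpace V₀.left := QuasiCompact.compactSpace_of_compactSpace snd.left
  haveI : IsLocallyNoetherian V₀.left := LocallyOfFiniteType.isLocallyNoetherian snd.left
  have hfst : RepWith @Etale fst := MorphismProperty.of_isPullback (P := RepWith @Etale) sq.flip hτ
  -- the fibre product U' = U ×_W V₀
  have sqU : IsPullback (pullback.fst h fst) (pullback.snd h fst) h fst :=
    IsPullback.of_hasPullback h fst
  have hV₀qc : IsQuasiCompactSp ((yon S).obj V₀) :=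
    ⟨V₀, 𝟙 _, repWith_id @Etale V₀, repWith_id @Surjective V₀, inferInstance⟩
  have hU'qc : IsQuasiCompactSp (pullback h fst) :=
    hh.2 (IsAlgSpace.yon_obj V₀) hV₀qc fst _ _ sqU
  obtain ⟨U₀, a₀, ha₀e, ha₀s, hU₀c⟩ := hU'qc
  haveI : CompactSpace U₀.left := hU₀c
  obtain ⟨h₀, hh₀⟩ := (yon S).map_surjective (a₀ ≫ pullback.snd h fst)
  have hpr₁ : RepWith @Etale (pullback.fst h fst) :=
    MorphismProperty.of_isPullback (P := RepWith @Etale) sqU.flip hfst
  have hc : RepWith @Etale (a₀ ≫ pullback.fst h fst) :=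
    (RepWith (S := S) @Etale).comp_mem _ _ ha₀e hpr₁
  have hcomm : (a₀ ≫ pullback.fst h fst) ≫ h = (yon S).map h₀ ≫ fst := by
    rw [hh₀, Category.assoc, Category.assoc, sqU.w]
  haveI : LocallyOfFiniteType h₀.left := hh.1 _ fst h₀ hc hfst hcomm
  haveI : QuasiCompact h₀.left := inferInstance
  have hd : DenseRange h₀.left.base := by
    rw [DenseRange, dense_iff_inter_open]
    intro O hO hOne
    have hopen : IsOpen (Points.ofPt fst '' O) := isOpenMap_ofPt_of_etale fst hfst O hO
    obtain ⟨v, hv⟩ := hOne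
    obtain ⟨_, ⟨v', hv'O, rfl⟩, ⟨x, hx⟩⟩ :=
      hdense.inter_open_nonempty _ hopen ⟨_, ⟨v, hv, rfl⟩⟩
    have hxv : Points.map h x = Points.map fst (Points.ofScheme V₀ v') := by
      rw [hx, ← Points.ofPt_eq_map_ofScheme]
    obtain ⟨z, hz1, hz2⟩ := exists_point_of_isPullback sqU x (Points.ofScheme V₀ v') hxv
    obtain ⟨u₀, rfl⟩ := surjective_ofPt_of_repWith_surjective a₀ ha₀s z
    refine ⟨v', hv'O, u₀, ?_⟩
    apply ofScheme_injective V₀
    rw [← hz2, Points.map_ofPt, ← hh₀, Points.ofPt_eq_map_ofScheme, map_yon_map_ofScheme]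
  have : IsProper snd.left := by
    refine Groth.Agent.S9209.result snd.left h₀.left hd ?_
    intro A _ _ _ u y huy
    have hu : u ≫ U₀.hom =
        Spec.map (CommRingCat.ofHom (algebraMap A (FractionRing A))) ≫ y ≫ T₀.hom := by
      rw [← Over.w h₀, ← Over.w snd, ← Category.assoc, ← Category.assoc, Category.assoc u, huy,
        Category.assoc]
    let uo : Over.mk (Spec.map (CommRingCat.ofHom (algebraMap A (FractionRing A))) ≫ y ≫ T₀.hom) ⟶
        U₀ := Over.homMk u hu
    let yo : Over.mk (y ≫ T₀.hom) ⟶ T₀ := Over.homMk y rfl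
    let jo : Over.mk (Spec.map (CommRingCat.ofHom (algebraMap A (FractionRing A))) ≫ y ≫ T₀.hom) ⟶
        Over.mk (y ≫ T₀.hom) :=
      Over.homMk (Spec.map (CommRingCat.ofHom (algebraMap A (FractionRing A)))) rfl
    have hov : uo ≫ h₀ ≫ snd = jo ≫ yo := by
      ext
      exact huy
    let vsq : ValSq (h ≫ g) :=
      { A := A, K := FractionRing A, str := y ≫ T₀.hom
        top := (yon S).map uo ≫ a₀ ≫ pullback.fst h fst
        bot := (yon S).map yo ≫ τ
        comm := by
          have e1 : ((yon S).map uo ≫ a₀ ≫ pullback.fst h fst) ≫ h ≫ g =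
              (yon S).map (uo ≫ h₀ ≫ snd) ≫ τ := by
            rw [Functor.map_comp, Functor.map_comp, hh₀]
            simp only [Category.assoc]
            rw [← sq.w, ← Category.assoc (pullback.fst h fst), sqU.w]
            simp only [Category.assoc]
          have e2 : (yon S).map jo ≫ (yon S).map yo ≫ τ = (yon S).map (jo ≫ yo) ≫ τ := by
            rw [Functor.map_comp, Category.assoc]
          rw [e1, hov]
          exact e2.symm }
    obtain ⟨l, hl1, hl2⟩ := hval vsq ‹_›
    have hl2' : l ≫ g = (yon S).map yo ≫ τ := hl2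
    have hl1' : (yon S).map jo ≫ l = ((yon S).map uo ≫ a₀ ≫ pullback.fst h fst) ≫ h := hl1
    let L : (yon S).obj (Over.mk (y ≫ T₀.hom)) ⟶ (yon S).obj V₀ :=
      sq.lift l ((yon S).map yo) hl2'
    have hL1 : L ≫ fst = l := sq.lift_fst _ _ _
    have hL2 : L ≫ (yon S).map snd = (yon S).map yo := sq.lift_snd _ _ _
    let l' : Over.mk (y ≫ T₀.hom) ⟶ V₀ := (yon S).preimage L
    have hl' : (yon S).map l' = L := (yon S).map_preimage L
    refine ⟨l'.left, ?_, ?_⟩
    · have : l' ≫ snd = yo := by
        apply (yon S).map_injective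
        rw [Functor.map_comp, hl', hL2]
      exact congrArg (fun m => m.left) this
    · have : jo ≫ l' = uo ≫ h₀ := by
        apply (yon S).map_injective
        rw [Functor.map_comp, hl']
        apply sq.hom_ext
        · rw [Category.assoc, hL1, hl1', Functor.map_comp, hh₀]
          simp only [Category.assoc]
          rw [sqU.w]
        · rw [Category.assoc, hL2, ← Functor.map_comp, ← Functor.map_comp, ← hov, Category.assoc]
      exact congrArg (fun m => m.left) this
  infer_instance

/-- dense-image refinement of `repWith_univClosed_of_dvr_hasLift`. -/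
theorem repWith_univClosed_of_dense_dvr {U W Z : Sp S} (h : U ⟶ W) (g : W ⟶ Z) [Mono g]
    (hlft : RepWith @LocallyOfFiniteType g) (hqc : RepWith @QuasiCompact g)
    (hZ : IsLocNoethSp Z)
    (hh : IsFiniteTypeMor h) (hdense : Dense (Set.range (Points.map h)))
    (hval : ∀ sq : ValSq (h ≫ g), IsDiscreteValuationRing sq.A →
      ∃ l : (yon S).obj sq.ptA ⟶ W, (yon S).map sq.j ≫ l = sq.top ≫ h ∧ l ≫ g = sq.bot) :
    RepWith @UniversallyClosed g := by
  have hg : Representable g := hlft.1
  obtain ⟨T, t, hte, hts, hT⟩ := hZ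
  have sqP := hg.isPullback t
  refine repWith_of_etale_cover @UniversallyClosed sqP hg hte hts ?_
  rw [repWith_yon_map_iff]
  haveI : IsLocallyNoetherian T.left := hT
  apply IsZariskiLocalAtTarget.of_openCover (P := @UniversallyClosed) T.left.affineCover
  intro i
  let Ti : Over S := Over.mk (T.left.affineCover.f i ≫ T.hom)
  let ei : Ti ⟶ T := Over.homMk (T.left.affineCover.f i) rfl
  obtain ⟨Wi, w1, w2, sqW, sqWl⟩ := isPullback_over' (hg.snd t) ei
  have big := (sqW.map (AlgSp.yon S)).paste_horiz sqP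
  have hτ : RepWith @Etale ((yon S).map ei ≫ t) :=
    (RepWith (S := S) @Etale).comp_mem _ _
      ((repWith_yon_map_iff @Etale ei).2 (inferInstanceAs (Etale (T.left.affineCover.f i)))) hte
  haveI : CompactSpace Ti.left := inferInstanceAs (CompactSpace (T.left.affineCover.X i))
  haveI : IsLocallyNoetherian Ti.left :=
    isLocallyNoetherian_of_isOpenImmersion (T.left.affineCover.f i)
  have hUC : UniversallyClosed w2.left :=
    univClosed_chart_of_dense_dvr h g hlft hqc hh hdense hval _ _ w2 big hτ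
  have hiso : sqWl.isoPullback.hom ≫ pullback.snd (hg.snd t).left ei.left = w2.left :=
    sqWl.isoPullback_hom_snd
  rw [← hiso] at hUC
  exact (MorphismProperty.cancel_left_of_respectsIso @UniversallyClosed _ _).1 hUC

/-- quasi-separated with universally closed diagonal is separated. -/
theorem isSeparatedMor_of_univClosed_diagonal {X Y : AlgSp.Sp S} (hX : AlgSp.IsAlgSpace X)
    (hY : AlgSp.IsAlgSpace Y) (f : X ⟶ Y) (hqs : AlgSp.IsQuasiSeparatedMor f)
    (hUC : RepWith @UniversallyClosed (pullback.diagonal f)) : AlgSp.IsSeparatedMor f := by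
  have hlft := repWith_loft_diagonal hX hY f
  refine ⟨hqs.1, ?_⟩
  intro T V g fst snd sq
  show IsClosedImmersion snd.left
  have h1 : UniversallyClosed snd.left := hUC.2 g fst snd sq
  have h2 : LocallyOfFiniteType snd.left := hlft.2 g fst snd sq
  have h3 : Mono snd.left := by
    have : Mono ((AlgSp.yon S).map snd) := by
      have : Mono (pullback.diagonal f) := inferInstance
      exact MorphismProperty.of_isPullback (P := MorphismProperty.monomorphisms _) sq this
    have : Mono snd := (AlgSp.yon S).mono_of_mono_map this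
    exact inferInstanceAs (Mono ((Over.forget S).map snd))
  have h4 : QuasiCompact snd.left := hqs.2 g fst snd sq
  have h5 : IsProper snd.left := { }
  exact (IsClosedImmersion.iff_isProper_and_mono _).2 ⟨h5, h3⟩

open Groth.Agent.Lib.Helper78.AlgSpLocP Groth.Agent.Lib.Helper78.AlgSpBasic Groth.Agent.Lib.Helper78.AlgSpLocPLoft Groth.Agent.Lib.Helper78.AlgSpFibre in
theorem isLocNoethSp_pullback_self {X Y : AlgSp.Sp S} (hX : AlgSp.IsAlgSpace X)
    (hY : AlgSp.IsAlgSpace Y) (f : X ⟶ Y)
    (hft : AlgSp.LocP @LocallyOfFiniteType f) (hYn : AlgSp.IsLocNoethSp Y) :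
    AlgSp.IsLocNoethSp (pullback f f) := by
  have hH : AlgSp.IsAlgSpace (pullback f f) :=
    isAlgSpace_of_isPullback hY.diag hX hX (IsPullback.of_hasPullback f f)
  have hfst : AlgSp.LocP @LocallyOfFiniteType (pullback.fst f f) :=
    locP_of_isPullback etLocalST_loft (IsPullback.of_hasPullback f f).flip
      (repAll_of_isAlgSpace hY) hX.atlas hY.atlas hft
  have hcomp : AlgSp.LocP @LocallyOfFiniteType (pullback.fst f f ≫ f) :=
    locP_comp etLocalST_loft _ _ hX.atlas hfst hft
  exact Groth.Agent.Lib.Helper78.NoethFP.isLocNoethSp_of_locP_loft hH _ hcomp hYn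

/-- refined DVR criterion for separatedness (dense image version). -/
theorem isSeparatedMor_of_dense_dvr_uniq {U X Y : AlgSp.Sp S} (hX : AlgSp.IsAlgSpace X)
    (hY : AlgSp.IsAlgSpace Y) (h : U ⟶ X) (f : X ⟶ Y) (hYn : AlgSp.IsLocNoethSp Y)
    (hflt : AlgSp.LocP @LocallyOfFiniteType f) (hfqs : AlgSp.IsQuasiSeparatedMor f)
    (hh : AlgSp.IsFiniteTypeMor h) (hdense : Dense (Set.range (AlgSp.Points.map h)))
    (hval : ∀ sq : AlgSp.ValSq (h ≫ f), IsDiscreteValuationRing sq.A →
      ∀ l l' : (AlgSp.yon S).obj sq.ptA ⟶ X,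
        (AlgSp.yon S).map sq.j ≫ l = sq.top ≫ h ∧ l ≫ f = sq.bot →
        (AlgSp.yon S).map sq.j ≫ l' = sq.top ≫ h ∧ l' ≫ f = sq.bot → l = l') :
    AlgSp.IsSeparatedMor f := by
  refine isSeparatedMor_of_univClosed_diagonal hX hY f hfqs ?_
  refine repWith_univClosed_of_dense_dvr h (pullback.diagonal f) (repWith_loft_diagonal hX hY f)
    hfqs (isLocNoethSp_pullback_self hX hY f hflt hYn) hh hdense ?_
  intro sq hdvr
  have hc1 : (AlgSp.yon S).map sq.j ≫ sq.bot ≫ pullback.fst f f = sq.top ≫ h := by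
    have := congrArg (fun t => t ≫ pullback.fst f f) sq.comm
    simpa using this.symm
  have hc2 : (AlgSp.yon S).map sq.j ≫ sq.bot ≫ pullback.snd f f = sq.top ≫ h := by
    have := congrArg (fun t => t ≫ pullback.snd f f) sq.comm
    simpa using this.symm
  let sq_f : AlgSp.ValSq (h ≫ f) :=
    { A := sq.A, K := sq.K, str := sq.str, top := sq.top
      bot := (sq.bot ≫ pullback.fst f f) ≫ f
      comm := by
        rw [← Category.assoc, ← hc1]
        simp only [Category.assoc] }
  have hab : sq.bot ≫ pullback.fst f f = sq.bot ≫ pullback.snd f f :=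
    hval sq_f hdvr _ _ ⟨hc1, rfl⟩ ⟨hc2, by
      show (sq.bot ≫ pullback.snd f f) ≫ f = (sq.bot ≫ pullback.fst f f) ≫ f
      rw [Category.assoc, Category.assoc, pullback.condition]⟩
  refine ⟨sq.bot ≫ pullback.fst f f, hc1, ?_⟩
  apply pullback.hom_ext
  · simp
  · simp [hab]

end Groth.Agent.Lib.Helper51.DvrSep
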