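import Groth.Agent.Lib.Helper30.AlgSpValuative2
import Groth.Agent.Lib.Helper30.AlgSpDesc
import Groth.Agent.Lib.Helper78.NoethFP
import Groth.Agent.S9213
import Groth.Agent.Lib.Helper78.AlgSpFpqcSingle
import Groth.Agent.Lib.Helper78.AlgSpLocPLoft

set_option autoImplicit false
set_option linter.unusedSectionVars false
universe u
set_option maxHeartbeats 400000
set_option backward.isDefEq.respectTransparency false

open CategoryTheory CategoryTheory.Limits AlgebraicGeometry MorphismProperty AlgSp Opposite

namespace Groth.Agent.Lib.Helper51.DvrSep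

variable {S : Scheme.{u}}

open Groth.Agent.Lib.Helper30

/-- A representable morphism, locally of finite type and quasi-compact, to a locally Noetherian
space, all of whose DVR test squares have a dotted arrow, is universally closed. -/
theorem repWith_univClosed_of_dvr_hasLift {W Z : Sp S} (g : W ⟶ Z)
    (hlft : RepWith @LocallyOfFiniteType g) (hqc : RepWith @QuasiCompact g)
    (hZ : IsLocNoethSp Z)
    (h : ∀ sq : ValSq g, IsDiscreteValuationRing sq.A → sq.HasLift) :
    RepWith @UniversallyClosed g := by
  have hg : Representable g := hlft.1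
  obtain ⟨T, t, hte, hts, hT⟩ := hZ
  have sqP := hg.isPullback t
  refine repWith_of_etale_cover @UniversallyClosed sqP hg hte hts ?_
  rw [repWith_yon_map_iff]
  have : IsLocallyNoetherian T.left := hT
  have : LocallyOfFiniteType (hg.snd t).left := hlft.2 t _ _ sqP
  have : QuasiCompact (hg.snd t).left := hqc.2 t _ _ sqP
  rw [Groth.Agent.S9213.result]
  intro A _ _ _ x y hxy
  have hx : x ≫ (hg.pullback t).hom =
      Spec.map (CommRingCat.ofHom (algebraMap A (FractionRing A))) ≫ y ≫ T.hom := by
    rw [← Over.w (hg.snd t), ← Category.assoc, hxy, Category.assoc]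
  let xo : Over.mk (Spec.map (CommRingCat.ofHom (algebraMap A (FractionRing A))) ≫ y ≫ T.hom) ⟶
      hg.pullback t := Over.homMk x hx
  let yo : Over.mk (y ≫ T.hom) ⟶ T := Over.homMk y rfl
  let jo : Over.mk (Spec.map (CommRingCat.ofHom (algebraMap A (FractionRing A))) ≫ y ≫ T.hom) ⟶
      Over.mk (y ≫ T.hom) :=
    Over.homMk (Spec.map (CommRingCat.ofHom (algebraMap A (FractionRing A)))) rfl
  have hov : xo ≫ hg.snd t = jo ≫ yo := by
    ext
    exact hxy
  let sq : ValSq g :=
    { A := A, K := FractionRing A, str := y ≫ T.hom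
      top := (yon S).map xo ≫ hg.fst t
      bot := (yon S).map yo ≫ t
      comm := by
        have e1 : ((yon S).map xo ≫ hg.fst t) ≫ g = (yon S).map (xo ≫ hg.snd t) ≫ t := by
          rw [Category.assoc, sqP.w, Functor.map_comp, Category.assoc]
        have e2 : (yon S).map jo ≫ (yon S).map yo ≫ t = (yon S).map (jo ≫ yo) ≫ t := by
          rw [Functor.map_comp, Category.assoc]
        rw [e1, hov]
        exact e2.symm }
  obtain ⟨l, hl1, hl2⟩ := h sq ‹_›
  have hl2' : l ≫ g = (yon S).map yo ≫ t := hl2
  have hl1' : (yon S).map jo ≫ l = (yon S).map xo ≫ hg.fst t := hl1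
  let L : (yon S).obj (Over.mk (y ≫ T.hom)) ⟶ (yon S).obj (hg.pullback t) :=
    sqP.lift l ((yon S).map yo) hl2'
  have hL1 : L ≫ hg.fst t = l := sqP.lift_fst _ _ _
  have hL2 : L ≫ (yon S).map (hg.snd t) = (yon S).map yo := sqP.lift_snd _ _ _
  let l' : Over.mk (y ≫ T.hom) ⟶ hg.pullback t := (yon S).preimage L
  have hl' : (yon S).map l' = L := (yon S).map_preimage L
  refine ⟨l'.left, ?_, ?_⟩
  · have : l' ≫ hg.snd t = yo := by
      apply (yon S).map_injective
      rw [Functor.map_comp, hl', hL2]
    exact congrArg (fun m => m.left) this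
  · have : jo ≫ l' = xo := by
      apply (yon S).map_injective
      rw [Functor.map_comp, hl']
      apply sqP.hom_ext
      · rw [Category.assoc, hL1, hl1']
      · rw [Category.assoc, hL2, ← Functor.map_comp, ← Functor.map_comp, hov]
    exact congrArg (fun m => m.left) this

/-- Uniqueness for DVR squares of `f` gives existence for DVR squares of the diagonal. -/
theorem dvr_hasLift_diagonal_of_dvr_hasUniq {F G : AlgSp.Sp S} {f : F ⟶ G}
    (hu : ∀ sq : ValSq f, IsDiscreteValuationRing sq.A → sq.HasUniq) :
    ∀ sq : ValSq (pullback.diagonal f), IsDiscreteValuationRing sq.A → sq.HasLift := by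
  intro sq hdvr
  have hc1 : sq.top = (AlgSp.yon S).map sq.j ≫ sq.bot ≫ pullback.fst f f := by
    have := congrArg (fun t => t ≫ pullback.fst f f) sq.comm
    simpa using this
  have hc2 : sq.top = (AlgSp.yon S).map sq.j ≫ sq.bot ≫ pullback.snd f f := by
    have := congrArg (fun t => t ≫ pullback.snd f f) sq.comm
    simpa using this
  let sq_f : AlgSp.ValSq f :=
    { A := sq.A, K := sq.K, str := sq.str, top := sq.top
      bot := (sq.bot ≫ pullback.fst f f) ≫ f
      comm := by
        conv_lhs => rw [hc1]
        simp only [Category.assoc] }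
  have hab : sq.bot ≫ pullback.fst f f = sq.bot ≫ pullback.snd f f :=
    hu sq_f hdvr _ _ hc1.symm rfl hc2.symm (by
      show (sq.bot ≫ pullback.snd f f) ≫ f = (sq.bot ≫ pullback.fst f f) ≫ f
      rw [Category.assoc, Category.assoc, pullback.condition])
  refine ⟨sq.bot ≫ pullback.fst f f, hc1.symm, ?_⟩
  apply pullback.hom_ext
  · simp
  · simp [hab]

open Groth.Agent.Lib.Helper78.AlgSpLocP Groth.Agent.Lib.Helper78.AlgSpBasic Groth.Agent.Lib.Helper78.AlgSpLocPLoft Groth.Agent.Lib.Helper78.AlgSpFibre in
/-- DVR criterion for separatedness over a locally Noetherian base. -/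
theorem isSeparatedMor_of_dvr_hasUniq {X Y : AlgSp.Sp S} (hX : AlgSp.IsAlgSpace X)
    (hY : AlgSp.IsAlgSpace Y) (f : X ⟶ Y) (hqs : AlgSp.IsQuasiSeparatedMor f)
    (hft : AlgSp.LocP @LocallyOfFiniteType f) (hYn : AlgSp.IsLocNoethSp Y)
    (hu : ∀ sq : ValSq f, IsDiscreteValuationRing sq.A → sq.HasUniq) :
    AlgSp.IsSeparatedMor f := by
  have hH : AlgSp.IsAlgSpace (pullback f f) :=
    isAlgSpace_of_isPullback hY.diag hX hX (IsPullback.of_hasPullback f f)
  have hlft := repWith_loft_diagonal hX hY f
  have hfst : AlgSp.LocP @LocallyOfFiniteType (pullback.fst f f) :=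
    locP_of_isPullback etLocalST_loft (IsPullback.of_hasPullback f f).flip
      (repAll_of_isAlgSpace hY) hX.atlas hY.atlas hft
  have hcomp : AlgSp.LocP @LocallyOfFiniteType (pullback.fst f f ≫ f) :=
    locP_comp etLocalST_loft _ _ hX.atlas hfst hft
  have hHn : AlgSp.IsLocNoethSp (pullback f f) :=
    Groth.Agent.Lib.Helper78.NoethFP.isLocNoethSp_of_locP_loft hH _ hcomp hYn
  have hUC : RepWith @UniversallyClosed (pullback.diagonal f) :=
    repWith_univClosed_of_dvr_hasLift _ hlft hqs hHn (dvr_hasLift_diagonal_of_dvr_hasUniq hu)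
  refine ⟨hqs.1, ?_⟩
  intro T V g fst snd sq
  show IsClosedImmersion snd.left
  have h1 : UniversallyClosed snd.left := hUC.2 g fst snd sq
  have h2 : LocallyOfFiniteType snd.left := hlft.2 g fst snd sq
  have h3 : Mono snd.left := by
    have : Mono ((AlgSp.yon S).map snd) := by
      have : Mono (pullback.diagonal f) := inferInstance
      exact MorphismProperty.of_isPullback (P := MorphismProperty.monomorphisms _) sq this
    have : Mono snd := (AlgSp.yon S).mono_of_mono_map this
    exact inferInstanceAs (Mono ((Over.forget S).map snd))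
  have h4 : QuasiCompact snd.left := hqs.2 g fst snd sq
  have h5 : IsProper snd.left := { }
  exact (IsClosedImmersion.iff_isProper_and_mono _).2 ⟨h5, h3⟩

end Groth.Agent.Lib.Helper51.DvrSep
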