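import Groth.Agent.Lib.Helper40.AlgSpBasic
import Groth.Agent.Lib.Helper51.AlgSpPoints
import Groth.Prelude.Def_AlgSpRep
import Groth.Prelude.Def_AlgSp4

set_option autoImplicit false
universe u
open CategoryTheory CategoryTheory.Limits AlgebraicGeometry Opposite
open AlgSp

namespace Groth.Agent.Lib.Helper51.Boot

variable {S : Scheme.{u}}

set_option backward.isDefEq.respectTransparency false

open Groth.Agent.Lib.Helper52

theorem epi_of_repBySpWith {F G : Sp S} (a : F ⟶ G)
    (ha : RepBySpWith (IsSurjectiveMor ⊓ LocP @Flat ⊓ LocP @LocallyOfFinitePresentation) a.hom) :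
    Epi a := by
  rw [repBySpWith_hom_iff] at ha
  have : Sheaf.IsLocallySurjective a := by
    refine ⟨fun {T} ξ => ?_⟩
    let ξ' : (yon S).obj T ⟶ G := (J S).uliftYonedaEquiv.symm ξ
    have sq := IsPullback.of_hasPullback a ξ'
    obtain ⟨halg, ⟨hsurj, hflat⟩, hlfp⟩ := ha ξ' _ _ sq
    obtain ⟨V, p, hpe, hps⟩ := halg.atlas
    let g₀ : V ⟶ T := (yon S).preimage (p ≫ pullback.snd a ξ')
    have hg₀ : (yon S).map g₀ = p ≫ pullback.snd a ξ' := Functor.map_preimage _ _
    have hcomm : p ≫ pullback.snd a ξ' = (yon S).map g₀ ≫ 𝟙 _ := by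
      rw [Category.comp_id, hg₀]
    have hid : RepWith @Etale (𝟙 ((yon S).obj T)) := repWith_id _ T
    have h1 : Flat g₀.left := hflat p (𝟙 _) g₀ hpe hid hcomm
    have h2 : LocallyOfFinitePresentation g₀.left := hlfp p (𝟙 _) g₀ hpe hid hcomm
    have h3 : Surjective g₀.left := by
      refine ⟨fun t => ?_⟩
      obtain ⟨x, hx⟩ := hsurj (Points.ofScheme T t)
      obtain ⟨v, hv⟩ := surjective_ofPt_of_repWith_surjective p hps x
      refine ⟨v, ?_⟩
      apply ofScheme_injective T
      have : Points.ofPt (p ≫ pullback.snd a ξ') v = Points.ofScheme T t := by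
        rw [← Points.map_ofPt, hv, hx]
      rw [← hg₀] at this
      have h4 := ofPt_yon_map_comp g₀ (𝟙 ((yon S).obj T)) v
      rw [Category.comp_id] at h4
      rw [h4] at this
      exact this
    refine Groth.Agent.Lib.Helper40.AlgSpBasic.mem_J_of_mem _ g₀ ?_ h1 h2 h3
    -- the section over `V` lifting `ξ`
    refine ⟨(J S).uliftYonedaEquiv (p ≫ pullback.fst a ξ'), ?_⟩
    have e1 : (p ≫ pullback.fst a ξ') ≫ a = (yon S).map g₀ ≫ ξ' := by
      rw [Category.assoc, pullback.condition, ← Category.assoc, hg₀]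
    have e2 := congrArg (J S).uliftYonedaEquiv e1
    rw [GrothendieckTopology.uliftYonedaEquiv_comp,
      ← GrothendieckTopology.uliftYonedaEquiv_naturality, Equiv.apply_symm_apply] at e2
    exact e2
  infer_instance

end Groth.Agent.Lib.Helper51.Boot
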