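import Groth.Agent.Lib.Helper51.AlgSpEtPoint
import Mathlib.FieldTheory.IsAlgClosed.AlgebraicClosure

/-!
Geometric points form a conservative family of points of the small etale site (helper51).
-/

set_option autoImplicit false
set_option linter.unusedSectionVars false
universe v₂ u₂ u
open CategoryTheory CategoryTheory.Limits AlgebraicGeometry Opposite

set_option backward.isDefEq.respectTransparency false

namespace Groth.Agent.Lib.Helper51

open AlgSp Groth.Agent.Lib.Helper52

variable {S : Scheme.{u}} {X : AlgSp.Sp S}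

/-- A presieve of the small etale site which is jointly surjective on points is covering. -/
theorem mem_etPre_of_forall_mem_range {E : AlgSp.EtOver X} {R : Presieve E}
    (h : ∀ x : ↥E.obj.left.left, ∃ (Y : AlgSp.EtOver X) (g : Y ⟶ E),
      R g ∧ x ∈ Set.range g.hom.left.left) : R ∈ AlgSp.etPre X E := by
  show R.map (AlgSp.EtOver.toScheme X) ∈ Scheme.etalePrecoverage _
  refine ⟨?_, ?_⟩
  · show (R.map (AlgSp.EtOver.toScheme X)).map Scheme.forget ∈
      Types.jointlySurjectivePrecoverage _
    intro x
    obtain ⟨Y, g, hg, hx⟩ := h x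
    exact ⟨_, _, ⟨⟨hg⟩⟩, hx⟩
  · rintro _ _ ⟨hg⟩
    exact AlgSp.EtOver.etale_left _

/-- The morphism defined by a field-valued point of a representable sheaf. -/
theorem toHom_mk_yon {T : Over S} (K : Type u) [Field K] (str : Spec (CommRingCat.of K) ⟶ S)
    (a : Over.mk str ⟶ T) :
    (⟨K, str, ⟨a⟩⟩ : AlgSp.FieldPt ((AlgSp.yon S).obj T)).toHom = (AlgSp.yon S).map a := by
  apply (AlgSp.J S).uliftYonedaEquiv.injective
  rw [AlgSp.FieldPt.uliftYonedaEquiv_toHom, GrothendieckTopology.uliftYonedaEquiv_uliftYoneda_map]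

/-- Through every point of a scheme etale over `X` passes a geometric point of `X`. -/
theorem exists_geometric_lift_through (E : AlgSp.EtOver X) (x : ↥E.obj.left.left) :
    ∃ (p : AlgSp.FieldPt X) (_ : p.IsGeometric) (e : (AlgSp.FieldPt.liftsTo p).obj E),
      e.1.left (IsLocalRing.closedPoint p.K) = x := by
  let K := AlgebraicClosure (E.obj.left.left.residueField x)
  let ι : E.obj.left.left.residueField x ⟶ CommRingCat.of K :=
    CommRingCat.ofHom (algebraMap (E.obj.left.left.residueField x)
      (AlgebraicClosure (E.obj.left.left.residueField x)))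
  let a0 : Spec (CommRingCat.of K) ⟶ E.obj.left.left :=
    Spec.map ι ≫ E.obj.left.left.fromSpecResidueField x
  let str : Spec (CommRingCat.of K) ⟶ S := a0 ≫ E.obj.left.hom
  let a : Over.mk str ⟶ E.obj.left := Over.homMk a0 rfl
  let q : AlgSp.FieldPt ((AlgSp.yon S).obj E.obj.left) := ⟨K, str, ⟨a⟩⟩
  have hq : q.toHom = (AlgSp.yon S).map a := toHom_mk_yon K str a
  refine ⟨q.map E.obj.hom, (inferInstance : IsAlgClosed K), ⟨a, ?_⟩, ?_⟩
  · rw [AlgSp.FieldPt.toHom_map, hq]
  · show a0 _ = x
    rw [Scheme.Hom.comp_apply, Scheme.fromSpecResidueField_apply]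

/-- The family of points of the small etale site defined by geometric points. -/
def geomPoints (hX : AlgSp.IsAlgSpace X) :
    ObjectProperty (GrothendieckTopology.Point.{u + 1} (AlgSp.etTop X)) :=
  fun Φ => ∃ (p : AlgSp.FieldPt X) (hp : p.IsGeometric), Φ = geomPoint hX p hp

/-- Geometric points form a conservative family of points of the small etale site. -/
theorem isConservative_geomPoints (hX : AlgSp.IsAlgSpace X) :
    (geomPoints hX).IsConservativeFamilyOfPoints := by
  apply ObjectProperty.IsConservativeFamilyOfPoints.mk'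
  intro E R hR
  rw [← Sieve.generate_sieve R]
  apply Precoverage.generate_mem_toGrothendieck
  apply mem_etPre_of_forall_mem_range
  intro x
  obtain ⟨p, hp, e, he⟩ := exists_geometric_lift_through E x
  obtain ⟨Y, g, hg, y, hy⟩ := hR ⟨geomPoint hX p hp, ⟨p, hp, rfl⟩⟩ (ULift.up e)
  refine ⟨Y, g, hg, y.down.1.left (IsLocalRing.closedPoint p.K), ?_⟩
  have h1 : (AlgSp.FieldPt.liftsTo p).map g y.down = e := congrArg ULift.down hy
  have h2 : y.down.1 ≫ g.hom.left = e.1 := congrArg Subtype.val h1
  rw [← he, ← h2]
  rfl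

end Groth.Agent.Lib.Helper51
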