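import Groth.Agent.Lib.Helper51.AlgSpEtPointSmall
import Groth.Agent.Lib.Helper51.AlgSpEtConservative
import Groth.Prelude.Def_AlgSpOX

/-!
Germs of sections of sheaves on the small etale site at geometric points (helper51).
-/

set_option autoImplicit false
set_option linter.unusedSectionVars false
universe u
open CategoryTheory CategoryTheory.Limits AlgebraicGeometry Opposite

set_option backward.isDefEq.respectTransparency false

namespace Groth.Agent.Lib.Helper51

open AlgSp Groth.Agent.Lib.Helper52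

variable {S : Scheme.{u}} {X : AlgSp.Sp S}

/-- The image in `|X|` of the point under a lift of a field-valued point is the class of the
point. -/
theorem ofPt_liftsTo (p : AlgSp.FieldPt X) {E : AlgSp.EtOver X}
    (l : (AlgSp.FieldPt.liftsTo p).obj E) :
    Points.ofPt E.obj.hom (l.1.left (IsLocalRing.closedPoint p.K)) = Points.mk p := by
  rw [← ofPt_yon_map_comp, l.2, Points.ofPt_toHom]

theorem liftsTo_map_apply (p : AlgSp.FieldPt X) {E E' : AlgSp.EtOver X} (f : E ⟶ E')
    (y : (AlgSp.FieldPt.liftsTo p).obj E) :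
    ((AlgSp.FieldPt.liftsTo p).map f y).1.left (IsLocalRing.closedPoint p.K) =
      f.hom.left.left (y.1.left (IsLocalRing.closedPoint p.K)) := rfl

/-- Two sections of an abelian sheaf have the same germ at a geometric point if and only if they
agree on a smaller etale neighbourhood. -/
theorem stalkEtι_eq_iff_ab (hX : AlgSp.IsAlgSpace X) (p : AlgSp.FieldPt X) (hp : p.IsGeometric)
    (F : AlgSp.AbEt X) (N : AlgSp.EtNbhd p) (z₁ z₂ : ↥(F.obj.obj (op N.1))) :
    (AlgSp.stalkEtι p F N).hom z₁ = (AlgSp.stalkEtι p F N).hom z₂ ↔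
      ∃ (E : AlgSp.EtOver X) (f : E ⟶ N.1) (y : (AlgSp.FieldPt.liftsTo p).obj E),
        (AlgSp.FieldPt.liftsTo p).map f y = N.2 ∧
          (F.obj.map f.op).hom z₁ = (F.obj.map f.op).hom z₂ := by
  have : HasColimitsOfSize.{u, u} AddCommGrpCat.{u + 1} :=
    hasColimitsOfSizeShrink.{u, u, u + 1, u + 1} _
  have : PreservesFilteredColimitsOfSize.{u, u} (forget AddCommGrpCat.{u + 1}) :=
    preservesFilteredColimitsOfSize_shrink.{u, u + 1, u, u + 1} _
  exact (geomPointSmall hX p hp).toPresheafFiber_eq_iff' (P := F.obj) N.1 N.2 z₁ z₂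

/-- The germ of a section of an abelian sheaf at a geometric point vanishes if and only if the
section vanishes on a smaller etale neighbourhood. -/
theorem stalkEtι_eq_zero_iff_ab (hX : AlgSp.IsAlgSpace X) (p : AlgSp.FieldPt X)
    (hp : p.IsGeometric) (F : AlgSp.AbEt X) (N : AlgSp.EtNbhd p) (z : ↥(F.obj.obj (op N.1))) :
    (AlgSp.stalkEtι p F N).hom z = 0 ↔
      ∃ (E : AlgSp.EtOver X) (f : E ⟶ N.1) (y : (AlgSp.FieldPt.liftsTo p).obj E),
        (AlgSp.FieldPt.liftsTo p).map f y = N.2 ∧ (F.obj.map f.op).hom z = 0 := by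
  have h := stalkEtι_eq_iff_ab hX p hp F N z 0
  simp only [map_zero] at h
  exact h

/-- Every element of the stalk of an abelian sheaf at a geometric point is a germ. -/
theorem exists_stalkEtι_eq_ab (hX : AlgSp.IsAlgSpace X) (p : AlgSp.FieldPt X)
    (hp : p.IsGeometric) (F : AlgSp.AbEt X) (s : ↥(AlgSp.stalkEt p F)) :
    ∃ (N : AlgSp.EtNbhd p) (z : ↥(F.obj.obj (op N.1))), (AlgSp.stalkEtι p F N).hom z = s := by
  have : HasColimitsOfSize.{u, u} AddCommGrpCat.{u + 1} :=
    hasColimitsOfSizeShrink.{u, u, u + 1, u + 1} _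
  have : PreservesFilteredColimitsOfSize.{u, u} (forget AddCommGrpCat.{u + 1}) :=
    preservesFilteredColimitsOfSize_shrink.{u, u + 1, u, u + 1} _
  obtain ⟨E, x, z, hz⟩ :=
    (geomPointSmall hX p hp).toPresheafFiber_jointly_surjective (P := F.obj) s
  exact ⟨⟨E, x⟩, z, hz⟩

/-- The support of an abelian sheaf on the small etale site in terms of sections. -/
theorem exists_not_isZero_stalkEt_iff (hX : AlgSp.IsAlgSpace X) (F : AlgSp.AbEt X)
    (x : Points X) :
    (∃ p : AlgSp.FieldPt X, p.IsGeometric ∧ Points.mk p = x ∧ ¬ IsZero (AlgSp.stalkEt p F)) ↔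
      ∃ (U : AlgSp.EtOver X) (σ : ↥(F.obj.obj (op U))) (u : ↥U.obj.left.left),
        Points.ofPt U.obj.hom u = x ∧
          ∀ (V : AlgSp.EtOver X) (φ : V ⟶ U), (F.obj.map φ.op).hom σ = 0 →
            u ∉ Set.range (fun v => φ.hom.left.left v) := by
  constructor
  · rintro ⟨p, hp, rfl, hF⟩
    have hex : ∃ s : ↥(AlgSp.stalkEt p F), s ≠ 0 := by
      by_contra hcon
      have hcon : ∀ s : ↥(AlgSp.stalkEt p F), s = 0 := fun s => by
        by_contra hs
        exact hcon ⟨s, hs⟩
      apply hF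
      have : Subsingleton ↥(AlgSp.stalkEt p F) := ⟨fun a b => (hcon a).trans (hcon b).symm⟩
      exact AddCommGrpCat.isZero_of_subsingleton _
    obtain ⟨s, hs⟩ := hex
    obtain ⟨N, σ, hσ⟩ := exists_stalkEtι_eq_ab hX p hp F s
    refine ⟨N.1, σ, N.2.1.left (IsLocalRing.closedPoint p.K), ofPt_liftsTo p N.2, ?_⟩
    rintro V φ hφ hu
    apply hs
    obtain ⟨y, hy⟩ := exists_liftsTo_of_mem_range p hp φ N.2 hu
    rw [← hσ]
    exact (stalkEtι_eq_zero_iff_ab hX p hp F N σ).2 ⟨V, φ, y, hy, hφ⟩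
  · rintro ⟨U, σ, u, rfl, h⟩
    obtain ⟨p, hp, l, hl⟩ := exists_geometric_lift_through U u
    refine ⟨p, hp, ?_, ?_⟩
    · rw [← hl]
      exact (ofPt_liftsTo p l).symm
    · intro hz
      have h0 : (AlgSp.stalkEtι p F ⟨U, l⟩).hom σ = 0 := by
        have : Subsingleton ↥(AlgSp.stalkEt p F) :=
          AddCommGrpCat.isZero_iff_subsingleton.1 hz
        exact Subsingleton.elim _ _
      obtain ⟨E, f, y, hy, hf⟩ := (stalkEtι_eq_zero_iff_ab hX p hp F ⟨U, l⟩ σ).1 h0
      apply h E f hf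
      refine ⟨y.1.left (IsLocalRing.closedPoint p.K), ?_⟩
      show f.hom.left.left (y.1.left (IsLocalRing.closedPoint p.K)) = u
      rw [← liftsTo_map_apply, hy]
      exact hl

end Groth.Agent.Lib.Helper51
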