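import Groth.Agent.Lib.Helper51.AlgSpGeomPt
import Groth.Prelude.Def_AlgSpOX3

/-!
Etale neighbourhoods of a geometric point of an algebraic space (helper51).
-/

set_option autoImplicit false
set_option linter.unusedSectionVars false
universe u
open CategoryTheory CategoryTheory.Limits AlgebraicGeometry Opposite

set_option backward.isDefEq.respectTransparency false

namespace Groth.Agent.Lib.Helper51

/-- Lifting a point with values in an algebraically closed field along an etale morphism of
schemes whose image contains the point. -/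
theorem exists_lift_of_etale_of_mem_range {Y E : Scheme.{u}} {K : Type u} [Field K]
    [IsAlgClosed K] (g : Y ⟶ E) [Etale g] (e : Spec (CommRingCat.of K) ⟶ E)
    (h : e (IsLocalRing.closedPoint K) ∈ Set.range g) :
    ∃ y : Spec (CommRingCat.of K) ⟶ Y, y ≫ g = e := by
  obtain ⟨y0, hy0⟩ := h
  obtain ⟨z, -, -⟩ := Scheme.Pullback.exists_preimage_pullback (f := g) (g := e) y0
    (IsLocalRing.closedPoint K) hy0
  obtain ⟨s, hs, -⟩ := exists_section_of_etale_of_isAlgClosed (pullback.snd g e) z
  refine ⟨s ≫ pullback.fst g e, ?_⟩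
  rw [Category.assoc, pullback.condition, ← Category.assoc, hs, Category.id_comp]

open AlgSp Groth.Agent.Lib.Helper52

variable {S : Scheme.{u}} {X : AlgSp.Sp S}

/-- Membership in the etale precoverage of the small etale site, for general presieves. -/
theorem exists_mem_range_of_mem_etPre {E : AlgSp.EtOver X} {R : Presieve E}
    (hR : R ∈ AlgSp.etPre X E) (x : ↥E.obj.left.left) :
    ∃ (Y : AlgSp.EtOver X) (g : Y ⟶ E), R g ∧ x ∈ Set.range g.hom.left.left := by
  have h1 : R.map (AlgSp.EtOver.toScheme X) ∈ Scheme.etalePrecoverage _ := hR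
  have h2 : (R.map (AlgSp.EtOver.toScheme X)).map Scheme.forget ∈
      Types.jointlySurjectivePrecoverage _ := h1.1
  obtain ⟨_, _, ⟨⟨hg⟩⟩, hx⟩ := h2 x
  exact ⟨_, _, hg, hx⟩

/-- Lifting a geometric point along a morphism of the small etale site whose image contains the
image of the point. -/
theorem exists_liftsTo_of_mem_range (p : AlgSp.FieldPt X) (hp : p.IsGeometric)
    {Y E : AlgSp.EtOver X} (g : Y ⟶ E) (e : (AlgSp.FieldPt.liftsTo p).obj E)
    (h : e.1.left (IsLocalRing.closedPoint p.K) ∈ Set.range g.hom.left.left) :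
    ∃ y : (AlgSp.FieldPt.liftsTo p).obj Y, (AlgSp.FieldPt.liftsTo p).map g y = e := by
  have : IsAlgClosed p.K := hp
  have : Etale g.hom.left.left := AlgSp.EtOver.etale_left g
  obtain ⟨y0, hy0⟩ := exists_lift_of_etale_of_mem_range (K := p.K) g.hom.left.left e.1.left h
  let y1 : p.pt ⟶ Y.obj.left := Over.homMk y0 (by
    have h1 : g.hom.left.left ≫ E.obj.left.hom = Y.obj.left.hom := Over.w g.hom.left
    have h2 : e.1.left ≫ E.obj.left.hom = p.str := Over.w e.1
    show y0 ≫ Y.obj.left.hom = p.str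
    rw [← h1, ← Category.assoc, hy0, h2])
  have hy1 : y1 ≫ g.hom.left = e.1 := by
    apply Over.OverMorphism.ext
    exact hy0
  refine ⟨⟨y1, ?_⟩, ?_⟩
  · rw [← AlgSp.EtOver.w g, ← Category.assoc, ← Functor.map_comp, hy1]
    exact e.2
  · apply Subtype.ext
    exact hy1

/-- A covering presieve of the small etale site lifts geometric points. -/
theorem exists_liftsTo_of_mem_etPre (p : AlgSp.FieldPt X) (hp : p.IsGeometric)
    {E : AlgSp.EtOver X} {R : Presieve E} (hR : R ∈ AlgSp.etPre X E)
    (e : (AlgSp.FieldPt.liftsTo p).obj E) :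
    ∃ (Y : AlgSp.EtOver X) (g : Y ⟶ E) (_ : R g) (y : (AlgSp.FieldPt.liftsTo p).obj Y),
      (AlgSp.FieldPt.liftsTo p).map g y = e := by
  obtain ⟨Y, g, hg, hx⟩ := exists_mem_range_of_mem_etPre hR
    (e.1.left (IsLocalRing.closedPoint p.K))
  obtain ⟨y, hy⟩ := exists_liftsTo_of_mem_range p hp g e hx
  exact ⟨Y, g, hg, y, hy⟩

/-- A covering family of the small etale site lifts geometric points. -/
theorem exists_liftsTo_of_ofArrows_mem_etPre (p : AlgSp.FieldPt X) (hp : p.IsGeometric)
    {E : AlgSp.EtOver X} {ι : Type u} (Ui : ι → AlgSp.EtOver X) (g : ∀ i, Ui i ⟶ E)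
    (hcov : Presieve.ofArrows Ui g ∈ AlgSp.etPre X E) (e : (AlgSp.FieldPt.liftsTo p).obj E) :
    ∃ (i : ι) (ui : (AlgSp.FieldPt.liftsTo p).obj (Ui i)),
      (AlgSp.FieldPt.liftsTo p).map (g i) ui = e := by
  obtain ⟨i, hi⟩ := (AlgSp.ofArrows_mem_etPre_iff Ui g).1 hcov
    (e.1.left (IsLocalRing.closedPoint p.K))
  obtain ⟨y, hy⟩ := exists_liftsTo_of_mem_range p hp (g i) e hi
  exact ⟨i, y, hy⟩

end Groth.Agent.Lib.Helper51
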