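import Mathlib.CategoryTheory.Filtered.Basic
import Mathlib.CategoryTheory.Elements
import Mathlib.CategoryTheory.Types.Basic

/-!
A criterion for the category of elements of a functor to be cofiltered (helper51).
-/

set_option autoImplicit false
universe w w' v u
open CategoryTheory

namespace Groth.Agent.Lib.Helper51

variable {C : Type u} [Category.{v} C]

/-- The elementwise conditions making the category of elements of `F` cofiltered. -/
structure ElemCofiltered (F : C ⥤ Type w) : Prop where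
  nonempty : ∃ X : C, Nonempty (F.obj X)
  cone_objs : ∀ (X Y : C) (x : F.obj X) (y : F.obj Y),
    ∃ (Z : C) (z : F.obj Z) (f : Z ⟶ X) (g : Z ⟶ Y), F.map f z = x ∧ F.map g z = y
  cone_maps : ∀ (X Y : C) (x : F.obj X) (f g : X ⟶ Y), F.map f x = F.map g x →
    ∃ (Z : C) (z : F.obj Z) (h : Z ⟶ X), F.map h z = x ∧ h ≫ f = h ≫ g

theorem ElemCofiltered.isCofiltered {F : C ⥤ Type w} (h : ElemCofiltered F) :
    IsCofiltered F.Elements := by
  obtain ⟨X0, ⟨x0⟩⟩ := h.nonempty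
  have : Nonempty F.Elements := ⟨⟨X0, x0⟩⟩
  have : IsCofilteredOrEmpty F.Elements := by
    constructor
    · rintro ⟨X, x⟩ ⟨Y, y⟩
      obtain ⟨Z, z, f, g, hf, hg⟩ := h.cone_objs X Y x y
      exact ⟨⟨Z, z⟩, ⟨f, hf⟩, ⟨g, hg⟩, trivial⟩
    · rintro ⟨X, x⟩ ⟨Y, y⟩ ⟨f, hf⟩ ⟨g, hg⟩
      obtain ⟨Z, z, k, hk, hfg⟩ := h.cone_maps X Y x f g (hf.trans hg.symm)
      refine ⟨⟨Z, z⟩, ⟨k, hk⟩, ?_⟩
      apply CategoryOfElements.ext
      exact hfg
  constructor

theorem ElemCofiltered.ulift {F : C ⥤ Type w} (h : ElemCofiltered F) :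
    ElemCofiltered (F ⋙ uliftFunctor.{w'}) where
  nonempty := by
    obtain ⟨X0, ⟨x0⟩⟩ := h.nonempty
    exact ⟨X0, ⟨ULift.up x0⟩⟩
  cone_objs := by
    rintro X Y ⟨x⟩ ⟨y⟩
    obtain ⟨Z, z, f, g, hf, hg⟩ := h.cone_objs X Y x y
    exact ⟨Z, ULift.up z, f, g, congrArg ULift.up hf, congrArg ULift.up hg⟩
  cone_maps := by
    rintro X Y ⟨x⟩ f g hfg
    obtain ⟨Z, z, k, hk, hkk⟩ := h.cone_maps X Y x f g (congrArg ULift.down hfg)
    exact ⟨Z, ULift.up z, k, congrArg ULift.up hk, hkk⟩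

end Groth.Agent.Lib.Helper51
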