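import Groth.Agent.Lib.Helper51.AlgSpEtNbhd
import Groth.Agent.Lib.Helper51.ElementsCofiltered

/-!
The category of etale neighbourhoods of a geometric point is cofiltered (helper51).
-/

set_option autoImplicit false
set_option linter.unusedSectionVars false
universe u
open CategoryTheory CategoryTheory.Limits AlgebraicGeometry Opposite

set_option backward.isDefEq.respectTransparency false

namespace Groth.Agent.Lib.Helper51

open AlgSp Groth.Agent.Lib.Helper52

variable {S : Scheme.{u}} {X : AlgSp.Sp S}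

theorem liftsTo_nonempty (hX : AlgSp.IsAlgSpace X) (p : AlgSp.FieldPt X) (hp : p.IsGeometric) :
    ∃ E : AlgSp.EtOver X, Nonempty ((AlgSp.FieldPt.liftsTo p).obj E) := by
  obtain ⟨U, φ, hφe, hφs⟩ := hX.atlas
  obtain ⟨v, hv⟩ := surjective_ofPt_of_repWith_surjective φ hφs (Points.mk p)
  obtain ⟨vbar, h1, -⟩ := exists_lift_of_etale_chart φ hφe p hp v hv
  exact ⟨AlgSp.EtOver.mk φ hφe, ⟨⟨vbar, h1⟩⟩⟩

theorem liftsTo_cone_objs (p : AlgSp.FieldPt X) (E1 E2 : AlgSp.EtOver X)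
    (e1 : (AlgSp.FieldPt.liftsTo p).obj E1) (e2 : (AlgSp.FieldPt.liftsTo p).obj E2) :
    ∃ (E3 : AlgSp.EtOver X) (e3 : (AlgSp.FieldPt.liftsTo p).obj E3) (f : E3 ⟶ E1) (g : E3 ⟶ E2),
      (AlgSp.FieldPt.liftsTo p).map f e3 = e1 ∧ (AlgSp.FieldPt.liftsTo p).map g e3 = e2 := by
  obtain ⟨W, φ, ψ, sq⟩ := exists_isPullback_of_representable E1.property.1 E2.obj.hom
  have hψ : Etale ψ.left := E1.property.2 E2.obj.hom _ ψ sq
  have hc : AlgSp.RepWith @Etale ((AlgSp.yon S).map ψ ≫ E2.obj.hom) :=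
    (AlgSp.RepWith @Etale).comp_mem _ _ ((AlgSp.repWith_yon_map_iff @Etale ψ).2 hψ) E2.property
  let l : (AlgSp.yon S).obj p.pt ⟶ (AlgSp.yon S).obj W :=
    sq.lift ((AlgSp.yon S).map e1.1) ((AlgSp.yon S).map e2.1) (e1.2.trans e2.2.symm)
  let e3 : p.pt ⟶ W := (AlgSp.yon S).preimage l
  have he3 : (AlgSp.yon S).map e3 = l := Functor.map_preimage _ _
  have h1 : e3 ≫ φ = e1.1 := (AlgSp.yon S).map_injective (by
    rw [Functor.map_comp, he3]; exact sq.lift_fst _ _ _)
  have h2 : e3 ≫ ψ = e2.1 := (AlgSp.yon S).map_injective (by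
    rw [Functor.map_comp, he3]; exact sq.lift_snd _ _ _)
  refine ⟨AlgSp.EtOver.mk ((AlgSp.yon S).map ψ ≫ E2.obj.hom) hc, ⟨e3, ?_⟩,
    AlgSp.EtOver.homMk φ sq.w, AlgSp.EtOver.homMk ψ rfl, ?_, ?_⟩
  · show (AlgSp.yon S).map e3 ≫ (AlgSp.yon S).map ψ ≫ E2.obj.hom = p.toHom
    rw [← Category.assoc, ← Functor.map_comp, h2]
    exact e2.2
  · apply Subtype.ext
    exact h1
  · apply Subtype.ext
    exact h2

theorem liftsTo_cone_maps (p : AlgSp.FieldPt X) (E1 E2 : AlgSp.EtOver X)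
    (e1 : (AlgSp.FieldPt.liftsTo p).obj E1) (f g : E1 ⟶ E2)
    (hfg : (AlgSp.FieldPt.liftsTo p).map f e1 = (AlgSp.FieldPt.liftsTo p).map g e1) :
    ∃ (E3 : AlgSp.EtOver X) (e3 : (AlgSp.FieldPt.liftsTo p).obj E3) (h : E3 ⟶ E1),
      (AlgSp.FieldPt.liftsTo p).map h e3 = e1 ∧ h ≫ f = h ≫ g := by
  -- the kernel pair of the chart `E2`
  obtain ⟨R, r1, r2, sq⟩ := exists_isPullback_of_representable E2.property.1 E2.obj.hom
  have hr1 : Etale r2.left := E2.property.2 E2.obj.hom _ r2 sq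
  -- the diagonal
  let δ' : (AlgSp.yon S).obj E2.obj.left ⟶ (AlgSp.yon S).obj R := sq.lift (𝟙 _) (𝟙 _) rfl
  let δ : E2.obj.left ⟶ R := (AlgSp.yon S).preimage δ'
  have hδ : (AlgSp.yon S).map δ = δ' := Functor.map_preimage _ _
  have hδ1 : δ ≫ r1 = 𝟙 _ := (AlgSp.yon S).map_injective (by
    rw [Functor.map_comp, hδ, CategoryTheory.Functor.map_id]; exact sq.lift_fst _ _ _)
  have hδ2 : δ ≫ r2 = 𝟙 _ := (AlgSp.yon S).map_injective (by
    rw [Functor.map_comp, hδ, CategoryTheory.Functor.map_id]; exact sq.lift_snd _ _ _)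
  have hδe : Etale δ.left := by
    refine MorphismProperty.HasOfPostcompProperty.of_postcomp (W := @Etale) δ.left r2.left hr1 ?_
    rw [← Over.comp_left, hδ2, Over.id_left]
    infer_instance
  -- the pair `(f, g)`
  let k' : (AlgSp.yon S).obj E1.obj.left ⟶ (AlgSp.yon S).obj R :=
    sq.lift ((AlgSp.yon S).map f.hom.left) ((AlgSp.yon S).map g.hom.left)
      ((AlgSp.EtOver.w f).trans (AlgSp.EtOver.w g).symm)
  let k : E1.obj.left ⟶ R := (AlgSp.yon S).preimage k'
  have hk : (AlgSp.yon S).map k = k' := Functor.map_preimage _ _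
  have hk1 : k ≫ r1 = f.hom.left := (AlgSp.yon S).map_injective (by
    rw [Functor.map_comp, hk]; exact sq.lift_fst _ _ _)
  have hk2 : k ≫ r2 = g.hom.left := (AlgSp.yon S).map_injective (by
    rw [Functor.map_comp, hk]; exact sq.lift_snd _ _ _)
  -- the equaliser
  have hpb : IsPullback (pullback.fst k δ) (pullback.snd k δ) k δ := IsPullback.of_hasPullback k δ
  have hpb' := hpb.map (Over.forget S)
  have hfst : Etale (pullback.fst k δ).left :=
    MorphismProperty.of_isPullback (P := @Etale) hpb'.flip hδe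
  have hc : AlgSp.RepWith @Etale ((AlgSp.yon S).map (pullback.fst k δ) ≫ E1.obj.hom) :=
    (AlgSp.RepWith @Etale).comp_mem _ _
      ((AlgSp.repWith_yon_map_iff @Etale _).2 hfst) E1.property
  have hfe : e1.1 ≫ f.hom.left = e1.1 ≫ g.hom.left := congrArg Subtype.val hfg
  have hcond : e1.1 ≫ k = (e1.1 ≫ f.hom.left) ≫ δ := by
    apply (AlgSp.yon S).map_injective
    apply sq.hom_ext
    · rw [← Functor.map_comp, ← Functor.map_comp, Category.assoc, Category.assoc, hk1, hδ1,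
        Category.comp_id]
    · rw [← Functor.map_comp, ← Functor.map_comp, Category.assoc, Category.assoc, hk2, hδ2,
        Category.comp_id, hfe]
  let e3 : p.pt ⟶ pullback k δ := pullback.lift e1.1 (e1.1 ≫ f.hom.left) hcond
  have he3 : e3 ≫ pullback.fst k δ = e1.1 := pullback.lift_fst _ _ _
  let h : AlgSp.EtOver.mk ((AlgSp.yon S).map (pullback.fst k δ) ≫ E1.obj.hom) hc ⟶ E1 :=
    AlgSp.EtOver.homMk (pullback.fst k δ) rfl
  refine ⟨AlgSp.EtOver.mk ((AlgSp.yon S).map (pullback.fst k δ) ≫ E1.obj.hom) hc, ⟨e3, ?_⟩,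
    h, ?_, ?_⟩
  · show (AlgSp.yon S).map e3 ≫ (AlgSp.yon S).map (pullback.fst k δ) ≫ E1.obj.hom = p.toHom
    rw [← Category.assoc, ← Functor.map_comp, he3]
    exact e1.2
  · apply Subtype.ext
    exact he3
  · apply AlgSp.EtOver.hom_ext
    show pullback.fst k δ ≫ f.hom.left = pullback.fst k δ ≫ g.hom.left
    rw [← hk1, ← hk2, ← Category.assoc, ← Category.assoc, pullback.condition, Category.assoc,
      Category.assoc, hδ1, hδ2]

theorem elemCofiltered_liftsTo (hX : AlgSp.IsAlgSpace X) (p : AlgSp.FieldPt X)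
    (hp : p.IsGeometric) : ElemCofiltered (AlgSp.FieldPt.liftsTo p) where
  nonempty := liftsTo_nonempty hX p hp
  cone_objs := liftsTo_cone_objs p
  cone_maps := liftsTo_cone_maps p

/-- The category of etale neighbourhoods of a geometric point is cofiltered. -/
theorem isCofiltered_etNbhd (hX : AlgSp.IsAlgSpace X) (p : AlgSp.FieldPt X)
    (hp : p.IsGeometric) : IsCofiltered (AlgSp.EtNbhd p) :=
  (elemCofiltered_liftsTo hX p hp).isCofiltered

end Groth.Agent.Lib.Helper51
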