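import Groth.Agent.Lib.Helper51.ElementsCofiltered
import Mathlib.CategoryTheory.Sites.PrecoverageToGrothendieck
import Mathlib.CategoryTheory.Limits.Final

/-!
Generic lemmas on categories of elements used to build points of sites (helper51).
-/

set_option autoImplicit false
universe w w' v u₁ v₂ u₂
open CategoryTheory CategoryTheory.Limits Opposite

namespace Groth.Agent.Lib.Helper51

section Generic

variable {C : Type u₁} [Category.{v} C]

theorem jointly_surjective_of_precoverage (K : Precoverage C) (F : C ⥤ Type w)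
    (hF : ElemCofiltered F)
    (hK : ∀ {X : C} (R : Presieve X), R ∈ K X → ∀ x : F.obj X,
      ∃ (Y : C) (f : Y ⟶ X) (_ : R f) (y : F.obj Y), F.map f y = x)
    {X : C} (R : Sieve X) (h : R ∈ K.toGrothendieck X) (x : F.obj X) :
    ∃ (Y : C) (f : Y ⟶ X) (_ : R f) (y : F.obj Y), F.map f y = x := by
  have h' : K.Saturate X R := h
  induction h' with
  | of X S hS =>
    obtain ⟨Y, f, hf, y, hy⟩ := hK S hS x
    exact ⟨Y, f, Sieve.le_generate S _ _ hf, y, hy⟩
  | top X => exact ⟨X, 𝟙 X, trivial, x, by simp⟩
  | pullback X S hS Y f ih =>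
    obtain ⟨Z, g, hg, z, hz⟩ := ih hS (F.map f x)
    obtain ⟨W, w, a, b, ha, hb⟩ := hF.cone_objs Z Y z x
    have hab : F.map (a ≫ g) w = F.map (b ≫ f) w := by
      rw [Functor.map_comp_apply, Functor.map_comp_apply, ha, hb, hz]
    obtain ⟨W', w', k, hk, hkk⟩ := hF.cone_maps W X w (a ≫ g) (b ≫ f) hab
    refine ⟨W', k ≫ b, ?_, w', ?_⟩
    · show S ((k ≫ b) ≫ f)
      rw [Category.assoc, ← hkk, ← Category.assoc]
      exact S.downward_closed hg _
    · rw [Functor.map_comp_apply, hk, hb]
  | transitive X S R hS hR ih1 ih2 =>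
    obtain ⟨Y, f, hf, y, hy⟩ := ih1 hS x
    obtain ⟨Z, g, hg, z, hz⟩ := ih2 hf (hR hf) y
    refine ⟨Z, g ≫ f, hg, z, ?_⟩
    rw [Functor.map_comp_apply, hz, hy]

end Generic

section Ulift

variable {C : Type u₁} [Category.{v} C] (F : C ⥤ Type w)

/-- Lifting the universe of a functor to types does not change its category of elements. -/
def elementsUlift : F.Elements ⥤ (F ⋙ uliftFunctor.{w'}).Elements where
  obj N := ⟨N.1, ULift.up N.2⟩
  map f := ⟨f.1, congrArg ULift.up f.2⟩

def elementsUliftInv : (F ⋙ uliftFunctor.{w'}).Elements ⥤ F.Elements where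
  obj N := ⟨N.1, N.2.down⟩
  map f := ⟨f.1, congrArg ULift.down f.2⟩

def elementsUliftEquiv : F.Elements ≌ (F ⋙ uliftFunctor.{w'}).Elements where
  functor := elementsUlift F
  inverse := elementsUliftInv F
  unitIso := NatIso.ofComponents (fun N => Iso.refl _) (by
    intro X Y f
    apply CategoryOfElements.ext
    erw [Category.comp_id, Category.id_comp]
    rfl)
  counitIso := NatIso.ofComponents (fun N => Iso.refl _) (by
    intro X Y f
    apply CategoryOfElements.ext
    erw [Category.comp_id, Category.id_comp]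
    rfl)
  functor_unitIso_comp := by
    intro X
    apply CategoryOfElements.ext
    erw [Category.comp_id]
    rfl

instance : (elementsUlift.{w, w'} F).IsEquivalence :=
  (elementsUliftEquiv.{w, w'} F).isEquivalence_functor

theorem elementsUlift_comp_π :
    elementsUlift.{w, w'} F ⋙ CategoryOfElements.π (F ⋙ uliftFunctor.{w'}) =
      CategoryOfElements.π F := rfl

variable {A : Type u₂} [Category.{v₂} A]
  [HasColimitsOfShape (F.Elements)ᵒᵖ A] [HasColimitsOfShape ((F ⋙ uliftFunctor.{w'}).Elements)ᵒᵖ A]

/-- The colimit over the elements of `F` agrees with that over the elements of its universe lift. -/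
noncomputable def colimElementsUliftIso :
    (Functor.whiskeringLeft _ _ A).obj (CategoryOfElements.π (F ⋙ uliftFunctor.{w'})).op ⋙ colim ≅
      (Functor.whiskeringLeft _ _ A).obj (CategoryOfElements.π F).op ⋙ colim :=
  (Functor.isoWhiskerLeft _ (Functor.Final.colimIso (elementsUlift.{w, w'} F).op).symm)


end Ulift

end Groth.Agent.Lib.Helper51
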