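import Groth.Agent.Lib.Helper51.AlgSpEtNbhd2
import Groth.Agent.Lib.Helper51.ElementsCofiltered2
import Mathlib.CategoryTheory.Sites.Point.Basic
import Mathlib.CategoryTheory.Sites.Point.Skyscraper
import Mathlib.CategoryTheory.Sites.Point.Conservative

/-!
The point of the small etale site of an algebraic space defined by a geometric point, and
exactness of the stalk functors (helper51).
-/

set_option autoImplicit false
set_option linter.unusedSectionVars false
universe v₂ u₂ u
open CategoryTheory CategoryTheory.Limits AlgebraicGeometry Opposite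

set_option backward.isDefEq.respectTransparency false

namespace Groth.Agent.Lib.Helper51

open AlgSp Groth.Agent.Lib.Helper52

variable {S : Scheme.{u}} {X : AlgSp.Sp S}

/-- The point of the small etale site defined by a geometric point. -/
noncomputable def geomPoint (hX : AlgSp.IsAlgSpace X) (p : AlgSp.FieldPt X) (hp : p.IsGeometric) :
    GrothendieckTopology.Point.{u + 1} (AlgSp.etTop X) where
  fiber := AlgSp.FieldPt.liftsTo p ⋙ uliftFunctor.{u + 1}
  isCofiltered := ((elemCofiltered_liftsTo hX p hp).ulift).isCofiltered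
  initiallySmall := initiallySmall_of_essentiallySmall _
  jointly_surjective := by
    intro E R hR x
    refine jointly_surjective_of_precoverage (AlgSp.etPre X) _
      ((elemCofiltered_liftsTo hX p hp).ulift) ?_ R hR x
    intro E' R' hR' x'
    obtain ⟨Y, g, hg, y, hy⟩ := exists_liftsTo_of_mem_etPre p hp hR' x'.down
    exact ⟨Y, g, hg, ULift.up y, congrArg ULift.up hy⟩

theorem geomPoint_fiber (hX : AlgSp.IsAlgSpace X) (p : AlgSp.FieldPt X) (hp : p.IsGeometric) :
    (geomPoint hX p hp).fiber = AlgSp.FieldPt.liftsTo p ⋙ uliftFunctor.{u + 1} := rfl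

variable (A : Type u₂) [Category.{v₂} A] [HasColimitsOfSize.{u + 1, u + 1} A]

/-- The fibre functor of the point defined by a geometric point is the stalk functor. -/
noncomputable def presheafFiberIso (hX : AlgSp.IsAlgSpace X) (p : AlgSp.FieldPt X)
    (hp : p.IsGeometric) [HasColimitsOfShape (AlgSp.EtNbhd p)ᵒᵖ A] :
    (geomPoint hX p hp).presheafFiber (A := A) ≅ AlgSp.stalkEtPshFunctor A p :=
  haveI : HasColimitsOfShape
      ((AlgSp.FieldPt.liftsTo p ⋙ uliftFunctor.{u + 1}).Elements)ᵒᵖ A :=
    inferInstanceAs (HasColimitsOfShape (geomPoint hX p hp).fiber.Elementsᵒᵖ A)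
  colimElementsUliftIso.{u, u + 1} (AlgSp.FieldPt.liftsTo p)

/-- The fibre functor of the point defined by a geometric point is the stalk functor. -/
noncomputable def sheafFiberIso (hX : AlgSp.IsAlgSpace X) (p : AlgSp.FieldPt X)
    (hp : p.IsGeometric) [HasColimitsOfShape (AlgSp.EtNbhd p)ᵒᵖ A] :
    (geomPoint hX p hp).sheafFiber (A := A) ≅ AlgSp.stalkEtFunctor A p :=
  Functor.isoWhiskerLeft (sheafToPresheaf (AlgSp.etTop X) A) (presheafFiberIso A hX p hp)

theorem preservesFiniteLimits_stalkEtFunctor (hX : AlgSp.IsAlgSpace X) (p : AlgSp.FieldPt X)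
    (hp : p.IsGeometric) [HasColimitsOfShape (AlgSp.EtNbhd p)ᵒᵖ A] [HasFiniteLimits A]
    [AB5OfSize.{u + 1, u + 1} A] : PreservesFiniteLimits (AlgSp.stalkEtFunctor A p) :=
  preservesFiniteLimits_of_natIso (sheafFiberIso A hX p hp)

theorem preservesFiniteColimits_stalkEtFunctor (hX : AlgSp.IsAlgSpace X) (p : AlgSp.FieldPt X)
    (hp : p.IsGeometric) [HasColimitsOfShape (AlgSp.EtNbhd p)ᵒᵖ A] [HasProducts.{u + 1} A] :
    PreservesFiniteColimits (AlgSp.stalkEtFunctor A p) :=
  preservesFiniteColimits_of_natIso (sheafFiberIso A hX p hp)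

end Groth.Agent.Lib.Helper51
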