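import Groth.Agent.Lib.Helper51.AlgSpEtPoint
import Mathlib.AlgebraicGeometry.Sites.AffineEtale

/-!
The category of etale neighbourhoods of a geometric point of an algebraic space is initially small,
so a geometric point defines a point of the small etale site in the universe of the base (helper51).
-/

set_option autoImplicit false
set_option linter.unusedSectionVars false
universe u
open CategoryTheory CategoryTheory.Limits AlgebraicGeometry Opposite

set_option backward.isDefEq.respectTransparency false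

namespace Groth.Agent.Lib.Helper51

open AlgSp Groth.Agent.Lib.Helper52

variable {S : Scheme.{u}} {X : AlgSp.Sp S}

section AffEt

variable {U0 : Over S} (φ : (AlgSp.yon S).obj U0 ⟶ X) (hφ : AlgSp.RepWith @Etale φ)

/-- The structure morphism of an affine etale `U0`-scheme, as a morphism to `U0.left`. -/
noncomputable def affEtHom (A : U0.left.AffineEtale) : Scheme.Spec.obj A.left ⟶ U0.left := A.hom

instance (A : U0.left.AffineEtale) : Etale (affEtHom A) := A.prop

/-- An affine etale `U0`-scheme as a scheme over `S`. -/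
noncomputable def affEtOver (A : U0.left.AffineEtale) : Over S := Over.mk (affEtHom A ≫ U0.hom)

noncomputable def affEtOverHom (A : U0.left.AffineEtale) : affEtOver A ⟶ U0 :=
  Over.homMk (affEtHom A) rfl

include hφ in
theorem affEt_repWith (A : U0.left.AffineEtale) :
    AlgSp.RepWith @Etale ((AlgSp.yon S).map (affEtOverHom A) ≫ φ) :=
  (AlgSp.RepWith @Etale).comp_mem _ _
    ((AlgSp.repWith_yon_map_iff @Etale (affEtOverHom A)).2
      (inferInstanceAs (Etale (affEtHom A)))) hφ

theorem affEt_w {A B : U0.left.AffineEtale} (f : A ⟶ B) :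
    Scheme.Spec.map f.left ≫ affEtHom B = affEtHom A := by
  have := f.w
  simpa [affEtHom] using this

noncomputable def affEtMap {A B : U0.left.AffineEtale} (f : A ⟶ B) : affEtOver A ⟶ affEtOver B :=
  Over.homMk (Scheme.Spec.map f.left) (by
    show Scheme.Spec.map f.left ≫ affEtHom B ≫ U0.hom = affEtHom A ≫ U0.hom
    rw [← Category.assoc, affEt_w])

theorem affEtMap_comp_hom {A B : U0.left.AffineEtale} (f : A ⟶ B) :
    affEtMap f ≫ affEtOverHom B = affEtOverHom A := by
  apply Over.OverMorphism.ext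
  exact affEt_w f

/-- The functor from affine etale `U0`-schemes to the small etale site of `X`. -/
noncomputable def affEtFunctor : U0.left.AffineEtale ⥤ AlgSp.EtOver X where
  obj A := AlgSp.EtOver.mk ((AlgSp.yon S).map (affEtOverHom A) ≫ φ) (affEt_repWith φ hφ A)
  map {A B} f := AlgSp.EtOver.homMk (affEtMap f) (by
    show (AlgSp.yon S).map (affEtMap f) ≫ (AlgSp.yon S).map (affEtOverHom B) ≫ φ =
      (AlgSp.yon S).map (affEtOverHom A) ≫ φ
    rw [← Category.assoc, ← Functor.map_comp, affEtMap_comp_hom])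
  map_id A := by
    apply AlgSp.EtOver.hom_ext
    apply Over.OverMorphism.ext
    show Scheme.Spec.map (𝟙 A : A ⟶ A).left = 𝟙 _
    have h : (𝟙 A : A ⟶ A).left = 𝟙 A.left := rfl
    rw [h]
    exact Scheme.Spec.map_id _
  map_comp {A B D} f g := by
    apply AlgSp.EtOver.hom_ext
    apply Over.OverMorphism.ext
    show Scheme.Spec.map (f ≫ g).left = Scheme.Spec.map f.left ≫ Scheme.Spec.map g.left
    have h : (f ≫ g).left = f.left ≫ g.left := rfl
    rw [h]
    exact Scheme.Spec.map_comp _ _

include hφ in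
/-- Every etale neighbourhood of a geometric point is refined by an affine etale scheme over the
atlas. -/
theorem exists_affEt_nbhd (hφs : AlgSp.RepWith @Surjective φ) (p : AlgSp.FieldPt X)
    (hp : p.IsGeometric) (N : AlgSp.EtNbhd p) :
    ∃ (A : U0.left.AffineEtale) (e : (AlgSp.FieldPt.liftsTo p).obj ((affEtFunctor φ hφ).obj A))
      (g : (affEtFunctor φ hφ).obj A ⟶ N.1), (AlgSp.FieldPt.liftsTo p).map g e = N.2 := by
  have : IsAlgClosed p.K := hp
  obtain ⟨W, a, b, sq⟩ := exists_isPullback_of_representable hφ.1 N.1.obj.hom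
  have hb_et : Etale b.left := hφ.2 N.1.obj.hom _ b sq
  have hb_surj : Surjective b.left := hφs.2 N.1.obj.hom _ b sq
  have ha_et : Etale a.left := N.1.property.2 φ _ a sq.flip
  obtain ⟨y0, hy0⟩ := exists_lift_of_etale_of_mem_range (K := p.K) b.left N.2.1.left
    (hb_surj.surj _)
  obtain ⟨V, hV, hyV, -⟩ := exists_isAffineOpen_mem_and_subset
    (TopologicalSpace.Opens.mem_top (y0 (IsLocalRing.closedPoint p.K)))
  let A0 : U0.left.AffineEtale := Scheme.AffineEtale.mk (hV.fromSpec ≫ a.left)
  have hA0 : affEtHom A0 = hV.fromSpec ≫ a.left := rfl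
  have hrange : Set.range y0 ⊆ Set.range hV.fromSpec := by
    rw [hV.range_fromSpec]
    rintro _ ⟨t, rfl⟩
    have ht : t = IsLocalRing.closedPoint p.K := Subsingleton.elim (α := PrimeSpectrum p.K) _ _
    rw [ht]
    exact hyV
  let y1 := IsOpenImmersion.lift hV.fromSpec y0 hrange
  have hy1 : y1 ≫ hV.fromSpec = y0 := IsOpenImmersion.lift_fac _ _ _
  have hW : y0 ≫ W.hom = p.str := by
    have h1 : b.left ≫ N.1.obj.left.hom = W.hom := Over.w b
    have h2 : N.2.1.left ≫ N.1.obj.left.hom = p.str := Over.w N.2.1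
    rw [← h1, ← Category.assoc, hy0, h2]
  let y0' : p.pt ⟶ W := Over.homMk y0 hW
  have hy0' : y0' ≫ b = N.2.1 := by
    apply Over.OverMorphism.ext
    exact hy0
  let fs : affEtOver A0 ⟶ W := Over.homMk hV.fromSpec (by
    have h1 : a.left ≫ U0.hom = W.hom := Over.w a
    show hV.fromSpec ≫ W.hom = affEtHom A0 ≫ U0.hom
    rw [hA0, Category.assoc, h1])
  have hfs : fs ≫ a = affEtOverHom A0 := by
    apply Over.OverMorphism.ext
    rfl
  let e0' : p.pt ⟶ affEtOver A0 := Over.homMk y1 (by
    have h1 : a.left ≫ U0.hom = W.hom := Over.w a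
    show y1 ≫ affEtHom A0 ≫ U0.hom = p.str
    rw [hA0, Category.assoc, h1, ← Category.assoc, hy1, hW])
  have he0' : e0' ≫ fs = y0' := by
    apply Over.OverMorphism.ext
    exact hy1
  have hcompat : (AlgSp.yon S).map e0' ≫ (AlgSp.yon S).map (affEtOverHom A0) ≫ φ = p.toHom := by
    rw [← hfs, Functor.map_comp, Category.assoc, sq.w, ← Category.assoc, ← Category.assoc,
      ← Functor.map_comp, ← Functor.map_comp, he0', hy0']
    exact N.2.2
  let g : (affEtFunctor φ hφ).obj A0 ⟶ N.1 := AlgSp.EtOver.homMk (fs ≫ b) (by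
    show (AlgSp.yon S).map (fs ≫ b) ≫ N.1.obj.hom = (AlgSp.yon S).map (affEtOverHom A0) ≫ φ
    rw [← hfs, Functor.map_comp, Functor.map_comp, Category.assoc, Category.assoc, sq.w])
  refine ⟨A0, ⟨e0', hcompat⟩, g, ?_⟩
  apply Subtype.ext
  show e0' ≫ fs ≫ b = N.2.1
  rw [← Category.assoc, he0', hy0']

end AffEt

/-- The category of etale neighbourhoods of a geometric point is initially small. -/
theorem initiallySmall_etNbhd (hX : AlgSp.IsAlgSpace X) (p : AlgSp.FieldPt X)
    (hp : p.IsGeometric) : InitiallySmall.{u} (AlgSp.EtNbhd p) := by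
  obtain ⟨U0, φ, hφe, hφs⟩ := hX.atlas
  have := isCofiltered_etNbhd hX p hp
  let eq : U0.left.AffineEtale ≌ SmallModel.{u} U0.left.AffineEtale :=
    equivSmallModel U0.left.AffineEtale
  let Ψ := affEtFunctor φ hφe
  let ι : (Σ m : SmallModel.{u} U0.left.AffineEtale,
      (AlgSp.FieldPt.liftsTo p).obj (Ψ.obj (eq.inverse.obj m))) → AlgSp.EtNbhd p :=
    fun i => ⟨Ψ.obj (eq.inverse.obj i.1), i.2⟩
  have : Small.{u} (Set.range ι) := small_range ι
  apply initiallySmall_of_small_weakly_initial_set (Set.range ι)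
  intro N
  obtain ⟨A, e, g, hg⟩ := exists_affEt_nbhd φ hφe hφs p hp N
  let θ := eq.unitIso.app A
  let e1 := (AlgSp.FieldPt.liftsTo p).map (Ψ.map θ.hom) e
  refine ⟨ι ⟨eq.functor.obj A, e1⟩, ⟨_, rfl⟩, ⟨⟨Ψ.map θ.inv ≫ g, ?_⟩⟩⟩
  show (AlgSp.FieldPt.liftsTo p).map (Ψ.map θ.inv ≫ g)
    ((AlgSp.FieldPt.liftsTo p).map (Ψ.map θ.hom) e) = N.2
  rw [← Functor.map_comp_apply, ← Category.assoc, ← Functor.map_comp, θ.hom_inv_id,
    CategoryTheory.Functor.map_id, Category.id_comp]
  exact hg

/-- The point of the small etale site (in the universe of the base) defined by a geometric point. -/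
noncomputable def geomPointSmall (hX : AlgSp.IsAlgSpace X) (p : AlgSp.FieldPt X)
    (hp : p.IsGeometric) : GrothendieckTopology.Point.{u} (AlgSp.etTop X) where
  fiber := AlgSp.FieldPt.liftsTo p
  isCofiltered := isCofiltered_etNbhd hX p hp
  initiallySmall := initiallySmall_etNbhd hX p hp
  jointly_surjective := by
    intro E R hR x
    refine jointly_surjective_of_precoverage (AlgSp.etPre X) _
      (elemCofiltered_liftsTo hX p hp) ?_ R hR x
    intro E' R' hR' x'
    exact exists_liftsTo_of_mem_etPre p hp hR' x'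

end Groth.Agent.Lib.Helper51
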