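import Groth.Agent.Lib.Helper51.AlgSpEtGerm

/-!
The support of a sheaf of rings on the small etale site of an algebraic space is closed (helper51).
-/

set_option autoImplicit false
set_option linter.unusedSectionVars false
universe u
open CategoryTheory CategoryTheory.Limits AlgebraicGeometry Opposite

set_option backward.isDefEq.respectTransparency false

namespace Groth.Agent.Lib.Helper51

open AlgSp Groth.Agent.Lib.Helper52

variable {S : Scheme.{u}} {X : AlgSp.Sp S}

/-- Through every point of an algebraic space passes a geometric point, with a lift to a chart. -/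
theorem exists_geometric_point_over (hX : AlgSp.IsAlgSpace X) (x : Points X) :
    ∃ (p : AlgSp.FieldPt X) (_ : p.IsGeometric) (E : AlgSp.EtOver X)
      (_ : (AlgSp.FieldPt.liftsTo p).obj E), Points.mk p = x := by
  obtain ⟨U, a, u, -, ha, hu⟩ := exists_affine_etale_chart_at hX x
  obtain ⟨p, hp, l, hl⟩ := exists_geometric_lift_through (AlgSp.EtOver.mk a ha) u
  refine ⟨p, hp, AlgSp.EtOver.mk a ha, l, ?_⟩
  rw [← hu, ← hl]
  exact (ofPt_liftsTo p l).symm

/-- Two sections of a sheaf of rings have the same germ at a geometric point if and only if they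
agree on a smaller etale neighbourhood. -/
theorem stalkEtι_eq_iff_ring (hX : AlgSp.IsAlgSpace X) (p : AlgSp.FieldPt X) (hp : p.IsGeometric)
    (F : AlgSp.EtSh X CommRingCat.{u + 1}) (N : AlgSp.EtNbhd p) (z₁ z₂ : ↥(F.obj.obj (op N.1))) :
    (AlgSp.stalkEtι p F N).hom z₁ = (AlgSp.stalkEtι p F N).hom z₂ ↔
      ∃ (E : AlgSp.EtOver X) (f : E ⟶ N.1) (y : (AlgSp.FieldPt.liftsTo p).obj E),
        (AlgSp.FieldPt.liftsTo p).map f y = N.2 ∧
          (F.obj.map f.op).hom z₁ = (F.obj.map f.op).hom z₂ := by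
  have : HasColimitsOfSize.{u, u} CommRingCat.{u + 1} :=
    hasColimitsOfSizeShrink.{u, u, u + 1, u + 1} _
  have : PreservesFilteredColimitsOfSize.{u, u} (forget CommRingCat.{u + 1}) :=
    preservesFilteredColimitsOfSize_shrink.{u, u + 1, u, u + 1} _
  exact (geomPointSmall hX p hp).toPresheafFiber_eq_iff' (P := F.obj) N.1 N.2 z₁ z₂

/-- The support of a sheaf of rings on the small etale site is closed. -/
theorem isClosed_support_ring (hX : AlgSp.IsAlgSpace X) (O' : AlgSp.EtSh X CommRingCat.{u + 1}) :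
    IsClosed {x : Points X | ∃ p : AlgSp.FieldPt X, p.IsGeometric ∧ Points.mk p = x ∧
      Nontrivial ↥(AlgSp.stalkEt p O')} := by
  rw [← isOpen_compl_iff, isOpen_iff_forall_mem_open]
  intro x hx
  obtain ⟨p, hp, E0, l0, rfl⟩ := exists_geometric_point_over hX x
  have htriv : ¬ Nontrivial ↥(AlgSp.stalkEt p O') := fun h => hx ⟨p, hp, rfl, h⟩
  rw [not_nontrivial_iff_subsingleton] at htriv
  have h10 : (AlgSp.stalkEtι p O' ⟨E0, l0⟩).hom 1 = (AlgSp.stalkEtι p O' ⟨E0, l0⟩).hom 0 :=
    Subsingleton.elim _ _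
  obtain ⟨E, f, y, -, hE⟩ := (stalkEtι_eq_iff_ring hX p hp O' ⟨E0, l0⟩ 1 0).1 h10
  rw [map_one, map_zero] at hE
  refine ⟨Set.range (Points.ofPt E.obj.hom), ?_, ?_, ?_⟩
  · rintro _ ⟨e', rfl⟩ ⟨p', hp', hp'x, hnt⟩
    obtain ⟨vbar, hv, -⟩ := exists_lift_of_etale_chart E.obj.hom E.property p' hp' e' hp'x.symm
    let l' : (AlgSp.FieldPt.liftsTo p').obj E := ⟨vbar, hv⟩
    have h1 : (1 : ↥(AlgSp.stalkEt p' O')) = 0 := by
      rw [← map_one (AlgSp.stalkEtι p' O' ⟨E, l'⟩).hom, hE, map_zero]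
    exact one_ne_zero h1
  · exact (isOpenMap_ofPt_of_etale E.obj.hom E.property).isOpen_range
  · exact ⟨y.1.left (IsLocalRing.closedPoint p.K), ofPt_liftsTo p y⟩

end Groth.Agent.Lib.Helper51
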