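import Groth.Agent.Lib.Helper51.AlgSpEtConservative
import Groth.Prelude.Def_AlgSpOX
import Mathlib.Algebra.Homology.ShortComplex.Ab
import Mathlib.Algebra.Homology.ShortComplex.ExactFunctor

/-!
Exactness of complexes of abelian sheaves on the small etale site is detected on stalks at
geometric points (helper51).
-/

set_option autoImplicit false
set_option linter.unusedSectionVars false
universe u
open CategoryTheory CategoryTheory.Limits AlgebraicGeometry Opposite

set_option backward.isDefEq.respectTransparency false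

namespace Groth.Agent.Lib.Helper51

open AlgSp Groth.Agent.Lib.Helper52

variable {S : Scheme.{u}} {X : AlgSp.Sp S}

theorem preservesZeroMorphisms_stalkEtFunctor_ab (hX : AlgSp.IsAlgSpace X) (p : AlgSp.FieldPt X)
    (hp : p.IsGeometric) :
    (AlgSp.stalkEtFunctor AddCommGrpCat.{u + 1} p).PreservesZeroMorphisms := by
  have := preservesFiniteLimits_stalkEtFunctor AddCommGrpCat.{u + 1} hX p hp
  infer_instance

theorem stalk_exact_iff_isZero (hX : AlgSp.IsAlgSpace X) (C : ShortComplex (AlgSp.AbEt X))
    (p : AlgSp.FieldPt X) (hp : p.IsGeometric) :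
    (∀ y : ↥((AlgSp.stalkEtFunctor AddCommGrpCat.{u + 1} p).obj C.X₂),
        ((AlgSp.stalkEtFunctor AddCommGrpCat.{u + 1} p).map C.g) y = 0 →
          ∃ x : ↥((AlgSp.stalkEtFunctor AddCommGrpCat.{u + 1} p).obj C.X₁),
            ((AlgSp.stalkEtFunctor AddCommGrpCat.{u + 1} p).map C.f) x = y) ↔
      IsZero ((AlgSp.stalkEtFunctor AddCommGrpCat.{u + 1} p).obj C.homology) := by
  have := preservesFiniteLimits_stalkEtFunctor AddCommGrpCat.{u + 1} hX p hp
  have := preservesFiniteColimits_stalkEtFunctor AddCommGrpCat.{u + 1} hX p hp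
  have := preservesZeroMorphisms_stalkEtFunctor_ab hX p hp
  refine (ShortComplex.ab_exact_iff
    (C.map (AlgSp.stalkEtFunctor AddCommGrpCat.{u + 1} p))).symm.trans ?_
  rw [ShortComplex.exact_iff_isZero_homology]
  exact (C.mapHomologyIso (AlgSp.stalkEtFunctor AddCommGrpCat.{u + 1} p)).isZero_iff

theorem exact_iff_stalkEt (hX : AlgSp.IsAlgSpace X) (C : ShortComplex (AlgSp.AbEt X)) :
    C.Exact ↔ ∀ p : AlgSp.FieldPt X, p.IsGeometric →
      ∀ y : ↥((AlgSp.stalkEtFunctor AddCommGrpCat.{u + 1} p).obj C.X₂),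
        ((AlgSp.stalkEtFunctor AddCommGrpCat.{u + 1} p).map C.g) y = 0 →
          ∃ x : ↥((AlgSp.stalkEtFunctor AddCommGrpCat.{u + 1} p).obj C.X₁),
            ((AlgSp.stalkEtFunctor AddCommGrpCat.{u + 1} p).map C.f) x = y := by
  constructor
  · intro h p hp
    rw [stalk_exact_iff_isZero hX C p hp]
    have := preservesZeroMorphisms_stalkEtFunctor_ab hX p hp
    exact Functor.map_isZero _ ((ShortComplex.exact_iff_isZero_homology C).1 h)
  · intro h
    rw [ShortComplex.exact_iff_isZero_homology, IsZero.iff_id_eq_zero]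
    apply ((isConservative_geomPoints hX).jointlyFaithful AddCommGrpCat.{u + 1}).map_injective
    rintro ⟨Φ, p, hp, rfl⟩
    apply IsZero.eq_of_src
    exact IsZero.of_iso ((stalk_exact_iff_isZero hX C p hp).1 (h p hp))
      ((sheafFiberIso AddCommGrpCat.{u + 1} hX p hp).app C.homology)

end Groth.Agent.Lib.Helper51
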