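import Groth.Agent.Lib.Helper51.AlgSpEtRingSupport
import Groth.Agent.Lib.Helper51.AlgSpEtNbhd2
import Groth.Prelude.Def_AlgSpOX3

set_option autoImplicit false
set_option linter.unusedSectionVars false
universe u
open CategoryTheory CategoryTheory.Limits AlgebraicGeometry Opposite

set_option backward.isDefEq.respectTransparency false

namespace Groth.Agent.Lib.Helper51.Hens

open AlgSp Groth.Agent.Lib.Helper52 Groth.Agent.Lib.Helper51

variable {S : Scheme.{u}} {X : AlgSp.Sp S} (p : AlgSp.FieldPt X)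

/-- evaluation of a function on an etale neighbourhood at the lifted point. -/
noncomputable def evNbhd (N : AlgSp.EtNbhd p) : Γ(N.1.obj.left.left, ⊤) →+* p.K :=
  (Scheme.ΓSpecIso (CommRingCat.of p.K)).hom.hom.comp N.2.1.left.appTop.hom

theorem evNbhd_map {N N' : AlgSp.EtNbhd p} (φ : N' ⟶ N) (s : Γ(N.1.obj.left.left, ⊤)) :
    evNbhd p N' (φ.1.hom.left.left.appTop.hom s) = evNbhd p N s := by
  unfold evNbhd
  have h1 : N'.2.1 ≫ φ.1.hom.left = N.2.1 := congrArg Subtype.val φ.2
  have h2 : N'.2.1.left ≫ φ.1.hom.left.left = N.2.1.left := by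
    rw [← h1]; rfl
  simp only [RingHom.comp_apply]
  rw [← h2, Scheme.Hom.comp_appTop]
  rfl

/-- the germ of a function on an etale neighbourhood. -/
noncomputable def germ (N : AlgSp.EtNbhd p) : Γ(N.1.obj.left.left, ⊤) →+* ↥(AlgSp.OEtStalk p) :=
  (AlgSp.stalkEtι p (AlgSp.OEt X) N).hom.comp
    (ULift.ringEquiv (R := Γ(N.1.obj.left.left, ⊤))).symm.toRingHom

theorem germ_map {N N' : AlgSp.EtNbhd p} (φ : N' ⟶ N) (s : Γ(N.1.obj.left.left, ⊤)) :
    germ p N' (φ.1.hom.left.left.appTop.hom s) = germ p N s := by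
  have h := colimit.w (AlgSp.stalkEtDiagram p (AlgSp.OEt X)) φ.op
  have h2 := congrArg (fun f => f.hom (ULift.up s)) h
  exact h2

/-- the cocone computing evaluation at the geometric point. -/
noncomputable def evCocone : Cocone (AlgSp.stalkEtDiagram p (AlgSp.OEt X)) where
  pt := CommRingCat.of (ULift.{u + 1} p.K)
  ι :=
    { app := fun N => CommRingCat.ofHom
        ((ULift.ringEquiv (R := p.K)).symm.toRingHom.comp
          ((evNbhd p N.unop).comp (ULift.ringEquiv (R := Γ(N.unop.1.obj.left.left, ⊤))).toRingHom))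
      naturality := by
        intro N N' φ
        ext s
        simp only [Functor.const_obj_obj, Functor.const_obj_map, Category.comp_id]
        change ULift.up (evNbhd p N'.unop (φ.unop.1.hom.left.left.appTop.hom s.down)) =
          ULift.up (evNbhd p N.unop s.down)
        rw [evNbhd_map] }

/-- evaluation of a germ at the geometric point. -/
noncomputable def ev : ↥(AlgSp.OEtStalk p) →+* p.K :=
  (ULift.ringEquiv (R := p.K)).toRingHom.comp (colimit.desc _ (evCocone p)).hom

theorem ev_germ (N : AlgSp.EtNbhd p) (s : Γ(N.1.obj.left.left, ⊤)) :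
    ev p (germ p N s) = evNbhd p N s := by
  unfold ev germ
  have h := colimit.ι_desc (evCocone p) (op N)
  have h2 := congrArg (fun f => f.hom (ULift.up s)) h
  simp only [RingHom.comp_apply]
  change (ULift.ringEquiv (R := p.K))
    ((colimit.ι (AlgSp.stalkEtDiagram p (AlgSp.OEt X)) (op N) ≫
      colimit.desc _ (evCocone p)).hom (ULift.up s)) = _
  rw [h]
  rfl

variable (hX : AlgSp.IsAlgSpace X) (hp : p.IsGeometric)

include hX hp in
theorem exists_germ_eq (r : ↥(AlgSp.OEtStalk p)) :
    ∃ (N : AlgSp.EtNbhd p) (s : Γ(N.1.obj.left.left, ⊤)), germ p N s = r := by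
  have : HasColimitsOfSize.{u, u} CommRingCat.{u + 1} :=
    hasColimitsOfSizeShrink.{u, u, u + 1, u + 1} _
  have : PreservesFilteredColimitsOfSize.{u, u} (forget CommRingCat.{u + 1}) :=
    preservesFilteredColimitsOfSize_shrink.{u, u + 1, u, u + 1} _
  obtain ⟨E, x, z, hz⟩ :=
    (geomPointSmall hX p hp).toPresheafFiber_jointly_surjective (P := (AlgSp.OEt X).obj) r
  exact ⟨⟨E, x⟩, z.down, hz⟩

include hX hp in
/-- finitely many germs are defined on a common neighbourhood. -/
theorem exists_nbhd_forall_mem_range (s : Finset ↥(AlgSp.OEtStalk p)) (N₀ : AlgSp.EtNbhd p) :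
    ∃ (N : AlgSp.EtNbhd p) (_ : N ⟶ N₀), ∀ r ∈ s, r ∈ Set.range (germ p N) := by
  classical
  have := isCofiltered_etNbhd hX p hp
  induction s using Finset.induction_on with
  | empty => exact ⟨N₀, 𝟙 _, by simp⟩
  | insert a s _ ih =>
    obtain ⟨N₁, φ₁, h₁⟩ := ih
    obtain ⟨N₂, z, hz⟩ := exists_germ_eq p hX hp a
    refine ⟨IsCofiltered.min N₁ N₂, IsCofiltered.minToLeft N₁ N₂ ≫ φ₁, ?_⟩
    intro r hr
    rw [Finset.mem_insert] at hr
    rcases hr with rfl | hr
    · exact ⟨_, (germ_map p (IsCofiltered.minToRight N₁ N₂) z).trans hz⟩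
    · obtain ⟨y, hy⟩ := h₁ r hr
      exact ⟨_, (germ_map p (IsCofiltered.minToLeft N₁ N₂) y).trans hy⟩

end Groth.Agent.Lib.Helper51.Hens
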