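import Groth.Agent.Lib.Helper51.AlgSpEtStalkHens1
import Groth.Agent.Lib.Helper51.AlgSpCharts
import Groth.Agent.Lib.Helper51.AlgSpPoints

set_option autoImplicit false
set_option linter.unusedSectionVars false
universe u
open CategoryTheory CategoryTheory.Limits AlgebraicGeometry Opposite

set_option backward.isDefEq.respectTransparency false

namespace Groth.Agent.Lib.Helper51.Hens

open AlgSp Groth.Agent.Lib.Helper52 Groth.Agent.Lib.Helper51

variable {S : Scheme.{u}} {X : AlgSp.Sp S} (p : AlgSp.FieldPt X)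

/-- a new etale neighbourhood from an etale morphism of schemes with a lift of the point. -/
noncomputable def nbhdOfEtale (N : AlgSp.EtNbhd p) {V : Over S} (j : V ⟶ N.1.obj.left)
    (hj : Etale j.left) (l : p.pt ⟶ V) (hl : l ≫ j = N.2.1) : AlgSp.EtNbhd p :=
  ⟨AlgSp.EtOver.mk ((AlgSp.yon S).map j ≫ N.1.obj.hom)
      (repWith_etale_yon_map_comp j hj _ N.1.property),
    ⟨l, by
      change (AlgSp.yon S).map l ≫ (AlgSp.yon S).map j ≫ N.1.obj.hom = p.toHom
      rw [← Category.assoc, ← Functor.map_comp, hl]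
      exact N.2.2⟩⟩

/-- the structure morphism of the new neighbourhood. -/
noncomputable def nbhdOfEtaleHom (N : AlgSp.EtNbhd p) {V : Over S} (j : V ⟶ N.1.obj.left)
    (hj : Etale j.left) (l : p.pt ⟶ V) (hl : l ≫ j = N.2.1) :
    nbhdOfEtale p N j hj l hl ⟶ N :=
  ⟨AlgSp.EtOver.homMk j rfl, Subtype.ext hl⟩

theorem germ_nbhdOfEtale (N : AlgSp.EtNbhd p) {V : Over S} (j : V ⟶ N.1.obj.left)
    (hj : Etale j.left) (l : p.pt ⟶ V) (hl : l ≫ j = N.2.1) (s : Γ(N.1.obj.left.left, ⊤)) :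
    germ p (nbhdOfEtale p N j hj l hl) (j.left.appTop.hom s) = germ p N s :=
  germ_map p (nbhdOfEtaleHom p N j hj l hl) s

end Groth.Agent.Lib.Helper51.Hens

namespace Groth.Agent.Lib.Helper51.Hens

open AlgSp Groth.Agent.Lib.Helper52 Groth.Agent.Lib.Helper51

variable {S : Scheme.{u}} {X : AlgSp.Sp S} (p : AlgSp.FieldPt X)

theorem isUnit_of_basicOpen_eq_top {Y : Scheme.{u}} (s : Γ(Y, ⊤)) (h : Y.basicOpen s = ⊤) :
    IsUnit s := by
  apply Y.toRingedSpace.isUnit_of_isUnit_germ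
  intro x hx
  have hx' : x ∈ Y.basicOpen s := by rw [h]; trivial
  exact (Y.toRingedSpace.mem_basicOpen s x hx).1 hx'

theorem isUnit_germ_of_evNbhd_ne_zero (N : AlgSp.EtNbhd p) (s : Γ(N.1.obj.left.left, ⊤))
    (h : evNbhd p N s ≠ 0) : IsUnit (germ p N s) := by
  let U := N.1.obj.left
  let D : U.left.Opens := U.left.basicOpen s
  have hunit : IsUnit (N.2.1.left.appTop.hom s) := by
    have h1 : IsUnit (evNbhd p N s) := IsUnit.mk0 _ h
    unfold evNbhd at h1
    rw [RingHom.comp_apply] at h1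
    exact (isUnit_map_iff (Scheme.ΓSpecIso (CommRingCat.of p.K)).commRingCatIsoToRingEquiv _).1 h1
  have hpre : N.2.1.left ⁻¹ᵁ D = ⊤ := by
    change N.2.1.left ⁻¹ᵁ (U.left.basicOpen s) = ⊤
    rw [Scheme.preimage_basicOpen_top]
    exact Scheme.basicOpen_of_isUnit _ hunit
  have hrange : Set.range N.2.1.left ⊆ Set.range D.ι := by
    rw [Scheme.Opens.range_ι]
    rintro _ ⟨x, rfl⟩
    have : x ∈ N.2.1.left ⁻¹ᵁ D := hpre ▸ trivial
    exact this
  let l : p.pt ⟶ opensOver U D :=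
    Over.homMk (IsOpenImmersion.lift D.ι N.2.1.left hrange) (by
      change IsOpenImmersion.lift D.ι N.2.1.left hrange ≫ D.ι ≫ U.hom = p.str
      rw [IsOpenImmersion.lift_fac_assoc]
      exact Over.w N.2.1)
  have hl : l ≫ opensOverι U D = N.2.1 :=
    Over.OverMorphism.ext (IsOpenImmersion.lift_fac D.ι N.2.1.left hrange)
  have hj : Etale (opensOverι U D).left := inferInstanceAs (Etale D.ι)
  rw [← germ_nbhdOfEtale p N (opensOverι U D) hj l hl s]
  apply RingHom.isUnit_map
  apply isUnit_of_basicOpen_eq_top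
  change (↑D : Scheme).basicOpen (D.ι.appTop.hom s) = ⊤
  rw [← Scheme.preimage_basicOpen_top]
  exact Scheme.Opens.ι_preimage_self D

end Groth.Agent.Lib.Helper51.Hens
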