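import Mathlib

set_option autoImplicit false
universe u
open CategoryTheory CategoryTheory.Limits AlgebraicGeometry Opposite

namespace Groth.Agent.Lib.Helper51.Hens

/-- Spreading out an etale algebra over the global sections of a scheme, with a lift of a
field-valued point. -/
theorem exists_etale_nbhd_of_etale_algebra (U : Scheme.{u}) (B : Type u) [CommRing B]
    [Algebra Γ(U, ⊤) B] [Algebra.Etale Γ(U, ⊤) B] (K : Type u) [Field K]
    (x : Spec (CommRingCat.of K) ⟶ U) (ψ : B →+* K)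
    (hψ : ψ.comp (algebraMap Γ(U, ⊤) B) =
      (Scheme.ΓSpecIso (CommRingCat.of K)).hom.hom.comp x.appTop.hom) :
    ∃ (V : Scheme.{u}) (j : V ⟶ U) (_ : Etale j) (l : Spec (CommRingCat.of K) ⟶ V)
      (σ : B →+* Γ(V, ⊤)), l ≫ j = x ∧ σ.comp (algebraMap Γ(U, ⊤) B) = j.appTop.hom ∧
        ∀ b, (Scheme.ΓSpecIso (CommRingCat.of K)).hom.hom (l.appTop.hom (σ b)) = ψ b := by
  let φ : Γ(U, ⊤) ⟶ CommRingCat.of B := CommRingCat.ofHom (algebraMap Γ(U, ⊤) B)
  have hφ : Etale (Spec.map φ) := by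
    rw [HasRingHomProperty.Spec_iff (P := @Etale)]
    exact RingHom.etale_algebraMap.mpr inferInstance
  have hcond : x ≫ U.toSpecΓ = Spec.map (CommRingCat.ofHom ψ) ≫ Spec.map φ := by
    rw [Scheme.toSpecΓ_naturality, ← SpecMap_ΓSpecIso_hom, ← Spec.map_comp, ← Spec.map_comp]
    congr 1
    ext a
    exact (congrArg (fun f => f a) hψ).symm
  refine ⟨pullback U.toSpecΓ (Spec.map φ), pullback.fst _ _, inferInstance,
    pullback.lift x (Spec.map (CommRingCat.ofHom ψ)) hcond,
    (pullback.snd U.toSpecΓ (Spec.map φ)).appTop.hom.comp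
      (Scheme.ΓSpecIso (CommRingCat.of B)).inv.hom, pullback.lift_fst _ _ _, ?_, ?_⟩
  · have h1 := congrArg Scheme.Hom.appTop (pullback.condition (f := U.toSpecΓ) (g := Spec.map φ))
    rw [Scheme.Hom.comp_appTop, Scheme.Hom.comp_appTop, Scheme.toSpecΓ_appTop] at h1
    have h2 : (pullback.fst U.toSpecΓ (Spec.map φ)).appTop =
        φ ≫ (Scheme.ΓSpecIso (CommRingCat.of B)).inv ≫
          (pullback.snd U.toSpecΓ (Spec.map φ)).appTop := by
      rw [← Category.assoc, Scheme.ΓSpecIso_inv_naturality, Category.assoc, ← h1,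
        Iso.inv_hom_id_assoc]
    ext a
    exact (congrArg (fun f => f.hom a) h2).symm
  · intro b
    have h1 : pullback.lift x (Spec.map (CommRingCat.ofHom ψ)) hcond ≫
        pullback.snd U.toSpecΓ (Spec.map φ) = Spec.map (CommRingCat.ofHom ψ) :=
      pullback.lift_snd _ _ _
    have h2 := congrArg Scheme.Hom.appTop h1
    rw [Scheme.Hom.comp_appTop] at h2
    have h3 : (Scheme.ΓSpecIso (CommRingCat.of B)).inv ≫
        (pullback.snd U.toSpecΓ (Spec.map φ)).appTop ≫
        (pullback.lift x (Spec.map (CommRingCat.ofHom ψ)) hcond).appTop ≫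
        (Scheme.ΓSpecIso (CommRingCat.of K)).hom = CommRingCat.ofHom ψ := by
      rw [← Category.assoc (pullback.snd U.toSpecΓ (Spec.map φ)).appTop, h2,
        Scheme.ΓSpecIso_naturality, Iso.inv_hom_id_assoc]
    exact congrArg (fun f => f.hom b) h3

end Groth.Agent.Lib.Helper51.Hens
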