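import Groth.Agent.Lib.Helper51.AlgSpEtStalkHens2
import Groth.Agent.Lib.Helper51.AlgSpEtStalkHens3
import Groth.Prelude.Def_EtBase

set_option autoImplicit false
set_option linter.unusedSectionVars false
universe u
open CategoryTheory CategoryTheory.Limits AlgebraicGeometry Opposite

set_option backward.isDefEq.respectTransparency false

namespace Groth.Agent.Lib.Helper51.Hens

open AlgSp Groth.Agent.Lib.Helper52 Groth.Agent.Lib.Helper51 Polynomial

variable {S : Scheme.{u}} {X : AlgSp.Sp S} (p : AlgSp.FieldPt X)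
variable (hX : AlgSp.IsAlgSpace X) (hp : p.IsGeometric)

include hX hp in
theorem isUnit_iff_ev_ne_zero (r : ↥(AlgSp.OEtStalk p)) : IsUnit r ↔ ev p r ≠ 0 := by
  constructor
  · intro h
    exact (h.map (ev p)).ne_zero
  · intro h
    obtain ⟨N, s, rfl⟩ := exists_germ_eq p hX hp r
    rw [ev_germ] at h
    exact isUnit_germ_of_evNbhd_ne_zero p N s h

include hX hp in
theorem isLocalRing_OEtStalk : IsLocalRing ↥(AlgSp.OEtStalk p) := by
  have hnt : Nontrivial ↥(AlgSp.OEtStalk p) := by
    refine ⟨⟨0, 1, fun h => ?_⟩⟩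
    have := congrArg (ev p) h
    rw [map_zero, map_one] at this
    exact zero_ne_one this
  refine IsLocalRing.of_isUnit_or_isUnit_one_sub_self fun a => ?_
  by_cases h : ev p a = 0
  · right
    rw [isUnit_iff_ev_ne_zero p hX hp, map_sub, map_one, h, sub_zero]
    exact one_ne_zero
  · left
    exact (isUnit_iff_ev_ne_zero p hX hp a).2 h

include hX hp in
theorem mem_maximalIdeal_iff (hloc : IsLocalRing ↥(AlgSp.OEtStalk p)) (r : ↥(AlgSp.OEtStalk p)) :
    r ∈ IsLocalRing.maximalIdeal ↥(AlgSp.OEtStalk p) ↔ ev p r = 0 := by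
  rw [IsLocalRing.mem_maximalIdeal, mem_nonunits_iff, isUnit_iff_ev_ne_zero p hX hp, not_not]

include hX hp in
/-- the key root lifting lemma: a simple root of the reduction of a monic polynomial lifts. -/
theorem exists_root_of_simple_root (f : (↥(AlgSp.OEtStalk p))[X]) (hf : f.Monic) (α : p.K)
    (h0 : (f.map (ev p)).eval α = 0) (h1 : (derivative (f.map (ev p))).eval α ≠ 0) :
    ∃ a : ↥(AlgSp.OEtStalk p), f.IsRoot a ∧ ev p a = α := by
  have hloc := isLocalRing_OEtStalk p hX hp
  obtain ⟨N₀, -, -⟩ := exists_germ_eq p hX hp 0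
  obtain ⟨N, -, hN⟩ := exists_nbhd_forall_mem_range p hX hp f.coeffs N₀
  have hlift : f ∈ Polynomial.lifts (germ p N) :=
    (Polynomial.lifts_iff_coeffs_subset_range f).2 (fun r hr => hN r hr)
  obtain ⟨F, hFf, -, hFm⟩ := Polynomial.lifts_and_degree_eq_and_monic hlift hf
  let P : StandardEtalePair Γ(N.1.obj.left.left, ⊤) :=
    ⟨F, hFm, derivative F, ⟨1, 0, 1, by simp⟩⟩
  letI : Algebra Γ(N.1.obj.left.left, ⊤) p.K := (evNbhd p N).toAlgebra
  have hev : evNbhd p N = (ev p).comp (germ p N) :=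
    RingHom.ext (fun s => (ev_germ p N s).symm)
  have hFK : F.map (evNbhd p N) = f.map (ev p) := by
    rw [hev, ← Polynomial.map_map, hFf]
  have hmap : P.HasMap α := by
    constructor
    · change aeval α F = 0
      rw [aeval_def, ← Polynomial.eval_map]
      change (F.map (evNbhd p N)).eval α = 0
      rw [hFK]; exact h0
    · change IsUnit (aeval α (derivative F))
      rw [aeval_def, ← Polynomial.eval_map]
      change IsUnit ((map (evNbhd p N) (derivative F)).eval α)
      rw [← derivative_map, hFK]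
      exact IsUnit.mk0 _ h1
  let ψ : P.Ring →+* p.K := (P.lift α hmap).toRingHom
  have hψ : ψ.comp (algebraMap Γ(N.1.obj.left.left, ⊤) P.Ring) = evNbhd p N :=
    (P.lift α hmap).comp_algebraMap
  obtain ⟨V, j, hj, l, σ, hlj, hσ, hσψ⟩ :=
    exists_etale_nbhd_of_etale_algebra N.1.obj.left.left P.Ring p.K N.2.1.left ψ hψ
  let V' : Over S := Over.mk (j ≫ N.1.obj.left.hom)
  let j' : V' ⟶ N.1.obj.left := Over.homMk j rfl
  let l' : p.pt ⟶ V' := Over.homMk l (by
    change l ≫ j ≫ N.1.obj.left.hom = p.str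
    rw [← Category.assoc, hlj]
    exact Over.w N.2.1)
  have hl' : l' ≫ j' = N.2.1 := Over.OverMorphism.ext hlj
  refine ⟨germ p (nbhdOfEtale p N j' hj l' hl') (σ P.X), ?_, ?_⟩
  · have hg : germ p N = (germ p (nbhdOfEtale p N j' hj l' hl')).comp j.appTop.hom :=
      RingHom.ext (fun s => (germ_nbhdOfEtale p N j' hj l' hl' s).symm)
    have hX0 : aeval P.X F = 0 := P.hasMap_X.1
    rw [aeval_def] at hX0
    rw [IsRoot.def, ← hFf, Polynomial.eval_map, hg, ← hσ, ← RingHom.comp_assoc]
    refine (Polynomial.hom_eval₂ F (algebraMap Γ(N.1.obj.left.left, ⊤) P.Ring)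
      ((germ p (nbhdOfEtale p N j' hj l' hl')).comp σ) P.X).symm.trans ?_
    rw [hX0, map_zero]
  · rw [ev_germ]
    exact (hσψ P.X).trans (P.lift_X α hmap)

end Groth.Agent.Lib.Helper51.Hens

namespace Groth.Agent.Lib.Helper51.Hens

open AlgSp Groth.Agent.Lib.Helper52 Groth.Agent.Lib.Helper51 Polynomial

variable {S : Scheme.{u}} {X : AlgSp.Sp S} (p : AlgSp.FieldPt X)
variable (hX : AlgSp.IsAlgSpace X) (hp : p.IsGeometric)

include hX hp in
theorem henselianLocalRing_OEtStalk : HenselianLocalRing ↥(AlgSp.OEtStalk p) := by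
  have hloc := isLocalRing_OEtStalk p hX hp
  refine { hloc with is_henselian := ?_ }
  intro f hf a₀ h₀ h₁
  rw [mem_maximalIdeal_iff p hX hp hloc] at h₀
  rw [isUnit_iff_ev_ne_zero p hX hp] at h₁
  obtain ⟨a, ha, hev⟩ := exists_root_of_simple_root p hX hp f hf (ev p a₀)
    (by rw [Polynomial.eval_map_apply]; exact h₀)
    (by rw [derivative_map, Polynomial.eval_map_apply]; exact h₁)
  refine ⟨a, ha, ?_⟩
  rw [mem_maximalIdeal_iff p hX hp hloc, map_sub, hev, sub_self]

include hX hp in
theorem isSepClosed_residueField_OEtStalk (hloc : IsLocalRing ↥(AlgSp.OEtStalk p)) :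
    IsSepClosed (IsLocalRing.ResidueField ↥(AlgSp.OEtStalk p)) := by
  have hK : IsAlgClosed p.K := hp
  have hlochom : IsLocalHom (ev p) :=
    ⟨fun a ha => (isUnit_iff_ev_ne_zero p hX hp a).2 ha.ne_zero⟩
  refine IsSepClosed.of_exists_root _ fun g hg hirr hsep => ?_
  have hlift : g ∈ Polynomial.lifts (IsLocalRing.residue ↥(AlgSp.OEtStalk p)) := by
    rw [Polynomial.mem_lifts]
    exact Polynomial.map_surjective _ IsLocalRing.residue_surjective g
  obtain ⟨f, hfg, -, hfm⟩ := Polynomial.lifts_and_degree_eq_and_monic hlift hg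
  have hfK : f.map (ev p) = g.map (IsLocalRing.ResidueField.lift (ev p)) := by
    rw [← hfg, Polynomial.map_map, IsLocalRing.ResidueField.lift_comp_residue]
  have hdeg : (g.map (IsLocalRing.ResidueField.lift (ev p))).degree ≠ 0 := by
    rw [Polynomial.degree_map]
    exact (Polynomial.degree_pos_of_irreducible hirr).ne'
  obtain ⟨α, hα⟩ := IsAlgClosed.exists_root _ hdeg
  have hsep' : (g.map (IsLocalRing.ResidueField.lift (ev p))).Separable := hsep.map
  have hder : (derivative (g.map (IsLocalRing.ResidueField.lift (ev p)))).eval α ≠ 0 := by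
    have := hsep'.eval₂_derivative_ne_zero (RingHom.id p.K) (x := α)
      (by rw [Polynomial.eval₂_id]; exact hα)
    rwa [Polynomial.eval₂_id] at this
  obtain ⟨a, ha, -⟩ := exists_root_of_simple_root p hX hp f hfm α
    (by rw [hfK]; exact hα) (by rw [hfK]; exact hder)
  refine ⟨IsLocalRing.residue _ a, ?_⟩
  rw [← hfg, Polynomial.eval_map_apply, ha, map_zero]

include hX hp in
theorem isStrictlyHenselian_OEtStalk :
    IsLocalRing ↥(AlgSp.OEtStalk p) ∧ EtCoh.IsStrictlyHenselianLocalRing ↥(AlgSp.OEtStalk p) := by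
  have h := henselianLocalRing_OEtStalk p hX hp
  exact ⟨h.toIsLocalRing, h, isSepClosed_residueField_OEtStalk p hX hp h.toIsLocalRing⟩

end Groth.Agent.Lib.Helper51.Hens
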