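import Groth.Agent.Lib.Helper51.AlgSpEtConservative

/-!
Monomorphisms and epimorphisms of sheaves of sets on the small etale site are detected on stalks at
geometric points (helper51).
-/

set_option autoImplicit false
set_option linter.unusedSectionVars false
universe u
open CategoryTheory CategoryTheory.Limits AlgebraicGeometry Opposite

set_option backward.isDefEq.respectTransparency false

namespace Groth.Agent.Lib.Helper51

open AlgSp Groth.Agent.Lib.Helper52

variable {S : Scheme.{u}} {X : AlgSp.Sp S}

theorem sheafFiber_map_eq (hX : AlgSp.IsAlgSpace X) (p : AlgSp.FieldPt X) (hp : p.IsGeometric)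
    {F G : AlgSp.EtSh X (Type (u + 1))} (a : F ⟶ G) :
    (geomPoint hX p hp).sheafFiber.map a =
      (sheafFiberIso (Type (u + 1)) hX p hp).hom.app F ≫
        (AlgSp.stalkEtFunctor (Type (u + 1)) p).map a ≫
          (sheafFiberIso (Type (u + 1)) hX p hp).inv.app G := by
  rw [← Category.assoc, ← (sheafFiberIso (Type (u + 1)) hX p hp).hom.naturality a,
    Category.assoc, Iso.hom_inv_id_app, Category.comp_id]

theorem mono_iff_stalkEt (hX : AlgSp.IsAlgSpace X) {F G : AlgSp.EtSh X (Type (u + 1))}
    (a : F ⟶ G) :
    Mono a ↔ ∀ p : AlgSp.FieldPt X, p.IsGeometric →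
      Function.Injective ((AlgSp.stalkEtFunctor (Type (u + 1)) p).map a) := by
  constructor
  · intro ha p hp
    have := preservesFiniteLimits_stalkEtFunctor (Type (u + 1)) hX p hp
    rw [← mono_iff_injective]
    infer_instance
  · intro h
    have hc := (isConservative_geomPoints hX).jointlyReflectMonomorphisms (Type (u + 1))
    have : ∀ Φ : (geomPoints hX).FullSubcategory, Mono (Φ.obj.sheafFiber.map a) := by
      rintro ⟨Φ, p, hp, rfl⟩
      have h1 : Mono ((AlgSp.stalkEtFunctor (Type (u + 1)) p).map a) :=
        (mono_iff_injective _).2 (h p hp)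
      show Mono ((geomPoint hX p hp).sheafFiber.map a)
      rw [sheafFiber_map_eq]
      infer_instance
    exact hc.mono a

theorem epi_iff_stalkEt (hX : AlgSp.IsAlgSpace X) {F G : AlgSp.EtSh X (Type (u + 1))}
    (a : F ⟶ G) :
    Epi a ↔ ∀ p : AlgSp.FieldPt X, p.IsGeometric →
      Function.Surjective ((AlgSp.stalkEtFunctor (Type (u + 1)) p).map a) := by
  constructor
  · intro ha p hp
    have := preservesFiniteColimits_stalkEtFunctor (Type (u + 1)) hX p hp
    rw [← epi_iff_surjective]
    infer_instance
  · intro h
    have hc := (isConservative_geomPoints hX).jointlyReflectEpimorphisms (Type (u + 1))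
    have : ∀ Φ : (geomPoints hX).FullSubcategory, Epi (Φ.obj.sheafFiber.map a) := by
      rintro ⟨Φ, p, hp, rfl⟩
      have h1 : Epi ((AlgSp.stalkEtFunctor (Type (u + 1)) p).map a) :=
        (epi_iff_surjective _).2 (h p hp)
      show Epi ((geomPoint hX p hp).sheafFiber.map a)
      rw [sheafFiber_map_eq]
      infer_instance
    exact hc.epi a

end Groth.Agent.Lib.Helper51
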