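import Groth.Agent.Lib.Helper51.AlgSpEtPoint

/-!
Exactness of the stalk functor on presheaves on the small etale site and its compatibility with
sheafification (helper51).
-/

set_option autoImplicit false
set_option linter.unusedSectionVars false
universe v₂ u₂ u
open CategoryTheory CategoryTheory.Limits AlgebraicGeometry Opposite

set_option backward.isDefEq.respectTransparency false

namespace Groth.Agent.Lib.Helper51

open AlgSp Groth.Agent.Lib.Helper52

variable {S : Scheme.{u}} {X : AlgSp.Sp S}

variable (A : Type u₂) [Category.{v₂} A] [HasColimitsOfSize.{u + 1, u + 1} A]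

theorem preservesFiniteLimits_stalkEtPshFunctor (hX : AlgSp.IsAlgSpace X) (p : AlgSp.FieldPt X)
    (hp : p.IsGeometric) [HasColimitsOfShape (AlgSp.EtNbhd p)ᵒᵖ A] [HasFiniteLimits A]
    [AB5OfSize.{u + 1, u + 1} A] : PreservesFiniteLimits (AlgSp.stalkEtPshFunctor A p) :=
  preservesFiniteLimits_of_natIso (presheafFiberIso A hX p hp)

theorem preservesFiniteColimits_stalkEtPshFunctor (hX : AlgSp.IsAlgSpace X) (p : AlgSp.FieldPt X)
    (hp : p.IsGeometric) [HasColimitsOfShape (AlgSp.EtNbhd p)ᵒᵖ A] :
    PreservesFiniteColimits (AlgSp.stalkEtPshFunctor A p) :=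
  have : PreservesColimitsOfSize.{u + 1, u + 1} ((geomPoint hX p hp).presheafFiber (A := A)) :=
    inferInstance
  have : PreservesFiniteColimits ((geomPoint hX p hp).presheafFiber (A := A)) :=
    PreservesColimitsOfSize.preservesFiniteColimits _
  preservesFiniteColimits_of_natIso (presheafFiberIso A hX p hp)

theorem isIso_stalkEtPshFunctor_map_toSheafify (hX : AlgSp.IsAlgSpace X) (p : AlgSp.FieldPt X)
    (hp : p.IsGeometric) [HasColimitsOfShape (AlgSp.EtNbhd p)ᵒᵖ A] [HasProducts.{u + 1} A]
    [HasWeakSheafify (AlgSp.etTop X) A] (P : (AlgSp.EtOver X)ᵒᵖ ⥤ A) :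
    IsIso ((AlgSp.stalkEtPshFunctor A p).map (toSheafify (AlgSp.etTop X) P)) := by
  have h1 : IsIso ((geomPoint hX p hp).presheafFiber.map (toSheafify (AlgSp.etTop X) P)) :=
    (geomPoint hX p hp).W_isInvertedBy_presheafFiber _ (GrothendieckTopology.W_toSheafify _ P)
  have h2 : (AlgSp.stalkEtPshFunctor A p).map (toSheafify (AlgSp.etTop X) P) =
      (presheafFiberIso A hX p hp).inv.app _ ≫
        (geomPoint hX p hp).presheafFiber.map (toSheafify (AlgSp.etTop X) P) ≫
          (presheafFiberIso A hX p hp).hom.app _ := by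
    rw [← Category.assoc, ← (presheafFiberIso A hX p hp).inv.naturality,
      Category.assoc, Iso.inv_hom_id_app, Category.comp_id]
  rw [h2]
  infer_instance

end Groth.Agent.Lib.Helper51
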