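import Groth.Agent.S4366
import Groth.Agent.Lib.Helper78.AlgSpReduced

set_option autoImplicit false
universe u
open CategoryTheory CategoryTheory.Limits AlgebraicGeometry Opposite

namespace Groth.Agent.Lib.Helper51.StalkReduced

/-- reducedness of local rings descends along flat morphisms. -/
theorem isReduced_stalk_of_flat {V U : Scheme.{u}} (f : V ⟶ U) [Flat f] (v : V)
    (h : _root_.IsReduced (V.presheaf.stalk v)) : _root_.IsReduced (U.presheaf.stalk (f v)) := by
  algebraize [(f.stalkMap v).hom]
  have : Module.FaithfullyFlat (U.presheaf.stalk (f v)) (V.presheaf.stalk v) :=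
    @Module.FaithfullyFlat.of_flat_of_isLocalHom _ _ _ _ _ _ _
      (Flat.stalkMap f v) (f.toLRSHom.prop v)
  have hinj : Function.Injective (f.stalkMap v).hom := ‹RingHom.FaithfullyFlat _›.injective
  exact isReduced_of_injective (f.stalkMap v).hom hinj

/-- reducedness of local rings ascends along smooth morphisms. -/
theorem isReduced_stalk_of_smooth {V U : Scheme.{u}} (f : V ⟶ U) [Smooth f] (v : V)
    (h : _root_.IsReduced (U.presheaf.stalk (f v))) : _root_.IsReduced (V.presheaf.stalk v) := by
  have hZred : IsReduced (Spec (U.presheaf.stalk (f v))) := inferInstance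
  have hflat : Flat (U.fromSpecStalk (f v)) := Groth.Agent.S4366.flat_fromSpecStalk U (f v)
  have hWred : IsReduced (pullback f (U.fromSpecStalk (f v))) :=
    Groth.Agent.Lib.Helper78.AlgSpReduced.isReduced_of_smooth (pullback.snd f (U.fromSpecStalk (f v)))
  obtain ⟨w, hw1, -⟩ := Scheme.Pullback.exists_preimage_pullback (f := f)
    (g := U.fromSpecStalk (f v)) v (IsLocalRing.closedPoint _) Scheme.fromSpecStalk_closedPoint.symm
  have hflat2 : Flat (pullback.fst f (U.fromSpecStalk (f v))) := inferInstance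
  have h1 : _root_.IsReduced ((pullback f (U.fromSpecStalk (f v))).presheaf.stalk w) := inferInstance
  have h2 := isReduced_stalk_of_flat (pullback.fst f (U.fromSpecStalk (f v))) w h1
  rw [hw1] at h2
  exact h2

end Groth.Agent.Lib.Helper51.StalkReduced

namespace Groth.Agent.Lib.Helper51.StalkReduced

open AlgSp Groth.Agent.Lib.Helper52 Groth.Agent.Lib.Helper51

variable {S : Scheme.{u}}

set_option backward.isDefEq.respectTransparency false

/-- transfer of reducedness of the local ring between two charts through the same point. -/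
theorem isReduced_stalk_chart_of_chart {X : AlgSp.Sp S} {U U₀ : Over S}
    (a : (AlgSp.yon S).obj U ⟶ X) (ha : AlgSp.RepWith @Etale a)
    (a₀ : (AlgSp.yon S).obj U₀ ⟶ X) (ha₀ : AlgSp.RepWith @Etale a₀) (u : ↥U.left) (u₀ : ↥U₀.left)
    (hu : Points.ofPt a u = Points.ofPt a₀ u₀)
    (h : _root_.IsReduced (U.left.presheaf.stalk u)) :
    _root_.IsReduced (U₀.left.presheaf.stalk u₀) := by
  obtain ⟨W, φ, ψ, sq⟩ := exists_isPullback_of_representable ha.rep a₀
  have hψ : Etale ψ.left := ha.property a₀ _ ψ sq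
  have hφ : Etale φ.left := ha₀.property a _ φ sq.flip
  obtain ⟨w, hw1, hw2⟩ := exists_of_ofPt_eq_ofPt sq hu
  have h1 : _root_.IsReduced (W.left.presheaf.stalk w) := by
    apply isReduced_stalk_of_smooth φ.left w
    rw [hw1]; exact h
  have h2 := isReduced_stalk_of_flat ψ.left w h1
  rw [hw2] at h2
  exact h2

theorem isReducedSp_iff_forall_hasAt {X : AlgSp.Sp S} (hX : AlgSp.IsAlgSpace X) :
    AlgSp.IsReducedSp X ↔
      ∀ x : Points X, AlgSp.HasAt (fun U u => _root_.IsReduced ↥(U.presheaf.stalk u)) X x := by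
  constructor
  · rintro ⟨U', a', ha', ha's, hU'⟩ x
    obtain ⟨u, rfl⟩ := surjective_ofPt_of_repWith_surjective a' ha's x
    have : IsReduced U'.left := hU'
    exact ⟨U', a', u, ha', rfl, inferInstance⟩
  · intro h
    obtain ⟨U₀, a₀, ha₀, ha₀s⟩ := hX.atlas
    refine ⟨U₀, a₀, ha₀, ha₀s, ?_⟩
    have key : ∀ u₀ : ↥U₀.left, _root_.IsReduced (U₀.left.presheaf.stalk u₀) := by
      intro u₀
      obtain ⟨U, a, u, ha, hu, hred⟩ := h (Points.ofPt a₀ u₀)
      exact isReduced_stalk_chart_of_chart a ha a₀ ha₀ u u₀ hu hred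
    exact isReduced_of_isReduced_stalk U₀.left

end Groth.Agent.Lib.Helper51.StalkReduced
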