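import Groth.Agent.Lib.Helper51.AlgSpEtStalkHens4
import Groth.Agent.Lib.Helper51.AlgSpStalkReduced

set_option autoImplicit false
set_option linter.unusedSectionVars false
universe u
open CategoryTheory CategoryTheory.Limits AlgebraicGeometry Opposite

set_option backward.isDefEq.respectTransparency false

namespace Groth.Agent.Lib.Helper51.Hens

/-- a localization is reduced as soon as nilpotent elements of the base ring die in it. -/
theorem isReduced_of_isLocalization_of_forall {R T : Type*} [CommRing R] [CommRing T] [Algebra R T]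
    (M : Submonoid R) [IsLocalization M T]
    (h : ∀ y : R, IsNilpotent y → algebraMap R T y = 0) : _root_.IsReduced T := by
  constructor
  rintro x ⟨n, hn⟩
  obtain ⟨s, t, rfl⟩ := IsLocalization.exists_mk'_eq M x
  rw [← IsLocalization.mk'_pow, IsLocalization.mk'_eq_zero_iff] at hn
  obtain ⟨m, hm⟩ := hn
  have hnil : IsNilpotent ((m : R) * s) := by
    refine ⟨n + 1, ?_⟩
    rw [show ((m : R) * s) ^ (n + 1) = ((m : R) * s ^ n) * ((m : R) ^ n * s) by ring, hm, zero_mul]
  have h0 := h _ hnil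
  rw [IsLocalization.map_eq_zero_iff M] at h0
  obtain ⟨m', hm'⟩ := h0
  rw [IsLocalization.mk'_eq_zero_iff]
  exact ⟨m' * m, by rw [Submonoid.coe_mul, mul_assoc]; exact hm'⟩

/-- a function killed by a flat morphism has vanishing germ at the image point. -/
theorem germ_eq_zero_of_flat {V U : Scheme.{u}} (f : V ⟶ U) [Flat f] (v : V) (y : Γ(U, ⊤))
    (hy : f.appTop.hom y = 0) : U.presheaf.germ ⊤ (f v) trivial y = 0 := by
  algebraize [(f.stalkMap v).hom]
  have : Module.FaithfullyFlat (U.presheaf.stalk (f v)) (V.presheaf.stalk v) :=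
    @Module.FaithfullyFlat.of_flat_of_isLocalHom _ _ _ _ _ _ _
      (Flat.stalkMap f v) (f.toLRSHom.prop v)
  have hinj : Function.Injective (f.stalkMap v).hom := ‹RingHom.FaithfullyFlat _›.injective
  apply hinj
  rw [map_zero]
  have h1 := Scheme.Hom.germ_stalkMap_apply f ⊤ v trivial y
  rw [h1]
  have : f.app ⊤ y = 0 := hy
  rw [this, map_zero]

open AlgSp Groth.Agent.Lib.Helper52 Groth.Agent.Lib.Helper51

variable {S : Scheme.{u}} {X : AlgSp.Sp S} (p : AlgSp.FieldPt X)

/-- shrinking an etale neighbourhood to an open containing the point. -/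
theorem germ_eq_zero_of_res_eq_zero (N : AlgSp.EtNbhd p) (W : N.1.obj.left.left.Opens)
    (hW : N.2.1.left (IsLocalRing.closedPoint p.K) ∈ W) (s : Γ(N.1.obj.left.left, ⊤))
    (hs : W.ι.appTop.hom s = 0) : germ p N s = 0 := by
  let U := N.1.obj.left
  have hrange : Set.range N.2.1.left ⊆ Set.range W.ι := by
    rw [Scheme.Opens.range_ι]
    rintro _ ⟨x, rfl⟩
    have hx : x = IsLocalRing.closedPoint p.K := Subsingleton.elim (α := PrimeSpectrum p.K) _ _
    rw [hx]
    exact hW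
  let l : p.pt ⟶ opensOver U W :=
    Over.homMk (IsOpenImmersion.lift W.ι N.2.1.left hrange) (by
      change IsOpenImmersion.lift W.ι N.2.1.left hrange ≫ W.ι ≫ U.hom = p.str
      rw [IsOpenImmersion.lift_fac_assoc]
      exact Over.w N.2.1)
  have hl : l ≫ opensOverι U W = N.2.1 :=
    Over.OverMorphism.ext (IsOpenImmersion.lift_fac W.ι N.2.1.left hrange)
  have hj : Etale (opensOverι U W).left := inferInstanceAs (Etale W.ι)
  rw [← germ_nbhdOfEtale p N (opensOverι U W) hj l hl s]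
  have : (opensOverι U W).left.appTop.hom s = 0 := hs
  rw [this, map_zero]

variable (hX : AlgSp.IsAlgSpace X) (hp : p.IsGeometric)

include hX hp in
theorem germ_eq_zero_iff (N : AlgSp.EtNbhd p) (s : Γ(N.1.obj.left.left, ⊤)) :
    germ p N s = 0 ↔ ∃ (N' : AlgSp.EtNbhd p) (φ : N' ⟶ N), φ.1.hom.left.left.appTop.hom s = 0 := by
  constructor
  · intro h
    have h' : (AlgSp.stalkEtι p (AlgSp.OEt X) N).hom (ULift.up s) =
        (AlgSp.stalkEtι p (AlgSp.OEt X) N).hom 0 := by
      rw [map_zero]; exact h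
    obtain ⟨E, f, y, hy, hE⟩ := (stalkEtι_eq_iff_ring hX p hp (AlgSp.OEt X) N _ _).1 h'
    refine ⟨⟨E, y⟩, ⟨f, hy⟩, ?_⟩
    rw [map_zero] at hE
    exact congrArg ULift.down hE
  · rintro ⟨N', φ, h⟩
    rw [← germ_map p φ s, h, map_zero]

include hX hp in
theorem isReduced_OEtStalk_of_hasAt
    (h : AlgSp.HasAt (fun U u => _root_.IsReduced ↥(U.presheaf.stalk u)) X (AlgSp.Points.mk p)) :
    _root_.IsReduced ↥(AlgSp.OEtStalk p) := by
  obtain ⟨U₁, a₁, u₁, ha₁, hu₁, hred⟩ := h
  constructor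
  rintro r ⟨n, hn⟩
  obtain ⟨N₀, s₀, rfl⟩ := exists_germ_eq p hX hp r
  rw [← map_pow, germ_eq_zero_iff p hX hp] at hn
  obtain ⟨N, φ, hφ⟩ := hn
  rw [← germ_map p φ s₀]
  generalize hs : φ.1.hom.left.left.appTop.hom s₀ = s
  have hsn : s ^ n = 0 := by rw [← hs, ← map_pow]; exact hφ
  have hmem : N.2.1.left (IsLocalRing.closedPoint p.K) ∈ (⊤ : N.1.obj.left.left.Opens) :=
    TopologicalSpace.Opens.mem_top _
  have hVred : _root_.IsReduced (N.1.obj.left.left.presheaf.stalk
      (N.2.1.left (IsLocalRing.closedPoint p.K))) := by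
    apply StalkReduced.isReduced_stalk_chart_of_chart a₁ ha₁ N.1.obj.hom N.1.property u₁ _ _ hred
    rw [hu₁]
    exact (ofPt_liftsTo p N.2).symm
  have hg : N.1.obj.left.left.presheaf.germ ⊤ _ hmem s = 0 := by
    apply IsNilpotent.eq_zero
    exact ⟨n, by rw [← map_pow, hsn, map_zero]⟩
  have hg' : N.1.obj.left.left.presheaf.germ ⊤ _ hmem s =
      N.1.obj.left.left.presheaf.germ ⊤ _ hmem 0 := by
    rw [hg, map_zero]
  obtain ⟨W₀, hvW, iU, iV, hW⟩ := TopCat.Presheaf.germ_eq N.1.obj.left.left.presheaf _ hmem hmem s 0 hg'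
  rw [map_zero] at hW
  obtain ⟨W, rfl⟩ : ∃ W : N.1.obj.left.left.Opens, W = W₀ := ⟨W₀, rfl⟩
  apply germ_eq_zero_of_res_eq_zero p N W hvW s
  rw [Scheme.Opens.ι_appTop]
  have : (homOfLE (le_top : W.ι ''ᵁ ⊤ ≤ ⊤)).op =
      iU.op ≫ (homOfLE (show W.ι ''ᵁ ⊤ ≤ W by simp)).op := rfl
  rw [this, Functor.map_comp, CommRingCat.comp_apply, hW, map_zero]

include hX hp in
theorem hasAt_of_isReduced_OEtStalk (h : _root_.IsReduced ↥(AlgSp.OEtStalk p)) :
    AlgSp.HasAt (fun U u => _root_.IsReduced ↥(U.presheaf.stalk u)) X (AlgSp.Points.mk p) := by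
  obtain ⟨U, a, u, hU, ha, hu⟩ := exists_affine_etale_chart_at hX (AlgSp.Points.mk p)
  refine ⟨U, a, u, ha, hu, ?_⟩
  obtain ⟨ubar, hub1, hub2⟩ := exists_lift_of_etale_chart a ha p hp u hu
  let N : AlgSp.EtNbhd p := ⟨AlgSp.EtOver.mk a ha, ⟨ubar, hub1⟩⟩
  have hloc := (isAffineOpen_top U.left).isLocalization_stalk ⟨u, TopologicalSpace.Opens.mem_top u⟩
  letI := U.left.presheaf.algebra_section_stalk (U := ⊤) ⟨u, TopologicalSpace.Opens.mem_top u⟩
  refine @isReduced_of_isLocalization_of_forall Γ(U.left, ⊤) (U.left.presheaf.stalk u) _ _ _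
    ((isAffineOpen_top U.left).primeIdealOf ⟨u, TopologicalSpace.Opens.mem_top u⟩).asIdeal.primeCompl
    hloc (fun y hy => ?_)
  change U.left.presheaf.germ ⊤ u _ y = 0
  have h1 : IsNilpotent (germ p N y) := hy.map _
  have h2 : germ p N y = 0 := h1.eq_zero
  obtain ⟨N', φ, hφ⟩ := (germ_eq_zero_iff p hX hp N y).1 h2
  have : Etale φ.1.hom.left.left := AlgSp.EtOver.etale_left φ.1
  have h3 := germ_eq_zero_of_flat φ.1.hom.left.left (N'.2.1.left (IsLocalRing.closedPoint p.K)) y hφ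
  have h4 : φ.1.hom.left.left (N'.2.1.left (IsLocalRing.closedPoint p.K)) = u := by
    have h5 : N'.2.1 ≫ φ.1.hom.left = N.2.1 := congrArg Subtype.val φ.2
    have h6 : N'.2.1.left ≫ φ.1.hom.left.left = ubar.left := by
      rw [← Over.comp_left, h5]
    rw [← hub2, ← h6]
    rfl
  rw [← h4]
  exact h3

end Groth.Agent.Lib.Helper51.Hens
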