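import Groth.Agent.Lib.Helper51.AlgSpQuotField3
import Groth.Agent.Lib.Helper51.AlgSpSpecial
import Groth.Agent.Lib.Helper51.AlgSpCharts
import Groth.Agent.Lib.Helper51.AlgSpMonoPt

/-!
Quasi-compactness of field points and the existence of quasi-compact monomorphic representatives
(helper51).
-/

set_option autoImplicit false
set_option linter.unusedSectionVars false
universe u
open CategoryTheory CategoryTheory.Limits AlgebraicGeometry Opposite TensorProduct

set_option backward.isDefEq.respectTransparency false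

namespace Groth.Agent.Lib.Helper51

open AlgSp Groth.Agent.Lib.Helper30 Groth.Agent.Lib.Helper52

variable {S : Scheme.{u}}

/-- Quasi-compactness descends along a surjective morphism on the source. -/
theorem quasiCompact_of_surjective_comp {X Y Z : Scheme.{u}} (f : X ⟶ Y) (g : Y ⟶ Z)
    [Surjective f] [QuasiCompact (f ≫ g)] : QuasiCompact g := by
  constructor
  intro U hU hc
  have h1 : IsCompact ((f ≫ g) ⁻¹' U) := QuasiCompact.isCompact_preimage (f := f ≫ g) U hU hc
  have h2 : g ⁻¹' U = f '' ((f ≫ g) ⁻¹' U) := by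
    have : (f ≫ g) ⁻¹' U = f ⁻¹' (g ⁻¹' U) := by
      ext x
      simp only [Set.mem_preimage, Scheme.Hom.comp_apply]
    rw [this, Set.image_preimage_eq _ f.surjective]
  rw [h2]
  exact h1.image f.continuous

/-- Representable quasi-compactness descends along a representable surjective morphism on the
source. -/
theorem repWith_quasiCompact_of_comp_surjective {F G H : AlgSp.Sp S} (f : F ⟶ G) (g : G ⟶ H)
    (hg : AlgSp.Representable g) (hf : AlgSp.RepWith @Surjective f)
    (hfg : AlgSp.RepWith @QuasiCompact (f ≫ g)) : AlgSp.RepWith @QuasiCompact g := by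
  refine ⟨hg, ?_⟩
  intro T V a fst snd sq
  have sqf := hf.1.isPullback fst
  have hsurj : Surjective (hf.1.snd fst).left := hf.2 fst _ _ sqf
  have big := sqf.paste_vert sq
  rw [← Functor.map_comp] at big
  have hqc : QuasiCompact (hf.1.snd fst ≫ snd).left := hfg.2 a _ _ big
  have hqc' : QuasiCompact ((hf.1.snd fst).left ≫ snd.left) := hqc
  exact quasiCompact_of_surjective_comp (hf.1.snd fst).left snd.left

/-- Quasi-compactness of a field point only depends on its class (when the morphisms are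
representable). -/
theorem repWith_quasiCompact_of_mk_eq' {F : AlgSp.Sp S} (p q : FieldPt F)
    (hrep : AlgSp.Representable p.toHom) (hq : AlgSp.RepWith @QuasiCompact q.toHom)
    (h : Points.mk p = Points.mk q) : AlgSp.RepWith @QuasiCompact p.toHom := by
  rw [Points.mk_eq_mk_iff, rel_iff_toHom] at h
  obtain ⟨Ω, _, w, a, b, hab⟩ := h
  have hb : AlgSp.RepWith @QuasiCompact ((AlgSp.yon S).map b) := by
    rw [AlgSp.repWith_yon_map_iff]
    have : Subsingleton ↥(Over.mk w).left := inferInstanceAs (Subsingleton (PrimeSpectrum Ω))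
    exact quasiCompact_of_subsingleton _
  have ha : AlgSp.RepWith @Surjective ((AlgSp.yon S).map a) := by
    rw [AlgSp.repWith_yon_map_iff]
    refine ⟨fun y => ⟨show ↥(Spec (CommRingCat.of Ω)) from IsLocalRing.closedPoint Ω, ?_⟩⟩
    exact Subsingleton.elim (α := PrimeSpectrum p.K) _ _
  refine repWith_quasiCompact_of_comp_surjective _ _ hrep ha ?_
  rw [hab]
  exact (AlgSp.RepWith @QuasiCompact).comp_mem _ _ hb hq

/-- Every point of an algebraic space lies in the image of an affine etale chart. -/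
theorem exists_affine_etale_chart_at {X : AlgSp.Sp S} (hX : AlgSp.IsAlgSpace X)
    (x : Points X) : ∃ (U : Over S) (φ : (AlgSp.yon S).obj U ⟶ X) (u : ↥U.left),
      IsAffine U.left ∧ AlgSp.RepWith @Etale φ ∧ Points.ofPt φ u = x := by
  obtain ⟨U1, φ1, hφ1e, hφ1s⟩ := hX.atlas
  obtain ⟨u1, hu1⟩ := surjective_ofPt_of_repWith_surjective φ1 hφ1s x
  obtain ⟨U0, hU0, hu1U0, -⟩ := exists_isAffineOpen_mem_and_subset
    (TopologicalSpace.Opens.mem_top u1)
  have hea : AlgSp.RepWith @Etale ((AlgSp.yon S).map (opensOverι U1 U0) ≫ φ1) :=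
    (AlgSp.RepWith @Etale).comp_mem _ _
      ((AlgSp.repWith_yon_map_iff @Etale _).2 inferInstance) hφ1e
  refine ⟨opensOver U1 U0, _, (⟨u1, hu1U0⟩ : ↥(U0 : Scheme.{u})), hU0, hea, ?_⟩
  rw [ofPt_yon_map_comp, ← hu1]
  rfl

/-- If `Spec κ(u) ⟶ U ⟶ X` is quasi-compact for an affine etale chart `U`, then the fibre of
`s : U ×_X U ⟶ U` over `u` is finite. -/
theorem finite_fibre_source_of_quasiCompact {X : AlgSp.Sp S} {U : Over S} [IsAffine U.left]
    (φ : (AlgSp.yon S).obj U ⟶ X) {R : Over S} (s t : R ⟶ U)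
    (sqR : IsPullback ((AlgSp.yon S).map t) ((AlgSp.yon S).map s) φ φ) (u : ↥U.left)
    (hφ : AlgSp.RepWith @Etale φ)
    (hq : AlgSp.RepWith @QuasiCompact (FieldPt.ofPt φ u).toHom) :
    {r : ↥R.left | s.left r = u}.Finite := by
  rw [FieldPt.toHom_ofPt] at hq
  set iu := U.left.fromSpecResidueField u with hiu
  let Uκ : Over S := Over.mk (iu ≫ U.hom)
  let iuO : Uκ ⟶ U := Over.homMk iu rfl
  obtain ⟨F1, f1, f2, sqF, sqFl⟩ := isPullback_over' s iuO
  have hs_et : Etale s.left := hφ.2 φ ((AlgSp.yon S).map t) s sqR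
  have hf2_et : Etale f2.left := MorphismProperty.of_isPullback sqFl hs_et
  have big1 := (sqF.map (AlgSp.yon S)).paste_horiz sqR
  rw [← Functor.map_comp] at big1
  have hqc : QuasiCompact (f1 ≫ t).left := hq.2 φ _ _ big1.flip
  have hc : CompactSpace ↥F1.left := QuasiCompact.compactSpace_of_compactSpace (f1 ≫ t).left
  have hfin : Finite ↥F1.left :=
    finite_of_etale_over_field (K := ↥(U.left.residueField u)) f2.left
  refine (Set.finite_range f1.left).subset ?_
  intro r hr
  have hr' : s.left r = iu (IsLocalRing.closedPoint _) := by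
    rw [hr]
    exact (Scheme.fromSpecResidueField_apply _ _).symm
  obtain ⟨z, hz1, -⟩ := Scheme.exists_preimage_of_isPullback sqFl r _ hr'
  exact ⟨z, hz1⟩

/-- Packaging of `exists_mono_of_finite_fibre` in terms of field points. -/
theorem exists_mono_fieldPt_of_finite_fibre {X : AlgSp.Sp S} {U : Over S}
    (φ : (AlgSp.yon S).obj U ⟶ X) (hφ : AlgSp.RepWith @Etale φ) {R : Over S} (s t : R ⟶ U)
    (sqR : IsPullback ((AlgSp.yon S).map t) ((AlgSp.yon S).map s) φ φ) (u : ↥U.left)
    (hfin : {r : ↥R.left | s.left r = u ∧ t.left r = u}.Finite) :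
    ∃ p : FieldPt X, Points.mk p = Points.ofPt φ u ∧ Mono p.toHom := by
  obtain ⟨k, _, ι, hιfin, strk, hk, p, hp, hmono⟩ :=
    exists_mono_of_finite_fibre φ hφ s t sqR u hfin
  refine ⟨fieldPtOfHom strk p, ?_, ?_⟩
  · refine Points.sound ((rel_iff_toHom _ _).2
      ⟨↥(U.left.residueField u), inferInstance, U.left.fromSpecResidueField u ≫ U.hom,
        Over.homMk (Spec.map (CommRingCat.ofHom ι)) hk, 𝟙 _, ?_⟩)
    rw [fieldPtOfHom_toHom, hp, FieldPt.toHom_ofPt]
    exact ((congrArg (· ≫ _) ((AlgSp.yon S).map_id _)).trans (Category.id_comp _)).symm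
  · rw [fieldPtOfHom_toHom]
    exact hmono

/-- (5) ⇒ (4): a point represented by a quasi-compact field point is represented by a quasi-compact
monomorphic field point. -/
theorem exists_qc_mono_fieldPt_of_quasiCompact {X : AlgSp.Sp S} (hX : AlgSp.IsAlgSpace X)
    (q : FieldPt X) (hq : AlgSp.RepWith @QuasiCompact q.toHom) :
    ∃ p : FieldPt X, Points.mk p = Points.mk q ∧ Mono p.toHom ∧
      AlgSp.RepWith @QuasiCompact p.toHom := by
  obtain ⟨U, φ, u, hU, hφ, hu⟩ := exists_affine_etale_chart_at hX (Points.mk q)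
  obtain ⟨R, t, s, sqR⟩ := exists_isPullback_of_representable hφ.1 φ
  have hqu : AlgSp.RepWith @QuasiCompact (FieldPt.ofPt φ u).toHom :=
    repWith_quasiCompact_of_mk_eq' _ q (hX.representable_from_yon _) hq hu
  have hfin := finite_fibre_source_of_quasiCompact φ s t sqR u hφ hqu
  obtain ⟨p, hp, hmono⟩ := exists_mono_fieldPt_of_finite_fibre φ hφ s t sqR u
    (hfin.subset (fun r hr => hr.1))
  refine ⟨p, hp.trans hu, hmono, ?_⟩
  exact repWith_quasiCompact_of_mk_eq' p q (hX.representable_from_yon _) hq (hp.trans hu)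

end Groth.Agent.Lib.Helper51
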