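import Groth.Agent.Lib.Helper51.AlgSpEtConservative
import Groth.Agent.Lib.Helper51.AlgSpCharts
import Groth.Agent.Lib.Helper51.AlgSpQuotField4

/-!
Subsheaves of the final object of the small etale topos of an algebraic space correspond to opens
(helper51).
-/

set_option autoImplicit false
set_option linter.unusedSectionVars false
universe u
open CategoryTheory CategoryTheory.Limits AlgebraicGeometry Opposite

set_option backward.isDefEq.respectTransparency false

namespace Groth.Agent.Lib.Helper51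

open AlgSp Groth.Agent.Lib.Helper52

variable {S : Scheme.{u}} {X : AlgSp.Sp S}

/-- Two points of schemes etale over `X` with the same image in `|X|` come from a point of a
common refinement in the small etale site. -/
theorem exists_etOver_over_pair (E1 E2 : AlgSp.EtOver X) (e1 : ↥E1.obj.left.left)
    (e2 : ↥E2.obj.left.left) (h : Points.ofPt E1.obj.hom e1 = Points.ofPt E2.obj.hom e2) :
    ∃ (E3 : AlgSp.EtOver X) (f : E3 ⟶ E1) (g : E3 ⟶ E2) (e3 : ↥E3.obj.left.left),
      f.hom.left.left e3 = e1 ∧ g.hom.left.left e3 = e2 := by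
  obtain ⟨W, φ, ψ, sq⟩ := exists_isPullback_of_representable E1.property.1 E2.obj.hom
  have hψ : Etale ψ.left := E1.property.2 E2.obj.hom _ ψ sq
  have hc : AlgSp.RepWith @Etale ((AlgSp.yon S).map ψ ≫ E2.obj.hom) :=
    (AlgSp.RepWith @Etale).comp_mem _ _ ((AlgSp.repWith_yon_map_iff @Etale ψ).2 hψ) E2.property
  obtain ⟨w, hw1, hw2⟩ := exists_of_ofPt_eq_ofPt sq h
  exact ⟨AlgSp.EtOver.mk ((AlgSp.yon S).map ψ ≫ E2.obj.hom) hc, AlgSp.EtOver.homMk φ sq.w,
    AlgSp.EtOver.homMk ψ rfl, w, hw1, hw2⟩

/-- A sheaf of sets on the small etale site with at most one section everywhere is the sheaf of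
a unique open of `|X|`. -/
theorem existsUnique_open_of_subsingleton (hX : AlgSp.IsAlgSpace X)
    (F : AlgSp.EtSh X (Type (u + 1)))
    (hF : ∀ E : AlgSp.EtOver X, Subsingleton (F.obj.obj (op E))) :
    ∃! W : Set (Points X), IsOpen W ∧
      ∀ E : AlgSp.EtOver X, Nonempty (F.obj.obj (op E)) ↔
        Set.range (Points.ofPt E.obj.hom) ⊆ W := by
  let W0 : Set (Points X) := {x | ∃ E : AlgSp.EtOver X, Nonempty (F.obj.obj (op E)) ∧
    x ∈ Set.range (Points.ofPt E.obj.hom)}
  have hW0 : IsOpen W0 := by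
    rw [isOpen_iff_forall_mem_open]
    rintro x ⟨E, hne, hx⟩
    refine ⟨Set.range (Points.ofPt E.obj.hom), ?_,
      (isOpenMap_ofPt_of_etale E.obj.hom E.property).isOpen_range, hx⟩
    intro y hy
    exact ⟨E, hne, hy⟩
  have hsheaf : Presieve.IsSheaf (AlgSp.etTop X) F.obj :=
    (isSheaf_iff_isSheaf_of_type (AlgSp.etTop X) F.obj).1 F.property
  have hiff : ∀ E : AlgSp.EtOver X, Nonempty (F.obj.obj (op E)) ↔
      Set.range (Points.ofPt E.obj.hom) ⊆ W0 := by
    intro E
    constructor
    · intro hne x hx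
      exact ⟨E, hne, hx⟩
    · intro h
      let R : Sieve E :=
        { arrows := fun Y _ => Nonempty (F.obj.obj (op Y))
          downward_closed := by
            rintro Y Z f ⟨s⟩ g
            exact ⟨F.obj.map g.op s⟩ }
      have hR : R ∈ AlgSp.etTop X E := by
        rw [← Sieve.generate_sieve R]
        apply Precoverage.generate_mem_toGrothendieck
        apply mem_etPre_of_forall_mem_range
        intro v
        obtain ⟨E', ⟨s⟩, e', he'⟩ := h ⟨v, rfl⟩
        obtain ⟨E3, f, g, e3, h1, h2⟩ := exists_etOver_over_pair E E' v e' he'.symm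
        exact ⟨E3, f, ⟨F.obj.map g.op s⟩, e3, h1⟩
      let x : Presieve.FamilyOfElements F.obj R.arrows := fun Y f hf => Classical.choice hf
      have hx : x.Compatible := by
        intro Y₁ Y₂ Z g₁ g₂ f₁ f₂ h₁ h₂ _
        exact (hF Z).elim _ _
      obtain ⟨t, -, -⟩ := hsheaf R hR x hx
      exact ⟨t⟩
  refine ⟨W0, ⟨hW0, hiff⟩, ?_⟩
  rintro W' ⟨hW', hiff'⟩
  ext x
  constructor
  · intro hx
    obtain ⟨U, a, u, -, ha, hu⟩ := exists_affine_etale_chart_at hX x
    let V : U.left.Opens := ⟨Points.ofPt a ⁻¹' W', (Points.continuous_ofPt a).isOpen_preimage _ hW'⟩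
    have hea : AlgSp.RepWith @Etale ((AlgSp.yon S).map (opensOverι U V) ≫ a) :=
      repWith_etale_yon_map_comp _ inferInstance a ha
    let E' : AlgSp.EtOver X := AlgSp.EtOver.mk _ hea
    have hrange : Set.range (Points.ofPt E'.obj.hom) = Points.ofPt a '' (V : Set ↥U.left) :=
      range_ofPt_opensOverι_comp U V a
    have hne : Nonempty (F.obj.obj (op E')) := by
      rw [hiff' E', hrange]
      rintro _ ⟨v, hv, rfl⟩
      exact hv
    refine ⟨E', hne, ?_⟩
    rw [hrange]
    refine ⟨u, ?_, hu⟩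
    show Points.ofPt a u ∈ W'
    rw [hu]
    exact hx
  · rintro ⟨E, hne, hx⟩
    exact (hiff' E).1 hne hx

end Groth.Agent.Lib.Helper51
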