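import Groth.Agent.Lib.Helper51.AlgSpEtStalkExact

/-!
Supports of abelian sheaves on the small etale site and morphisms (helper51).
-/

set_option autoImplicit false
set_option linter.unusedSectionVars false
universe u
open CategoryTheory CategoryTheory.Limits AlgebraicGeometry Opposite

set_option backward.isDefEq.respectTransparency false

namespace Groth.Agent.Lib.Helper51

open AlgSp Groth.Agent.Lib.Helper52

variable {S : Scheme.{u}} {X : AlgSp.Sp S}

theorem not_isZero_stalkEt_of_epi (hX : AlgSp.IsAlgSpace X) {F G : AlgSp.AbEt X} (a : F ⟶ G)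
    [Epi a] (p : AlgSp.FieldPt X) (hp : p.IsGeometric) (h : ¬ IsZero (AlgSp.stalkEt p G)) :
    ¬ IsZero (AlgSp.stalkEt p F) := by
  intro hF
  apply h
  have := preservesFiniteColimits_stalkEtFunctor AddCommGrpCat.{u + 1} hX p hp
  have hepi : Epi ((AlgSp.stalkEtFunctor AddCommGrpCat.{u + 1} p).map a) := inferInstance
  have hF' : IsZero ((AlgSp.stalkEtFunctor AddCommGrpCat.{u + 1} p).obj F) := hF
  show IsZero ((AlgSp.stalkEtFunctor AddCommGrpCat.{u + 1} p).obj G)
  rw [IsZero.iff_id_eq_zero, ← cancel_epi ((AlgSp.stalkEtFunctor AddCommGrpCat.{u + 1} p).map a)]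
  exact hF'.eq_of_src _ _

theorem not_isZero_stalkEt_of_mono (hX : AlgSp.IsAlgSpace X) {F G : AlgSp.AbEt X} (a : F ⟶ G)
    [Mono a] (p : AlgSp.FieldPt X) (hp : p.IsGeometric) (h : ¬ IsZero (AlgSp.stalkEt p F)) :
    ¬ IsZero (AlgSp.stalkEt p G) := by
  intro hG
  apply h
  have := preservesFiniteLimits_stalkEtFunctor AddCommGrpCat.{u + 1} hX p hp
  have hmono : Mono ((AlgSp.stalkEtFunctor AddCommGrpCat.{u + 1} p).map a) := inferInstance
  have hG' : IsZero ((AlgSp.stalkEtFunctor AddCommGrpCat.{u + 1} p).obj G) := hG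
  show IsZero ((AlgSp.stalkEtFunctor AddCommGrpCat.{u + 1} p).obj F)
  rw [IsZero.iff_id_eq_zero, ← cancel_mono ((AlgSp.stalkEtFunctor AddCommGrpCat.{u + 1} p).map a)]
  exact hG'.eq_of_tgt _ _

end Groth.Agent.Lib.Helper51
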