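import Groth.Agent.Lib.Helper51.AlgSpEtGerm
import Mathlib.CategoryTheory.Sites.Whiskering

/-!
The largest open on which a section of an abelian sheaf on the small etale site vanishes
(helper51).
-/

set_option autoImplicit false
set_option linter.unusedSectionVars false
universe u
open CategoryTheory CategoryTheory.Limits AlgebraicGeometry Opposite

set_option backward.isDefEq.respectTransparency false

namespace Groth.Agent.Lib.Helper51

open AlgSp Groth.Agent.Lib.Helper52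

variable {S : Scheme.{u}} {X : AlgSp.Sp S}

/-- A section of an abelian sheaf on the small etale site which vanishes locally vanishes. -/
theorem section_eq_zero_of_locally (F : AlgSp.AbEt X) (V : AlgSp.EtOver X)
    (τ : ↥(F.obj.obj (op V)))
    (h : ∀ v : ↥V.obj.left.left, ∃ (E : AlgSp.EtOver X) (f : E ⟶ V),
      v ∈ Set.range f.hom.left.left ∧ (F.obj.map f.op).hom τ = 0) : τ = 0 := by
  let R : Sieve V :=
    { arrows := fun E f => (F.obj.map f.op).hom τ = 0
      downward_closed := by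
        intro Y Z f hf g
        show (F.obj.map (g ≫ f).op).hom τ = 0
        rw [op_comp, Functor.map_comp]
        show (F.obj.map g.op).hom ((F.obj.map f.op).hom τ) = 0
        rw [hf, map_zero] }
  have hR : R ∈ AlgSp.etTop X V := by
    rw [← Sieve.generate_sieve R]
    apply Precoverage.generate_mem_toGrothendieck
    apply mem_etPre_of_forall_mem_range
    intro v
    obtain ⟨E, f, hv, hf⟩ := h v
    exact ⟨E, f, hf, hv⟩
  refine (Sheaf.isSeparated F) V R hR τ 0 (fun Y f hf => ?_)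
  rw [map_zero]
  exact hf

/-- Germs are compatible with restriction. -/
theorem stalkEtι_map_ab (p : AlgSp.FieldPt X) (F : AlgSp.AbEt X) {V U : AlgSp.EtOver X}
    (φ : V ⟶ U) (l : (AlgSp.FieldPt.liftsTo p).obj V) (σ : ↥(F.obj.obj (op U))) :
    (AlgSp.stalkEtι p F ⟨V, l⟩).hom ((F.obj.map φ.op).hom σ) =
      (AlgSp.stalkEtι p F ⟨U, (AlgSp.FieldPt.liftsTo p).map φ l⟩).hom σ := by
  let N1 : AlgSp.EtNbhd p := ⟨V, l⟩
  let N2 : AlgSp.EtNbhd p := ⟨U, (AlgSp.FieldPt.liftsTo p).map φ l⟩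
  let g : N1 ⟶ N2 := ⟨φ, rfl⟩
  have h := colimit.w (AlgSp.stalkEtDiagram p F) g.op
  have h2 := congrArg (fun k => k.hom σ) h
  exact h2

/-- The largest open of a scheme etale over `X` on which a section of an abelian sheaf vanishes. -/
theorem exists_open_forall_restrict_eq_zero_iff (hX : AlgSp.IsAlgSpace X) (F : AlgSp.AbEt X)
    (U : AlgSp.EtOver X) (σ : ↥(F.obj.obj (op U))) :
    ∃ W : TopologicalSpace.Opens ↥U.obj.left.left,
      (∀ (V : AlgSp.EtOver X) (φ : V ⟶ U),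
          (F.obj.map φ.op).hom σ = 0 ↔
            Set.range (fun v => φ.hom.left.left v) ⊆ (W : Set ↥U.obj.left.left)) ∧
      (∀ p : AlgSp.FieldPt X, p.IsGeometric → ∀ l : (AlgSp.FieldPt.liftsTo p).obj U,
          (AlgSp.stalkEtι p F ⟨U, l⟩).hom σ = 0 ↔
            l.1.left (IsLocalRing.closedPoint p.K) ∈ W) := by
  let Ws : Set ↥U.obj.left.left := {u | ∃ (V : AlgSp.EtOver X) (φ : V ⟶ U),
    (F.obj.map φ.op).hom σ = 0 ∧ u ∈ Set.range φ.hom.left.left}
  have hWs : IsOpen Ws := by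
    rw [isOpen_iff_forall_mem_open]
    rintro u ⟨V, φ, hφ, hu⟩
    have : Etale φ.hom.left.left := AlgSp.EtOver.etale_left φ
    refine ⟨Set.range φ.hom.left.left, ?_, φ.hom.left.left.isOpenMap.isOpen_range, hu⟩
    intro u' hu'
    exact ⟨V, φ, hφ, hu'⟩
  have hb : ∀ p : AlgSp.FieldPt X, p.IsGeometric → ∀ l : (AlgSp.FieldPt.liftsTo p).obj U,
      (AlgSp.stalkEtι p F ⟨U, l⟩).hom σ = 0 ↔ l.1.left (IsLocalRing.closedPoint p.K) ∈ Ws := by
    intro p hp l
    rw [stalkEtι_eq_zero_iff_ab hX p hp F ⟨U, l⟩ σ]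
    constructor
    · rintro ⟨E, f, y, hy, hf⟩
      refine ⟨E, f, hf, y.1.left (IsLocalRing.closedPoint p.K), ?_⟩
      rw [← liftsTo_map_apply, hy]
    · rintro ⟨V, φ, hφ, hu⟩
      obtain ⟨y, hy⟩ := exists_liftsTo_of_mem_range p hp φ l hu
      exact ⟨V, φ, y, hy, hφ⟩
  refine ⟨⟨Ws, hWs⟩, ?_, hb⟩
  intro V φ
  constructor
  · rintro h _ ⟨v, rfl⟩
    exact ⟨V, φ, h, v, rfl⟩
  · intro h
    apply section_eq_zero_of_locally F V
    intro v
    obtain ⟨p, hp, l, hl⟩ := exists_geometric_lift_through V v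
    have h0 : (AlgSp.stalkEtι p F ⟨V, l⟩).hom ((F.obj.map φ.op).hom σ) = 0 := by
      rw [stalkEtι_map_ab, hb p hp]
      rw [liftsTo_map_apply, hl]
      exact h ⟨v, rfl⟩
    obtain ⟨E, f, y, hy, hf⟩ :=
      (stalkEtι_eq_zero_iff_ab hX p hp F ⟨V, l⟩ ((F.obj.map φ.op).hom σ)).1 h0
    refine ⟨E, f, ⟨y.1.left (IsLocalRing.closedPoint p.K), ?_⟩, hf⟩
    rw [← liftsTo_map_apply, hy]
    exact hl

end Groth.Agent.Lib.Helper51
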