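import Groth.Agent.Lib.Helper51.AlgSpMonoField
import Groth.Agent.Lib.Helper30.AlgSpFib
import Groth.Prelude.Def_AlgSp4

/-!
One-point algebraic spaces: spaces covered by the spectrum of a field (helper51).
-/

set_option autoImplicit false
set_option linter.unusedSectionVars false
universe u
open CategoryTheory CategoryTheory.Limits AlgebraicGeometry Opposite

set_option backward.isDefEq.respectTransparency false

namespace Groth.Agent.Lib.Helper51

open AlgSp Groth.Agent.Lib.Helper52

variable {S : Scheme.{u}}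

/-- A map from a scheme to an algebraic space which is flat, locally of finite presentation (on
charts) and surjective on points is an epimorphism of sheaves. -/
theorem epi_of_locP_flat_lfp_surjective {T : Over S} {Z : AlgSp.Sp S} (hZ : AlgSp.IsAlgSpace Z)
    (p : (AlgSp.yon S).obj T ⟶ Z) (hfl : AlgSp.LocP @Flat p)
    (hfp : AlgSp.LocP @LocallyOfFinitePresentation p) (hs : AlgSp.IsSurjectiveMor p) : Epi p := by
  obtain ⟨V, b, hbe, hbs⟩ := hZ.atlas
  have hrep := hZ.representable_from_yon p
  have hps : AlgSp.RepWith @Surjective p := repWith_surjective_of_surjective_map hrep hs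
  obtain ⟨W, φ, ψ, sq⟩ := exists_isPullback_of_representable hrep b
  have hφ : Etale φ.left := hbe.2 p _ φ sq.flip
  have hφ' : AlgSp.RepWith @Etale ((AlgSp.yon S).map φ) := (AlgSp.repWith_yon_map_iff @Etale φ).2 hφ
  have h1 : Flat ψ.left := hfl _ b ψ hφ' hbe sq.w
  have h2 : LocallyOfFinitePresentation ψ.left := hfp _ b ψ hφ' hbe sq.w
  have h3 : Surjective ψ.left := hps.2 b _ ψ sq
  have hls := Groth.Agent.S9885.result S _ _ ((AlgSp.yon S).map ψ)
    ((AlgSp.repWith_yon_map_iff @Flat ψ).2 h1)
    ((AlgSp.repWith_yon_map_iff @LocallyOfFinitePresentation ψ).2 h2)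
    ((AlgSp.repWith_yon_map_iff @Surjective ψ).2 h3)
  have e1 : Epi ((AlgSp.yon S).map ψ) := inferInstance
  have e2 : Epi b := Groth.Agent.Lib.Helper30.epi_of_repWith_etale_surjective b hbe hbs
  have e3 : Epi ((AlgSp.yon S).map φ ≫ p) := by rw [sq.w]; infer_instance
  exact epi_of_epi ((AlgSp.yon S).map φ) p

/-- A monomorphism into an algebraic space covered (flat, lfp, surjective) by the spectrum of a
field is an isomorphism or has empty source. -/
theorem isEmpty_or_isIso_of_mono_of_field_cover {Z' Z : AlgSp.Sp S} (hZ' : AlgSp.IsAlgSpace Z')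
    (hZ : AlgSp.IsAlgSpace Z) (f : Z' ⟶ Z) [Mono f] {k : Type u} [Field k]
    (str : Spec (CommRingCat.of k) ⟶ S) (p : (AlgSp.yon S).obj (Over.mk str) ⟶ Z)
    (hfp : AlgSp.LocP @LocallyOfFinitePresentation p) (hfl : AlgSp.LocP @Flat p)
    (hs : AlgSp.IsSurjectiveMor p) : IsEmpty (AlgSp.Points Z') ∨ IsIso f := by
  have sqP := IsPullback.of_hasPullback f p
  have hP : AlgSp.IsAlgSpace (pullback f p) :=
    Groth.Agent.Lib.Helper30.isAlgSpace_of_isPullback hZ.diag hZ' (AlgSp.IsAlgSpace.yon_obj _) sqP
  by_cases hne : Nonempty (AlgSp.Points (pullback f p))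
  · right
    have hiso : IsIso (pullback.snd f p) := isIso_of_mono_to_yon_field str hP _ hne
    have hepi : Epi p := epi_of_locP_flat_lfp_surjective hZ p hfl hfp hs
    have hfac : (inv (pullback.snd f p) ≫ pullback.fst f p) ≫ f = p := by
      rw [Category.assoc, pullback.condition, IsIso.inv_hom_id_assoc]
    have : Epi ((inv (pullback.snd f p) ≫ pullback.fst f p) ≫ f) := by rw [hfac]; exact hepi
    have : Epi f := epi_of_epi (inv (pullback.snd f p) ≫ pullback.fst f p) f
    exact isIso_of_mono_of_epi f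
  · left
    refine ⟨fun z' => hne ?_⟩
    obtain ⟨t, ht⟩ := hs (Points.map f z')
    obtain ⟨w, -, -⟩ := exists_point_of_isPullback sqP z' t ht.symm
    exact ⟨w⟩

end Groth.Agent.Lib.Helper51
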