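import Groth.Agent.Lib.Helper51.AlgSpSchImImm

set_option autoImplicit false
set_option linter.unusedSectionVars false
universe u
open CategoryTheory CategoryTheory.Limits AlgebraicGeometry Opposite

set_option backward.isDefEq.respectTransparency false

namespace Groth.Agent.Lib.Helper51.SchemeDense

/-- A schematically dense open (strong sense) has inclusion with trivial kernel. -/
theorem ker_ι_eq_bot_of_isSchematicallyDense {V : Scheme.{u}} (W : V.Opens)
    (hW : CInt.IsSchematicallyDense W) : W.ι.ker = ⊥ := by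
  rw [← le_bot_iff, Scheme.Hom.ker, Scheme.IdealSheafData.le_def]
  intro U' x hx
  have hx' := Scheme.IdealSheafData.ideal_ofIdeals_le _ U' hx
  rw [RingHom.mem_ker, Scheme.Opens.ι_app] at hx'
  have hle : U'.1 ⊓ W ≤ W.ι ''ᵁ W.ι ⁻¹ᵁ U'.1 := by
    rintro v ⟨hv1, hv2⟩
    exact ⟨⟨v, hv2⟩, hv1, rfl⟩
  have h1 : (V.presheaf.map (homOfLE (inf_le_left : U'.1 ⊓ W ≤ U'.1)).op).hom x = 0 := by
    have : (homOfLE (inf_le_left : U'.1 ⊓ W ≤ U'.1)).op =
        (homOfLE (x := W.ι ''ᵁ W.ι ⁻¹ᵁ U'.1) (Set.image_preimage_subset _ _)).op ≫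
          (homOfLE hle).op := rfl
    rw [this, V.presheaf.map_comp, CommRingCat.comp_apply]
    exact (congrArg _ hx').trans (map_zero _)
  have h2 := hW U'.1 (h1.trans (map_zero _).symm)
  simp only [Scheme.IdealSheafData.ideal_bot, Pi.bot_apply, Ideal.mem_bot]
  exact h2

end Groth.Agent.Lib.Helper51.SchemeDense

namespace Groth.Agent.Lib.Helper51.ClosedSub

open AlgSp Groth.Agent.Lib.Helper52 Groth.Agent.Lib.Helper51 Groth.Agent.Lib.Helper51.RedInd
open Groth.Agent.Lib.Helper51.SchemeDense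

variable {S : Scheme.{u}}

theorem repWith_isImmersion_of_isOpenImmersion {A B : AlgSp.Sp S} (j : A ⟶ B)
    (hj : AlgSp.RepWith @IsOpenImmersion j) : AlgSp.RepWith @IsImmersion j :=
  MorphismProperty.relative_monotone (fun A B k hk => by
    have : IsOpenImmersion k.left := hk
    change IsImmersion k.left
    infer_instance) _ hj

theorem isSchImage_id_of_isSchDense {U X : AlgSp.Sp S} (j : U ⟶ X) (hj : AlgSp.IsSchDense j) :
    AlgSp.IsSchImage j (𝟙 X) := by
  refine ⟨MorphismProperty.id_mem _ _, ⟨j, Category.comp_id j⟩, ?_⟩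
  intro Z' i' hZ' hi' hf''
  obtain ⟨f'', hf''⟩ := hf''
  obtain ⟨-, V, φ, W, fst, hφe, hφs, sq, hdense⟩ := hj
  let ZV' : Over S := hi'.rep.pullback φ
  let g'' : (AlgSp.yon S).obj ZV' ⟶ Z' := hi'.rep.fst φ
  let c'' : ZV' ⟶ V := hi'.rep.snd φ
  have sq'' : IsPullback g'' ((AlgSp.yon S).map c'') i' φ := hi'.rep.isPullback φ
  have hc'' : IsClosedImmersion c''.left := hi'.property φ g'' c'' sq''
  let ιW : Over.mk (W.ι ≫ V.hom) ⟶ V := Over.homMk W.ι rfl
  have hcomm : (fst ≫ f'') ≫ i' = (AlgSp.yon S).map ιW ≫ φ := by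
    rw [Category.assoc, hf'', sq.w]
  let m0 := sq''.lift _ _ hcomm
  have hm0 : m0 ≫ (AlgSp.yon S).map c'' = (AlgSp.yon S).map ιW := sq''.lift_snd _ _ _
  let m : Over.mk (W.ι ≫ V.hom) ⟶ ZV' := (AlgSp.yon S).preimage m0
  have hm : m ≫ c'' = ιW := (AlgSp.yon S).map_injective (by
    rw [Functor.map_comp, Functor.map_preimage]; exact hm0)
  have hk : c''.left.ker = ⊥ := by
    rw [← le_bot_iff, ← ker_ι_eq_bot_of_isSchematicallyDense W hdense]
    have h1 : c''.left.ker ≤ (m.left ≫ c''.left).ker := Scheme.Hom.le_ker_comp m.left c''.left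
    have h2 : m.left ≫ c''.left = W.ι := congrArg CommaMorphism.left hm
    rw [h2] at h1
    exact h1
  have hiso : IsIso c''.left := IsClosedImmersion.isIso_iff_ker_eq_bot.2 hk
  have hiso' : IsIso c'' := by
    have : IsIso ((Over.forget S).map c'') := hiso
    exact isIso_of_reflects_iso _ (Over.forget S)
  have hφepi : Epi φ := Groth.Agent.Lib.Helper30.epi_of_repWith_etale_surjective φ hφe hφs
  have hi'mono : Mono i' := mono_of_repWith_isClosedImmersion i' hi'
  have hstrong : StrongEpi φ := strongEpi_of_epi φ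
  have csq : CommSq ((AlgSp.yon S).map (inv c'') ≫ g'') φ i' (𝟙 X) := by
    refine ⟨?_⟩
    rw [Category.assoc, sq''.w, ← Category.assoc, ← Functor.map_comp, IsIso.inv_hom_id,
      CategoryTheory.Functor.map_id, Category.id_comp, Category.comp_id]
  exact ⟨csq.lift, csq.fac_right⟩

theorem isSchDense_iff_isSchImage_id {U X : AlgSp.Sp S} (hX : AlgSp.IsAlgSpace X) (j : U ⟶ X)
    (hj : AlgSp.RepWith @IsOpenImmersion j) (hq : AlgSp.IsQuasiCompactMor j) :
    AlgSp.IsSchDense j ↔ AlgSp.IsSchImage j (𝟙 X) := by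
  constructor
  · exact isSchImage_id_of_isSchDense j
  · intro h
    exact (immersion_into_schImage hX j (repWith_isImmersion_of_isOpenImmersion j hj) (Or.inl hq)
      (𝟙 X) h j (Category.comp_id j)).2.1

end Groth.Agent.Lib.Helper51.ClosedSub
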