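import Groth.Agent.Lib.Helper51.AlgSpSchDenseFlat
import Groth.Agent.Lib.Helper51.AlgSpOnePt
import Groth.Agent.Lib.Helper51.AlgSpQuotField
import Groth.Agent.Lib.Helper78.AlgSpLocP3
import Groth.Agent.Lib.Helper78.AlgSpLocPFlat
import Groth.Agent.Lib.Helper51.AlgSpSchDenseIff
import Groth.Agent.Lib.Helper30.AlgSpFib

set_option autoImplicit false
set_option linter.unusedSectionVars false
universe u
open CategoryTheory CategoryTheory.Limits AlgebraicGeometry Opposite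

set_option backward.isDefEq.respectTransparency false

namespace Groth.Agent.Lib.Helper51.ClosedSub

open AlgSp Groth.Agent.Lib.Helper52 Groth.Agent.Lib.Helper51

variable {S : Scheme.{u}}

/-- a surjective flat morphism locally of finite presentation between algebraic spaces is an
epimorphism of sheaves. -/
theorem epi_of_locP_flat_lfp_surjective' {X Z : AlgSp.Sp S} (hX : AlgSp.IsAlgSpace X)
    (hZ : AlgSp.IsAlgSpace Z) (g : X ⟶ Z) (hfl : AlgSp.LocP @Flat g)
    (hfp : AlgSp.LocP @LocallyOfFinitePresentation g) (hs : AlgSp.IsSurjectiveMor g) : Epi g := by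
  obtain ⟨X₀, c, hce, hcs⟩ := hX.atlas
  have h1 : AlgSp.LocP @Flat (c ≫ g) := by
    intro U W a b h ha hb hcomm
    exact hfl (a ≫ c) b h ((AlgSp.RepWith @Etale).comp_mem _ _ ha hce) hb
      (by rw [Category.assoc]; exact hcomm)
  have h2 : AlgSp.LocP @LocallyOfFinitePresentation (c ≫ g) := by
    intro U W a b h ha hb hcomm
    exact hfp (a ≫ c) b h ((AlgSp.RepWith @Etale).comp_mem _ _ ha hce) hb
      (by rw [Category.assoc]; exact hcomm)
  have h3 : AlgSp.IsSurjectiveMor (c ≫ g) := by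
    intro z
    obtain ⟨x, rfl⟩ := hs z
    obtain ⟨x₀, rfl⟩ := surjective_map_of_repWith_surjective hcs x
    exact ⟨x₀, by rw [Points.map_comp]⟩
  have : Epi (c ≫ g) := epi_of_locP_flat_lfp_surjective hZ (c ≫ g) h1 h2 h3
  exact epi_of_epi c g

/-- a morphism `f` that factors through the fppf covering `g` over a quasi-compact scheme
theoretically dense open of the target of `g` factors through `g`, when the target of `f` is
separated over the base. -/
theorem exists_factor_of_factor_over_schDense_open {B X Y Z V : AlgSp.Sp S}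
    (hB : AlgSp.IsAlgSpace B) (hX : AlgSp.IsAlgSpace X) (hYs : AlgSp.IsAlgSpace Y)
    (hZ : AlgSp.IsAlgSpace Z) (pY : Y ⟶ B) (pZ : Z ⟶ B) (f : X ⟶ Y) (g : X ⟶ Z)
    (hfg : f ≫ pY = g ≫ pZ) (hY : AlgSp.IsSeparatedMor pY)
    (hgs : AlgSp.IsSurjectiveMor g) (hgf : AlgSp.LocP @Flat g)
    (hgp : AlgSp.LocP @LocallyOfFinitePresentation g)
    (v : V ⟶ Z) (hv : AlgSp.IsSchDense v) (hvq : AlgSp.IsQuasiCompactMor v)
    (hfac : ∃ φ : V ⟶ Y, pullback.fst g v ≫ f = pullback.snd g v ≫ φ) :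
    ∃ h : Z ⟶ Y, g ≫ h = f := by
  haveI : Epi g := epi_of_locP_flat_lfp_surjective' hX hZ g hgf hgp hgs
  obtain ⟨φ, hφ⟩ := hfac
  suffices H : pullback.fst g g ≫ f = pullback.snd g g ≫ f from
    exists_desc_of_epi g (IsPullback.of_hasPullback g g) f H
  set r₁ := pullback.fst g g with hr₁
  set r₂ := pullback.snd g g with hr₂
  have hr : r₁ ≫ g = r₂ ≫ g := pullback.condition
  have hR : AlgSp.IsAlgSpace (pullback g g) :=
    Groth.Agent.Lib.Helper30.isAlgSpace_of_isPullback hZ.diag hX hX (IsPullback.of_hasPullback g g)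
  have hD : AlgSp.IsAlgSpace (pullback pY pY) :=
    Groth.Agent.Lib.Helper30.isAlgSpace_of_isPullback hB.diag hYs hYs
      (IsPullback.of_hasPullback pY pY)
  have hm : (r₁ ≫ f) ≫ pY = (r₂ ≫ f) ≫ pY := by
    rw [Category.assoc, Category.assoc, hfg, ← Category.assoc, ← Category.assoc, hr]
  set m : pullback g g ⟶ pullback pY pY := pullback.lift (r₁ ≫ f) (r₂ ≫ f) hm with hm_def
  have hm₁ : m ≫ pullback.fst pY pY = r₁ ≫ f := pullback.lift_fst _ _ _
  have hm₂ : m ≫ pullback.snd pY pY = r₂ ≫ f := pullback.lift_snd _ _ _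
  set Δ := pullback.diagonal pY with hΔ
  have hΔ₁ : Δ ≫ pullback.fst pY pY = 𝟙 Y := pullback.diagonal_fst pY
  have hΔ₂ : Δ ≫ pullback.snd pY pY = 𝟙 Y := pullback.diagonal_snd pY
  set e := pullback.snd Δ m with he_def
  have he : AlgSp.RepWith @IsClosedImmersion e :=
    MorphismProperty.of_isPullback (IsPullback.of_hasPullback Δ m) hY
  have hE : AlgSp.IsAlgSpace (pullback Δ m) :=
    Groth.Agent.Lib.Helper30.isAlgSpace_of_isPullback hD.diag hYs hR
      (IsPullback.of_hasPullback Δ m)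
  have hcond : pullback.fst Δ m ≫ Δ = e ≫ m := pullback.condition
  have he₁ : e ≫ r₁ ≫ f = pullback.fst Δ m := by
    rw [← hm₁, ← Category.assoc, ← hcond, Category.assoc, hΔ₁, Category.comp_id]
  have he₂ : e ≫ r₂ ≫ f = pullback.fst Δ m := by
    rw [← hm₂, ← Category.assoc, ← hcond, Category.assoc, hΔ₂, Category.comp_id]
  -- the base change of `V` to `R`
  set ρ := pullback.fst (r₂ ≫ g) v with hρ_def
  set σ := pullback.snd (r₂ ≫ g) v with hσ_def
  have hρσ : ρ ≫ r₂ ≫ g = σ ≫ v := pullback.condition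
  have sqV : IsPullback σ ρ v (r₂ ≫ g) := (IsPullback.of_hasPullback (r₂ ≫ g) v).flip
  have hatl : ∀ {W : AlgSp.Sp S}, AlgSp.IsAlgSpace W →
      ∃ (U : Over S) (a : (AlgSp.yon S).obj U ⟶ W), AlgSp.RepWith @Etale a ∧
        AlgSp.RepWith @Surjective a := fun hW => hW.atlas
  have hr₂fl : AlgSp.LocP @Flat r₂ :=
    Groth.Agent.Lib.Helper78.AlgSpLocP.locP_of_isPullback
      Groth.Agent.Lib.Helper78.AlgSpLocPFlat.etLocalST_flat (IsPullback.of_hasPullback g g)
      (Groth.Agent.Lib.Helper78.AlgSpFibre.repAll_of_isAlgSpace hZ) (hatl hX) (hatl hZ) hgf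
  have hflat : AlgSp.LocP @Flat (r₂ ≫ g) :=
    Groth.Agent.Lib.Helper78.AlgSpLocP.locP_comp
      Groth.Agent.Lib.Helper78.AlgSpLocPFlat.etLocalST_flat r₂ g (hatl hX) hr₂fl hgf
  have hρd : AlgSp.IsSchDense ρ :=
    isSchDense_of_flat_base_change hR hZ (r₂ ≫ g) hflat v hv hvq σ ρ sqV
  -- `ρ` factors through `e`
  have hl₁ : (ρ ≫ r₁) ≫ g = σ ≫ v := by
    rw [Category.assoc, hr, hρσ]
  have hl₂ : (ρ ≫ r₂) ≫ g = σ ≫ v := by
    rw [Category.assoc, hρσ]
  have hρ₁ : ρ ≫ r₁ ≫ f = σ ≫ φ := by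
    have := pullback.lift (ρ ≫ r₁) σ hl₁ ≫= hφ
    rwa [pullback.lift_fst_assoc, pullback.lift_snd_assoc, Category.assoc] at this
  have hρ₂ : ρ ≫ r₂ ≫ f = σ ≫ φ := by
    have := pullback.lift (ρ ≫ r₂) σ hl₂ ≫= hφ
    rwa [pullback.lift_fst_assoc, pullback.lift_snd_assoc, Category.assoc] at this
  have hlift : (ρ ≫ r₁ ≫ f) ≫ Δ = ρ ≫ m := by
    apply pullback.hom_ext
    · rw [Category.assoc, hΔ₁, Category.comp_id, Category.assoc, hm₁]
    · rw [Category.assoc, hΔ₂, Category.comp_id, Category.assoc, hm₂, hρ₁, hρ₂]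
  have ht : pullback.lift (ρ ≫ r₁ ≫ f) ρ hlift ≫ e = ρ := pullback.lift_snd _ _ _
  obtain ⟨k, hk⟩ := (isSchImage_id_of_isSchDense ρ hρd).2.2 e hE he ⟨_, ht⟩
  calc r₁ ≫ f = (k ≫ e) ≫ r₁ ≫ f := by rw [hk, Category.id_comp]
    _ = (k ≫ e) ≫ r₂ ≫ f := by rw [Category.assoc, he₁, Category.assoc, he₂]
    _ = r₂ ≫ f := by rw [hk, Category.id_comp]

end Groth.Agent.Lib.Helper51.ClosedSub
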