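import Groth.Agent.Lib.Helper98.AlgSpLqfFinite
import Groth.Agent.Lib.Helper78.AlgSpLocP3
import Groth.Agent.Lib.Helper78.AlgSpLocPLoft
import Groth.Agent.Lib.Helper51.AlgSpMonoPt
import Groth.Agent.Lib.Helper51.AlgSpPoints2
import Groth.Agent.Lib.Helper51.AlgSpQuotField4

/-!
# Finiteness of the points of a fibre product over a pair of points (helper51)

* `finite_fibre_of_lqfNear`: for schemes, `h : V ⟶ T` quasi-finite near `v`, `T`, `T'` affine with `T'` a one point
  space, the fibre of `V ×_T T' ⟶ V` over `v` is finite.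
* `finite_points_over`: for `W = X ×_Y Z` with `y` represented by a monomorphism from a field and `g` quasi-finite
  at `z`, finitely many points of `W` lie over `(x, z)`.
-/

set_option autoImplicit false
universe u
open CategoryTheory CategoryTheory.Limits AlgebraicGeometry Topology TopologicalSpace
open AlgSp

namespace Groth.Agent.Lib.Helper51.FibFin

open Groth.Agent.Lib.Helper31.AlgSpFlatAt Groth.Agent.Lib.Helper52 Groth.Agent.Lib.Helper51
  Groth.Agent.Lib.Helper98.AlgSpPtLocal Groth.Agent.Lib.Helper98.AlgSpLqf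
  Groth.Agent.Lib.Helper78.AlgSpFibre Groth.Agent.Lib.Helper78.AlgSpLocP
  Groth.Agent.Lib.Helper78.AlgSpLocPLoft

variable {S : Scheme.{u}}

set_option backward.isDefEq.respectTransparency false

theorem finite_fibre_of_lqfNear {V T T' : Scheme.{u}} [IsAffine T] [IsAffine T'] [Subsingleton ↥T']
    (h : V ⟶ T) (c : T' ⟶ T) (v : ↥V)
    (hq : ∃ W : V.Opens, v ∈ W ∧ LocallyQuasiFinite (W.ι ≫ h) ∧ LocallyOfFiniteType (W.ι ≫ h)) :
    {η : ↥(pullback h c) | (pullback.fst h c) η = v}.Finite := by
  obtain ⟨W, hvW, hW1, hW2⟩ := hq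
  obtain ⟨W', hW'aff, hvW', hW'W⟩ := exists_isAffineOpen_mem_and_subset hvW
  have hle : W' ≤ W := hW'W
  have hlqf : LocallyQuasiFinite (W'.ι ≫ h) := by
    rw [← V.homOfLE_ι hle, Category.assoc]; infer_instance
  have sq : IsPullback (pullback.fst W'.ι (pullback.fst h c))
      (pullback.snd W'.ι (pullback.fst h c) ≫ pullback.snd h c) (W'.ι ≫ h) c :=
    (IsPullback.of_hasPullback W'.ι (pullback.fst h c)).paste_vert (IsPullback.of_hasPullback h c)
  have hlqf' : LocallyQuasiFinite (pullback.snd W'.ι (pullback.fst h c) ≫ pullback.snd h c) :=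
    MorphismProperty.of_isPullback sq hlqf
  haveI : IsAffine W'.toScheme := hW'aff
  haveI : IsAffine (pullback W'.ι (pullback.fst h c)) := IsAffine.of_isIso sq.isoPullback.hom
  haveI : QuasiCompact (pullback.snd W'.ι (pullback.fst h c) ≫ pullback.snd h c) := inferInstance
  have hall : (Set.univ : Set ↥(pullback W'.ι (pullback.fst h c))).Finite := by
    rcases isEmpty_or_nonempty ↥(pullback W'.ι (pullback.fst h c)) with hP | ⟨⟨ζ0⟩⟩
    · exact (Set.subsingleton_of_subsingleton).finite
    · refine (Scheme.Hom.finite_preimage_singleton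
        (pullback.snd W'.ι (pullback.fst h c) ≫ pullback.snd h c)
        ((pullback.snd W'.ι (pullback.fst h c) ≫ pullback.snd h c) ζ0)).subset ?_
      intro ζ _
      exact Subsingleton.elim _ _
  refine (hall.image (pullback.snd W'.ι (pullback.fst h c))).subset ?_
  intro η (hη : (pullback.fst h c) η = v)
  obtain ⟨ζ, -, hζ⟩ := Scheme.Pullback.exists_preimage_pullback (f := W'.ι) (g := pullback.fst h c)
    (⟨v, hvW'⟩ : ↥W') η (by rw [hη]; rfl)
  exact ⟨ζ, Set.mem_univ _, hζ⟩

/-- the points of `Spec K ×_Y Z` over a point `z` at which `g` is quasi-finite are finite in number, when the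
point `g z` is represented by a monomorphism from the spectrum of a field. -/
theorem finite_points_fieldPt {Y Z : AlgSp.Space S} (g : Z ⟶ Y) (z : Points Z.obj)
    (r : FieldPt Y.obj) (hr : Points.mk r = Points.map g.hom z) (hm : Mono r.toHom)
    (hft : LocP @LocallyOfFiniteType g.hom) (hg : HasAtMor LqfNear g.hom z)
    (t : FieldPt Y.obj) (ht : Points.mk t = Points.mk r) :
    {ξ : Points (pullback g.hom t.toHom) | Points.map (pullback.fst g.hom t.toHom) ξ = z}.Finite := by
  haveI := hm
  have hrep : AlgSp.Representable r.toHom := repAll_of_isAlgSpace Y.property r.toHom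
  obtain ⟨c, hc, -⟩ := existsUnique_factor_of_mono_fieldPt r t hrep ht.symm
  -- the fibre over `r`
  have sqk := IsPullback.of_hasPullback g.hom r.toHom
  have hZk : IsAlgSpace (pullback g.hom r.toHom) :=
    isAlgSpace_of_isPullback sqk Y.property.diag Z.property (IsAlgSpace.yon_obj r.pt)
  have sqK := IsPullback.of_hasPullback g.hom t.toHom
  have wm : pullback.fst g.hom t.toHom ≫ g.hom =
      (pullback.snd g.hom t.toHom ≫ (yon S).map c) ≫ r.toHom := by
    rw [Category.assoc, hc]; exact sqK.w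
  obtain ⟨m, hm1, hm2⟩ : ∃ m : pullback g.hom t.toHom ⟶ pullback g.hom r.toHom,
      m ≫ pullback.fst g.hom r.toHom = pullback.fst g.hom t.toHom ∧
      m ≫ pullback.snd g.hom r.toHom = pullback.snd g.hom t.toHom ≫ (yon S).map c :=
    ⟨sqk.lift _ _ wm, sqk.lift_fst _ _ _, sqk.lift_snd _ _ _⟩
  have sqm : IsPullback m (pullback.snd g.hom t.toHom) (pullback.snd g.hom r.toHom) ((yon S).map c) :=
    IsPullback.of_right (by rw [hm1, hc]; exact sqK) hm2 sqk
  -- the unique point `z'` of the fibre over `z`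
  have hptr : Points.map r.toHom (Points.ofScheme r.pt (IsLocalRing.closedPoint r.K)) = Points.mk r := by
    rw [Points.map_ofPt, Category.id_comp, Points.ofPt_toHom]
  obtain ⟨z', hz'1, hz'2⟩ := exists_point_of_isPullback sqk z
    (Points.ofScheme r.pt (IsLocalRing.closedPoint r.K)) (by rw [hptr, hr])
  have hinj : Function.Injective (Points.map (pullback.fst g.hom r.toHom)) :=
    injective_map_of_mono _
  have hmξ : ∀ ξ : Points (pullback g.hom t.toHom),
      Points.map (pullback.fst g.hom t.toHom) ξ = z → Points.map m ξ = z' := fun ξ hξ =>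
    hinj (by rw [← Points.map_comp, hm1, hξ, hz'1])
  -- quasi-finiteness at `z'`
  have hlqf : HasAtMor LqfNear (pullback.snd g.hom r.toHom) z' := by
    obtain ⟨G⟩ := exists_goodChart g.hom (𝟙 Y.obj) Z.property Y.property Y.property
    haveI : LocallyOfFiniteType G.k.left := hft G.a G.b G.k G.ha G.hb G.comm_f
    rw [hasAtMor_baseChange_iff etLocalPt_lqfNear G
      (fun mU k'' mV sq u'' => lqfNear_baseChange_iff G.k.left mU k'' mV sq u'')
      (IsAlgSpace.yon_obj r.pt) r.toHom (pullback.snd g.hom r.toHom) (𝟙 _)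
      (pullback.fst g.hom r.toHom) r.toHom IsPullback.of_id_snd sqk z', hz'1]
    exact hg
  -- an affine etale chart at `z'`
  obtain ⟨V', a', v', hV'aff, ha', hv'⟩ := exists_affine_etale_chart_at hZk z'
  obtain ⟨h, hh⟩ : ∃ h : V' ⟶ r.pt, (yon S).map h = a' ≫ pullback.snd g.hom r.toHom :=
    ⟨(yon S).preimage (a' ≫ pullback.snd g.hom r.toHom), (yon S).map_preimage _⟩
  have hq : LqfNear _ _ h.left v' := by
    rw [← hv'] at hlqf
    exact (hasAtMor_iff_of_chart etLocalPt_lqfNear (pullback.snd g.hom r.toHom) a' (𝟙 _) h ha'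
      (repWith_id _ r.pt) (by rw [Category.comp_id, hh]) v').1 hlqf
  -- the scheme `V' ×_k K`
  have hw : pullback.fst h.left c.left ≫ V'.hom = pullback.snd h.left c.left ≫ t.pt.hom := by
    rw [← Over.w h, ← Over.w c, ← Category.assoc, ← Category.assoc, pullback.condition]
  have sqV : IsPullback (Over.homMk (pullback.fst h.left c.left) hw :
      Over.mk (pullback.snd h.left c.left ≫ t.pt.hom) ⟶ V')
      (Over.homMk (pullback.snd h.left c.left) rfl :
        Over.mk (pullback.snd h.left c.left ≫ t.pt.hom) ⟶ t.pt) h c :=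
    IsPullback.of_map_of_faithful (Over.forget S) (IsPullback.of_hasPullback h.left c.left)
  have sqVy := sqV.map (AlgSp.yon S)
  haveI : IsAffine r.pt.left := inferInstanceAs (IsAffine (Spec (CommRingCat.of r.K)))
  haveI : IsAffine t.pt.left := inferInstanceAs (IsAffine (Spec (CommRingCat.of t.K)))
  haveI : Subsingleton ↥t.pt.left := inferInstanceAs (Subsingleton (PrimeSpectrum t.K))
  obtain ⟨VK, fstV, sndV, hfinV, sqVy⟩ : ∃ (VK : Over S) (fstV : VK ⟶ V') (sndV : VK ⟶ t.pt),
      {η : ↥VK.left | fstV.left η = v'}.Finite ∧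
      IsPullback ((yon S).map fstV) ((yon S).map sndV) ((yon S).map h) ((yon S).map c) :=
    ⟨_, _, _, finite_fibre_of_lqfNear h.left c.left v' hq, sqVy⟩
  -- the map `yon VK ⟶ ZK`
  have wl' : ((yon S).map fstV ≫ a') ≫ pullback.snd g.hom r.toHom =
      (yon S).map sndV ≫ (yon S).map c := by
    rw [Category.assoc, ← hh]; exact sqVy.w
  obtain ⟨l', hl'1, hl'2⟩ : ∃ l' : (yon S).obj VK ⟶ pullback g.hom t.toHom,
      l' ≫ m = (yon S).map fstV ≫ a' ∧ l' ≫ pullback.snd g.hom t.toHom = (yon S).map sndV :=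
    ⟨sqm.lift _ _ wl', sqm.lift_fst _ _ _, sqm.lift_snd _ _ _⟩
  have sql' : IsPullback l' ((yon S).map fstV) m a' :=
    IsPullback.of_right (by rw [hl'2, ← hh]; exact sqVy.flip) hl'1 sqm.flip
  refine (hfinV.image (fun η => Points.map l' (Points.ofScheme VK η))).subset ?_
  intro ξ (hξ : Points.map (pullback.fst g.hom t.toHom) ξ = z)
  have hmξ' := hmξ ξ hξ
  obtain ⟨η, hη1, hη2⟩ := exists_point_of_isPullback sql' ξ (Points.ofScheme V' v') (by
    rw [hmξ', ← hv', Points.map_ofPt, Category.id_comp])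
  refine ⟨Points.toScheme VK η, ?_, ?_⟩
  · show fstV.left (Points.toScheme VK η) = v'
    have h1 : Points.map ((yon S).map fstV) (Points.ofScheme VK (Points.toScheme VK η)) =
        Points.ofScheme V' v' := by rw [Points.ofScheme_toScheme]; exact hη2
    rw [Points.map_ofPt, Category.id_comp] at h1
    have h2 := congrArg (Points.toScheme V') h1
    rw [Points.toScheme_ofPt, Points.toScheme_ofScheme] at h2
    exact h2
  · show Points.map l' (Points.ofScheme VK (Points.toScheme VK η)) = ξ
    rw [Points.ofScheme_toScheme]; exact hη1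

/-- the case where `g` is locally of finite type. -/
theorem finite_points_over_of_loft {X Y Z W : AlgSp.Space S} (f : X ⟶ Y)
    (g : Z ⟶ Y) (p : W ⟶ X) (q : W ⟶ Z) (hW : IsPullback p.hom q.hom f.hom g.hom)
    (x : Points X.obj) (z : Points Z.obj) (hxz : Points.map f.hom x = Points.map g.hom z)
    (r : FieldPt Y.obj) (hr : Points.mk r = Points.map g.hom z) (hm : Mono r.toHom)
    (hft : LocP @LocallyOfFiniteType g.hom) (hg : HasAtMor LqfNear g.hom z) :
    {w : Points W.obj | Points.map p.hom w = x ∧ Points.map q.hom w = z}.Finite := by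
  induction x using Points.ind with
  | h s =>
  have ht : Points.mk (s.map f.hom) = Points.mk r := by rw [hr, ← hxz, Points.map_mk]
  have hE := finite_points_fieldPt g z r hr hm hft hg (s.map f.hom) ht
  have htt : (s.map f.hom).toHom = s.toHom ≫ f.hom := FieldPt.toHom_map _ _
  haveI : Subsingleton ↥s.pt.left := inferInstanceAs (Subsingleton (PrimeSpectrum s.K))
  have sqK := IsPullback.of_hasPullback g.hom (s.map f.hom).toHom
  have wl : (pullback.snd g.hom (s.map f.hom).toHom ≫ s.toHom) ≫ f.hom =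
      pullback.fst g.hom (s.map f.hom).toHom ≫ g.hom := by
    rw [Category.assoc, ← htt]; exact sqK.w.symm
  obtain ⟨l, hl1, hl2⟩ : ∃ l : pullback g.hom (s.map f.hom).toHom ⟶ W.obj,
      l ≫ p.hom = pullback.snd g.hom (s.map f.hom).toHom ≫ s.toHom ∧
      l ≫ q.hom = pullback.fst g.hom (s.map f.hom).toHom :=
    ⟨hW.lift _ _ wl, hW.lift_fst _ _ _, hW.lift_snd _ _ _⟩
  have sqL : IsPullback l (pullback.snd g.hom (s.map f.hom).toHom) p.hom s.toHom :=
    IsPullback.of_right (by rw [hl2, ← htt]; exact sqK) hl1 hW.flip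
  refine (hE.image (Points.map l)).subset ?_
  rintro w ⟨hw1, hw2⟩
  have hpt : Points.map s.toHom (Points.ofScheme s.pt (IsLocalRing.closedPoint s.K)) =
      Points.mk s := by
    rw [Points.map_ofPt, Category.id_comp, Points.ofPt_toHom]
  obtain ⟨ξ, hξ1, hξ2⟩ := exists_point_of_isPullback sqL w
    (Points.ofScheme s.pt (IsLocalRing.closedPoint s.K)) (by rw [hw1, hpt])
  refine ⟨ξ, ?_, hξ1⟩
  show Points.map (pullback.fst g.hom (s.map f.hom).toHom) ξ = z
  rw [← hl2, Points.map_comp, hξ1, hw2]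

/-- Let `W = X ×_Y Z`, `x`, `z` points over the same `y`, with `y` represented by a monomorphism from the
spectrum of a field and `g` quasi-finite at `z`. Then finitely many points of `W` lie over `(x, z)`. -/
theorem finite_points_over {X Y Z W : AlgSp.Space S} (f : X ⟶ Y)
    (g : Z ⟶ Y) (p : W ⟶ X) (q : W ⟶ Z) (hW : IsPullback p.hom q.hom f.hom g.hom)
    (x : Points X.obj) (z : Points Z.obj) (hxz : Points.map f.hom x = Points.map g.hom z)
    (hy : ∃ r : FieldPt Y.obj, Points.mk r = Points.map g.hom z ∧ Mono r.toHom)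
    (hg : HasAtMor LqfNear g.hom z) :
    {w : Points W.obj | Points.map p.hom w = x ∧ Points.map q.hom w = z}.Finite := by
  obtain ⟨r, hr, hm⟩ := hy
  obtain ⟨Z', j, hj, hjr, hjq⟩ := exists_lqf_open g
  have hzmem : z ∈ Set.range (Points.map j.hom) := by rw [hjr]; exact hg
  obtain ⟨z', hz'⟩ := hzmem
  have hft' : LocP @LocallyOfFiniteType (j ≫ g).hom :=
    fun U V a b h ha hb comm => (hjq a b h ha hb comm).2
  have hg' : HasAtMor LqfNear (j ≫ g).hom z' := by
    obtain ⟨U, V, a, b, h, u, ha, hb, comm, hxu⟩ :=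
      exists_chart_at (j ≫ g).hom Z'.property Y.property z'
    obtain ⟨h1, h2⟩ := hjq a b h ha hb comm
    haveI := h1
    haveI := h2
    refine ⟨U, V, a, b, h, u, ha, hb, comm, hxu, ?_⟩
    rw [lqfNear_iff_quasiFiniteAt]
    exact h.left.quasiFiniteAt u
  have hjg : (j ≫ g).hom = j.hom ≫ g.hom := rfl
  have hr' : Points.mk r = Points.map (j ≫ g).hom z' := by
    rw [hr, ← hz', hjg, Points.map_comp]
  -- the open part of `W`
  have sqo := IsPullback.of_hasPullback q.hom j.hom
  have hWo : IsAlgSpace (pullback q.hom j.hom) :=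
    isAlgSpace_of_isPullback sqo Z.property.diag W.property Z'.property
  let Wo : AlgSp.Space S := ⟨pullback q.hom j.hom, hWo⟩
  let u1 : Wo ⟶ W := ObjectProperty.homMk (pullback.fst q.hom j.hom)
  let u2 : Wo ⟶ Z' := ObjectProperty.homMk (pullback.snd q.hom j.hom)
  have hWo' : IsPullback (u1 ≫ p).hom u2.hom f.hom (j ≫ g).hom := sqo.paste_horiz hW
  have hfin := finite_points_over_of_loft f (j ≫ g) (u1 ≫ p) u2 hWo' x z'
    (by rw [hxz, ← hz', hjg, Points.map_comp]) r hr' hm hft' hg'
  refine (hfin.image (Points.map u1.hom)).subset ?_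
  rintro w ⟨hw1, hw2⟩
  obtain ⟨wo, hwo1, hwo2⟩ := exists_point_of_isPullback sqo w z' (by rw [hw2, hz'])
  refine ⟨wo, ⟨?_, hwo2⟩, hwo1⟩
  show Points.map (u1.hom ≫ p.hom) wo = x
  rw [Points.map_comp]
  exact (congrArg (Points.map p.hom) hwo1).trans hw1

end Groth.Agent.Lib.Helper51.FibFin
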