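import Groth.Agent.Lib.Helper51.AlgSpRedFactor
import Groth.Agent.Lib.Helper30.AlgSpLoc
import Groth.Agent.Lib.Helper78.AlgSpLocPLoft
import Groth.Agent.Lib.Helper78.AlgSpLocPLofp

/-!
One-point algebraic spaces: field points through affine charts, and the characterization of
reduced one-point spaces (helper51).
-/

set_option autoImplicit false
set_option linter.unusedSectionVars false
universe u
open CategoryTheory CategoryTheory.Limits AlgebraicGeometry Opposite

set_option backward.isDefEq.respectTransparency false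

namespace Groth.Agent.Lib.Helper51

open AlgSp Groth.Agent.Lib.Helper52 Groth.Agent.Lib.Helper78.AlgSpLocP

variable {S : Scheme.{u}}

/-- A morphism of schemes followed by an étale chart has étale locally every property `P` that it
has as a morphism of schemes, for `P` étale local on source and target containing étale maps. -/
theorem locP_yon_map_comp_etale {P : MorphismProperty Scheme.{u}} (hP : EtLocalST P)
    [P.IsStableUnderComposition] (hEt : ∀ {A B : Scheme.{u}} (e : A ⟶ B), Etale e → P e)
    {U T : Over S} {Z : AlgSp.Sp S} (c : T ⟶ U) (a : (AlgSp.yon S).obj U ⟶ Z)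
    (ha : AlgSp.RepWith @Etale a) (hc : P c.left) : AlgSp.LocP P ((AlgSp.yon S).map c ≫ a) := by
  refine locP_comp hP _ a ⟨U, 𝟙 _, AlgSp.repWith_id _ _, AlgSp.repWith_id _ _⟩
    ((locP_yon_map_iff hP c).2 hc) ?_
  exact Groth.Agent.Lib.Helper30.locP_of_repWith @Etale P
    (fun k i hk hi => P.comp_mem _ _ (hEt k hk) (hEt i hi)) ha

/-- The scheme over `S` given by a ring map from the sections over an affine open of `U`. -/
noncomputable def specOverOfAffineOpen (U : Over S) {U0 : U.left.Opens} (hU0 : IsAffineOpen U0)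
    {B : CommRingCat.{u}} (θ : Γ(U.left, U0) ⟶ B) : Over S :=
  Over.mk (Spec.map θ ≫ hU0.fromSpec ≫ U.hom)

/-- The morphism to `U`. -/
noncomputable def specOverOfAffineOpenHom (U : Over S) {U0 : U.left.Opens} (hU0 : IsAffineOpen U0)
    {B : CommRingCat.{u}} (θ : Γ(U.left, U0) ⟶ B) : specOverOfAffineOpen U hU0 θ ⟶ U :=
  Over.homMk (Spec.map θ ≫ hU0.fromSpec) (by simp [specOverOfAffineOpen])

theorem specOverOfAffineOpenHom_left (U : Over S) {U0 : U.left.Opens} (hU0 : IsAffineOpen U0)
    {B : CommRingCat.{u}} (θ : Γ(U.left, U0) ⟶ B) :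
    (specOverOfAffineOpenHom U hU0 θ).left = Spec.map θ ≫ hU0.fromSpec := rfl

/-- A nonempty algebraic space has a field point which is locally of finite type. -/
theorem exists_lft_fieldPt {Z : AlgSp.Sp S} (hZ : AlgSp.IsAlgSpace Z)
    (hne : Nonempty (AlgSp.Points Z)) :
    ∃ (k' : Type u) (_ : Field k') (str' : Spec (CommRingCat.of k') ⟶ S)
      (q : (AlgSp.yon S).obj (Over.mk str') ⟶ Z), AlgSp.LocP @LocallyOfFiniteType q := by
  obtain ⟨U, a, hae, has⟩ := hZ.atlas
  obtain ⟨x⟩ := hne
  obtain ⟨u, -⟩ := surjective_ofPt_of_repWith_surjective a has x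
  obtain ⟨U0, hU0, huU0, -⟩ := exists_isAffineOpen_mem_and_subset
    (TopologicalSpace.Opens.mem_top u)
  have hnt : Nontrivial Γ(U.left, U0) := by
    have : Nonempty ↥U0 := ⟨⟨u, huU0⟩⟩
    infer_instance
  obtain ⟨m, hm⟩ := Ideal.exists_maximal Γ(U.left, U0)
  let _ : Field (Γ(U.left, U0) ⧸ m) := Ideal.Quotient.field m
  let θ : Γ(U.left, U0) ⟶ CommRingCat.of (Γ(U.left, U0) ⧸ m) :=
    CommRingCat.ofHom (Ideal.Quotient.mk m)
  refine ⟨Γ(U.left, U0) ⧸ m, inferInstance, (specOverOfAffineOpen U hU0 θ).hom,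
    (AlgSp.yon S).map (specOverOfAffineOpenHom U hU0 θ) ≫ a, ?_⟩
  refine locP_yon_map_comp_etale Groth.Agent.Lib.Helper78.AlgSpLocPLoft.etLocalST_loft
    (fun e he => by have : Etale e := he; infer_instance) _ a hae ?_
  rw [specOverOfAffineOpenHom_left]
  have : IsClosedImmersion (Spec.map θ) :=
    IsClosedImmersion.spec_of_surjective θ Ideal.Quotient.mk_surjective
  infer_instance

end Groth.Agent.Lib.Helper51
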