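import Groth.Agent.Lib.Helper51.AlgSpJacobson3
import Groth.Agent.Lib.Helper51.AlgSpOnePt4
import Groth.Agent.Lib.Helper81.FtPts

/-!
Finite type points of algebraic spaces (helper51).
-/

set_option autoImplicit false
set_option linter.unusedSectionVars false
universe u
open CategoryTheory CategoryTheory.Limits AlgebraicGeometry Opposite TensorProduct

set_option backward.isDefEq.respectTransparency false

namespace Groth.Agent.Lib.Helper51

open AlgSp Groth.Agent.Lib.Helper30 Groth.Agent.Lib.Helper52 Groth.Agent.Lib.Helper81.FtPts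

variable {S : Scheme.{u}}

/-- `x` is a finite type point: it is represented by a morphism from the spectrum of a field which
is locally of finite type. -/
abbrev IsFtPt (X : AlgSp.Sp S) (x : Points X) : Prop :=
  ∃ (k : Type u) (_ : Field k) (str : Spec (CommRingCat.of k) ⟶ S)
    (ξ : (AlgSp.yon S).obj (Over.mk str) ⟶ X),
    AlgSp.LocP @LocallyOfFiniteType ξ ∧ Points.ofPt ξ (IsLocalRing.closedPoint k) = x

/-- The image of a closed point of an etale chart is a finite type point. -/
theorem isFtPt_of_closed_chart_point {X : AlgSp.Sp S} {U : Over S}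
    (φ : (AlgSp.yon S).obj U ⟶ X) (hφ : AlgSp.RepWith @Etale φ) (u : ↥U.left)
    (hu : IsClosed ({u} : Set ↥U.left)) : IsFtPt X (Points.ofPt φ u) := by
  have hci : IsClosedImmersion (U.left.fromSpecResidueField u) := by
    apply IsClosedImmersion.of_isPreimmersion
    rw [Scheme.range_fromSpecResidueField]
    exact hu
  let c : Over.mk (U.left.fromSpecResidueField u ≫ U.hom) ⟶ U :=
    Over.homMk (U.left.fromSpecResidueField u) rfl
  refine ⟨U.left.residueField u, inferInstance, U.left.fromSpecResidueField u ≫ U.hom,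
    (AlgSp.yon S).map c ≫ φ, ?_, ?_⟩
  · refine locP_yon_map_comp_etale Groth.Agent.Lib.Helper78.AlgSpLocPLoft.etLocalST_loft
      (fun e he => by have : Etale e := he; infer_instance) c φ hφ ?_
    change LocallyOfFiniteType (U.left.fromSpecResidueField u)
    infer_instance
  · rw [ofPt_yon_map_comp]
    congr 1
    exact Scheme.fromSpecResidueField_apply _ _

/-- The image of a point of an etale chart which is closed in an open neighbourhood is a finite
type point. -/
theorem isFtPt_of_closed_in_open {X : AlgSp.Sp S} {U : Over S}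
    (φ : (AlgSp.yon S).obj U ⟶ X) (hφ : AlgSp.RepWith @Etale φ) (U' : U.left.Opens) (u : ↥U.left)
    (hu : u ∈ U') (hcl : IsClosed ({⟨u, hu⟩} : Set ↥U')) : IsFtPt X (Points.ofPt φ u) := by
  have hea : AlgSp.RepWith @Etale ((AlgSp.yon S).map (opensOverι U U') ≫ φ) :=
    repWith_etale_yon_map_comp (opensOverι U U') inferInstance φ hφ
  have h := isFtPt_of_closed_chart_point ((AlgSp.yon S).map (opensOverι U U') ≫ φ) hea
    (⟨u, hu⟩ : ↥(U' : Scheme.{u})) hcl
  rwa [ofPt_yon_map_comp] at h

/-- If the image of a point of an etale chart is a finite type point, then the point is closed in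
an affine open neighbourhood. -/
theorem exists_affineOpen_closed_of_isFtPt {X : AlgSp.Sp S} {U : Over S}
    (φ : (AlgSp.yon S).obj U ⟶ X) (hφ : AlgSp.RepWith @Etale φ) (u0 : ↥U.left)
    (hx : IsFtPt X (Points.ofPt φ u0)) :
    ∃ U' : U.left.Opens, IsAffineOpen U' ∧ ∃ h : u0 ∈ U', IsClosed ({⟨u0, h⟩} : Set ↥U') := by
  obtain ⟨k, _, str, ξ, hξ, hpt⟩ := hx
  obtain ⟨W, a, b, sq⟩ := exists_isPullback_of_representable hφ.1 ξ
  have hb : Etale b.left := hφ.2 ξ _ b sq
  have ha : LocallyOfFiniteType a.left :=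
    hξ ((AlgSp.yon S).map b) φ a ((AlgSp.repWith_yon_map_iff @Etale b).2 hb) hφ sq.w.symm
  obtain ⟨w, hw1, hw2⟩ := exists_of_ofPt_eq_ofPt sq hpt.symm
  have hpcl : IsClosed ({b.left w} : Set ↥(Over.mk str).left) := by
    have : ({b.left w} : Set ↥(Over.mk str).left) = Set.univ :=
      Set.eq_univ_of_forall fun y => (eq_closedPoint (K := k) y).trans
        (eq_closedPoint (K := k) (b.left w)).symm
    rw [this]
    exact isClosed_univ
  have hwcl : IsClosed ({w} : Set ↥W.left) :=
    isClosed_singleton_of_etale_over_closed b.left w hpcl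
  have hci : IsClosedImmersion (W.left.fromSpecResidueField w) := by
    apply IsClosedImmersion.of_isPreimmersion
    rw [Scheme.range_fromSpecResidueField]
    exact hwcl
  have hft : LocallyOfFiniteType (U.left.fromSpecResidueField (a.left w)) :=
    isFt_map a.left w inferInstance
  rw [hw1] at hft
  obtain ⟨U', hU', hs, hcl⟩ := (isFt_iff u0).1 hft
  exact ⟨U', hU', hs, hcl⟩

/-- A finite type point is the image of a closed point of some etale chart. -/
theorem exists_closed_chart_point_of_isFtPt {X : AlgSp.Sp S} (hX : AlgSp.IsAlgSpace X)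
    (x : Points X) (hx : IsFtPt X x) :
    ∃ (U : Over S) (φ : (AlgSp.yon S).obj U ⟶ X) (u : ↥U.left), AlgSp.RepWith @Etale φ ∧
      IsClosed ({u} : Set ↥U.left) ∧ Points.ofPt φ u = x := by
  obtain ⟨U, φ, u0, -, hφ, rfl⟩ := exists_affine_etale_chart_at hX x
  obtain ⟨U', hU', hs, hcl⟩ := exists_affineOpen_closed_of_isFtPt φ hφ u0 hx
  have hea : AlgSp.RepWith @Etale ((AlgSp.yon S).map (opensOverι U U') ≫ φ) :=
    repWith_etale_yon_map_comp (opensOverι U U') inferInstance φ hφ
  refine ⟨opensOver U U', (AlgSp.yon S).map (opensOverι U U') ≫ φ,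
    (⟨u0, hs⟩ : ↥(U' : Scheme.{u})), hea, hcl, ?_⟩
  rw [ofPt_yon_map_comp]
  rfl

/-- Characterisation of finite type points by closed points of etale charts. -/
theorem isFtPt_iff_exists_closed_chart_point {X : AlgSp.Sp S} (hX : AlgSp.IsAlgSpace X)
    (x : Points X) :
    IsFtPt X x ↔ ∃ (U : Over S) (φ : (AlgSp.yon S).obj U ⟶ X) (u : ↥U.left),
      AlgSp.RepWith @Etale φ ∧ IsClosed ({u} : Set ↥U.left) ∧ Points.ofPt φ u = x := by
  constructor
  · exact exists_closed_chart_point_of_isFtPt hX x
  · rintro ⟨U, φ, u, hφ, hu, rfl⟩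
    exact isFtPt_of_closed_chart_point φ hφ u hu

/-- Every nonempty locally closed subset of the points contains a finite type point. -/
theorem exists_isFtPt_of_isLocallyClosed {X : AlgSp.Sp S} (hX : AlgSp.IsAlgSpace X)
    (T : Set (Points X)) (hT : IsLocallyClosed T) (hne : T.Nonempty) :
    ∃ x ∈ T, IsFtPt X x := by
  obtain ⟨U, a, hae, has⟩ := hX.atlas
  have hpre : IsLocallyClosed (Points.ofPt a ⁻¹' T) := hT.preimage (Points.continuous_ofPt a)
  obtain ⟨z, hz⟩ := hne
  obtain ⟨u, hu⟩ := surjective_ofPt_of_repWith_surjective a has z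
  have hne' : (Points.ofPt a ⁻¹' T).Nonempty := ⟨u, by rw [Set.mem_preimage, hu]; exact hz⟩
  obtain ⟨t, htT, htft⟩ := Groth.Agent.Lib.Helper81.FtPts.exists_isFt_of_isLocallyClosed _ hpre hne'
  obtain ⟨U', hU', hs, hcl⟩ := (isFt_iff t).1 htft
  exact ⟨Points.ofPt a t, htT, isFtPt_of_closed_in_open a hae U' t hs hcl⟩

/-- Finite type points are dense in every closed subset. -/
theorem subset_closure_isFtPt {X : AlgSp.Sp S} (hX : AlgSp.IsAlgSpace X)
    (T : Set (Points X)) (hT : IsClosed T) :
    T ⊆ closure {x | x ∈ T ∧ IsFtPt X x} := by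
  intro x hx
  rw [mem_closure_iff]
  intro O hO hxO
  have hlc : IsLocallyClosed (O ∩ T) := ⟨O, T, hO, hT, rfl⟩
  obtain ⟨y, hy, hyft⟩ := exists_isFtPt_of_isLocallyClosed hX (O ∩ T) hlc ⟨x, hxO, hx⟩
  exact ⟨y, hy.1, hy.2, hyft⟩

end Groth.Agent.Lib.Helper51
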