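import Groth.Agent.Lib.Helper51.AlgSpFtPts

/-!
Finite type points under surjective morphisms locally of finite type (helper51).
-/

set_option autoImplicit false
set_option linter.unusedSectionVars false
universe u
open CategoryTheory CategoryTheory.Limits AlgebraicGeometry Opposite TensorProduct

set_option backward.isDefEq.respectTransparency false

namespace Groth.Agent.Lib.Helper51

open AlgSp Groth.Agent.Lib.Helper30 Groth.Agent.Lib.Helper52 Groth.Agent.Lib.Helper81.FtPts

variable {S : Scheme.{u}}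

/-- Under a surjective morphism locally of finite type, every finite type point of the target is
the image of a finite type point of the source. -/
theorem exists_isFtPt_map_eq {X Y : AlgSp.Sp S} (hX : AlgSp.IsAlgSpace X)
    (hY : AlgSp.IsAlgSpace Y) (f : X ⟶ Y) (hf : AlgSp.LocP @LocallyOfFiniteType f)
    (hs : AlgSp.IsSurjectiveMor f) (y : Points Y) (hy : IsFtPt Y y) :
    ∃ x : Points X, Points.map f x = y ∧ IsFtPt X x := by
  obtain ⟨V, b, v, hb, hv, rfl⟩ := exists_closed_chart_point_of_isFtPt hY y hy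
  obtain ⟨U, a, hae, has⟩ := hX.atlas
  obtain ⟨W, φ, ψ, sq⟩ := exists_isPullback_of_representable hb.1 (a ≫ f)
  have hψ : Etale ψ.left := hb.2 (a ≫ f) _ ψ sq
  have hce : AlgSp.RepWith @Etale ((AlgSp.yon S).map ψ ≫ a) :=
    repWith_etale_yon_map_comp ψ hψ a hae
  have hφ : LocallyOfFiniteType φ.left := by
    refine hf ((AlgSp.yon S).map ψ ≫ a) b φ hce hb ?_
    rw [Category.assoc]
    exact sq.w.symm
  obtain ⟨x0, hx0⟩ := hs (Points.ofPt b v)
  obtain ⟨u0, hu0⟩ := surjective_ofPt_of_repWith_surjective a has x0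
  have h0 : Points.ofPt b v = Points.ofPt (a ≫ f) u0 := by
    rw [← Points.map_ofPt, hu0, hx0]
  obtain ⟨w0, hw0v, -⟩ := exists_of_ofPt_eq_ofPt sq h0
  have hF : IsClosed (φ.left ⁻¹' {v}) := hv.preimage φ.left.continuous
  obtain ⟨t, htF, htft⟩ := Groth.Agent.Lib.Helper81.FtPts.exists_isFt_of_isLocallyClosed _
    hF.isLocallyClosed ⟨w0, hw0v⟩
  obtain ⟨W', hW', hs', hcl⟩ := (isFt_iff t).1 htft
  refine ⟨Points.ofPt ((AlgSp.yon S).map ψ ≫ a) t, ?_,
    isFtPt_of_closed_in_open _ hce W' t hs' hcl⟩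
  rw [Points.map_ofPt, Category.assoc, ← sq.w, ofPt_yon_map_comp]
  congr 1

end Groth.Agent.Lib.Helper51
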