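import Groth.Agent.Lib.Helper51.AlgSpOnePt
import Groth.Agent.Lib.Helper78.AlgSpLocPFlat
import Groth.Agent.Lib.Helper78.AlgSpLocP2

/-!
One-point algebraic spaces: every field point of a space covered by a flat surjective field
point is flat and surjective (helper51).
-/

set_option autoImplicit false
set_option linter.unusedSectionVars false
universe u
open CategoryTheory CategoryTheory.Limits AlgebraicGeometry Opposite

set_option backward.isDefEq.respectTransparency false

namespace Groth.Agent.Lib.Helper51

open AlgSp Groth.Agent.Lib.Helper52 Groth.Agent.Lib.Helper78.AlgSpLocP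
  Groth.Agent.Lib.Helper78.AlgSpLocPFlat

variable {S : Scheme.{u}}

theorem subsingleton_points_yon_field {k : Type u} [Field k] (str : Spec (CommRingCat.of k) ⟶ S) :
    Subsingleton (AlgSp.Points ((AlgSp.yon S).obj (Over.mk str))) := by
  have : Subsingleton ↥(Over.mk str).left := inferInstanceAs (Subsingleton (PrimeSpectrum k))
  exact (Points.schemeEquiv (Over.mk str)).symm.subsingleton

theorem nonempty_points_yon_field {k : Type u} [Field k] (str : Spec (CommRingCat.of k) ⟶ S) :
    Nonempty (AlgSp.Points ((AlgSp.yon S).obj (Over.mk str))) :=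
  ⟨Points.ofScheme (Over.mk str) (show ↥(Spec (CommRingCat.of k)) from IsLocalRing.closedPoint k)⟩

/-- If an algebraic space admits a flat surjective field point, then every field point of it is flat
and surjective. -/
theorem locP_flat_and_surjective_of_field_cover {Z : AlgSp.Sp S}
    {k : Type u} [Field k] (str : Spec (CommRingCat.of k) ⟶ S)
    (p : (AlgSp.yon S).obj (Over.mk str) ⟶ Z) (hpf : AlgSp.LocP @Flat p)
    (hps : AlgSp.IsSurjectiveMor p) {k' : Type u} [Field k'] (str' : Spec (CommRingCat.of k') ⟶ S)
    (q : (AlgSp.yon S).obj (Over.mk str') ⟶ Z) :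
    AlgSp.LocP @Flat q ∧ AlgSp.IsSurjectiveMor q := by
  have sqW := IsPullback.of_hasPullback p q
  obtain ⟨t'⟩ := nonempty_points_yon_field str'
  obtain ⟨t, ht⟩ := hps (Points.map q t')
  obtain ⟨w, hw1, hw2⟩ := exists_point_of_isPullback sqW t t' ht
  induction w using Points.ind with
  | h r =>
  let c1 : r.pt ⟶ Over.mk str := (AlgSp.yon S).preimage (r.toHom ≫ pullback.fst p q)
  let c2 : r.pt ⟶ Over.mk str' := (AlgSp.yon S).preimage (r.toHom ≫ pullback.snd p q)
  have hc1 : (AlgSp.yon S).map c1 = r.toHom ≫ pullback.fst p q := (AlgSp.yon S).map_preimage _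
  have hc2 : (AlgSp.yon S).map c2 = r.toHom ≫ pullback.snd p q := (AlgSp.yon S).map_preimage _
  have hc : (AlgSp.yon S).map c1 ≫ p = (AlgSp.yon S).map c2 ≫ q := by
    rw [hc1, hc2, Category.assoc, Category.assoc, pullback.condition]
  have : IsAffine r.pt.left := inferInstanceAs (IsAffine (Spec (CommRingCat.of r.K)))
  have hfl1 : AlgSp.LocP @Flat ((AlgSp.yon S).map c1 ≫ p) := by
    refine locP_comp etLocalST_flat _ p ⟨Over.mk str, 𝟙 _, AlgSp.repWith_id _ _,
      AlgSp.repWith_id _ _⟩ ?_ hpf
    exact (locP_yon_map_iff etLocalST_flat c1).2 (flat_of_isAffine_to_spec_field (L := k) c1.left)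
  have hc2flat : Flat c2.left := flat_of_isAffine_to_spec_field (L := k') c2.left
  have hc2surj : Surjective c2.left := by
    refine ⟨fun y => ⟨show ↥(Spec (CommRingCat.of r.K)) from IsLocalRing.closedPoint r.K, ?_⟩⟩
    have : Subsingleton ↥(Spec (CommRingCat.of k')) :=
      inferInstanceAs (Subsingleton (PrimeSpectrum k'))
    exact Subsingleton.elim (α := ↥(Spec (CommRingCat.of k'))) _ _
  constructor
  · intro U V a b h hae hbe hcomm
    obtain ⟨a', rfl⟩ := (AlgSp.yon S).map_surjective a
    have ha' : Etale a'.left := (AlgSp.repWith_yon_map_iff @Etale a').1 hae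
    obtain ⟨W', w1, w2, sqW', sqW'l⟩ := Groth.Agent.Lib.Helper30.isPullback_over' a' c2
    have hw2 : Etale w2.left := MorphismProperty.of_isPullback (P := @Etale) sqW'l ha'
    have hw1f : Flat w1.left := MorphismProperty.of_isPullback (P := @Flat) sqW'l.flip hc2flat
    have hw1s : Surjective w1.left :=
      MorphismProperty.of_isPullback (P := @Surjective) sqW'l.flip hc2surj
    have hcomm2 : (AlgSp.yon S).map w2 ≫ ((AlgSp.yon S).map c2 ≫ q) =
        (AlgSp.yon S).map (w1 ≫ h) ≫ b := by
      rw [← Category.assoc, ← Functor.map_comp, ← sqW'.w, Functor.map_comp, Functor.map_comp,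
        Category.assoc, Category.assoc, hcomm]
    rw [← hc] at hcomm2
    have hfl : Flat (w1 ≫ h).left :=
      hfl1 _ b (w1 ≫ h) ((AlgSp.repWith_yon_map_iff @Etale w2).2 hw2) hbe hcomm2
    exact flat_of_flat_comp_of_surjective w1.left h.left hfl
  · intro z
    obtain ⟨s, rfl⟩ := hps z
    obtain ⟨w0⟩ := nonempty_points_yon_field r.str
    refine ⟨Points.map ((AlgSp.yon S).map c2) w0, ?_⟩
    rw [← Points.map_comp, ← hc, Points.map_comp]
    congr 1
    have := subsingleton_points_yon_field str
    exact Subsingleton.elim _ _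

end Groth.Agent.Lib.Helper51
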