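import Groth.Agent.Lib.Helper51.AlgSpImage
import Groth.Agent.Lib.Helper51.AlgSpFtPts2
import Groth.Agent.Lib.Helper51.AlgSpOnePt2
import Groth.Agent.Lib.Helper78.AlgSpLocP2
import Mathlib.AlgebraicGeometry.Noetherian

/-!
Finite type points as monomorphisms from quotients of spectra of fields (helper51).
-/

set_option autoImplicit false
set_option linter.unusedSectionVars false
universe u
open CategoryTheory CategoryTheory.Limits AlgebraicGeometry Opposite

set_option backward.isDefEq.respectTransparency false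

namespace Groth.Agent.Lib.Helper51

/-- Every morphism to the spectrum of a field is flat. -/
theorem flat_to_spec_field {W : Scheme.{u}} {L : Type u} [Field L]
    (h : W ⟶ Spec (CommRingCat.of L)) : Flat h := by
  rw [IsZariskiLocalAtSource.iff_of_openCover (P := @Flat) W.affineCover]
  intro i
  exact flat_of_isAffine_to_spec_field (L := L) _

/-- A closed subscheme of a scheme etale over a field is etale over the field. -/
theorem etale_of_isClosedImmersion_comp_etale_field {R R'' : Scheme.{u}} {L : Type u} [Field L]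
    (r : R ⟶ R'') (b : R'' ⟶ Spec (CommRingCat.of L)) [IsClosedImmersion r] [Etale b] :
    Etale (r ≫ b) := by
  have h1 : Flat (r ≫ b) := flat_to_spec_field (L := L) _
  have h2 : FormallyUnramified r := inferInstance
  have h2' : FormallyUnramified b := inferInstance
  have h3 : FormallyUnramified (r ≫ b) :=
    MorphismProperty.comp_mem @FormallyUnramified r b h2 h2'
  have h4 : LocallyOfFiniteType (r ≫ b) := inferInstance
  have h5 : LocallyOfFinitePresentation (r ≫ b) := inferInstance
  exact Etale.of_formallyUnramified_of_flat (r ≫ b)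


open AlgSp Groth.Agent.Lib.Helper30 Groth.Agent.Lib.Helper52 Groth.Agent.Lib.Helper81.FtPts

variable {S : Scheme.{u}}

/-- The kernel pair of a closed point of an etale chart of an algebraic space is etale and
surjective over the point. -/
theorem etale_kernelPair_of_closedImmersion_chart {X : AlgSp.Sp S} {U : Over S}
    (φ : (AlgSp.yon S).obj U ⟶ X) (hφ : AlgSp.RepWith @Etale φ) {k : Type u} [Field k]
    (str : Spec (CommRingCat.of k) ⟶ S) (c : Over.mk str ⟶ U) (hc : IsClosedImmersion c.left)
    {R : Over S} (s t : R ⟶ Over.mk str)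
    (sq : IsPullback ((AlgSp.yon S).map s) ((AlgSp.yon S).map t) ((AlgSp.yon S).map c ≫ φ)
      ((AlgSp.yon S).map c ≫ φ)) : Etale t.left ∧ Surjective t.left := by
  obtain ⟨R'', a, b, sq''⟩ := exists_isPullback_of_representable hφ.1 ((AlgSp.yon S).map c ≫ φ)
  have hb : Etale b.left := hφ.2 _ _ b sq''
  have hcomm : ((AlgSp.yon S).map s ≫ (AlgSp.yon S).map c) ≫ φ =
      (AlgSp.yon S).map t ≫ ((AlgSp.yon S).map c ≫ φ) := by
    rw [Category.assoc]
    exact sq.w
  let r : R ⟶ R'' := (AlgSp.yon S).preimage
    (sq''.lift ((AlgSp.yon S).map s ≫ (AlgSp.yon S).map c) ((AlgSp.yon S).map t) hcomm)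
  have hr1 : (AlgSp.yon S).map r ≫ (AlgSp.yon S).map a =
      (AlgSp.yon S).map s ≫ (AlgSp.yon S).map c := by
    rw [Functor.map_preimage, sq''.lift_fst]
  have hr2 : (AlgSp.yon S).map r ≫ (AlgSp.yon S).map b = (AlgSp.yon S).map t := by
    rw [Functor.map_preimage, sq''.lift_snd]
  have hbig : IsPullback ((AlgSp.yon S).map r ≫ (AlgSp.yon S).map b) ((AlgSp.yon S).map s)
      ((AlgSp.yon S).map c ≫ φ) ((AlgSp.yon S).map c ≫ φ) := by
    rw [hr2]
    exact sq.flip
  have hleft : IsPullback ((AlgSp.yon S).map r) ((AlgSp.yon S).map s) ((AlgSp.yon S).map a)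
      ((AlgSp.yon S).map c) := IsPullback.of_right hbig hr1 sq''.flip
  have hrs : r ≫ a = s ≫ c := (AlgSp.yon S).map_injective (by
    rw [Functor.map_comp, Functor.map_comp]; exact hr1)
  have hleft' : IsPullback r s a c := IsPullback.of_map (AlgSp.yon S) hrs hleft
  have hleft'' : IsPullback r.left s.left a.left c.left := hleft'.map (Over.forget S)
  have hrci : IsClosedImmersion r.left :=
    MorphismProperty.of_isPullback (P := @IsClosedImmersion) hleft''.flip hc
  have hrb : r ≫ b = t := (AlgSp.yon S).map_injective (by rw [Functor.map_comp]; exact hr2)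
  have htl : t.left = r.left ≫ b.left := by rw [← hrb]; rfl
  constructor
  · rw [htl]
    exact etale_of_isClosedImmersion_comp_etale_field (L := k) r.left b.left
  · let δ : Over.mk str ⟶ R := (AlgSp.yon S).preimage (sq.lift (𝟙 _) (𝟙 _) rfl)
    have hδ : δ ≫ t = 𝟙 _ := (AlgSp.yon S).map_injective (by
      rw [Functor.map_comp, Functor.map_preimage, sq.lift_snd, CategoryTheory.Functor.map_id])
    refine ⟨fun y => ⟨δ.left y, ?_⟩⟩
    have : (δ ≫ t).left y = y := by rw [hδ]; rfl
    exact this


/-- A finite type point is the image of a monomorphism locally of finite type from the quotient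
of the spectrum of a field by an etale equivalence relation. -/
theorem exists_mono_lft_of_isFtPt {X : AlgSp.Sp S} (hX : AlgSp.IsAlgSpace X) (x : Points X)
    (hx : IsFtPt X x) :
    ∃ (Z : AlgSp.Sp S) (_ : AlgSp.IsAlgSpace Z) (f : Z ⟶ X) (k : Type u) (_ : Field k)
      (str : Spec (CommRingCat.of k) ⟶ S) (z : (AlgSp.yon S).obj (Over.mk str) ⟶ Z),
      AlgSp.RepWith @Etale z ∧ AlgSp.RepWith @Surjective z ∧
        AlgSp.LocP @LocallyOfFiniteType f ∧ Mono f ∧
        Points.ofPt (z ≫ f) (IsLocalRing.closedPoint k) = x := by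
  obtain ⟨U, φ, u, hφ, hu, rfl⟩ := exists_closed_chart_point_of_isFtPt hX x hx
  have hci : IsClosedImmersion (U.left.fromSpecResidueField u) := by
    apply IsClosedImmersion.of_isPreimmersion
    rw [Scheme.range_fromSpecResidueField]
    exact hu
  let str : Spec (CommRingCat.of (U.left.residueField u)) ⟶ S :=
    U.left.fromSpecResidueField u ≫ U.hom
  let c : Over.mk str ⟶ U := Over.homMk (U.left.fromSpecResidueField u) rfl
  have hcl : IsClosedImmersion c.left := hci
  let ξ : (AlgSp.yon S).obj (Over.mk str) ⟶ X := (AlgSp.yon S).map c ≫ φ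
  have hξ : AlgSp.LocP @LocallyOfFiniteType ξ := by
    refine locP_yon_map_comp_etale Groth.Agent.Lib.Helper78.AlgSpLocPLoft.etLocalST_loft
      (fun e he => by have : Etale e := he; infer_instance) c φ hφ ?_
    change LocallyOfFiniteType (U.left.fromSpecResidueField u)
    infer_instance
  obtain ⟨R, s, t, sq⟩ := exists_isPullback_of_representable (hX.representable_from_yon ξ) ξ
  obtain ⟨hte, hts⟩ := etale_kernelPair_of_closedImmersion_chart φ hφ str c hcl s t sq
  have hfac : Sheaf.toImage ξ ≫ Sheaf.imageι ξ = ξ := Sheaf.toImage_ι ξ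
  have sqz : IsPullback ((AlgSp.yon S).map s) ((AlgSp.yon S).map t) (Sheaf.toImage ξ)
      (Sheaf.toImage ξ) := by
    apply isPullback_of_comp_mono (Sheaf.imageι ξ)
    rw [hfac]
    exact sq
  obtain ⟨hZ, hze, hzs⟩ := isAlgSpace_of_epi_of_etale_kernelPair hX (Sheaf.imageι ξ)
    (Sheaf.toImage ξ) s t sqz hte hts
  refine ⟨Sheaf.image ξ, hZ, Sheaf.imageι ξ, U.left.residueField u, inferInstance, str,
    Sheaf.toImage ξ, hze, hzs, ?_, inferInstance, ?_⟩
  · refine Groth.Agent.Lib.Helper78.AlgSpLocP.locP_of_precomp_chart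
      Groth.Agent.Lib.Helper78.AlgSpLocPLoft.etLocalST_loft (Sheaf.imageι ξ) (Sheaf.toImage ξ)
      hze hzs ?_
    rw [hfac]
    exact hξ
  · rw [hfac, ofPt_yon_map_comp]
    congr 1
    exact Scheme.fromSpecResidueField_apply _ _

end Groth.Agent.Lib.Helper51
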