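import Groth.Agent.Lib.Helper51.SchemeResTrdeg
import Groth.Agent.Lib.Helper51.FieldFibre
import Groth.Agent.Lib.Helper51.AlgSpQuotField4
import Mathlib.FieldTheory.IsAlgClosed.Basic

/-!
Lifting geometric points along etale morphisms of algebraic spaces (helper51).
-/

set_option autoImplicit false
set_option linter.unusedSectionVars false
universe u
open CategoryTheory CategoryTheory.Limits AlgebraicGeometry Opposite

set_option backward.isDefEq.respectTransparency false

namespace Groth.Agent.Lib.Helper51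

/-- A closed point of a scheme locally of finite type over an algebraically closed field is the
image of a section. -/
theorem exists_section_of_isClosed_of_isAlgClosed {W : Scheme.{u}} {K : Type u} [Field K]
    [IsAlgClosed K] (g : W ⟶ Spec (CommRingCat.of K)) [LocallyOfFiniteType g] (w : W)
    (hw : IsClosed ({w} : Set W)) :
    ∃ s : Spec (CommRingCat.of K) ⟶ W, s ≫ g = 𝟙 _ ∧ ∀ t, s t = w := by
  have hci : IsClosedImmersion (W.fromSpecResidueField w) :=
    isClosed_singleton_iff_isClosedImmersion.mp hw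
  have hfin : IsFinite (W.fromSpecResidueField w ≫ g) :=
    (isFinite_iff_locallyOfFiniteType_of_jacobsonSpace
      (f := W.fromSpecResidueField w ≫ g)).mpr inferInstance
  obtain ⟨φ, hφ⟩ : ∃ φ : CommRingCat.of K ⟶ W.residueField w,
      Spec.map φ = W.fromSpecResidueField w ≫ g := ⟨Spec.preimage _, Spec.map_preimage _⟩
  rw [← hφ] at hfin
  have hφfin : φ.hom.Finite := (IsFinite.SpecMap_iff _).1 hfin
  have hbij : Function.Bijective φ.hom :=
    IsAlgClosed.ringHom_bijective_of_isIntegral φ.hom hφfin.to_isIntegral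
  have : IsIso φ := (ConcreteCategory.isIso_iff_bijective φ).2 hbij
  refine ⟨inv (Spec.map φ) ≫ W.fromSpecResidueField w, ?_, ?_⟩
  · rw [Category.assoc, ← hφ, IsIso.inv_hom_id]
  · intro t
    rw [Scheme.Hom.comp_apply, Scheme.fromSpecResidueField_apply]

/-- Any point of a scheme etale over an algebraically closed field is the image of a section. -/
theorem exists_section_of_etale_of_isAlgClosed {W : Scheme.{u}} {K : Type u} [Field K]
    [IsAlgClosed K] (g : W ⟶ Spec (CommRingCat.of K)) [Etale g] (w : W) :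
    ∃ s : Spec (CommRingCat.of K) ⟶ W, s ≫ g = 𝟙 _ ∧ ∀ t, s t = w := by
  have hd : DiscreteTopology W := discreteTopology_of_etale_spec_field g
  exact exists_section_of_isClosed_of_isAlgClosed g w (isClosed_discrete _)

open AlgSp Groth.Agent.Lib.Helper52

variable {S : Scheme.{u}}

/-- Lifting a field-valued point with algebraically closed field along a representable etale
chart, through a prescribed point of the chart. -/
theorem exists_lift_of_etale_chart {X : AlgSp.Sp S} {V : Over S}
    (c : (AlgSp.yon S).obj V ⟶ X) (hc : AlgSp.RepWith @Etale c)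
    (xbar : AlgSp.FieldPt X) (hx : xbar.IsGeometric) (v : ↥V.left)
    (hv : Points.ofPt c v = Points.mk xbar) :
    ∃ vbar : xbar.pt ⟶ V, (AlgSp.yon S).map vbar ≫ c = xbar.toHom ∧
      vbar.left (IsLocalRing.closedPoint xbar.K) = v := by
  have : IsAlgClosed xbar.K := hx
  obtain ⟨W, ψ1, ψ2, sq⟩ := exists_isPullback_of_representable hc.1 xbar.toHom
  have het : Etale ψ2.left := hc.2 xbar.toHom _ ψ2 sq
  have hpt : Points.ofPt c v = Points.ofPt xbar.toHom (IsLocalRing.closedPoint xbar.K) := by
    rw [hv, Points.ofPt_toHom]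
  obtain ⟨w, hw1, hw2⟩ := exists_of_ofPt_eq_ofPt sq hpt
  obtain ⟨s, hs1, hs2⟩ := exists_section_of_etale_of_isAlgClosed (K := xbar.K) ψ2.left w
  let s' : xbar.pt ⟶ W := Over.homMk s (by
    have h1 : ψ2.left ≫ xbar.str = W.hom := Over.w ψ2
    show s ≫ W.hom = xbar.str
    rw [← h1, ← Category.assoc, hs1, Category.id_comp])
  have hs' : s' ≫ ψ2 = 𝟙 _ := by
    apply Over.OverMorphism.ext
    exact hs1
  refine ⟨s' ≫ ψ1, ?_, ?_⟩
  · rw [Functor.map_comp, Category.assoc, sq.w, ← Category.assoc, ← Functor.map_comp, hs',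
      CategoryTheory.Functor.map_id, Category.id_comp]
  · show ψ1.left (s (IsLocalRing.closedPoint xbar.K)) = v
    rw [hs2, hw1]

/-- Lifting a geometric point along an etale morphism of algebraic spaces, through a prescribed
point. -/
theorem exists_lift_geometric_point {U X : AlgSp.Sp S} (hU : AlgSp.IsAlgSpace U)
    (φ : U ⟶ X) (hφ : AlgSp.IsEtaleMor φ)
    (xbar : AlgSp.FieldPt X) (hx : xbar.IsGeometric) (u : Points U)
    (hu : Points.map φ u = Points.mk xbar) :
    ∃ ubar : (AlgSp.yon S).obj xbar.pt ⟶ U, ubar ≫ φ = xbar.toHom ∧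
      Points.ofPt ubar (IsLocalRing.closedPoint xbar.K) = u := by
  obtain ⟨V, a, v, -, ha, hv⟩ := exists_affine_etale_chart_at hU u
  have hc : AlgSp.RepWith @Etale (a ≫ φ) := hφ a ha
  have hv' : Points.ofPt (a ≫ φ) v = Points.mk xbar := by
    rw [← Points.map_ofPt, hv, hu]
  obtain ⟨vbar, h1, h2⟩ := exists_lift_of_etale_chart (a ≫ φ) hc xbar hx v hv'
  refine ⟨(AlgSp.yon S).map vbar ≫ a, ?_, ?_⟩
  · rw [Category.assoc, h1]
  · rw [ofPt_yon_map_comp, h2, hv]

end Groth.Agent.Lib.Helper51
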