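import Groth.Prelude.Def_AlgSpGpd

set_option autoImplicit false
universe u
open CategoryTheory CategoryTheory.Limits AlgebraicGeometry
open AlgSp

namespace Groth.Agent.Lib.Helper51.Gpd

variable {S : Scheme.{u}} {B : Sp S} (G : GroupoidSp B)

set_option backward.isDefEq.respectTransparency false

/-- composition of `T`-valued arrows. -/
noncomputable def comp {T : Sp S} (α β : T ⟶ G.R) (h : α ≫ G.s = β ≫ G.t) : T ⟶ G.R :=
  pullback.lift α β h ≫ G.c

theorem comp_congr {T : Sp S} {α α' β β' : T ⟶ G.R} (h : α ≫ G.s = β ≫ G.t)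
    (hα : α = α') (hβ : β = β') :
    comp G α β h = comp G α' β' (by rw [← hα, ← hβ]; exact h) := by
  subst hα; subst hβ; rfl

theorem precomp {T T' : Sp S} (f : T' ⟶ T) (α β : T ⟶ G.R) (h : α ≫ G.s = β ≫ G.t) :
    f ≫ comp G α β h = comp G (f ≫ α) (f ≫ β)
      (by rw [Category.assoc, Category.assoc, h]) := by
  unfold comp
  rw [← Category.assoc]
  congr 1
  apply pullback.hom_ext
  · rw [Category.assoc, pullback.lift_fst, pullback.lift_fst]
  · rw [Category.assoc, pullback.lift_snd, pullback.lift_snd]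

theorem c_eq : G.c = comp G (pullback.fst G.s G.t) (pullback.snd G.s G.t) pullback.condition := by
  unfold comp
  have : pullback.lift (pullback.fst G.s G.t) (pullback.snd G.s G.t) pullback.condition = 𝟙 _ := by
    apply pullback.hom_ext <;> simp
  rw [this, Category.id_comp]

theorem hom_c {T : Sp S} (φ : T ⟶ pullback G.s G.t) :
    φ ≫ G.c = comp G (φ ≫ pullback.fst G.s G.t) (φ ≫ pullback.snd G.s G.t)
      (by rw [Category.assoc, Category.assoc, pullback.condition]) := by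
  unfold comp
  have : φ = pullback.lift (φ ≫ pullback.fst G.s G.t) (φ ≫ pullback.snd G.s G.t)
      (by rw [Category.assoc, Category.assoc, pullback.condition]) := by
    apply pullback.hom_ext
    · rw [pullback.lift_fst]
    · rw [pullback.lift_snd]
  exact congrArg (· ≫ G.c) this

theorem comp_s {T : Sp S} (α β : T ⟶ G.R) (h : α ≫ G.s = β ≫ G.t) :
    comp G α β h ≫ G.s = β ≫ G.s := G.comp_s α β h

theorem comp_t {T : Sp S} (α β : T ⟶ G.R) (h : α ≫ G.s = β ≫ G.t) :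
    comp G α β h ≫ G.t = α ≫ G.t := G.comp_t α β h

theorem assoc {T : Sp S} (α β γ : T ⟶ G.R) (h₁ : α ≫ G.s = β ≫ G.t) (h₂ : β ≫ G.s = γ ≫ G.t) :
    comp G (comp G α β h₁) γ ((comp_s G α β h₁).trans h₂) =
      comp G α (comp G β γ h₂) (h₁.trans (comp_t G β γ h₂).symm) := G.assoc α β γ h₁ h₂

theorem comp_e {T : Sp S} (α : T ⟶ G.R) (ε : T ⟶ G.R) (hε : ε = α ≫ G.s ≫ G.e)
    (h : α ≫ G.s = ε ≫ G.t) : comp G α ε h = α := by
  subst hε
  exact G.comp_e α

theorem e_comp {T : Sp S} (α : T ⟶ G.R) (ε : T ⟶ G.R) (hε : ε = α ≫ G.t ≫ G.e)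
    (h : ε ≫ G.s = α ≫ G.t) : comp G ε α h = α := by
  subst hε
  exact G.e_comp α

theorem comp_i {T : Sp S} (α : T ⟶ G.R) (ι : T ⟶ G.R) (hι : ι = α ≫ G.i)
    (h : α ≫ G.s = ι ≫ G.t) : comp G α ι h = α ≫ G.t ≫ G.e := by
  subst hι
  exact G.comp_i α

theorem i_comp {T : Sp S} (α : T ⟶ G.R) (ι : T ⟶ G.R) (hι : ι = α ≫ G.i)
    (h : ι ≫ G.s = α ≫ G.t) : comp G ι α h = α ≫ G.s ≫ G.e := by
  subst hι
  exact G.i_comp α

/-- right cancellation data: `(a ∘ b⁻¹) ∘ b = a` when `s a = s b`. -/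
theorem comp_inv_comp {T : Sp S} (a b : T ⟶ G.R) (h : a ≫ G.s = b ≫ G.s) :
    comp G (comp G a (b ≫ G.i) (by rw [Category.assoc, G.i_t]; exact h)) b
      (by rw [comp_s, Category.assoc, G.i_s]) = a := by
  rw [assoc G a (b ≫ G.i) b (by rw [Category.assoc, G.i_t]; exact h)
    (by rw [Category.assoc, G.i_s])]
  have h1 : comp G (b ≫ G.i) b (by rw [Category.assoc, G.i_s]) = a ≫ G.s ≫ G.e := by
    rw [i_comp G b (b ≫ G.i) rfl, ← Category.assoc, ← h, Category.assoc]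
  rw [comp_congr G _ rfl h1]
  exact comp_e G a _ rfl _

/-- `(α ∘ b) ∘ b⁻¹ = α` when `s α = t b`. -/
theorem comp_comp_inv {T : Sp S} (α b : T ⟶ G.R) (h : α ≫ G.s = b ≫ G.t) :
    comp G (comp G α b h) (b ≫ G.i) (by rw [comp_s, Category.assoc, G.i_t]) = α := by
  rw [assoc G α b (b ≫ G.i) h (by rw [Category.assoc, G.i_t])]
  have h1 : comp G b (b ≫ G.i) (by rw [Category.assoc, G.i_t]) = α ≫ G.s ≫ G.e := by
    rw [comp_i G b (b ≫ G.i) rfl, ← Category.assoc, ← h, Category.assoc]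
  rw [comp_congr G _ rfl h1]
  exact comp_e G α _ rfl _

/-- `a⁻¹ ∘ (a ∘ b) = b` when `s a = t b`. -/
theorem inv_comp_comp {T : Sp S} (a b : T ⟶ G.R) (h : a ≫ G.s = b ≫ G.t) :
    comp G (a ≫ G.i) (comp G a b h) (by rw [comp_t, Category.assoc, G.i_s]) = b := by
  rw [← assoc G (a ≫ G.i) a b (by rw [Category.assoc, G.i_s]) h]
  have h1 : comp G (a ≫ G.i) a (by rw [Category.assoc, G.i_s]) = b ≫ G.t ≫ G.e := by
    rw [i_comp G a (a ≫ G.i) rfl, ← Category.assoc, h, Category.assoc]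
  rw [comp_congr G _ h1 rfl]
  exact e_comp G b _ rfl _

/-- `a ∘ (a⁻¹ ∘ b) = b` when `t a = t b`. -/
theorem comp_inv_comp' {T : Sp S} (a b : T ⟶ G.R) (h : a ≫ G.t = b ≫ G.t) :
    comp G a (comp G (a ≫ G.i) b (by rw [Category.assoc, G.i_s]; exact h))
      (by rw [comp_t, Category.assoc, G.i_t]) = b := by
  rw [← assoc G a (a ≫ G.i) b (by rw [Category.assoc, G.i_t])
    (by rw [Category.assoc, G.i_s]; exact h)]
  have h1 : comp G a (a ≫ G.i) (by rw [Category.assoc, G.i_t]) = b ≫ G.t ≫ G.e := by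
    rw [comp_i G a (a ≫ G.i) rfl, ← Category.assoc, h, Category.assoc]
  rw [comp_congr G _ h1 rfl]
  exact e_comp G b _ rfl _

end Groth.Agent.Lib.Helper51.Gpd
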