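import Groth.Agent.Lib.Helper51.AlgSpMonoPt
import Groth.Agent.Lib.Helper51.AlgSpCharts
import Groth.Agent.Lib.Helper30.AlgSpDesc
import Mathlib.RingTheory.Etale.Descent
import Mathlib.AlgebraicGeometry.Morphisms.FlatDescent
import Mathlib.AlgebraicGeometry.Morphisms.Etale

/-!
A monomorphism from a nonempty algebraic space to the spectrum of a field is an isomorphism
(helper51).
-/

set_option autoImplicit false
set_option linter.unusedSectionVars false
universe u
open CategoryTheory CategoryTheory.Limits AlgebraicGeometry Opposite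

set_option backward.isDefEq.respectTransparency false

namespace Groth.Agent.Lib.Helper51

/-- Postcomposing a pullback square with a monomorphism. -/
theorem isPullback_comp_mono {C : Type*} [Category C] {P X Y Z W : C} {fst : P ⟶ X} {snd : P ⟶ Y}
    {a : X ⟶ Z} {b : Y ⟶ Z} (sq : IsPullback fst snd a b) (f : Z ⟶ W) [Mono f] :
    IsPullback fst snd (a ≫ f) (b ≫ f) :=
  ⟨⟨by rw [← Category.assoc, sq.w, Category.assoc]⟩,
    ⟨PullbackCone.IsLimit.mk _
      (fun s => sq.lift s.fst s.snd ((cancel_mono f).1 (by simpa using s.condition)))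
      (fun s => sq.lift_fst _ _ _) (fun s => sq.lift_snd _ _ _)
      (fun s m h1 h2 => sq.hom_ext (by simp [h1]) (by simp [h2]))⟩⟩

/-- Étale morphisms satisfy fpqc descent. -/
instance descendsAlong_etale_fpqc :
    MorphismProperty.DescendsAlong @Etale
      (@Surjective ⊓ @Flat ⊓ @QuasiCompact : MorphismProperty Scheme.{u}) :=
  HasRingHomProperty.descendsAlong_flat (P := @Etale) RingHom.Etale.codescendsAlong_faithfullyFlat

/-- A morphism from an affine scheme to the spectrum of a field is flat. -/
theorem flat_of_isAffine_to_spec_field {W : Scheme.{u}} [IsAffine W] {L : Type u} [Field L]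
    (h : W ⟶ Spec (CommRingCat.of L)) : Flat h := by
  let φ : CommRingCat.of L ⟶ Γ(W, ⊤) := (Scheme.ΓSpecIso (CommRingCat.of L)).inv ≫ h.appTop
  have hfac : h = W.isoSpec.hom ≫ Spec.map φ := by
    have h1 := Scheme.toSpecΓ_naturality h
    rw [← SpecMap_ΓSpecIso_hom] at h1
    have h2 : h = (W.toSpecΓ ≫ Spec.map h.appTop) ≫
        Spec.map (Scheme.ΓSpecIso (CommRingCat.of L)).inv := by
      rw [← h1, Category.assoc, ← Spec.map_comp, Iso.inv_hom_id, Spec.map_id, Category.comp_id]
    rw [h2, Category.assoc, ← Spec.map_comp]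
    rfl
  have : Flat (Spec.map φ) := by
    rw [HasRingHomProperty.Spec_iff (P := @Flat)]
    show φ.hom.Flat
    let : Algebra L Γ(W, ⊤) := φ.hom.toAlgebra
    show Module.Flat L Γ(W, ⊤)
    infer_instance
  rw [hfac]
  infer_instance

open AlgSp Groth.Agent.Lib.Helper52

variable {S : Scheme.{u}}

/-- A monomorphism from an algebraic space with a point to the spectrum of a field is an
isomorphism. -/
theorem isIso_of_mono_to_yon_field {k : Type u} [Field k] (str : Spec (CommRingCat.of k) ⟶ S)
    {F : AlgSp.Sp S} (hF : AlgSp.IsAlgSpace F) (f : F ⟶ (AlgSp.yon S).obj (Over.mk str)) [Mono f]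
    (hne : Nonempty (AlgSp.Points F)) : IsIso f := by
  obtain ⟨U, p, hpe, hps⟩ := hF.atlas
  obtain ⟨x⟩ := hne
  obtain ⟨u, -⟩ := surjective_ofPt_of_repWith_surjective p hps x
  obtain ⟨V, hV, huV, -⟩ := exists_isAffineOpen_mem_and_subset
    (TopologicalSpace.Opens.mem_top u)
  let U0 : Over S := opensOver U V
  let a : (AlgSp.yon S).obj U0 ⟶ F := (AlgSp.yon S).map (opensOverι U V) ≫ p
  have hae : AlgSp.RepWith @Etale a :=
    repWith_etale_yon_map_comp (opensOverι U V) inferInstance p hpe
  let g : U0 ⟶ Over.mk str := (AlgSp.yon S).preimage (a ≫ f)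
  have hg : (AlgSp.yon S).map g = a ≫ f := (AlgSp.yon S).map_preimage _
  obtain ⟨W, φ, ψ, sq⟩ := exists_isPullback_of_representable hae.1 a
  have hψ : Etale ψ.left := hae.2 a _ ψ sq
  have sq' := isPullback_comp_mono sq f
  rw [← hg] at sq'
  have sq2 : IsPullback φ ψ g g := IsPullback.of_map (AlgSp.yon S)
    ((AlgSp.yon S).map_injective (by simpa using sq'.w)) sq'
  have sq3 : IsPullback φ.left ψ.left g.left g.left := sq2.map (Over.forget S)
  have : IsAffine U0.left := hV
  have : Nonempty ↥U0.left := ⟨⟨u, huV⟩⟩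
  have hflat : Flat g.left := flat_of_isAffine_to_spec_field (L := k) g.left
  have hsurj : Surjective g.left := by
    refine ⟨fun y => ⟨Classical.arbitrary _, ?_⟩⟩
    have : Subsingleton ↥(Spec (CommRingCat.of k)) :=
      inferInstanceAs (Subsingleton (PrimeSpectrum k))
    exact Subsingleton.elim (α := ↥(Spec (CommRingCat.of k))) _ _
  have hqc : QuasiCompact g.left := by
    have : CompactSpace ↥U0.left := inferInstance
    have : IsAffine (Over.mk str).left := inferInstanceAs (IsAffine (Spec (CommRingCat.of k)))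
    exact (quasiCompact_iff_compactSpace g.left).mpr inferInstance
  have hget : Etale g.left :=
    MorphismProperty.of_isPullback_of_descendsAlong (P := @Etale)
      (Q := (@Surjective ⊓ @Flat ⊓ @QuasiCompact : MorphismProperty Scheme.{u}))
      sq3.flip ⟨⟨hsurj, hflat⟩, hqc⟩ hψ
  have h1 : AlgSp.RepWith @Flat ((AlgSp.yon S).map g) :=
    (AlgSp.repWith_yon_map_iff @Flat g).2 hflat
  have h2 : AlgSp.RepWith @LocallyOfFinitePresentation ((AlgSp.yon S).map g) :=
    (AlgSp.repWith_yon_map_iff @LocallyOfFinitePresentation g).2 inferInstance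
  have h3 : AlgSp.RepWith @Surjective ((AlgSp.yon S).map g) :=
    (AlgSp.repWith_yon_map_iff @Surjective g).2 hsurj
  have hls := Groth.Agent.S9885.result S _ _ _ h1 h2 h3
  have hepi : Epi ((AlgSp.yon S).map g) := inferInstance
  rw [hg] at hepi
  have : Epi f := epi_of_epi a f
  exact isIso_of_mono_of_epi f

end Groth.Agent.Lib.Helper51
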