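import Groth.Agent.Lib.Helper40.AlgSpLocal
import Groth.Agent.Lib.Helper40.FppfLocalInst
import Groth.Agent.Lib.Helper51.AlgSpMonoField

/-!
The image of a morphism from a scheme to an algebraic space whose kernel pair is etale is an
algebraic space (helper51).
-/

set_option autoImplicit false
set_option linter.unusedSectionVars false
universe u
open CategoryTheory CategoryTheory.Limits AlgebraicGeometry Opposite

set_option backward.isDefEq.respectTransparency false

namespace Groth.Agent.Lib.Helper51

/-- Cancelling a monomorphism from a pullback square. -/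
theorem isPullback_of_comp_mono {C : Type*} [Category C] {P X Y Z W : C} {fst : P ⟶ X}
    {snd : P ⟶ Y} {a : X ⟶ Z} {b : Y ⟶ Z} (f : Z ⟶ W) [Mono f]
    (sq : IsPullback fst snd (a ≫ f) (b ≫ f)) : IsPullback fst snd a b :=
  ⟨⟨(cancel_mono f).1 (by simpa using sq.w)⟩,
    ⟨PullbackCone.IsLimit.mk _
      (fun s => sq.lift s.fst s.snd (by rw [← Category.assoc, s.condition, Category.assoc]))
      (fun s => sq.lift_fst _ _ _) (fun s => sq.lift_snd _ _ _)
      (fun s m h1 h2 => sq.hom_ext (by simp [h1]) (by simp [h2]))⟩⟩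

open AlgSp Groth.Agent.Lib.Helper52

variable {S : Scheme.{u}}

/-- Maps from schemes to a subsheaf of an algebraic space are representable. -/
theorem representable_of_mono_to_algSpace {Z X : AlgSp.Sp S} (hX : AlgSp.IsAlgSpace X)
    (f : Z ⟶ X) [Mono f] {U : Over S} (g : (AlgSp.yon S).obj U ⟶ Z) : AlgSp.Representable g := by
  intro U' h
  obtain ⟨W, φ, ψ, sq⟩ :=
    exists_isPullback_of_representable (hX.representable_from_yon (g ≫ f)) (h ≫ f)
  exact ⟨W, ψ, (AlgSp.yon S).map φ, isPullback_of_comp_mono f sq⟩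

/-- The diagonal of a subsheaf of an algebraic space is representable. -/
theorem representable_diag_of_mono_to_algSpace {Z X : AlgSp.Sp S} (hX : AlgSp.IsAlgSpace X)
    (f : Z ⟶ X) [Mono f] : AlgSp.Representable (Limits.diag Z) :=
  Functor.relativelyRepresentable.diag_of_map_from_obj
    (fun _ g => representable_of_mono_to_algSpace hX f g)

/-- An epimorphism from a scheme onto a subsheaf of an algebraic space, whose kernel pair has a
property `P` which is local for the fppf topology, has `P`. -/
theorem repWith_of_epi_of_kernelPair (P : MorphismProperty Scheme.{u})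
    [P.IsStableUnderBaseChange] [P.IsLocalAtTarget Scheme.fppfPrecoverage]
    {Z X : AlgSp.Sp S} (hX : AlgSp.IsAlgSpace X) (f : Z ⟶ X) [Mono f] {T0 R : Over S}
    (z : (AlgSp.yon S).obj T0 ⟶ Z) [Epi z] (s t : R ⟶ T0)
    (sq : IsPullback ((AlgSp.yon S).map s) ((AlgSp.yon S).map t) z z) (ht : P t.left) :
    AlgSp.RepWith P z := by
  have hls : Sheaf.IsLocallySurjective z := (Sheaf.isLocallySurjective_iff_epi z).2 inferInstance
  apply Groth.Agent.Lib.Helper40.AlgSpBasic.repWith_of_locally z
    (representable_of_mono_to_algSpace hX f z) P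
  intro U g₀
  let s₁ := (AlgSp.J S).uliftYonedaEquiv g₀
  refine ⟨Presheaf.imageSieve z.hom s₁, Presheaf.imageSieve_mem (AlgSp.J S) z.hom s₁, ?_⟩
  intro U' gU hgU
  obtain ⟨t₁, ht₁⟩ := hgU
  let τ₁ : (AlgSp.yon S).obj U' ⟶ (AlgSp.yon S).obj T0 := (AlgSp.J S).uliftYonedaEquiv.symm t₁
  have hτ₁ : τ₁ ≫ z = (AlgSp.yon S).map gU ≫ g₀ := by
    apply (AlgSp.J S).uliftYonedaEquiv.injective
    rw [GrothendieckTopology.uliftYonedaEquiv_comp, Equiv.apply_symm_apply,
      ← GrothendieckTopology.uliftYonedaEquiv_naturality]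
    exact ht₁
  let l : U' ⟶ T0 := (AlgSp.yon S).preimage τ₁
  have hl : (AlgSp.yon S).map l = τ₁ := Functor.map_preimage _ _
  have hpb : IsPullback (pullback.fst t l) (pullback.snd t l) t l := IsPullback.of_hasPullback _ _
  have hpbY := hpb.map (AlgSp.yon S)
  refine ⟨pullback t l, (AlgSp.yon S).map (pullback.fst t l) ≫ (AlgSp.yon S).map s,
    pullback.snd t l, ?_, ?_⟩
  · rw [← hτ₁, ← hl]
    exact hpbY.paste_horiz sq
  · exact MorphismProperty.of_isPullback (P := P.inverseImage (Over.forget S)) hpb ht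

/-- The image of a morphism from a scheme to an algebraic space whose kernel pair is etale is an
algebraic space, and the morphism from the scheme onto it is etale and surjective. -/
theorem isAlgSpace_of_epi_of_etale_kernelPair {Z X : AlgSp.Sp S} (hX : AlgSp.IsAlgSpace X)
    (f : Z ⟶ X) [Mono f] {T0 R : Over S} (z : (AlgSp.yon S).obj T0 ⟶ Z) [Epi z] (s t : R ⟶ T0)
    (sq : IsPullback ((AlgSp.yon S).map s) ((AlgSp.yon S).map t) z z) (ht : Etale t.left)
    (hts : Surjective t.left) :
    AlgSp.IsAlgSpace Z ∧ AlgSp.RepWith @Etale z ∧ AlgSp.RepWith @Surjective z := by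
  have := Groth.Agent.Lib.Helper40.FppfLocal.etale_isLocalAtTarget_fppf.{u}
  have := Groth.Agent.Lib.Helper40.FppfLocal.surjective_isLocalAtTarget_fppf.{u}
  have h1 : AlgSp.RepWith @Etale z := repWith_of_epi_of_kernelPair @Etale hX f z s t sq ht
  have h2 : AlgSp.RepWith @Surjective z :=
    repWith_of_epi_of_kernelPair @Surjective hX f z s t sq hts
  exact ⟨⟨representable_diag_of_mono_to_algSpace hX f, T0, z, h1, h2⟩, h1, h2⟩

end Groth.Agent.Lib.Helper51
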