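import Groth.Agent.Lib.Helper51.AlgSpGpdCalc
import Groth.Agent.Lib.Helper51.AlgSpImage
import Groth.Agent.Lib.Helper51.AlgSpOpen
import Groth.Agent.Lib.Helper30.AlgSpMor
import Groth.Prelude.Def_AlgSp4

set_option autoImplicit false
universe u
open CategoryTheory CategoryTheory.Limits AlgebraicGeometry
open AlgSp

namespace Groth.Agent.Lib.Helper51.Gpd

variable {S : Scheme.{u}} {B : Sp S} (G : GroupoidSp B)

set_option backward.isDefEq.respectTransparency false

/-- a section of a morphism is a base change of its diagonal. -/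
theorem of_section_of_diagonal (Q : MorphismProperty (Sp S)) [Q.IsStableUnderBaseChange]
    {X Y : Sp S} (π : X ⟶ Y) (σ : Y ⟶ X) (hσ : σ ≫ π = 𝟙 Y)
    (h : Q (pullback.diagonal π)) : Q σ := by
  have : Q.RespectsIso := MorphismProperty.IsStableUnderBaseChange.respectsIso
  have sq := pullback_lift_diagonal_isPullback σ π
  have h1 : Q (pullback.lift (𝟙 Y) σ (by simp) : Y ⟶ pullback (σ ≫ π) π) :=
    MorphismProperty.of_isPullback sq h
  have hiso : IsIso (σ ≫ π) := by rw [hσ]; infer_instance
  have h2 : (pullback.lift (𝟙 Y) σ (by simp) : Y ⟶ pullback (σ ≫ π) π) ≫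
      pullback.snd (σ ≫ π) π = σ := pullback.lift_snd _ _ _
  rw [← h2]
  exact (Q.cancel_right_of_respectsIso _ _).2 h1

theorem comp_congr₂ {T : Sp S} {α α' β β' : T ⟶ G.R} (h : α ≫ G.s = β ≫ G.t)
    (h' : α' ≫ G.s = β' ≫ G.t) (hα : α = α') (hβ : β = β') :
    comp G α β h = comp G α' β' h' := by
  subst hα; subst hβ; rfl

theorem j_t_eq {T : Sp S} (a b : T ⟶ G.R) (h : a ≫ G.j = b ≫ G.j) : a ≫ G.t = b ≫ G.t := by
  have := congrArg (· ≫ pullback.fst G.pU G.pU) h
  simpa only [Category.assoc, GroupoidSp.j_fst] using this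

theorem j_s_eq {T : Sp S} (a b : T ⟶ G.R) (h : a ≫ G.j = b ≫ G.j) : a ≫ G.s = b ≫ G.s := by
  have := congrArg (· ≫ pullback.snd G.pU G.pU) h
  simpa only [Category.assoc, GroupoidSp.j_snd] using this

theorem diag_fst : G.diag ≫ pullback.fst G.pU G.pU = 𝟙 _ := pullback.lift_fst _ _ _
theorem diag_snd : G.diag ≫ pullback.snd G.pU G.pU = 𝟙 _ := pullback.lift_snd _ _ _

theorem stab_cond : G.stabilizerι ≫ G.j = G.stabilizerToU ≫ G.diag := pullback.condition

theorem stabilizerι_t : G.stabilizerι ≫ G.t = G.stabilizerToU := by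
  have := congrArg (· ≫ pullback.fst G.pU G.pU) (stab_cond G)
  simpa only [Category.assoc, GroupoidSp.j_fst, diag_fst, Category.comp_id] using this

theorem stabilizerι_s : G.stabilizerι ≫ G.s = G.stabilizerToU := by
  have := congrArg (· ≫ pullback.snd G.pU G.pU) (stab_cond G)
  simpa only [Category.assoc, GroupoidSp.j_snd, diag_snd, Category.comp_id] using this

theorem stab_hom_ext {T : Sp S} (a b : T ⟶ G.stabilizer)
    (h : a ≫ G.stabilizerι = b ≫ G.stabilizerι) : a = b := by
  apply pullback.hom_ext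
  · exact h
  · change a ≫ G.stabilizerToU = b ≫ G.stabilizerToU
    rw [← stabilizerι_t, ← Category.assoc, h, Category.assoc]

section
variable (eG : G.U ⟶ G.stabilizer) (heG : eG ≫ G.stabilizerι = G.e)

include heG in
theorem eG_toU : eG ≫ G.stabilizerToU = 𝟙 _ := by
  rw [← stabilizerι_t, ← Category.assoc, heG, G.e_t]

/-- `(r₁, r₂) ↦ r₁⁻¹ ∘ r₂`. -/
noncomputable def kerRho : pullback G.j G.j ⟶ G.R :=
  comp G (pullback.fst G.j G.j ≫ G.i) (pullback.snd G.j G.j)
    (by rw [Category.assoc, G.i_s]; exact j_t_eq G _ _ pullback.condition)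

theorem kerRho_s : kerRho G ≫ G.s = pullback.snd G.j G.j ≫ G.s := by
  unfold kerRho; rw [comp_s]

theorem kerRho_t : kerRho G ≫ G.t = pullback.snd G.j G.j ≫ G.s := by
  unfold kerRho; rw [comp_t, Category.assoc, G.i_t]
  exact j_s_eq G _ _ pullback.condition

/-- the map from the kernel pair of `j` to the stabilizer. -/
noncomputable def kerDelta : pullback G.j G.j ⟶ G.stabilizer :=
  pullback.lift (kerRho G) (pullback.snd G.j G.j ≫ G.s) (by
    apply pullback.hom_ext
    · rw [Category.assoc, GroupoidSp.j_fst, Category.assoc, diag_fst, Category.comp_id, kerRho_t]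
    · rw [Category.assoc, GroupoidSp.j_snd, Category.assoc, diag_snd, Category.comp_id, kerRho_s])

theorem kerDelta_ι : kerDelta G ≫ G.stabilizerι = kerRho G := pullback.lift_fst _ _ _

theorem kerDelta_toU : kerDelta G ≫ G.stabilizerToU = pullback.snd G.j G.j ≫ G.s :=
  pullback.lift_snd _ _ _

include heG in
theorem isPullback_s_diagonal : IsPullback G.s (pullback.diagonal G.j) eG (kerDelta G) := by
  have hw : G.s ≫ eG = pullback.diagonal G.j ≫ kerDelta G := by
    apply stab_hom_ext
    rw [Category.assoc, heG, Category.assoc, kerDelta_ι]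
    unfold kerRho
    rw [precomp]
    have e1 : pullback.diagonal G.j ≫ pullback.fst G.j G.j ≫ G.i = 𝟙 G.R ≫ G.i := by
      rw [← Category.assoc, pullback.diagonal_fst]
    have e2 : pullback.diagonal G.j ≫ pullback.snd G.j G.j = 𝟙 G.R := pullback.diagonal_snd _
    rw [comp_congr G _ e1 e2, i_comp G (𝟙 G.R) _ rfl, Category.id_comp]
  refine ⟨⟨hw⟩, ⟨PullbackCone.IsLimit.mk _ (fun c => c.snd ≫ pullback.fst G.j G.j) ?_ ?_ ?_⟩⟩
  · intro c
    -- `r₁ ≫ s = a`
    have h1 := congrArg (· ≫ G.stabilizerToU) c.condition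
    simp only [Category.assoc, kerDelta_toU, eG_toU G eG heG, Category.comp_id] at h1
    rw [Category.assoc, j_s_eq G _ _ pullback.condition]
    exact h1.symm
  · intro c
    set r1 := c.snd ≫ pullback.fst G.j G.j with hr1
    set r2 := c.snd ≫ pullback.snd G.j G.j with hr2
    have hj : r1 ≫ G.j = r2 ≫ G.j := by
      rw [hr1, hr2, Category.assoc, Category.assoc, pullback.condition]
    have ha : c.fst = r2 ≫ G.s := by
      have h1 := congrArg (· ≫ G.stabilizerToU) c.condition
      simp only [Category.assoc, kerDelta_toU, eG_toU G eG heG, Category.comp_id] at h1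
      exact h1
    -- `r₁⁻¹ ∘ r₂ = e (s r₂)`
    have hρ : comp G (r1 ≫ G.i) r2 (by rw [Category.assoc, G.i_s]; exact j_t_eq G _ _ hj) =
        r2 ≫ G.s ≫ G.e := by
      have h2 := congrArg (· ≫ G.stabilizerι) c.condition
      simp only [Category.assoc, kerDelta_ι, heG] at h2
      unfold kerRho at h2
      rw [precomp] at h2
      refine Eq.trans (comp_congr₂ G _ _ (Category.assoc _ _ _) rfl) (h2.symm.trans ?_)
      rw [ha, Category.assoc]
    have h12 : r1 = r2 := by
      have h3 := comp_inv_comp' G r1 r2 (j_t_eq G _ _ hj)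
      rw [← h3, comp_congr G _ rfl hρ]
      have hs : r2 ≫ G.s ≫ G.e = r1 ≫ G.s ≫ G.e := by
        rw [← Category.assoc, ← j_s_eq G _ _ hj, Category.assoc]
      exact (comp_e G r1 _ hs _).symm
    apply pullback.hom_ext
    · rw [Category.assoc, pullback.diagonal_fst, Category.comp_id]
    · rw [Category.assoc, pullback.diagonal_snd, Category.comp_id]
      exact h12
  · intro c m hm1 hm2
    rw [← hm2, Category.assoc, pullback.diagonal_fst, Category.comp_id]

include heG in
theorem separation_cycle (Q : MorphismProperty (Sp S)) [Q.IsStableUnderBaseChange] :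
    (Q (pullback.diagonal G.j) → Q (pullback.diagonal G.stabilizerToU)) ∧
    (Q (pullback.diagonal G.stabilizerToU) → Q eG) ∧ (Q eG → Q (pullback.diagonal G.j)) := by
  have : Q.RespectsIso := MorphismProperty.IsStableUnderBaseChange.respectsIso
  refine ⟨fun h => ?_, fun h => ?_, fun h => ?_⟩
  · exact MorphismProperty.pullback_snd (P := Q.diagonal) G.j G.diag h
  · exact of_section_of_diagonal Q G.stabilizerToU eG (eG_toU G eG heG) h
  · exact MorphismProperty.of_isPullback (isPullback_s_diagonal G eG heG) h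

end

theorem representable_of_comp_mono {F F' H : Sp S} (f : F ⟶ F') (j : F' ⟶ H) [Mono j]
    (h : Representable (f ≫ j)) : Representable f := by
  intro T g
  obtain ⟨V, snd, fst, sq⟩ := h (g ≫ j)
  exact ⟨V, snd, fst, (Groth.Agent.Lib.Helper51.isPullback_comp_mono_iff _ _ _ _ j).1 sq⟩

instance mono_diag : Mono G.diag := mono_of_mono_fac (diag_fst G)

theorem representable_diagonal_stabilizerToU (hR : IsAlgSpace G.R) :
    Representable (pullback.diagonal G.stabilizerToU) := by
  have hm : Mono G.stabilizerι := by unfold GroupoidSp.stabilizerι; infer_instance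
  have h1 : Representable (Limits.diag G.stabilizer) :=
    Groth.Agent.Lib.Helper51.representable_diag_of_mono_to_algSpace hR G.stabilizerι
  let m : pullback G.stabilizerToU G.stabilizerToU ⟶ G.stabilizer ⨯ G.stabilizer :=
    prod.lift (pullback.fst _ _) (pullback.snd _ _)
  have hmono : Mono m := by
    refine ⟨fun a b hab => ?_⟩
    apply pullback.hom_ext
    · have := congrArg (· ≫ prod.fst) hab
      simpa only [m, Category.assoc, prod.lift_fst] using this
    · have := congrArg (· ≫ prod.snd) hab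
      simpa only [m, Category.assoc, prod.lift_snd] using this
  have h2 : pullback.diagonal G.stabilizerToU ≫ m = Limits.diag G.stabilizer := by
    apply Limits.prod.hom_ext
    · simp only [m, Category.assoc, prod.lift_fst, pullback.diagonal_fst, Limits.diag]
    · simp only [m, Category.assoc, prod.lift_snd, pullback.diagonal_snd, Limits.diag]
  rw [← h2] at h1
  exact representable_of_comp_mono _ m h1

theorem separation_j_iff (hR : IsAlgSpace G.R)
    (eG : G.U ⟶ G.stabilizer) (heG : eG ≫ G.stabilizerι = G.e) :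
    ((IsSeparatedMor G.j ↔ IsSeparatedMor G.stabilizerToU) ∧
        (IsSeparatedMor G.j ↔ RepWith @IsClosedImmersion eG)) ∧
      ((IsQuasiSeparatedMor G.j ↔ IsQuasiSeparatedMor G.stabilizerToU) ∧
        (IsQuasiSeparatedMor G.j ↔ IsQuasiCompactMor eG)) ∧
      ((IsLocallySeparatedMor G.j → RepWith @IsImmersion eG) ∧
        (IsLocallySeparatedMor G.stabilizerToU → RepWith @IsImmersion eG)) := by
  obtain ⟨a1, a2, a3⟩ := separation_cycle G eG heG (RepWith @IsClosedImmersion)
  obtain ⟨b1, b2, b3⟩ := separation_cycle G eG heG (RepWith @QuasiCompact)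
  obtain ⟨c1, c2, c3⟩ := separation_cycle G eG heG (RepWith @IsImmersion)
  obtain ⟨d1, d2, d3⟩ := separation_cycle G eG heG (Representable (S := S))
  have hrep : Representable eG := d2 (representable_diagonal_stabilizerToU G hR)
  refine ⟨⟨⟨a1, fun h => a3 (a2 h)⟩, ⟨fun h => a2 (a1 h), a3⟩⟩,
    ⟨⟨b1, fun h => b3 (b2 h)⟩, ⟨fun h => ?_, fun h => b3 ?_⟩⟩, ⟨fun h => c2 (c1 h), c2⟩⟩
  · exact Groth.Agent.Lib.Helper30.isQuasiCompactMor_of_repWith (b2 (b1 h))
  · exact ⟨hrep, fun _ _ g fst snd sq =>
      Groth.Agent.Lib.Helper30.quasiCompact_of_isQuasiCompactMor h g fst snd sq⟩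

end Groth.Agent.Lib.Helper51.Gpd
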