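import Groth.Agent.Lib.Helper51.AlgSpGrpMulFlat
import Groth.Agent.Lib.Helper51.AlgSpGpdSep
import Groth.Agent.Lib.Helper78.AlgSpBasic
import Groth.Agent.Lib.Helper30.AlgSpProper

/-!
# The composition of a groupoid in algebraic spaces over a field is flat and universally open (helper51)
-/

set_option autoImplicit false
universe u v
open CategoryTheory CategoryTheory.Limits AlgebraicGeometry Opposite
open AlgSp

namespace Groth.Agent.Lib.Helper51.Gpd

variable {S : Scheme.{u}} {B : Sp S} (G : GroupoidSp B)

set_option backward.isDefEq.respectTransparency false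

/-- the composition is the base change of the source map along itself. -/
theorem isPullback_c_snd_cf :
    IsPullback G.c (pullback.snd G.s G.t) G.s G.s := by
  have hw : G.c ≫ G.s = pullback.snd G.s G.t ≫ G.s := by
    rw [c_eq G]; exact comp_s G _ _ _
  refine ⟨⟨hw⟩, ⟨PullbackCone.IsLimit.mk _
    (fun c' => pullback.lift
      (comp G c'.fst (c'.snd ≫ G.i) (by rw [Category.assoc, G.i_t]; exact c'.condition)) c'.snd
      (by rw [comp_s, Category.assoc, G.i_s])) ?_ ?_ ?_⟩⟩
  · intro c'
    rw [hom_c G]
    rw [comp_congr₂ G _ (by rw [comp_s, Category.assoc, G.i_s]) (pullback.lift_fst _ _ _)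
      (pullback.lift_snd _ _ _)]
    exact comp_inv_comp G c'.fst c'.snd c'.condition
  · intro c'
    exact pullback.lift_snd _ _ _
  · intro c' m hm1 hm2
    apply pullback.hom_ext
    · rw [pullback.lift_fst]
      have hcond : (m ≫ pullback.fst G.s G.t) ≫ G.s = c'.snd ≫ G.t := by
        rw [← hm2, Category.assoc, Category.assoc, pullback.condition]
      have h1 : comp G (m ≫ pullback.fst G.s G.t) c'.snd hcond = c'.fst := by
        rw [← hm1, hom_c G]
        exact comp_congr₂ G _ _ rfl hm2.symm
      have h2 := comp_comp_inv G (m ≫ pullback.fst G.s G.t) c'.snd hcond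
      rw [← h2]
      exact comp_congr₂ G _ _ h1 rfl
    · rw [pullback.lift_snd, hm2]

open Groth.Agent.Lib.Helper78.AlgSpLocP Groth.Agent.Lib.Helper78.AlgSpLocPFlat
  Groth.Agent.Lib.Helper78.AlgSpFibre Groth.Agent.Lib.Helper30 Groth.Agent.Lib.Helper78.AlgSpBasic
  Groth.Agent.Lib.Helper51.GrpMulFlat

/-- every morphism from an algebraic space to (a sheaf isomorphic to) an integral one point scheme is flat
and universally open. -/
theorem flat_univOpen_of_field' {X Y : Sp S} (hX : IsAlgSpace X) (T : Over S) [IsIntegral T.left]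
    [Subsingleton ↥T.left] (e : Y ≅ (yon S).obj T) (f : X ⟶ Y) :
    LocP @Flat f ∧ IsUnivOpenMor f := by
  have h0 := flat_univOpen_of_field hX T (f ≫ e.hom)
  have hY : IsAlgSpace Y := (IsAlgSpace.yon_obj T).of_iso e.symm
  obtain ⟨U, a, ha, has⟩ := hX.atlas
  obtain ⟨h, hh⟩ : ∃ h : U ⟶ T, (yon S).map h = a ≫ f ≫ e.hom :=
    ⟨(yon S).preimage _, (yon S).map_preimage _⟩
  constructor
  · exact locP_of_chart etLocalST_flat f a e.inv h ha has (repWith_of_isIso _ e.inv)
      (by rw [hh, Category.assoc, Category.assoc, e.hom_inv_id, Category.comp_id]) inferInstance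
  · have h1 : IsUnivOpenMor e.inv := isUnivOpenMor_of_repWith (repWith_of_isIso _ e.inv)
    have h2 := isUnivOpenMor_comp (IsAlgSpace.yon_obj T) hY h0.2 h1
    rwa [Category.assoc, e.hom_inv_id, Category.comp_id] at h2

/-- the composition of a groupoid in algebraic spaces whose object space is the spectrum of a field is flat
and universally open. -/
theorem c_flat_univOpen (hR : IsAlgSpace G.R) (T : Over S) [IsIntegral T.left]
    [Subsingleton ↥T.left] (eU : G.U ≅ (yon S).obj T) :
    LocP @Flat G.c ∧ IsUnivOpenMor G.c :=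
  flat_univOpen_of_isPullback hR ((IsAlgSpace.yon_obj T).of_iso eU.symm) (isPullback_c_snd_cf G).flip
    (flat_univOpen_of_field' hR T eU G.s)

end Groth.Agent.Lib.Helper51.Gpd
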