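import Groth.Agent.Lib.Helper51.AlgSpGrpDecentSep
import Groth.Agent.Lib.Helper51.AlgSpGpdSep
import Groth.Agent.Lib.Helper30.AlgSpSep

/-!
# The arrow space of a groupoid over a field is separated when it is decent (helper51)
-/

set_option autoImplicit false
set_option linter.unusedSectionVars false
universe u v
open CategoryTheory CategoryTheory.Limits AlgebraicGeometry Opposite

set_option backward.isDefEq.respectTransparency false

namespace Groth.Agent.Lib.Helper51.SectionClosed

section General
variable {D : Type u} [Category.{v} D] [HasPullbacks D] [HasBinaryProducts D]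

/-- `X ×_Y X ⟶ X × X` is the base change of the diagonal of `Y`. -/
theorem isPullback_prod_lift_diag {X Y : D} (f : X ⟶ Y) :
    IsPullback (prod.lift (pullback.fst f f) (pullback.snd f f)) (pullback.fst f f ≫ f)
      (prod.map f f) (Limits.diag Y) := by
  have hw : prod.lift (pullback.fst f f) (pullback.snd f f) ≫ prod.map f f =
      (pullback.fst f f ≫ f) ≫ Limits.diag Y := by
    apply Limits.prod.hom_ext
    · simp [Limits.diag]
    · simp [Limits.diag, pullback.condition]
  refine ⟨⟨hw⟩, ⟨PullbackCone.IsLimit.mk _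
    (fun c => pullback.lift (c.fst ≫ prod.fst) (c.fst ≫ prod.snd) ?_) ?_ ?_ ?_⟩⟩
  · have h1 := c.condition =≫ prod.fst
    have h2 := c.condition =≫ prod.snd
    simp only [Category.assoc, prod.map_fst, prod.map_snd, Limits.diag, prod.lift_fst,
      prod.lift_snd, Category.comp_id] at h1 h2
    rw [Category.assoc, Category.assoc, h1, h2]
  · intro c
    apply Limits.prod.hom_ext
    · simp
    · simp
  · intro c
    have h1 := c.condition =≫ prod.fst
    simp only [Category.assoc, prod.map_fst, Limits.diag, prod.lift_fst, Category.comp_id] at h1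
    rw [← Category.assoc, pullback.lift_fst, Category.assoc, h1]
  · intro c m hm1 hm2
    apply pullback.hom_ext
    · rw [pullback.lift_fst, ← hm1, Category.assoc, prod.lift_fst]
    · rw [pullback.lift_snd, ← hm1, Category.assoc, prod.lift_snd]

theorem diag_of_diagonal_of_diag (R : MorphismProperty D) [R.IsStableUnderBaseChange]
    [R.IsStableUnderComposition] {X Y : D} (f : X ⟶ Y) (h1 : R (pullback.diagonal f))
    (h2 : R (Limits.diag Y)) : R (Limits.diag X) := by
  rw [← Groth.Agent.Lib.Helper30.diagonal_comp_prod_lift f]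
  exact R.comp_mem _ _ h1 (MorphismProperty.of_isPullback (isPullback_prod_lift_diag f).flip h2)

end General

open AlgSp Groth.Agent.Lib.Helper30 Groth.Agent.Lib.Helper52 Groth.Agent.Lib.Helper51
  Groth.Agent.Lib.Helper51.Gpd

variable {S : Scheme.{u}} {B : AlgSp.Sp S}

/-- the arrow space of a groupoid whose object space is the spectrum of a field is separated when it is
decent. -/
theorem isSeparatedSp_R_of_decent (G : AlgSp.GroupoidSp B) (hR : AlgSp.IsAlgSpace G.R)
    (k : Type u) [Field k] (σ : Spec (CommRingCat.of k) ⟶ S)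
    (eU : G.U ≅ (AlgSp.yon S).obj (Over.mk σ)) (hd : AlgSp.IsDecent G.R) :
    AlgSp.IsSeparatedSp G.R := by
  obtain ⟨e0, he0def⟩ : ∃ e0 : (AlgSp.yon S).obj (Over.mk σ) ⟶ G.R, e0 = eU.inv ≫ G.e := ⟨_, rfl⟩
  have he0 : e0 ≫ (G.s ≫ eU.hom) = 𝟙 _ := by
    rw [he0def, Category.assoc, ← Category.assoc G.e, G.e_s, Category.id_comp, eU.inv_hom_id]
  let q : FieldPt G.R := fieldPtOfHom σ e0
  have hqe : q.toHom = e0 := fieldPtOfHom_toHom _ _
  obtain ⟨p, hp, hm, hpq⟩ := hd (Points.mk q)
  have hq : AlgSp.RepWith @QuasiCompact e0 := by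
    rw [← hqe]; exact repWith_quasiCompact_of_mk_eq p q hm hpq hp.symm
  haveI : IsLocallyArtinian (Over.mk σ).left :=
    (Scheme.isLocallyArtinianScheme_Spec).2 (inferInstanceAs (IsArtinianRing k))
  haveI : IsAffine (Over.mk σ).left := inferInstanceAs (IsAffine (Spec (CommRingCat.of k)))
  have hcl0 := repWith_isClosedImmersion_of_section hR (Over.mk σ) (G.s ≫ eU.hom) e0 he0 hq
  have hcl : AlgSp.RepWith @IsClosedImmersion G.e := by
    have : G.e = eU.hom ≫ e0 := by rw [he0def, eU.hom_inv_id_assoc]
    rw [this]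
    exact MorphismProperty.RespectsIso.precomp _ _ _ hcl0
  -- the unit of the stabilizer
  have hdiag : G.e ≫ G.j = 𝟙 _ ≫ G.diag := by
    apply pullback.hom_ext
    · rw [Category.assoc, G.j_fst, G.e_t, Category.id_comp]
      exact (pullback.lift_fst _ _ _).symm
    · rw [Category.assoc, G.j_snd, G.e_s, Category.id_comp]
      exact (pullback.lift_snd _ _ _).symm
  obtain ⟨eG, heG⟩ : ∃ eG : G.U ⟶ G.stabilizer, eG ≫ G.stabilizerι = G.e :=
    ⟨pullback.lift G.e (𝟙 _) hdiag, pullback.lift_fst _ _ _⟩
  haveI : Mono G.diag := mono_of_mono_fac (diag_fst G)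
  haveI : Mono G.stabilizerι := by
    unfold AlgSp.GroupoidSp.stabilizerι
    infer_instance
  have hclG : AlgSp.RepWith @IsClosedImmersion eG :=
    Groth.Agent.Lib.Helper30.repWith_of_comp_mono _ eG G.stabilizerι (by rw [heG]; exact hcl)
  have hsepj : AlgSp.IsSeparatedMor G.j := ((separation_j_iff G hR eG heG).1.2).2 hclG
  -- `U ×_B U` is separated
  have hT : AlgSp.IsSeparatedSp ((AlgSp.yon S).obj (Over.mk σ)) := by
    show AlgSp.RepWith @IsClosedImmersion (Limits.diag ((AlgSp.yon S).obj (Over.mk σ)))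
    rw [AlgSp.repWith_diag_yon_iff]
    haveI : IsSeparated (Over.mk σ).hom := inferInstanceAs (IsSeparated σ)
    exact IsSeparated.isClosedImmersion_diagonal
  have hU : AlgSp.IsSeparatedSp G.U :=
    isSeparatedSp_of_isPullback (IsPullback.of_vert_isIso ⟨rfl⟩ :
      IsPullback eU.hom eU.hom (𝟙 _) (𝟙 _)) hT hT
  have hP : AlgSp.IsSeparatedSp (pullback G.pU G.pU) :=
    isSeparatedSp_of_isPullback (IsPullback.of_hasPullback G.pU G.pU) hU hU
  exact diag_of_diagonal_of_diag (AlgSp.RepWith @IsClosedImmersion) G.j hsepj hP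

end Groth.Agent.Lib.Helper51.SectionClosed
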