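import Groth.Agent.Lib.Helper51.AlgSpGpdCalc

set_option autoImplicit false
universe u
open CategoryTheory CategoryTheory.Limits AlgebraicGeometry
open AlgSp

namespace Groth.Agent.Lib.Helper51.Gpd

variable {S : Scheme.{u}} {B : Sp S} (G : GroupoidSp B)

set_option backward.isDefEq.respectTransparency false

theorem comp_congr' {T : Sp S} {α α' β β' : T ⟶ G.R} (h : α ≫ G.s = β ≫ G.t)
    (h' : α' ≫ G.s = β' ≫ G.t) (hα : α = α') (hβ : β = β') :
    comp G α β h = comp G α' β' h' := by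
  subst hα; subst hβ; rfl

section
variable {K : Sp S} (r r' : K ⟶ G.R) (h : r ≫ G.t = r' ≫ G.t)

/-- first step `f ∘ r(x)⁻¹`. -/
noncomputable def fibStep1 : pullback (r ≫ G.s) G.s ⟶ G.R :=
  comp G (pullback.snd (r ≫ G.s) G.s) (pullback.fst (r ≫ G.s) G.s ≫ r ≫ G.i)
    (by
      rw [Category.assoc, Category.assoc, G.i_t]
      exact pullback.condition.symm)

theorem fibStep1_s : fibStep1 G r ≫ G.s = pullback.fst (r ≫ G.s) G.s ≫ r ≫ G.t := by
  unfold fibStep1
  rw [comp_s, Category.assoc, Category.assoc, G.i_s]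

include h in
theorem fibStep2_aux : fibStep1 G r ≫ G.s = (pullback.fst (r ≫ G.s) G.s ≫ r') ≫ G.t := by
  rw [fibStep1_s, Category.assoc, h]

/-- `f ↦ f ∘ r(x)⁻¹ ∘ r'(x)`. -/
noncomputable def fibStep2 : pullback (r ≫ G.s) G.s ⟶ G.R :=
  comp G (fibStep1 G r) (pullback.fst (r ≫ G.s) G.s ≫ r') (fibStep2_aux G r r' h)

theorem fibStep2_s : fibStep2 G r r' h ≫ G.s = pullback.fst (r ≫ G.s) G.s ≫ r' ≫ G.s := by
  unfold fibStep2
  rw [comp_s, Category.assoc]

/-- the map of fibres. -/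
noncomputable def fibMap : pullback (r ≫ G.s) G.s ⟶ pullback (r' ≫ G.s) G.s :=
  pullback.lift (pullback.fst (r ≫ G.s) G.s) (fibStep2 G r r' h) (fibStep2_s G r r' h).symm

theorem fibMap_fst : fibMap G r r' h ≫ pullback.fst (r' ≫ G.s) G.s = pullback.fst (r ≫ G.s) G.s :=
  pullback.lift_fst _ _ _

theorem fibMap_snd : fibMap G r r' h ≫ pullback.snd (r' ≫ G.s) G.s = fibStep2 G r r' h :=
  pullback.lift_snd _ _ _

theorem fibMap_fibMap : fibMap G r r' h ≫ fibMap G r' r h.symm = 𝟙 _ := by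
  apply pullback.hom_ext
  · rw [Category.assoc, fibMap_fst, fibMap_fst, Category.id_comp]
  · rw [Category.assoc, fibMap_snd, Category.id_comp]
    unfold fibStep2
    rw [precomp]
    have e2 : fibMap G r r' h ≫ pullback.fst (r' ≫ G.s) G.s ≫ r =
        pullback.fst (r ≫ G.s) G.s ≫ r := by
      rw [← Category.assoc, fibMap_fst]
    have e1 : fibMap G r r' h ≫ fibStep1 G r' = fibStep1 G r := by
      unfold fibStep1
      rw [precomp]
      have e3 : fibMap G r r' h ≫ pullback.snd (r' ≫ G.s) G.s =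
          comp G (fibStep1 G r) (pullback.fst (r ≫ G.s) G.s ≫ r') (fibStep2_aux G r r' h) := by
        rw [fibMap_snd]; rfl
      have e4 : fibMap G r r' h ≫ pullback.fst (r' ≫ G.s) G.s ≫ r' ≫ G.i =
          (pullback.fst (r ≫ G.s) G.s ≫ r') ≫ G.i := by
        rw [← Category.assoc, fibMap_fst, Category.assoc]
      rw [comp_congr G _ e3 e4]
      exact comp_comp_inv G _ _ _
    rw [comp_congr G _ e1 e2]
    unfold fibStep1
    have e5 : pullback.fst (r ≫ G.s) G.s ≫ r ≫ G.i = (pullback.fst (r ≫ G.s) G.s ≫ r) ≫ G.i := by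
      rw [Category.assoc]
    have := comp_inv_comp G (pullback.snd (r ≫ G.s) G.s) (pullback.fst (r ≫ G.s) G.s ≫ r)
      (by rw [Category.assoc]; exact pullback.condition.symm)
    refine Eq.trans ?_ this
    exact comp_congr' G _ _ (comp_congr' G _ _ rfl e5) rfl

include h in
theorem nonempty_iso_fibres :
    Nonempty (Over.mk (pullback.fst (r ≫ G.s) G.s) ≅ Over.mk (pullback.fst (r' ≫ G.s) G.s)) := by
  refine ⟨Over.isoMk ⟨fibMap G r r' h, fibMap G r' r h.symm, fibMap_fibMap G r r' h,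
    fibMap_fibMap G r' r h.symm⟩ ?_⟩
  exact fibMap_fst G r r' h

end

end Groth.Agent.Lib.Helper51.Gpd
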