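import Groth.Prelude.Def_AlgSpGpd
import Groth.Prelude.Def_AlgSpDec

set_option autoImplicit false
universe u
open CategoryTheory CategoryTheory.Limits AlgebraicGeometry Opposite
open AlgSp

namespace Groth.Agent.Lib.Helper51

variable {S : Scheme.{u}} {F G : Sp S}

set_option backward.isDefEq.respectTransparency false

/-- the field-valued point defined by a morphism from the spectrum of a field. -/
noncomputable def fieldPtOfHom (K : Type u) [Field K] (str : Spec (CommRingCat.of K) ⟶ S)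
    (a : (yon S).obj (Over.mk str) ⟶ F) : FieldPt F :=
  ⟨K, str, (J S).uliftYonedaEquiv a⟩

theorem fieldPtOfHom_toHom (p : FieldPt F) : fieldPtOfHom p.K p.str p.toHom = p := by
  unfold fieldPtOfHom
  rw [FieldPt.uliftYonedaEquiv_toHom]
  cases p
  rfl

theorem rel_iff_hom (p q : FieldPt F) : FieldPt.Rel p q ↔
    ∃ (Ω : Type u) (_ : Field Ω) (w : Spec (CommRingCat.of Ω) ⟶ S) (a : Over.mk w ⟶ p.pt)
      (b : Over.mk w ⟶ q.pt), (yon S).map a ≫ p.toHom = (yon S).map b ≫ q.toHom := by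
  constructor
  · rintro ⟨Ω, _, w, a, b, hab⟩
    refine ⟨Ω, inferInstance, w, a, b, ?_⟩
    apply (J S).uliftYonedaEquiv.injective
    rw [← GrothendieckTopology.uliftYonedaEquiv_naturality,
      ← GrothendieckTopology.uliftYonedaEquiv_naturality,
      FieldPt.uliftYonedaEquiv_toHom, FieldPt.uliftYonedaEquiv_toHom]
    exact hab
  · rintro ⟨Ω, _, w, a, b, hab⟩
    refine ⟨Ω, inferInstance, w, a, b, ?_⟩
    have := congrArg (J S).uliftYonedaEquiv hab
    rw [← GrothendieckTopology.uliftYonedaEquiv_naturality,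
      ← GrothendieckTopology.uliftYonedaEquiv_naturality,
      FieldPt.uliftYonedaEquiv_toHom, FieldPt.uliftYonedaEquiv_toHom] at this
    exact this

theorem map_fieldPtOfHom (K : Type u) [Field K] (str : Spec (CommRingCat.of K) ⟶ S)
    (a : (yon S).obj (Over.mk str) ⟶ F) (f : F ⟶ G) :
    (fieldPtOfHom K str a).map f = fieldPtOfHom K str (a ≫ f) := by
  unfold fieldPtOfHom FieldPt.map
  rw [GrothendieckTopology.uliftYonedaEquiv_comp]

theorem mk_fieldPtOfHom_yon_map_comp {K Ω : Type u} [Field K] [Field Ω]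
    {str : Spec (CommRingCat.of K) ⟶ S} {w : Spec (CommRingCat.of Ω) ⟶ S}
    (a : Over.mk w ⟶ Over.mk str) (g : (yon S).obj (Over.mk str) ⟶ F) :
    Points.mk (fieldPtOfHom Ω w ((yon S).map a ≫ g)) = Points.mk (fieldPtOfHom K str g) := by
  apply Points.sound
  refine ⟨Ω, inferInstance, w, 𝟙 _, a, ?_⟩
  change F.obj.map (𝟙 _) _ = F.obj.map a.op ((J S).uliftYonedaEquiv g)
  rw [GrothendieckTopology.uliftYonedaEquiv_naturality]
  simp only [CategoryTheory.Functor.map_id]
  rfl

theorem points_rel_equivalence (R U : Sp S) (s t : R ⟶ U) (h : IsPreEqvRelSp s t) :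
    _root_.Equivalence (fun x y : Points U =>
      ∃ r : Points R, Points.map t r = x ∧ Points.map s r = y) := by
  refine ⟨?_, ?_, ?_⟩
  · intro x
    induction x using Points.ind with | _ p => ?_
    obtain ⟨r, hr1, hr2⟩ := (h p.pt).refl p.toHom
    refine ⟨Points.mk (fieldPtOfHom p.K p.str r), ?_, ?_⟩
    · rw [Points.map_mk, map_fieldPtOfHom, hr1, fieldPtOfHom_toHom]
    · rw [Points.map_mk, map_fieldPtOfHom, hr2, fieldPtOfHom_toHom]
  · rintro x y ⟨r, rfl, rfl⟩
    induction r using Points.ind with | _ q => ?_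
    obtain ⟨r', hr1, hr2⟩ := (h q.pt).symm ⟨q.toHom, rfl, rfl⟩
    refine ⟨Points.mk (fieldPtOfHom q.K q.str r'), ?_, ?_⟩
    · rw [Points.map_mk, map_fieldPtOfHom, hr1, ← map_fieldPtOfHom, fieldPtOfHom_toHom]
      rfl
    · rw [Points.map_mk, map_fieldPtOfHom, hr2, ← map_fieldPtOfHom, fieldPtOfHom_toHom]
      rfl
  · rintro x y z ⟨r, rfl, rfl⟩ ⟨r', hr', rfl⟩
    induction r using Points.ind with | _ q => ?_
    induction r' using Points.ind with | _ q' => ?_
    rw [Points.map_mk, Points.map_mk, Points.mk_eq_mk_iff, rel_iff_hom] at hr'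
    obtain ⟨Ω, _, w, b0, a0, hab⟩ := hr'
    rw [FieldPt.toHom_map, FieldPt.toHom_map] at hab
    let a : Over.mk w ⟶ q.pt := a0
    let b : Over.mk w ⟶ q'.pt := b0
    -- as morphisms
    have hab' : (yon S).map a ≫ q.toHom ≫ s = (yon S).map b ≫ q'.toHom ≫ t := hab.symm
    obtain ⟨ρ, hρ1, hρ2⟩ := (h (Over.mk w)).trans
      ⟨(yon S).map a ≫ q.toHom, rfl, rfl⟩
      ⟨(yon S).map b ≫ q'.toHom, by rw [Category.assoc, Category.assoc, hab'], rfl⟩
    refine ⟨Points.mk (fieldPtOfHom Ω w ρ), ?_, ?_⟩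
    · rw [Points.map_mk, map_fieldPtOfHom, hρ1, Category.assoc,
        mk_fieldPtOfHom_yon_map_comp, ← map_fieldPtOfHom, fieldPtOfHom_toHom]
      rfl
    · rw [Points.map_mk, map_fieldPtOfHom, hρ2, Category.assoc,
        mk_fieldPtOfHom_yon_map_comp, ← map_fieldPtOfHom, fieldPtOfHom_toHom]
      rfl

end Groth.Agent.Lib.Helper51
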