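import Groth.Agent.Lib.Helper51.AlgSpGpdCalc
import Groth.Agent.Lib.Helper51.AlgSpPtsRel
import Groth.Agent.Lib.Helper51.AlgSpOpen

set_option autoImplicit false
universe u
open CategoryTheory CategoryTheory.Limits AlgebraicGeometry Opposite
open AlgSp

namespace Groth.Agent.Lib.Helper51.Gpd

variable {S : Scheme.{u}} {B : Sp S} (G : GroupoidSp B)

set_option backward.isDefEq.respectTransparency false

/-- composition of arrows on points of the arrow space. -/
theorem exists_points_comp (ρ' ρ : Points G.R) (h : Points.map G.s ρ' = Points.map G.t ρ) :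
    ∃ ρ'' : Points G.R, Points.map G.s ρ'' = Points.map G.s ρ ∧
      Points.map G.t ρ'' = Points.map G.t ρ' := by
  induction ρ using Points.ind with | _ q => ?_
  induction ρ' using Points.ind with | _ q' => ?_
  rw [Points.map_mk, Points.map_mk, Points.mk_eq_mk_iff, rel_iff_hom] at h
  obtain ⟨Ω, _, w, a0, b0, hab⟩ := h
  rw [FieldPt.toHom_map, FieldPt.toHom_map] at hab
  let a : Over.mk w ⟶ q'.pt := a0
  let b : Over.mk w ⟶ q.pt := b0
  have hab' : ((yon S).map a ≫ q'.toHom) ≫ G.s = ((yon S).map b ≫ q.toHom) ≫ G.t := by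
    rw [Category.assoc, Category.assoc]; exact hab
  refine ⟨Points.mk (fieldPtOfHom Ω w (comp G _ _ hab')), ?_, ?_⟩
  · rw [Points.map_mk, map_fieldPtOfHom, comp_s, Category.assoc,
      mk_fieldPtOfHom_yon_map_comp, ← map_fieldPtOfHom, fieldPtOfHom_toHom]
    rfl
  · rw [Points.map_mk, map_fieldPtOfHom, comp_t, Category.assoc,
      mk_fieldPtOfHom_yon_map_comp, ← map_fieldPtOfHom, fieldPtOfHom_toHom]
    rfl

theorem isInvariant_of_range_eq {W W' : Sp S} (w : W ⟶ G.U) (w' : W' ⟶ G.U)
    (hw' : RepWith @IsOpenImmersion w')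
    (himg : Set.range (Points.map w') =
      Points.map G.s '' (Points.map G.t ⁻¹' Set.range (Points.map w))) :
    G.IsInvariant w' := by
  -- the set `A` is stable
  have key1 : ∀ ρ : Points G.R, Points.map G.t ρ ∈ Set.range (Points.map w') →
      Points.map G.s ρ ∈ Set.range (Points.map w') := by
    intro ρ hρ
    rw [himg] at hρ ⊢
    obtain ⟨ρ', hρ'W, hρ's⟩ := hρ
    obtain ⟨ρ'', h1, h2⟩ := exists_points_comp G ρ' ρ hρ's
    refine ⟨ρ'', ?_, h1⟩
    change Points.map G.t ρ'' ∈ Set.range (Points.map w)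
    rw [h2]; exact hρ'W
  have key2 : ∀ ρ : Points G.R, Points.map G.s ρ ∈ Set.range (Points.map w') →
      Points.map G.t ρ ∈ Set.range (Points.map w') := by
    intro ρ hρ
    have h1 : Points.map G.t (Points.map G.i ρ) = Points.map G.s ρ := by
      rw [← Points.map_comp, G.i_t]
    have h2 : Points.map G.s (Points.map G.i ρ) = Points.map G.t ρ := by
      rw [← Points.map_comp, G.i_s]
    rw [← h2]
    apply key1
    rw [h1]; exact hρ
  intro T r
  constructor
  · rintro ⟨a, ha⟩
    apply exists_factor_of_range_subset w' hw'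
    rintro _ ⟨τ, rfl⟩
    rw [Points.map_comp]
    apply key1
    rw [← Points.map_comp, ← ha, Points.map_comp]
    exact ⟨_, rfl⟩
  · rintro ⟨a, ha⟩
    apply exists_factor_of_range_subset w' hw'
    rintro _ ⟨τ, rfl⟩
    rw [Points.map_comp]
    apply key2
    rw [← Points.map_comp, ← ha, Points.map_comp]
    exact ⟨_, rfl⟩

end Groth.Agent.Lib.Helper51.Gpd
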