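import Groth.Agent.Lib.Helper51.AlgSpGpdInv
import Groth.Agent.Lib.Helper51.AlgSpQuotField4
import Groth.Agent.Lib.Helper51.AlgSpPoints2
import Groth.Agent.Lib.Helper30.AlgSpMor
import Groth.Prelude.Def_AlgSp4

set_option autoImplicit false
universe u
open CategoryTheory CategoryTheory.Limits AlgebraicGeometry Opposite
open AlgSp

namespace Groth.Agent.Lib.Helper51.Gpd

variable {S : Scheme.{u}} {B : Sp S} (G : GroupoidSp B)

set_option backward.isDefEq.respectTransparency false

theorem exists_invariant_quasiCompact_open (hU : IsAlgSpace G.U)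
    (hs : IsOpenMor G.s) (ht : IsQuasiCompactMor G.t) (x : Points G.U) :
    ∃ (W : Sp S) (w : W ⟶ G.U), RepWith @IsOpenImmersion w ∧ G.IsInvariant w ∧
      IsQuasiCompactSp W ∧ x ∈ Set.range (Points.map w) := by
  obtain ⟨U₀, a, u₀, hU₀, hae, hax⟩ := exists_affine_etale_chart_at hU x
  set W₀ : Set (Points G.U) := Set.range (Points.ofPt a) with hW₀
  have hW₀o : IsOpen W₀ := (isOpenMap_ofPt_of_etale a hae).isOpen_range
  have hxW₀ : x ∈ W₀ := ⟨u₀, hax⟩
  -- `t⁻¹(W₀)` is compact
  have sq := IsPullback.of_hasPullback G.t a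
  have hZ' : IsQuasiCompactSp (pullback G.t a) :=
    ht (IsAlgSpace.yon_obj U₀) (Groth.Agent.Lib.Helper30.isQuasiCompactSp_yon_obj U₀) a _ _ sq
  have hZ'c := compactSpace_points_of_isQuasiCompactSp hZ'
  have hpre : Points.map G.t ⁻¹' W₀ = Set.range (Points.map (pullback.fst G.t a)) := by
    ext ρ
    constructor
    · rintro ⟨u, hu⟩
      have hu' : Points.map G.t ρ = Points.map a (Points.ofScheme U₀ u) := by
        rw [Points.map_ofPt, Category.id_comp]; exact hu.symm
      obtain ⟨z, hz1, -⟩ := Groth.Agent.Lib.Helper52.exists_point_of_isPullback sq ρ _ hu'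
      exact ⟨z, hz1⟩
    · rintro ⟨z, rfl⟩
      change Points.map G.t (Points.map (pullback.fst G.t a) z) ∈ W₀
      rw [← Points.map_comp, pullback.condition, Points.map_comp, hW₀,
        ← range_map_eq_range_ofPt]
      exact ⟨_, rfl⟩
  have hprec : IsCompact (Points.map G.t ⁻¹' W₀) := by
    rw [hpre]; exact isCompact_range (Points.continuous_map _)
  set A : Set (Points G.U) := Points.map G.s '' (Points.map G.t ⁻¹' W₀) with hA
  have hAo : IsOpen A := hs _ (hW₀o.preimage (Points.continuous_map _))
  have hAc : IsCompact A := hprec.image (Points.continuous_map _)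
  have hxA : x ∈ A := by
    refine ⟨Points.map G.e x, ?_, ?_⟩
    · change Points.map G.t (Points.map G.e x) ∈ W₀
      rw [← Points.map_comp, G.e_t, Points.map_id]; exact hxW₀
    · rw [← Points.map_comp, G.e_s, Points.map_id]
  have hw := repWith_isOpenImmersion_openSpι (F := G.U) A hAo
  refine ⟨openSp G.U A, openSpι G.U A, hw, ?_, ?_, ?_⟩
  · apply isInvariant_of_range_eq G (openSpι G.U W₀) (openSpι G.U A) hw
    rw [range_map_openSpι, range_map_openSpι]
  · rw [isQuasiCompactSp_iff_compactSpace_points (isAlgSpace_openSp A hAo hU)]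
    obtain ⟨U₁, p, hp, hps⟩ := hU.atlas
    have hi : RepWith @IsImmersion (openSpι G.U A) :=
      ⟨hw.1, fun _ _ g fst snd sq => by
        have : IsOpenImmersion snd.left := hw.2 g fst snd sq
        exact (inferInstance : IsImmersion snd.left)⟩
    have hemb := (isEmbedding_map_of_immersion (openSpι G.U A) hi p hp hps).1
    constructor
    rw [hemb.isCompact_iff, Set.image_univ, range_map_openSpι]
    exact hAc
  · rw [range_map_openSpι]; exact hxA

end Groth.Agent.Lib.Helper51.Gpd
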