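import Groth.Agent.Lib.Helper51.AlgSpGpdRestrict
import Groth.Agent.Lib.Helper52.Points

/-!
# Groupoids on a field: points become rational after a big algebraically closed extension (helper51)
-/

set_option autoImplicit false
universe u
open Cardinal

namespace Groth.Agent.Lib.Helper51.GpdPt


theorem card_transcendenceBasis_eq {R K : Type u} [Field R] [Field K] [Algebra R K] [IsAlgClosed K]
    (h : max #R ℵ₀ < #K) {ι : Type u} (v : ι → K) (hv : IsTranscendenceBasis R v) : #ι = #K := by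
  have h1 : #K ≤ max (max #R #ι) ℵ₀ := IsAlgClosed.cardinal_le_max_transcendence_basis' v hv
  have h2 : #ι ≤ #K := Cardinal.mk_le_of_injective hv.1.injective
  rcases lt_or_eq_of_le h2 with h3 | h3
  · exfalso
    have : max (max #R #ι) ℵ₀ < #K := by
      refine max_lt (max_lt ?_ h3) ?_
      · exact lt_of_le_of_lt (le_max_left _ _) h
      · exact lt_of_le_of_lt (le_max_right _ _) h
    exact absurd h1 (not_le.2 this)
  · exact h3

theorem exists_ringEquiv_of_big {R K1 K2 : Type u} [Field R] [Field K1] [Field K2] [Algebra R K1]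
    [Algebra R K2] [IsAlgClosed K1] [IsAlgClosed K2] (h1 : max #R ℵ₀ < #K1) (h12 : #K1 = #K2) :
    ∃ e : K1 ≃+* K2, e.toRingHom.comp (algebraMap R K1) = algebraMap R K2 := by
  obtain ⟨ι1, v1, hv1⟩ := exists_isTranscendenceBasis' R K1
  obtain ⟨ι2, v2, hv2⟩ := exists_isTranscendenceBasis' R K2
  have c1 : #ι1 = #K1 := card_transcendenceBasis_eq h1 v1 hv1
  have c2 : #ι2 = #K2 := card_transcendenceBasis_eq (h12 ▸ h1) v2 hv2
  obtain ⟨e⟩ : Nonempty (ι1 ≃ ι2) := Cardinal.eq.1 (by rw [c1, c2, h12])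
  letI := IsAlgClosed.isAlgClosure_of_transcendence_basis v1 hv1
  letI := IsAlgClosed.isAlgClosure_of_transcendence_basis v2 hv2
  let e0 : Algebra.adjoin R (Set.range v1) ≃ₐ[R] Algebra.adjoin R (Set.range v2) :=
    hv1.1.aevalEquiv.symm.trans ((MvPolynomial.renameEquiv R e).trans hv2.1.aevalEquiv)
  refine ⟨IsAlgClosure.equivOfEquiv K1 K2 e0.toRingEquiv, ?_⟩
  ext r
  have hc := IsAlgClosure.equivOfEquiv_algebraMap K1 K2 e0.toRingEquiv (algebraMap R _ r)
  simp only [RingHom.coe_comp, Function.comp_apply, RingEquiv.toRingHom_eq_coe, RingHom.coe_coe]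
  rw [IsScalarTower.algebraMap_apply R (Algebra.adjoin R (Set.range v1)) K1, hc]
  have : e0.toRingEquiv (algebraMap R _ r) = algebraMap R _ r := e0.commutes r
  rw [this, ← IsScalarTower.algebraMap_apply]


theorem exists_big_algClosed (L : Type u) [Field L] :
    ∃ (Ω : Type u) (_ : Field Ω) (_ : IsAlgClosed Ω) (_ : L →+* Ω), max #L ℵ₀ < #Ω := by
  let I : Type u := Set (L × ℕ)
  let F := FractionRing (MvPolynomial I L)
  let Ω := AlgebraicClosure F
  refine ⟨Ω, inferInstance, inferInstance,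
    (algebraMap F Ω).comp ((algebraMap (MvPolynomial I L) F).comp (algebraMap L _)), ?_⟩
  have hinj : Function.Injective (fun i : I => algebraMap F Ω (algebraMap (MvPolynomial I L) F
      (MvPolynomial.X i))) := by
    intro i j hij
    have h1 := (algebraMap F Ω).injective hij
    have h2 := IsFractionRing.injective (MvPolynomial I L) F h1
    exact MvPolynomial.X_injective h2
  have hI : #I ≤ #Ω := Cardinal.mk_le_of_injective hinj
  have hLN : max #L ℵ₀ ≤ #(L × ℕ) := by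
    refine max_le ?_ ?_
    · exact Cardinal.mk_le_of_injective (f := fun x : L => (x, 0)) (fun a b h => by simpa using h)
    · exact Cardinal.aleph0_le_mk _
  have hc : #(L × ℕ) < #I := by
    show #(L × ℕ) < #(Set (L × ℕ))
    rw [Cardinal.mk_set]; exact Cardinal.cantor _
  exact lt_of_le_of_lt hLN (lt_of_lt_of_le hc hI)

theorem exists_big_closure (k L : Type u) [Field k] [Field L] (σs σt : k →+* L) :
    ∃ (Ω : Type u) (_ : Field Ω) (_ : IsAlgClosed Ω) (ι : L →+* Ω) (β : Ω ≃+* Ω),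
      β.toRingHom.comp (ι.comp σt) = ι.comp σs := by
  obtain ⟨Ω, _, _, ι, hΩ⟩ := exists_big_algClosed L
  have hk : max #k ℵ₀ < #Ω := by
    refine lt_of_le_of_lt (max_le_max ?_ le_rfl) hΩ
    exact Cardinal.mk_le_of_injective σt.injective
  letI a1 : Algebra k Ω := (ι.comp σt).toAlgebra
  obtain ⟨β, hβ⟩ := @exists_ringEquiv_of_big k Ω Ω _ _ _ a1 (ι.comp σs).toAlgebra _ _ hk rfl
  exact ⟨Ω, inferInstance, inferInstance, ι, β, hβ⟩


section Sp

open CategoryTheory CategoryTheory.Limits AlgebraicGeometry Opposite AlgSp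
open Groth.Agent.Lib.Helper52 Groth.Agent.Lib.Helper51

variable {S : Scheme.{u}} {B : AlgSp.Sp S}

set_option backward.isDefEq.respectTransparency false

theorem exists_rational_after_extension (G : AlgSp.GroupoidSp B) (k : Type u) [Field k]
    (σ : Spec (CommRingCat.of k) ⟶ S) (eU : G.U ≅ (AlgSp.yon S).obj (Over.mk σ))
    (r : AlgSp.Points G.R) :
    ∃ (k' : Type u) (_ : Field k') (_ : Algebra k k'), IsAlgClosed k' ∧
      ∀ (G' : AlgSp.GroupoidSp B) (φ : AlgSp.GroupoidSp.Hom G' G), φ.IsRestriction →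
        ∀ (eU' : G'.U ≅ (AlgSp.yon S).obj (Over.mk (Spec.map (CommRingCat.ofHom (algebraMap k k')) ≫ σ))),
          φ.fU = eU'.hom ≫ (AlgSp.yon S).map (Over.homMk (Spec.map (CommRingCat.ofHom (algebraMap k k'))) rfl :
            Over.mk (Spec.map (CommRingCat.ofHom (algebraMap k k')) ≫ σ) ⟶ Over.mk σ) ≫ eU.inv →
          ∃ r' : G'.U ⟶ G'.R, (∀ x : AlgSp.Points G'.U, AlgSp.Points.map (r' ≫ φ.fR) x = r) ∧
            IsIso (r' ≫ G'.s) ∧ IsIso (r' ≫ G'.t) := by
  induction r using Points.ind with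
  | h ρ0 =>
  -- the two structure maps `Spec L ⟶ Spec k`
  obtain ⟨cs, hcs⟩ : ∃ cs : ρ0.pt ⟶ Over.mk σ, (AlgSp.yon S).map cs = ρ0.toHom ≫ G.s ≫ eU.hom :=
    ⟨(AlgSp.yon S).preimage _, (AlgSp.yon S).map_preimage _⟩
  obtain ⟨ct, hct⟩ : ∃ ct : ρ0.pt ⟶ Over.mk σ, (AlgSp.yon S).map ct = ρ0.toHom ≫ G.t ≫ eU.hom :=
    ⟨(AlgSp.yon S).preimage _, (AlgSp.yon S).map_preimage _⟩
  obtain ⟨σs, hσs⟩ : ∃ σs : k →+* ρ0.K, Spec.map (CommRingCat.ofHom σs) = cs.left :=
    ⟨(Spec.preimage cs.left).hom, Spec.map_preimage _⟩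
  obtain ⟨σt, hσt⟩ : ∃ σt : k →+* ρ0.K, Spec.map (CommRingCat.ofHom σt) = ct.left :=
    ⟨(Spec.preimage ct.left).hom, Spec.map_preimage _⟩
  have hws : cs.left ≫ σ = ρ0.str := Over.w cs
  have hwt : ct.left ≫ σ = ρ0.str := Over.w ct
  obtain ⟨Ω, instF, instC, ι, β, hβ⟩ := exists_big_closure k ρ0.K σs σt
  refine ⟨Ω, instF, (ι.comp σt).toAlgebra, instC, ?_⟩
  letI : Algebra k Ω := (ι.comp σt).toAlgebra
  have halg : algebraMap k Ω = ι.comp σt := RingHom.algebraMap_toAlgebra _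
  intro G' φ hφ eU' hfU
  -- key identities of scheme morphisms
  have hK : Spec.map (CommRingCat.ofHom (algebraMap k Ω)) =
      Spec.map (CommRingCat.ofHom ι) ≫ ct.left := by
    rw [halg, ← hσt, ← Spec.map_comp]; rfl
  have hβK : Spec.map (CommRingCat.ofHom β.toRingHom) ≫ Spec.map (CommRingCat.ofHom (algebraMap k Ω)) =
      Spec.map (CommRingCat.ofHom ι) ≫ cs.left := by
    rw [halg, ← hσs, ← Spec.map_comp, ← Spec.map_comp]
    congr 1
    exact CommRingCat.hom_ext hβ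
  -- morphisms over `S`
  have wι : Spec.map (CommRingCat.ofHom ι) ≫ ρ0.str =
      Spec.map (CommRingCat.ofHom (algebraMap k Ω)) ≫ σ := by
    rw [hK, Category.assoc, hwt]
  have wβ : Spec.map (CommRingCat.ofHom β.toRingHom) ≫
      (Spec.map (CommRingCat.ofHom (algebraMap k Ω)) ≫ σ) =
      Spec.map (CommRingCat.ofHom (algebraMap k Ω)) ≫ σ := by
    rw [← Category.assoc, hβK, Category.assoc, hws, wι]
  let cι : Over.mk (Spec.map (CommRingCat.ofHom (algebraMap k Ω)) ≫ σ) ⟶ ρ0.pt :=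
    Over.homMk (Spec.map (CommRingCat.ofHom ι)) wι
  let cβ : Over.mk (Spec.map (CommRingCat.ofHom (algebraMap k Ω)) ≫ σ) ⟶
      Over.mk (Spec.map (CommRingCat.ofHom (algebraMap k Ω)) ≫ σ) :=
    Over.homMk (Spec.map (CommRingCat.ofHom β.toRingHom)) wβ
  let cK : Over.mk (Spec.map (CommRingCat.ofHom (algebraMap k Ω)) ≫ σ) ⟶ Over.mk σ :=
    Over.homMk (Spec.map (CommRingCat.ofHom (algebraMap k Ω))) rfl
  have e1 : cι ≫ ct = cK := Over.OverMorphism.ext hK.symm
  have e2 : cι ≫ cs = cβ ≫ cK := Over.OverMorphism.ext hβK.symm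
  have hρt : ρ0.toHom ≫ G.t = (AlgSp.yon S).map ct ≫ eU.inv := by
    rw [hct, Category.assoc, Category.assoc, eU.hom_inv_id, Category.comp_id]
  have hρs : ρ0.toHom ≫ G.s = (AlgSp.yon S).map cs ≫ eU.inv := by
    rw [hcs, Category.assoc, Category.assoc, eU.hom_inv_id, Category.comp_id]
  -- the three components
  obtain ⟨ρ, hρdef⟩ : ∃ ρ : G'.U ⟶ G.R, ρ = eU'.hom ≫ (AlgSp.yon S).map cι ≫ ρ0.toHom := ⟨_, rfl⟩
  obtain ⟨b, hbdef⟩ : ∃ b : G'.U ⟶ G'.U, b = eU'.hom ≫ (AlgSp.yon S).map cβ ≫ eU'.inv := ⟨_, rfl⟩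
  have hfU' : φ.fU = eU'.hom ≫ (AlgSp.yon S).map cK ≫ eU.inv := hfU
  have hρt' : ρ ≫ G.t = 𝟙 _ ≫ φ.fU := by
    rw [hρdef, Category.assoc, Category.assoc, hρt, ← Category.assoc ((AlgSp.yon S).map cι),
      ← Functor.map_comp, e1, Category.id_comp, hfU']
  have hρs' : ρ ≫ G.s = b ≫ φ.fU := by
    rw [hρdef, Category.assoc, Category.assoc, hρs, ← Category.assoc ((AlgSp.yon S).map cι),
      ← Functor.map_comp, e2, hbdef, hfU', Functor.map_comp]
    simp only [Category.assoc, Iso.inv_hom_id_assoc]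
  have hab : 𝟙 G'.U ≫ G'.pU = b ≫ G'.pU := by
    rw [← φ.fU_over, ← Category.assoc, ← hρt', ← Category.assoc b, ← hρs', Category.assoc,
      Category.assoc, G.t_over, G.s_over]
  have hcompat : ρ ≫ G.j = pullback.lift (𝟙 G'.U) b hab ≫ φ.prodMap := by
    apply pullback.hom_ext
    · rw [Category.assoc, G.j_fst, hρt']
      unfold AlgSp.GroupoidSp.Hom.prodMap
      rw [Category.assoc, pullback.lift_fst, ← Category.assoc, pullback.lift_fst]
    · rw [Category.assoc, G.j_snd, hρs']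
      unfold AlgSp.GroupoidSp.Hom.prodMap
      rw [Category.assoc, pullback.lift_snd, ← Category.assoc, pullback.lift_snd]
  obtain ⟨r', hr'1, hr'2⟩ : ∃ r' : G'.U ⟶ G'.R, r' ≫ φ.fR = ρ ∧
      r' ≫ G'.j = pullback.lift (𝟙 G'.U) b hab :=
    ⟨hφ.lift _ _ hcompat, hφ.lift_fst _ _ _, hφ.lift_snd _ _ _⟩
  refine ⟨r', ?_, ?_, ?_⟩
  · intro x
    rw [hr'1, hρdef, Points.map_comp, Points.map_comp]
    generalize Points.map ((AlgSp.yon S).map cι) (Points.map eU'.hom x) = y
    rw [← Points.ofScheme_toScheme ρ0.pt y, Points.map_ofPt, Category.id_comp, Points.ofPt_toHom]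
  · have : r' ≫ G'.s = b := by
      rw [← G'.j_snd, ← Category.assoc, hr'2, pullback.lift_snd]
    rw [this, hbdef]
    haveI : IsIso (Spec.map (CommRingCat.ofHom β.toRingHom)) := by
      have : IsIso (CommRingCat.ofHom β.toRingHom) :=
        (inferInstance : IsIso β.toCommRingCatIso.hom)
      infer_instance
    haveI : IsIso cβ := by
      have : IsIso ((Over.forget S).map cβ) := by
        show IsIso (Spec.map (CommRingCat.ofHom β.toRingHom))
        infer_instance
      exact isIso_of_reflects_iso cβ (Over.forget S)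
    infer_instance
  · have : r' ≫ G'.t = 𝟙 _ := by
      rw [← G'.j_fst, ← Category.assoc, hr'2, pullback.lift_fst]
    rw [this]
    infer_instance

end Sp

end Groth.Agent.Lib.Helper51.GpdPt
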