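import Groth.Agent.Lib.Helper51.AlgSpGpdCalc
import Groth.Agent.Lib.Helper78.AlgSpLocP3
import Groth.Agent.Lib.Helper78.AlgSpLocPFlat
import Groth.Agent.Lib.Helper78.AlgSpLocPLofp
import Groth.Agent.Lib.Helper78.AlgSpLocPLoft
import Groth.Agent.Lib.Helper78.AlgSpFibre
import Groth.Agent.Lib.Helper30.AlgSpFib

set_option autoImplicit false
universe u
open CategoryTheory CategoryTheory.Limits AlgebraicGeometry Opposite
open AlgSp

namespace Groth.Agent.Lib.Helper51.Gpd

variable {S : Scheme.{u}} {B : Sp S} {G G' : GroupoidSp B}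

set_option backward.isDefEq.respectTransparency false

theorem prodMap_fst (φ : GroupoidSp.Hom G' G) :
    φ.prodMap ≫ pullback.fst G.pU G.pU = pullback.fst G'.pU G'.pU ≫ φ.fU := by
  unfold GroupoidSp.Hom.prodMap pullback.map
  rw [pullback.lift_fst]

theorem prodMap_snd (φ : GroupoidSp.Hom G' G) :
    φ.prodMap ≫ pullback.snd G.pU G.pU = pullback.snd G'.pU G'.pU ≫ φ.fU := by
  unfold GroupoidSp.Hom.prodMap pullback.map
  rw [pullback.lift_snd]

section
variable (φ : GroupoidSp.Hom G' G) {T : Sp S} (u1 u2 : T ⟶ G'.U) (r : T ⟶ G.R)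
  (h1 : u1 ≫ φ.fU = r ≫ G.t) (h2 : r ≫ G.s = u2 ≫ φ.fU)

include h1 h2 in
theorem pair_eq : u1 ≫ G'.pU = u2 ≫ G'.pU := by
  calc u1 ≫ G'.pU = u1 ≫ φ.fU ≫ G.pU := by rw [φ.fU_over]
    _ = (u1 ≫ φ.fU) ≫ G.pU := (Category.assoc _ _ _).symm
    _ = (r ≫ G.t) ≫ G.pU := by rw [h1]
    _ = r ≫ G.pR := by rw [Category.assoc, G.t_over]
    _ = (r ≫ G.s) ≫ G.pU := by rw [Category.assoc, G.s_over]
    _ = (u2 ≫ φ.fU) ≫ G.pU := by rw [h2]
    _ = u2 ≫ G'.pU := by rw [Category.assoc, φ.fU_over]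

theorem j_eq : r ≫ G.j = pullback.lift u1 u2 (pair_eq φ u1 u2 r h1 h2) ≫ φ.prodMap := by
  apply pullback.hom_ext
  · calc (r ≫ G.j) ≫ pullback.fst G.pU G.pU = r ≫ G.t := by rw [Category.assoc, GroupoidSp.j_fst]
      _ = u1 ≫ φ.fU := h1.symm
      _ = (pullback.lift u1 u2 (pair_eq φ u1 u2 r h1 h2) ≫ pullback.fst G'.pU G'.pU) ≫ φ.fU := by
        rw [pullback.lift_fst]
      _ = _ := by rw [Category.assoc, Category.assoc, prodMap_fst]
  · calc (r ≫ G.j) ≫ pullback.snd G.pU G.pU = r ≫ G.s := by rw [Category.assoc, GroupoidSp.j_snd]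
      _ = u2 ≫ φ.fU := h2
      _ = (pullback.lift u1 u2 (pair_eq φ u1 u2 r h1 h2) ≫ pullback.snd G'.pU G'.pU) ≫ φ.fU := by
        rw [pullback.lift_snd]
      _ = _ := by rw [Category.assoc, Category.assoc, prodMap_snd]

variable (hφ : IsPullback φ.fR G'.j G.j φ.prodMap)

/-- the arrow of the restricted groupoid with given source, target and image. -/
noncomputable def restrictLift : T ⟶ G'.R :=
  hφ.lift r (pullback.lift u1 u2 (pair_eq φ u1 u2 r h1 h2)) (j_eq φ u1 u2 r h1 h2)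

theorem restrictLift_fR : restrictLift φ u1 u2 r h1 h2 hφ ≫ φ.fR = r := hφ.lift_fst _ _ _

theorem restrictLift_t : restrictLift φ u1 u2 r h1 h2 hφ ≫ G'.t = u1 := by
  calc restrictLift φ u1 u2 r h1 h2 hφ ≫ G'.t
      = (restrictLift φ u1 u2 r h1 h2 hφ ≫ G'.j) ≫ pullback.fst G'.pU G'.pU := by
        rw [Category.assoc, GroupoidSp.j_fst]
    _ = u1 := by
        unfold restrictLift
        rw [hφ.lift_snd, pullback.lift_fst]

theorem restrictLift_s : restrictLift φ u1 u2 r h1 h2 hφ ≫ G'.s = u2 := by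
  calc restrictLift φ u1 u2 r h1 h2 hφ ≫ G'.s
      = (restrictLift φ u1 u2 r h1 h2 hφ ≫ G'.j) ≫ pullback.snd G'.pU G'.pU := by
        rw [Category.assoc, GroupoidSp.j_snd]
    _ = u2 := by
        unfold restrictLift
        rw [hφ.lift_snd, pullback.lift_snd]

include hφ in
theorem restrict_hom_ext (m m' : T ⟶ G'.R) (hR : m ≫ φ.fR = m' ≫ φ.fR)
    (ht : m ≫ G'.t = m' ≫ G'.t) (hs : m ≫ G'.s = m' ≫ G'.s) : m = m' := by
  apply hφ.hom_ext hR
  apply pullback.hom_ext
  · rw [Category.assoc, Category.assoc, GroupoidSp.j_fst, ht]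
  · rw [Category.assoc, Category.assoc, GroupoidSp.j_snd, hs]

end

/-- the restricted arrow space is the base change of `g` along `R ×_{s,U,g} U' ⟶ R ⟶ U` (target). -/
theorem isPullback_restrict_t (φ : GroupoidSp.Hom G' G) (hφ : φ.IsRestriction) :
    IsPullback G'.t (pullback.lift φ.fR G'.s φ.comm_s) φ.fU (pullback.fst G.s φ.fU ≫ G.t) := by
  have hφ' : IsPullback φ.fR G'.j G.j φ.prodMap := hφ
  have hw : G'.t ≫ φ.fU = pullback.lift φ.fR G'.s φ.comm_s ≫ pullback.fst G.s φ.fU ≫ G.t := by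
    rw [← Category.assoc, pullback.lift_fst, φ.comm_t]
  have c1 : ∀ c : PullbackCone φ.fU (pullback.fst G.s φ.fU ≫ G.t),
      c.fst ≫ φ.fU = (c.snd ≫ pullback.fst G.s φ.fU) ≫ G.t := by
    intro c; rw [Category.assoc]; exact c.condition
  have c2 : ∀ c : PullbackCone φ.fU (pullback.fst G.s φ.fU ≫ G.t),
      (c.snd ≫ pullback.fst G.s φ.fU) ≫ G.s = (c.snd ≫ pullback.snd G.s φ.fU) ≫ φ.fU := by
    intro c; rw [Category.assoc, Category.assoc, pullback.condition]
  refine ⟨⟨hw⟩, ⟨PullbackCone.IsLimit.mk _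
    (fun c => restrictLift φ c.fst (c.snd ≫ pullback.snd G.s φ.fU)
      (c.snd ≫ pullback.fst G.s φ.fU) (c1 c) (c2 c) hφ') ?_ ?_ ?_⟩⟩
  · intro c
    exact restrictLift_t _ _ _ _ _ _ _
  · intro c
    apply pullback.hom_ext
    · rw [Category.assoc, pullback.lift_fst, restrictLift_fR]
    · rw [Category.assoc, pullback.lift_snd, restrictLift_s]
  · intro c m hm1 hm2
    apply restrict_hom_ext φ hφ'
    · rw [restrictLift_fR, ← hm2, Category.assoc, pullback.lift_fst]
    · rw [restrictLift_t, hm1]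
    · rw [restrictLift_s, ← hm2, Category.assoc, pullback.lift_snd]

/-- symmetric version for the source. -/
theorem isPullback_restrict_s (φ : GroupoidSp.Hom G' G) (hφ : φ.IsRestriction) :
    IsPullback G'.s (pullback.lift φ.fR G'.t φ.comm_t) φ.fU (pullback.fst G.t φ.fU ≫ G.s) := by
  have hφ' : IsPullback φ.fR G'.j G.j φ.prodMap := hφ
  have hw : G'.s ≫ φ.fU = pullback.lift φ.fR G'.t φ.comm_t ≫ pullback.fst G.t φ.fU ≫ G.s := by
    rw [← Category.assoc, pullback.lift_fst, φ.comm_s]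
  have c1 : ∀ c : PullbackCone φ.fU (pullback.fst G.t φ.fU ≫ G.s),
      (c.snd ≫ pullback.fst G.t φ.fU) ≫ G.s = c.fst ≫ φ.fU := by
    intro c; rw [Category.assoc]; exact c.condition.symm
  have c2 : ∀ c : PullbackCone φ.fU (pullback.fst G.t φ.fU ≫ G.s),
      (c.snd ≫ pullback.snd G.t φ.fU) ≫ φ.fU = (c.snd ≫ pullback.fst G.t φ.fU) ≫ G.t := by
    intro c; rw [Category.assoc, Category.assoc, pullback.condition]
  refine ⟨⟨hw⟩, ⟨PullbackCone.IsLimit.mk _
    (fun c => restrictLift φ (c.snd ≫ pullback.snd G.t φ.fU) c.fst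
      (c.snd ≫ pullback.fst G.t φ.fU) (c2 c) (c1 c) hφ') ?_ ?_ ?_⟩⟩
  · intro c
    exact restrictLift_s _ _ _ _ _ _ _
  · intro c
    apply pullback.hom_ext
    · rw [Category.assoc, pullback.lift_fst, restrictLift_fR]
    · rw [Category.assoc, pullback.lift_snd, restrictLift_t]
  · intro c m hm1 hm2
    apply restrict_hom_ext φ hφ'
    · rw [restrictLift_fR, ← hm2, Category.assoc, pullback.lift_fst]
    · rw [restrictLift_t, ← hm2, Category.assoc, pullback.lift_snd]
    · rw [restrictLift_s, hm1]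

open Groth.Agent.Lib.Helper78.AlgSpLocP in
theorem locP_restrict {P : MorphismProperty Scheme.{u}} (hP : EtLocalST P)
    [P.IsStableUnderBaseChange] [P.IsStableUnderComposition]
    (hU : IsAlgSpace G.U) (hR : IsAlgSpace G.R) (hU' : IsAlgSpace G'.U)
    (φ : GroupoidSp.Hom G' G) (hφ : φ.IsRestriction)
    (hs : LocP P G.s) (ht : LocP P G.t) (hg : LocP P φ.fU) :
    LocP P G'.s ∧ LocP P G'.t := by
  have hrepU := Groth.Agent.Lib.Helper78.AlgSpFibre.repAll_of_isAlgSpace hU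
  constructor
  · -- `s' = (R' ⟶ R ×_{s,U,g} U') ≫ snd`
    have hM : IsAlgSpace (pullback G.s φ.fU) :=
      Groth.Agent.Lib.Helper30.isAlgSpace_of_isPullback hU.diag hR hU' (IsPullback.of_hasPullback _ _)
    have h1 : LocP P (pullback.snd G.s φ.fU) :=
      locP_of_isPullback hP (IsPullback.of_hasPullback G.s φ.fU) hrepU hR.atlas hU.atlas hs
    have h2 : LocP P (pullback.lift φ.fR G'.s φ.comm_s) :=
      locP_of_isPullback hP (isPullback_restrict_t φ hφ) hrepU hU'.atlas hU.atlas hg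
    have h3 := locP_comp hP _ _ hM.atlas h2 h1
    rwa [pullback.lift_snd] at h3
  · have hM : IsAlgSpace (pullback G.t φ.fU) :=
      Groth.Agent.Lib.Helper30.isAlgSpace_of_isPullback hU.diag hR hU' (IsPullback.of_hasPullback _ _)
    have h1 : LocP P (pullback.snd G.t φ.fU) :=
      locP_of_isPullback hP (IsPullback.of_hasPullback G.t φ.fU) hrepU hR.atlas hU.atlas ht
    have h2 : LocP P (pullback.lift φ.fR G'.t φ.comm_t) :=
      locP_of_isPullback hP (isPullback_restrict_s φ hφ) hrepU hU'.atlas hU.atlas hg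
    have h3 := locP_comp hP _ _ hM.atlas h2 h1
    rwa [pullback.lift_snd] at h3

end Groth.Agent.Lib.Helper51.Gpd
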