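import Groth.Agent.Lib.Helper51.AlgSpGpdCompFlat
import Groth.Agent.Lib.Helper78.AlgSpAffine
import Groth.Agent.Lib.Helper78.AlgSpLocP2
import Groth.Agent.Lib.Helper51.AlgSpOnePt2

/-!
# Restriction of a groupoid over a field along a field extension (helper51)
-/

set_option autoImplicit false
universe u v
open CategoryTheory CategoryTheory.Limits AlgebraicGeometry Opposite
open AlgSp

namespace Groth.Agent.Lib.Helper51.Gpd

variable {S : Scheme.{u}}

set_option backward.isDefEq.respectTransparency false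

open Groth.Agent.Lib.Helper78.AlgSpLocP Groth.Agent.Lib.Helper78.AlgSpLocPFlat
  Groth.Agent.Lib.Helper78.AlgSpFibre Groth.Agent.Lib.Helper30 Groth.Agent.Lib.Helper78.AlgSpBasic
  Groth.Agent.Lib.Helper51.GrpMulFlat Groth.Agent.Lib.Helper78.AlgSpAffine Groth.Agent.Lib.Helper52
  Groth.Agent.Lib.Helper51

/-- surjective, flat, universally open and affine. -/
def Good {X Y : Sp S} (f : X ⟶ Y) : Prop :=
  IsSurjectiveMor f ∧ LocP @Flat f ∧ IsUnivOpenMor f ∧ IsAffineMor f

theorem good_of_isPullback {X Y X' Y' : Sp S} (hX : IsAlgSpace X) (hY : IsAlgSpace Y)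
    {f : X ⟶ Y} {q : Y' ⟶ Y} {p : X' ⟶ X} {f' : X' ⟶ Y'} (sq : IsPullback p f' f q)
    (hf : Good f) : Good f' := by
  obtain ⟨h1, h2, h3, h4⟩ := hf
  have h23 := flat_univOpen_of_isPullback hX hY sq ⟨h2, h3⟩
  refine ⟨?_, h23.1, h23.2, isAffineMor_of_isPullback sq h4⟩
  intro y'
  obtain ⟨x, hx⟩ := h1 (Points.map q y')
  obtain ⟨w, -, hw⟩ := exists_point_of_isPullback sq x y' hx
  exact ⟨w, hw⟩

theorem good_comp {X Y Z : Sp S} (hY : IsAlgSpace Y) (hZ : IsAlgSpace Z) {f : X ⟶ Y} {g : Y ⟶ Z}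
    (hf : Good f) (hg : Good g) : Good (f ≫ g) := by
  obtain ⟨f1, f2, f3, f4⟩ := hf
  obtain ⟨g1, g2, g3, g4⟩ := hg
  refine ⟨?_, ?_, isUnivOpenMor_comp hY hZ f3 g3, isAffineMor_comp f4 g4⟩
  · intro z
    obtain ⟨y, rfl⟩ := g1 z
    obtain ⟨x, rfl⟩ := f1 y
    exact ⟨x, Points.map_comp _ _ _⟩
  · exact locP_comp etLocalST_flat f g
      (by obtain ⟨U, a, h1, h2⟩ := hY.atlas; exact ⟨U, a, h1, h2⟩) f2 g2

variable {B : Sp S}

/-- the map on arrows of a restriction is good when the map on objects is. -/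
theorem good_fR_of_isRestriction (hB : IsAlgSpace B) (G G' : GroupoidSp B)
    (hU : IsAlgSpace G.U) (hU' : IsAlgSpace G'.U)
    (φ : GroupoidSp.Hom G' G) (hφ : φ.IsRestriction) (hfU : Good φ.fU) : Good φ.fR := by
  have hUU : IsAlgSpace (pullback G.pU G.pU) :=
    isAlgSpace_of_isPullback (IsPullback.of_hasPullback G.pU G.pU) hB.diag hU hU
  have hUU' : IsAlgSpace (pullback G.pU G'.pU) :=
    isAlgSpace_of_isPullback (IsPullback.of_hasPullback G.pU G'.pU) hB.diag hU hU'
  -- the two steps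
  let m1 : pullback G'.pU G'.pU ⟶ pullback G.pU G'.pU :=
    pullback.map _ _ _ _ φ.fU (𝟙 _) (𝟙 B) (by rw [φ.fU_over, Category.comp_id])
      (by rw [Category.id_comp, Category.comp_id])
  let m2 : pullback G.pU G'.pU ⟶ pullback G.pU G.pU :=
    pullback.map _ _ _ _ (𝟙 _) φ.fU (𝟙 B) (by rw [Category.id_comp, Category.comp_id])
      (by rw [φ.fU_over, Category.comp_id])
  have hm1f : m1 ≫ pullback.fst G.pU G'.pU = pullback.fst G'.pU G'.pU ≫ φ.fU := pullback.lift_fst _ _ _
  have hm1s : m1 ≫ pullback.snd G.pU G'.pU = pullback.snd G'.pU G'.pU := by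
    rw [pullback.lift_snd, Category.comp_id]
  have hm2f : m2 ≫ pullback.fst G.pU G.pU = pullback.fst G.pU G'.pU := by
    rw [pullback.lift_fst, Category.comp_id]
  have hm2s : m2 ≫ pullback.snd G.pU G.pU = pullback.snd G.pU G'.pU ≫ φ.fU := pullback.lift_snd _ _ _
  have hprod : φ.prodMap = m1 ≫ m2 := by
    apply pullback.hom_ext
    · rw [Category.assoc, hm2f, hm1f]; exact pullback.lift_fst _ _ _
    · rw [Category.assoc, hm2s, ← Category.assoc, hm1s]; exact pullback.lift_snd _ _ _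
  have sq1 : IsPullback m1 (pullback.fst G'.pU G'.pU) (pullback.fst G.pU G'.pU) φ.fU := by
    refine IsPullback.of_right ?_ hm1f (IsPullback.of_hasPullback G.pU G'.pU).flip
    rw [hm1s, φ.fU_over]
    exact (IsPullback.of_hasPullback G'.pU G'.pU).flip
  have sq2 : IsPullback m2 (pullback.snd G.pU G'.pU) (pullback.snd G.pU G.pU) φ.fU := by
    refine IsPullback.of_right ?_ hm2s (IsPullback.of_hasPullback G.pU G.pU)
    rw [hm2f, φ.fU_over]
    exact IsPullback.of_hasPullback G.pU G'.pU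
  have g1 : Good m1 := good_of_isPullback hU' hU sq1.flip hfU
  have g2 : Good m2 := good_of_isPullback hU' hU sq2.flip hfU
  have g12 : Good φ.prodMap := by rw [hprod]; exact good_comp hUU' hUU g1 g2
  have hUU'' : IsAlgSpace (pullback G'.pU G'.pU) :=
    isAlgSpace_of_isPullback (IsPullback.of_hasPullback G'.pU G'.pU) hB.diag hU' hU'
  exact good_of_isPullback hUU'' hUU hφ.flip g12

/-- source and target of a groupoid over a field are surjective, flat and universally open. -/
theorem s_t_good (G : GroupoidSp B) (hR : IsAlgSpace G.R) (T : Over S) [IsIntegral T.left]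
    [Subsingleton ↥T.left] (eU : G.U ≅ (yon S).obj T) :
    ∀ f ∈ [G.s, G.t], IsSurjectiveMor f ∧ LocP @Flat f ∧ IsUnivOpenMor f := by
  intro f hf
  simp only [List.mem_cons, List.not_mem_nil, or_false] at hf
  rcases hf with rfl | rfl
  · have h := flat_univOpen_of_field' hR T eU G.s
    refine ⟨fun x => ⟨Points.map G.e x, ?_⟩, h.1, h.2⟩
    rw [← Points.map_comp, G.e_s, Points.map_id]
  · have h := flat_univOpen_of_field' hR T eU G.t
    refine ⟨fun x => ⟨Points.map G.e x, ?_⟩, h.1, h.2⟩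
    rw [← Points.map_comp, G.e_t, Points.map_id]

/-- the restriction of a groupoid over a field along a field extension. -/
theorem restriction_field (hB : IsAlgSpace B) (G G' : GroupoidSp B) (hR : IsAlgSpace G.R)
    (hR' : IsAlgSpace G'.R) (k k' : Type u) [Field k] [Field k'] [Algebra k k']
    (σ : Spec (CommRingCat.of k) ⟶ S) (eU : G.U ≅ ((yon S).obj (Over.mk σ)))
    (eU' : G'.U ≅ ((yon S).obj (Over.mk (Spec.map (CommRingCat.ofHom (algebraMap k k')) ≫ σ))))
    (φ : GroupoidSp.Hom G' G) (hφ : φ.IsRestriction)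
    (hfU : φ.fU = eU'.hom ≫ (yon S).map (Over.homMk (Spec.map (CommRingCat.ofHom (algebraMap k k'))) rfl :
      Over.mk (Spec.map (CommRingCat.ofHom (algebraMap k k')) ≫ σ) ⟶ Over.mk σ) ≫ eU.inv) :
    (∀ f ∈ [G.s, G.t], IsSurjectiveMor f ∧ LocP @Flat f ∧ IsUnivOpenMor f) ∧
      (∀ f ∈ [G'.s, G'.t], IsSurjectiveMor f ∧ LocP @Flat f ∧ IsUnivOpenMor f) ∧
      (IsSurjectiveMor φ.fU ∧ LocP @Flat φ.fU ∧ IsUnivOpenMor φ.fU) ∧
      (IsSurjectiveMor φ.fR ∧ LocP @Flat φ.fR ∧ IsUnivOpenMor φ.fR ∧ IsAffineMor φ.fR) := by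
  haveI : IsIntegral (Over.mk σ).left := inferInstanceAs (IsIntegral (Spec (CommRingCat.of k)))
  haveI : Subsingleton ↥(Over.mk σ).left := inferInstanceAs (Subsingleton (PrimeSpectrum k))
  haveI : IsIntegral (Over.mk (Spec.map (CommRingCat.ofHom (algebraMap k k')) ≫ σ)).left :=
    inferInstanceAs (IsIntegral (Spec (CommRingCat.of k')))
  haveI : Subsingleton ↥(Over.mk (Spec.map (CommRingCat.ofHom (algebraMap k k')) ≫ σ)).left :=
    inferInstanceAs (Subsingleton (PrimeSpectrum k'))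
  have hU : IsAlgSpace G.U := (IsAlgSpace.yon_obj _).of_iso eU.symm
  have hU' : IsAlgSpace G'.U := (IsAlgSpace.yon_obj _).of_iso eU'.symm
  have hgood : Good φ.fU := by
    have h := flat_univOpen_of_field' hU' (Over.mk σ) eU φ.fU
    refine ⟨?_, h.1, h.2, ?_⟩
    · intro x
      obtain ⟨y0⟩ := nonempty_points_yon_field (Spec.map (CommRingCat.ofHom (algebraMap k k')) ≫ σ)
      refine ⟨Points.map eU'.inv y0, ?_⟩
      have hinj : Function.Injective (Points.map eU.hom) := injective_map_of_mono _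
      apply hinj
      exact @Subsingleton.elim _ (subsingleton_points_yon_field σ) _ _
    · rw [hfU]
      refine isAffineMor_comp (isAffineMor_of_repWith_isAffineHom (repWith_of_isIso _ eU'.hom))
        (isAffineMor_comp (isAffineMor_of_repWith_isAffineHom ((repWith_yon_map_iff _ _).2 ?_))
          (isAffineMor_of_repWith_isAffineHom (repWith_of_isIso _ eU.inv)))
      exact (inferInstance : IsAffineHom (Spec.map (CommRingCat.ofHom (algebraMap k k'))))
  refine ⟨s_t_good G hR _ eU, s_t_good G' hR' _ eU', ⟨hgood.1, hgood.2.1, hgood.2.2.1⟩, ?_⟩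
  exact good_fR_of_isRestriction hB G G' hU hU' φ hφ hgood

end Groth.Agent.Lib.Helper51.Gpd
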