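import Groth.Agent.Lib.Helper51.AlgSpGpdCalc

set_option autoImplicit false
universe u
open CategoryTheory CategoryTheory.Limits AlgebraicGeometry
open AlgSp

namespace Groth.Agent.Lib.Helper51.Gpd

variable {S : Scheme.{u}} {B : Sp S} (G : GroupoidSp B)

set_option backward.isDefEq.respectTransparency false

theorem c_s : G.c ≫ G.s = pullback.snd G.s G.t ≫ G.s := by
  rw [c_eq G, comp_s]

theorem c_t : G.c ≫ G.t = pullback.fst G.s G.t ≫ G.t := by
  rw [c_eq G, comp_t]

theorem isPullback_c_snd : IsPullback G.c (pullback.snd G.s G.t) G.s G.s := by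
  refine ⟨⟨c_s G⟩, ⟨PullbackCone.IsLimit.mk _ (fun s => pullback.lift
    (comp G s.fst (s.snd ≫ G.i) (by rw [Category.assoc, G.i_t]; exact s.condition)) s.snd
    (by rw [comp_s, Category.assoc, G.i_s])) ?_ ?_ ?_⟩⟩
  · intro s
    rw [hom_c]
    rw [comp_congr G _ (pullback.lift_fst _ _ _) (pullback.lift_snd _ _ _)]
    exact comp_inv_comp G s.fst s.snd s.condition
  · intro s
    exact pullback.lift_snd _ _ _
  · intro s m h1 h2
    apply pullback.hom_ext
    · rw [pullback.lift_fst]
      have e1 : s.fst = comp G (m ≫ pullback.fst G.s G.t) s.snd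
          (by rw [← h2, Category.assoc, Category.assoc, pullback.condition]) := by
        rw [← h1, hom_c]
        exact comp_congr G _ rfl h2
      rw [comp_congr G _ e1 rfl]
      exact (comp_comp_inv G _ _ _).symm
    · rw [pullback.lift_snd]
      exact h2

theorem shear (φ : pullback G.t G.t ⟶ pullback G.s G.t)
    (h1 : φ ≫ pullback.fst G.s G.t = pullback.fst G.t G.t)
    (h2 : φ ≫ pullback.snd G.s G.t =
          pullback.lift (pullback.fst G.t G.t ≫ G.i) (pullback.snd G.t G.t)
            ((Category.assoc _ _ _).trans ((congrArg (pullback.fst G.t G.t ≫ ·) G.i_s).trans pullback.condition)) ≫ G.c) :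
    IsIso φ ∧ φ ≫ G.c = pullback.snd G.t G.t := by
  have h2' : φ ≫ pullback.snd G.s G.t = comp G (pullback.fst G.t G.t ≫ G.i) (pullback.snd G.t G.t)
      (by rw [Category.assoc, G.i_s]; exact pullback.condition) := h2
  have hc : φ ≫ G.c = pullback.snd G.t G.t := by
    rw [hom_c, comp_congr G _ h1 h2']
    exact comp_inv_comp' G _ _ pullback.condition
  refine ⟨?_, hc⟩
  let ψ : pullback G.s G.t ⟶ pullback G.t G.t :=
    pullback.lift (pullback.fst G.s G.t) G.c (c_t G).symm
  refine ⟨ψ, ?_, ?_⟩
  · apply pullback.hom_ext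
    · rw [Category.assoc, pullback.lift_fst, h1, Category.id_comp]
    · rw [Category.assoc, pullback.lift_snd, hc, Category.id_comp]
  · apply pullback.hom_ext
    · rw [Category.assoc, h1, pullback.lift_fst, Category.id_comp]
    · rw [Category.assoc, h2', precomp, Category.id_comp]
      have e1 : ψ ≫ pullback.fst G.t G.t ≫ G.i = pullback.fst G.s G.t ≫ G.i := by
        rw [← Category.assoc, pullback.lift_fst]
      have e2 : ψ ≫ pullback.snd G.t G.t =
          comp G (pullback.fst G.s G.t) (pullback.snd G.s G.t) pullback.condition := by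
        rw [pullback.lift_snd]; exact c_eq G
      rw [comp_congr G _ e1 e2]
      exact inv_comp_comp G _ _ _

end Groth.Agent.Lib.Helper51.Gpd
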