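import Groth.Agent.Lib.Helper51.AlgSpGpdCalc

set_option autoImplicit false
universe u
open CategoryTheory CategoryTheory.Limits AlgebraicGeometry
open AlgSp

namespace Groth.Agent.Lib.Helper51.Gpd

variable {S : Scheme.{u}} {B : Sp S} (G : GroupoidSp B)

set_option backward.isDefEq.respectTransparency false

theorem translation (a : G.U ⟶ G.R) (ha : a ≫ G.s = 𝟙 G.U) [IsIso (a ≫ G.t)]
    (hh : (G.t ≫ a) ≫ G.s = 𝟙 G.R ≫ G.t) :
    IsIso (pullback.lift (G.t ≫ a) (𝟙 G.R) hh ≫ G.c) ∧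
      G.e ≫ (pullback.lift (G.t ≫ a) (𝟙 G.R) hh ≫ G.c) = a := by
  change IsIso (comp G (G.t ≫ a) (𝟙 G.R) hh) ∧ G.e ≫ comp G (G.t ≫ a) (𝟙 G.R) hh = a
  constructor
  · -- the inverse
    have hτ : inv (a ≫ G.t) ≫ a ≫ G.t = 𝟙 _ := IsIso.inv_hom_id _
    have hτ' : (a ≫ G.t) ≫ inv (a ≫ G.t) = 𝟙 _ := IsIso.hom_inv_id _
    let A : G.R ⟶ G.R := G.t ≫ inv (a ≫ G.t) ≫ a
    have hAs : A ≫ G.s = G.t ≫ inv (a ≫ G.t) := by
      simp only [A, Category.assoc, ha, Category.comp_id]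
    have hAt : A ≫ G.t = G.t := by
      simp only [A, Category.assoc]
      rw [hτ, Category.comp_id]
    have hM : (A ≫ G.i) ≫ G.s = 𝟙 G.R ≫ G.t := by
      rw [Category.assoc, G.i_s, hAt, Category.id_comp]
    refine ⟨comp G (A ≫ G.i) (𝟙 G.R) hM, ?_, ?_⟩
    · -- L ≫ M = 𝟙
      rw [precomp]
      have hLt : comp G (G.t ≫ a) (𝟙 G.R) hh ≫ G.t = G.t ≫ a ≫ G.t := by
        rw [comp_t, Category.assoc]
      have e1 : comp G (G.t ≫ a) (𝟙 G.R) hh ≫ A ≫ G.i = (G.t ≫ a) ≫ G.i := by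
        simp only [A]
        rw [← Category.assoc, ← Category.assoc, ← Category.assoc, hLt]
        simp only [Category.assoc]
        rw [reassoc_of% hτ']
      have e2 : comp G (G.t ≫ a) (𝟙 G.R) hh ≫ 𝟙 G.R = comp G (G.t ≫ a) (𝟙 G.R) hh :=
        Category.comp_id _
      rw [comp_congr G _ e1 e2]
      exact inv_comp_comp G _ _ _
    · -- M ≫ L = 𝟙
      rw [precomp]
      have hMt : comp G (A ≫ G.i) (𝟙 G.R) hM ≫ G.t = G.t ≫ inv (a ≫ G.t) := by
        rw [comp_t, Category.assoc, G.i_t, hAs]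
      have e1 : comp G (A ≫ G.i) (𝟙 G.R) hM ≫ G.t ≫ a = A := by
        rw [← Category.assoc, hMt, Category.assoc]
      have e2 : comp G (A ≫ G.i) (𝟙 G.R) hM ≫ 𝟙 G.R = comp G (A ≫ G.i) (𝟙 G.R) hM :=
        Category.comp_id _
      rw [comp_congr G _ e1 e2]
      exact comp_inv_comp' G A (𝟙 G.R) (by rw [hAt, Category.id_comp])
  · rw [precomp]
    have e1 : G.e ≫ G.t ≫ a = a := by rw [← Category.assoc, G.e_t, Category.id_comp]
    have e2 : G.e ≫ 𝟙 G.R = a ≫ G.s ≫ G.e := by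
      rw [Category.comp_id, ← Category.assoc, ha, Category.id_comp]
    rw [comp_congr G _ e1 e2]
    exact comp_e G a _ rfl _

end Groth.Agent.Lib.Helper51.Gpd
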