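import Groth.Agent.Lib.Helper51.AlgSpSectionClosed
import Groth.Agent.Lib.Helper30.AlgSpQC

/-!
# A decent group algebraic space over a field is separated (helper51)
-/

set_option autoImplicit false
set_option linter.unusedSectionVars false
universe u
open CategoryTheory CategoryTheory.Limits AlgebraicGeometry Opposite MonoidalCategory CartesianMonoidalCategory MonObj

set_option backward.isDefEq.respectTransparency false

namespace Groth.Agent.Lib.Helper51.SectionClosed

open AlgSp Groth.Agent.Lib.Helper30 Groth.Agent.Lib.Helper52 Groth.Agent.Lib.Helper51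
  Groth.Agent.Lib.Helper51.Gpd

variable {S : Scheme.{u}}

/-- separated over the terminal sheaf means separated. -/
theorem isSeparatedSp_of_isSeparatedMor_yonBase {X : AlgSp.Sp S}
    (f : X ⟶ (AlgSp.yon S).obj (Over.mk (𝟙 S))) (h : AlgSp.IsSeparatedMor f) :
    AlgSp.IsSeparatedSp X := by
  have hf : f = isTerminalYonBase.from X := isTerminalYonBase.hom_ext _ _
  rw [hf] at h
  have sq := isPullback_prod_yonBase X X
  have e1 : Limits.diag X ≫ sq.isoPullback.hom = pullback.diagonal (isTerminalYonBase.from X) := by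
    apply pullback.hom_ext
    · rw [Category.assoc, sq.isoPullback_hom_fst, pullback.diagonal_fst]; simp [Limits.diag]
    · rw [Category.assoc, sq.isoPullback_hom_snd, pullback.diagonal_snd]; simp [Limits.diag]
  have e2 : Limits.diag X = pullback.diagonal (isTerminalYonBase.from X) ≫ sq.isoPullback.inv := by
    rw [← e1, Category.assoc, Iso.hom_inv_id, Category.comp_id]
  show AlgSp.RepWith @IsClosedImmersion (Limits.diag X)
  rw [e2]
  exact MorphismProperty.RespectsIso.postcomp _ _ _ h

/-- a decent group algebraic space over a field is separated. -/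
theorem isSeparatedSp_of_decent_grp (k : Type u) [Field k]
    (G : Over ((AlgSp.yon (Spec (CommRingCat.of k))).obj (Over.mk (𝟙 _)))) [GrpObj G]
    (hG : AlgSp.IsAlgSpace G.left) (hd : AlgSp.IsDecent G.left) : AlgSp.IsSeparatedSp G.left := by
  obtain ⟨e, hedef⟩ : ∃ e : (AlgSp.yon (Spec (CommRingCat.of k))).obj
      (Over.mk (𝟙 (Spec (CommRingCat.of k)))) ⟶ G.left, e = (η[G]).left := ⟨_, rfl⟩
  have he : e ≫ G.hom = 𝟙 _ := by rw [hedef]; exact Over.w η[G]
  let q : FieldPt G.left := fieldPtOfHom (𝟙 (Spec (CommRingCat.of k))) e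
  have hqe : q.toHom = e := fieldPtOfHom_toHom _ _
  obtain ⟨p, hp, hm, hpq⟩ := hd (Points.mk q)
  have hq : AlgSp.RepWith @QuasiCompact e := by
    rw [← hqe]; exact repWith_quasiCompact_of_mk_eq p q hm hpq hp.symm
  haveI : IsLocallyArtinian (Over.mk (𝟙 (Spec (CommRingCat.of k)))).left :=
    (Scheme.isLocallyArtinianScheme_Spec).2 (inferInstanceAs (IsArtinianRing k))
  haveI : IsAffine (Over.mk (𝟙 (Spec (CommRingCat.of k)))).left :=
    inferInstanceAs (IsAffine (Spec (CommRingCat.of k)))
  have hcl := repWith_isClosedImmersion_of_section hG (Over.mk (𝟙 _)) G.hom e he hq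
  rw [hedef] at hcl
  have hsep : AlgSp.IsSeparatedMor G.hom := ((grpObj_separated_iff G hG).1).2 hcl
  exact isSeparatedSp_of_isSeparatedMor_yonBase G.hom hsep

end Groth.Agent.Lib.Helper51.SectionClosed
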