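import Groth.Agent.Lib.Helper51.AlgSpGrpSep
import Groth.Agent.Lib.Helper78.AlgSpLocP3
import Groth.Agent.Lib.Helper78.AlgSpLocPFlat
import Groth.Agent.Lib.Helper78.AlgSpFibre
import Groth.Agent.Lib.Helper30.AlgSpMor

/-!
# The multiplication of a group algebraic space over a field is flat and universally open (helper51)
-/

set_option autoImplicit false
universe u v
open CategoryTheory CategoryTheory.Limits AlgebraicGeometry Opposite MonoidalCategory CartesianMonoidalCategory MonObj
open AlgSp

namespace Groth.Agent.Lib.Helper51.GrpMulFlat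

section General
variable {C : Type u} [Category.{v} C] [CartesianMonoidalCategory C] (G : C) [GrpObj G]

set_option backward.isDefEq.respectTransparency false in
/-- the multiplication is the base change of `G ⟶ 1` along itself. -/
theorem isPullback_mul_snd :
    IsPullback μ[G] (snd G G) (toUnit G) (toUnit G) := by
  have hw : μ[G] ≫ toUnit G = snd G G ≫ toUnit G := toUnit_unique _ _
  refine ⟨⟨hw⟩, ⟨PullbackCone.IsLimit.mk _ (fun c => lift (c.fst * (c.snd)⁻¹) c.snd) ?_ ?_ ?_⟩⟩
  · intro c
    have : lift (c.fst * (c.snd)⁻¹) c.snd ≫ μ[G] = (c.fst * (c.snd)⁻¹) * c.snd := by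
      rw [Hom.mul_def (c.fst * (c.snd)⁻¹) c.snd]
    rw [this, inv_mul_cancel_right]
  · intro c
    exact lift_snd _ _
  · intro c m hm1 hm2
    apply CartesianMonoidalCategory.hom_ext
    · rw [lift_fst]
      have h1 : (m ≫ fst G G) * (m ≫ snd G G) = c.fst := by
        rw [← hm1, Hom.mul_def]
        congr 1
        apply CartesianMonoidalCategory.hom_ext <;> simp
      rw [← h1, hm2, mul_inv_cancel_right]
    · rw [lift_snd, hm2]

end General

section Sp
variable {S : Scheme.{u}}

open Groth.Agent.Lib.Helper78.AlgSpLocP Groth.Agent.Lib.Helper78.AlgSpLocPFlat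
  Groth.Agent.Lib.Helper78.AlgSpFibre Groth.Agent.Lib.Helper30

set_option backward.isDefEq.respectTransparency false

/-- every morphism from an algebraic space to an integral one point scheme is flat and universally open. -/
theorem flat_univOpen_of_field {X : Sp S} (hX : IsAlgSpace X) (T : Over S) [IsIntegral T.left]
    [Subsingleton ↥T.left] (f : X ⟶ (yon S).obj T) : LocP @Flat f ∧ IsUnivOpenMor f := by
  obtain ⟨U, a, ha, has⟩ := hX.atlas
  obtain ⟨h, hh⟩ : ∃ h : U ⟶ T, (yon S).map h = a ≫ f := ⟨(yon S).preimage _, (yon S).map_preimage _⟩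
  constructor
  · exact locP_of_chart etLocalST_flat f a (𝟙 _) h ha has (repWith_id _ T)
      (by rw [Category.comp_id, hh]) inferInstance
  · have huo : UniversallyOpen h.left := inferInstance
    have h3 : IsUnivOpenMor ((yon S).map h) :=
      isUnivOpenMor_of_repWith ((repWith_yon_map_iff _ _).2 huo)
    rw [hh] at h3
    exact isUnivOpenMor_of_comp a f has h3

/-- base change of the two properties. -/
theorem flat_univOpen_of_isPullback {X Y X' Y' : Sp S} (hX : IsAlgSpace X) (hY : IsAlgSpace Y)
    {f : X ⟶ Y} {q : Y' ⟶ Y} {p : X' ⟶ X} {f' : X' ⟶ Y'} (sq : IsPullback p f' f q)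
    (hf : LocP @Flat f ∧ IsUnivOpenMor f) : LocP @Flat f' ∧ IsUnivOpenMor f' := by
  constructor
  · exact locP_of_isPullback etLocalST_flat sq (repAll_of_isAlgSpace hY)
      (by obtain ⟨U, a, h1, h2⟩ := hX.atlas; exact ⟨U, a, h1, h2⟩)
      (by obtain ⟨U, a, h1, h2⟩ := hY.atlas; exact ⟨U, a, h1, h2⟩) hf.1
  · intro Z Z' hZ g fst snd sq'
    exact hf.2 hZ (g ≫ q) _ _ (sq'.paste_horiz sq)

variable {B : Sp S} (G : Over B) [GrpObj G]

theorem isPullback_mul_left :
    IsPullback (snd G G).left (μ[G]).left G.hom G.hom :=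
  ((isPullback_mul_snd G).map (Over.forget B)).flip

/-- the multiplication of a group algebraic space over a field is flat and universally open. -/
theorem mul_flat_univOpen (T : Over S) [IsIntegral T.left] [Subsingleton ↥T.left]
    (G : Over ((yon S).obj T)) [GrpObj G] (hG : IsAlgSpace G.left) :
    LocP @Flat (μ[G]).left ∧ IsUnivOpenMor (μ[G]).left :=
  flat_univOpen_of_isPullback hG (IsAlgSpace.yon_obj T) (isPullback_mul_left G)
    (flat_univOpen_of_field hG T G.hom)

end Sp

end Groth.Agent.Lib.Helper51.GrpMulFlat
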