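import Groth.Agent.Lib.Helper51.AlgSpGpdSep

set_option autoImplicit false
universe u v
open CategoryTheory CategoryTheory.Limits AlgebraicGeometry Opposite MonoidalCategory CartesianMonoidalCategory MonObj
open AlgSp

namespace Groth.Agent.Lib.Helper51.Gpd

section General
variable {C : Type u} [Category.{v} C] [CartesianMonoidalCategory C] (G : C) [GrpObj G]

set_option backward.isDefEq.respectTransparency false in
theorem isPullback_diag_unit :
    IsPullback (toUnit G) (lift (𝟙 G) (𝟙 G)) η[G] ((fst G G)⁻¹ * snd G G) := by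
  have hw : toUnit G ≫ η[G] = lift (𝟙 G) (𝟙 G) ≫ ((fst G G)⁻¹ * snd G G) := by
    rw [comp_mul, GrpObj.comp_inv, lift_fst, lift_snd, inv_mul_cancel]
    rfl
  refine ⟨⟨hw⟩, ⟨PullbackCone.IsLimit.mk _ (fun c => c.snd ≫ fst G G) ?_ ?_ ?_⟩⟩
  · intro c
    exact toUnit_unique _ _
  · intro c
    have h1 : c.fst ≫ η[G] = 1 := by
      rw [Hom.one_def]
      congr 1
      exact toUnit_unique _ _
    have h2 := c.condition
    rw [h1, comp_mul, GrpObj.comp_inv] at h2
    have h3 : c.snd ≫ fst G G = c.snd ≫ snd G G := by
      have := inv_mul_eq_one.1 h2.symm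
      exact this
    apply CartesianMonoidalCategory.hom_ext
    · rw [Category.assoc, lift_fst, Category.comp_id]
    · rw [Category.assoc, lift_snd, Category.comp_id, h3]
  · intro c m hm1 hm2
    rw [← hm2, Category.assoc, lift_fst, Category.comp_id]

end General

section Sp
variable {S : Scheme.{u}} {B : Sp S} (G : Over B) [GrpObj G]

set_option backward.isDefEq.respectTransparency false

theorem isPullback_hom_diagonal :
    IsPullback G.hom (pullback.diagonal G.hom) (η[G]).left (((fst G G)⁻¹ * snd G G)).left := by
  have h := (isPullback_diag_unit G).map (Over.forget B)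
  have e2 : (Over.forget B).map (lift (𝟙 G) (𝟙 G)) = pullback.diagonal G.hom := by
    apply pullback.hom_ext
    · rw [pullback.diagonal_fst]
      change (lift (𝟙 G) (𝟙 G)).left ≫ (fst G G).left = 𝟙 _
      rw [← Over.comp_left, lift_fst]; rfl
    · rw [pullback.diagonal_snd]
      change (lift (𝟙 G) (𝟙 G)).left ≫ (snd G G).left = 𝟙 _
      rw [← Over.comp_left, lift_snd]; rfl
  rw [e2] at h
  exact h

theorem grp_separation_cycle (Q : MorphismProperty (Sp S)) [Q.IsStableUnderBaseChange] :
    (Q (pullback.diagonal G.hom) → Q (η[G]).left) ∧ (Q (η[G]).left → Q (pullback.diagonal G.hom)) := by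
  refine ⟨fun h => ?_, fun h => ?_⟩
  · exact of_section_of_diagonal Q G.hom (η[G]).left (Over.w η[G]) h
  · exact MorphismProperty.of_isPullback (isPullback_hom_diagonal G) h

theorem grpObj_separated_iff (hG : IsAlgSpace G.left) :
    (IsSeparatedMor G.hom ↔ RepWith @IsClosedImmersion (η[G]).left) ∧
      (IsQuasiSeparatedMor G.hom ↔ IsQuasiCompactMor (η[G]).left) ∧
      (IsLocallySeparatedMor G.hom → RepWith @IsImmersion (η[G]).left) := by
  obtain ⟨a1, a2⟩ := grp_separation_cycle G (RepWith @IsClosedImmersion)
  obtain ⟨b1, b2⟩ := grp_separation_cycle G (RepWith @QuasiCompact)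
  obtain ⟨c1, c2⟩ := grp_separation_cycle G (RepWith @IsImmersion)
  obtain ⟨d1, d2⟩ := grp_separation_cycle G (Representable (S := S))
  -- the relative diagonal is representable
  have hdiag : Representable (pullback.diagonal G.hom) := by
    let m : pullback G.hom G.hom ⟶ G.left ⨯ G.left :=
      prod.lift (pullback.fst _ _) (pullback.snd _ _)
    have hmono : Mono m := by
      refine ⟨fun a b hab => ?_⟩
      apply pullback.hom_ext
      · have := congrArg (· ≫ prod.fst) hab
        simpa only [m, Category.assoc, prod.lift_fst] using this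
      · have := congrArg (· ≫ prod.snd) hab
        simpa only [m, Category.assoc, prod.lift_snd] using this
    have h2 : pullback.diagonal G.hom ≫ m = Limits.diag G.left := by
      apply Limits.prod.hom_ext
      · simp only [m, Category.assoc, prod.lift_fst, pullback.diagonal_fst, Limits.diag]
      · simp only [m, Category.assoc, prod.lift_snd, pullback.diagonal_snd, Limits.diag]
    have h1 := hG.diag
    rw [← h2] at h1
    exact representable_of_comp_mono _ m h1
  have hrep : Representable (η[G]).left := d1 hdiag
  refine ⟨⟨a1, a2⟩, ⟨fun h => ?_, fun h => b2 ?_⟩, c1⟩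
  · exact Groth.Agent.Lib.Helper30.isQuasiCompactMor_of_repWith (b1 h)
  · exact ⟨hrep, fun _ _ g fst snd sq =>
      Groth.Agent.Lib.Helper30.quasiCompact_of_isQuasiCompactMor h g fst snd sq⟩

end Sp

end Groth.Agent.Lib.Helper51.Gpd
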