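import Groth.Agent.Lib.Helper51.AlgSpGsectReduced
import Groth.Agent.Lib.Helper51.AlgSpPoints
import Groth.Prelude.Def_AlgSpDec

set_option autoImplicit false
universe u
open CategoryTheory CategoryTheory.Limits AlgebraicGeometry Topology TopologicalSpace
open AlgSp

namespace Groth.Agent.Lib.Helper51

variable {S : Scheme.{u}}

set_option backward.isDefEq.respectTransparency false

open Groth.Agent.Lib.Helper52 in
/-- restriction of a global section along a morphism of the small etale site. -/
theorem gsectEt_OEt_restrict {X : Sp S} (f : ↥(gsectEt (OEt X))) {E' E : EtOver X} (φ : E' ⟶ E) :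
    ((limit.π (OEt X).obj (Opposite.op E')) f).down =
      φ.hom.left.left.appTop.hom ((limit.π (OEt X).obj (Opposite.op E)) f).down := by
  have h := limit.w (OEt X).obj φ.op
  rw [← h]
  rfl

open Groth.Agent.Lib.Helper52 in
/-- the ring of global functions of an integral algebraic space is a domain. -/
theorem isDomain_gsectEt_of_isIntegralSp {X : Sp S} (hXa : IsAlgSpace X) (hX : IsIntegralSp X) :
    IsDomain ↥(gsectEt (OEt X)) := by
  obtain ⟨hred, -, hirr⟩ := hX
  let sec : ↥(gsectEt (OEt X)) → ∀ E : EtOver X, Γ(E.obj.left.left, ⊤) :=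
    fun h E => ((limit.π (OEt X).obj (Opposite.op E)) h).down
  let D : ↥(gsectEt (OEt X)) → Set (Points X) := fun h =>
    ⋃ E : EtOver X, Points.ofPt E.obj.hom '' (E.obj.left.left.basicOpen (sec h E) : Set _)
  have hDopen : ∀ h, IsOpen (D h) := fun h =>
    isOpen_iUnion fun E => isOpenMap_ofPt_of_etale E.obj.hom E.property _
      (E.obj.left.left.basicOpen (sec h E)).isOpen
  have hzero : ∀ h, D h = ∅ → h = 0 := by
    intro h hD
    refine (isReduced_gsectEt_of_isReducedSp hred).2 h fun E => ?_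
    rw [← TopologicalSpace.Opens.coe_eq_empty]
    by_contra hne
    obtain ⟨e, he⟩ := Set.nonempty_iff_ne_empty.2 hne
    have : Points.ofPt E.obj.hom e ∈ D h := Set.mem_iUnion.2 ⟨E, e, he, rfl⟩
    rw [hD] at this
    exact this
  have hnzd : NoZeroDivisors ↥(gsectEt (OEt X)) := by
    refine ⟨fun {f g} hfg => ?_⟩
    by_contra hcon
    rw [not_or] at hcon
    have hf : (D f).Nonempty := Set.nonempty_iff_ne_empty.2 fun h => hcon.1 (hzero f h)
    have hg : (D g).Nonempty := Set.nonempty_iff_ne_empty.2 fun h => hcon.2 (hzero g h)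
    obtain ⟨x, hxf, hxg⟩ := nonempty_preirreducible_inter (hDopen f) (hDopen g) hf hg
    obtain ⟨E₁, e₁, he₁, hx₁⟩ := Set.mem_iUnion.1 hxf
    obtain ⟨E₂, e₂, he₂, hx₂⟩ := Set.mem_iUnion.1 hxg
    have sq := E₂.property.1.isPullback' E₁.obj.hom
    obtain ⟨w, hw₂, hw₁⟩ := exists_of_ofPt_eq_ofPt sq (hx₂.trans hx₁.symm)
    let P := EtOver.prodObj E₁ E₂
    have h1 : sec f P = (EtOver.prodFst E₁ E₂).hom.left.left.appTop.hom (sec f E₁) :=
      gsectEt_OEt_restrict f (EtOver.prodFst E₁ E₂)
    have h2 : sec g P = (EtOver.prodSnd E₁ E₂).hom.left.left.appTop.hom (sec g E₂) :=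
      gsectEt_OEt_restrict g (EtOver.prodSnd E₁ E₂)
    have hwf : w ∈ P.obj.left.left.basicOpen (sec f P) := by
      rw [h1]
      have := Scheme.preimage_basicOpen_top (EtOver.prodFst E₁ E₂).hom.left.left (sec f E₁)
      rw [← this]
      show (E₂.property.1.snd E₁.obj.hom).left w ∈ E₁.obj.left.left.basicOpen (sec f E₁)
      rw [hw₁]
      exact he₁
    have hwg : w ∈ P.obj.left.left.basicOpen (sec g P) := by
      rw [h2]
      have := Scheme.preimage_basicOpen_top (EtOver.prodSnd E₁ E₂).hom.left.left (sec g E₂)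
      rw [← this]
      show (E₂.property.1.fst' E₁.obj.hom).left w ∈ E₂.obj.left.left.basicOpen (sec g E₂)
      rw [hw₂]
      exact he₂
    have hmul : sec (f * g) P = sec f P * sec g P := by
      change ((limit.π (OEt X).obj (Opposite.op P)) (f * g)).down = _
      rw [map_mul]
      rfl
    have hwfg : w ∈ P.obj.left.left.basicOpen (sec (f * g) P) := by
      rw [hmul, Scheme.basicOpen_mul]
      exact ⟨hwf, hwg⟩
    rw [hfg] at hwfg
    have h0 : sec 0 P = 0 := by
      change ((limit.π (OEt X).obj (Opposite.op P)) 0).down = _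
      rw [map_zero]
      rfl
    rw [h0, Scheme.basicOpen_zero] at hwfg
    exact hwfg
  have hnt : Nontrivial ↥(gsectEt (OEt X)) := by
    obtain ⟨U, a, ha, has⟩ := hXa.atlas
    obtain ⟨x⟩ := hirr.toNonempty
    obtain ⟨u, -⟩ := surjective_ofPt_of_repWith_surjective a has x
    haveI : Nonempty ↥U.left := ⟨u⟩
    haveI : Nonempty ↥(⊤ : U.left.Opens) := ⟨⟨u, trivial⟩⟩
    haveI : Nontrivial Γ(U.left, ⊤) := inferInstance
    refine ⟨⟨0, 1, fun h01 => ?_⟩⟩
    let E : EtOver X := EtOver.mk a ha
    have h3 : sec 0 E = sec 1 E := by rw [h01]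
    have h0 : sec 0 E = 0 := by
      change ((limit.π (OEt X).obj (Opposite.op E)) 0).down = _
      rw [map_zero]
      rfl
    have h1 : sec 1 E = 1 := by
      change ((limit.π (OEt X).obj (Opposite.op E)) 1).down = _
      rw [map_one]
      rfl
    rw [h0, h1] at h3
    exact zero_ne_one (α := Γ(U.left, ⊤)) h3
  exact NoZeroDivisors.to_isDomain _

end Groth.Agent.Lib.Helper51
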