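import Groth.Agent.Lib.Helper78.AlgSpReduced
import Groth.Prelude.Def_AlgSpOX

set_option autoImplicit false
universe u
open CategoryTheory CategoryTheory.Limits AlgebraicGeometry Topology TopologicalSpace
open AlgSp

namespace Groth.Agent.Lib.Helper51

variable {S : Scheme.{u}}

set_option backward.isDefEq.respectTransparency false

theorem isReduced_etOver {X : Sp S} (hX : IsReducedSp X) (E : EtOver X) :
    AlgebraicGeometry.IsReduced E.obj.left.left :=
  Groth.Agent.Lib.Helper78.AlgSpReduced.isReduced_of_chart hX E.obj.hom E.property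

theorem gsectEt_OEt_ext {X : Sp S} (f g : ↥(gsectEt (OEt X)))
    (h : ∀ E : EtOver X, (limit.π (OEt X).obj (Opposite.op E)) f =
      (limit.π (OEt X).obj (Opposite.op E)) g) : f = g := by
  apply Concrete.limit_ext (OEt X).obj f g
  intro j
  exact h j.unop

theorem isReduced_OEt_obj {X : Sp S} (hX : IsReducedSp X) (E : EtOver X) :
    _root_.IsReduced ((OEt X).obj.obj (Opposite.op E)) := by
  have := isReduced_etOver hX E
  have h2 : _root_.IsReduced Γ(E.obj.left.left, ⊤) := inferInstance
  change _root_.IsReduced (ULift.{u + 1} Γ(E.obj.left.left, ⊤))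
  exact isReduced_of_injective (ULift.ringEquiv (R := Γ(E.obj.left.left, ⊤))).toRingHom
    (ULift.ringEquiv (R := Γ(E.obj.left.left, ⊤))).injective

theorem isReduced_gsectEt_of_isReducedSp {X : Sp S} (hX : IsReducedSp X) :
    _root_.IsReduced ↥(gsectEt (OEt X)) ∧
      ∀ f : ↥(gsectEt (OEt X)),
        (∀ E : EtOver X,
            E.obj.left.left.basicOpen ((limit.π (OEt X).obj (Opposite.op E)) f).down = ⊥) →
          f = 0 := by
  refine ⟨⟨?_⟩, ?_⟩
  · intro x hx
    apply gsectEt_OEt_ext
    intro E
    have := isReduced_OEt_obj hX E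
    rw [map_zero]
    exact (hx.map (limit.π (OEt X).obj (Opposite.op E)).hom).eq_zero
  · intro f hf
    apply gsectEt_OEt_ext
    intro E
    rw [map_zero]
    have := isReduced_etOver hX E
    have h1 := (AlgebraicGeometry.basicOpen_eq_bot_iff (X := E.obj.left.left) (U := ⊤) _).mp (hf E)
    apply ULift.ext
    exact h1

end Groth.Agent.Lib.Helper51
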