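import Groth.Agent.Lib.Helper51.AlgSpClosedSub
import Groth.Agent.Lib.Helper51.AlgSpQuotField4
import Groth.Agent.Lib.Helper78.AlgSpZar
import Groth.Agent.Lib.Helper30.AlgSpCoprod
import Groth.Prelude.Def_AlgSpModX

set_option autoImplicit false
set_option linter.unusedSectionVars false
universe u
open CategoryTheory CategoryTheory.Limits AlgebraicGeometry Opposite

set_option backward.isDefEq.respectTransparency false

namespace Groth.Agent.Lib.Helper51.IdealFac

open AlgSp Groth.Agent.Lib.Helper52 Groth.Agent.Lib.Helper51 Groth.Agent.Lib.Helper51.ClosedSub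

variable {S : Scheme.{u}}

/-- every point of a scheme over an algebraic space has an etale neighbourhood mapping to an
affine etale chart of the space. -/
theorem exists_affine_chart_nbhd {X : AlgSp.Sp S} (hX : AlgSp.IsAlgSpace X) {T : Over S}
    (h : (AlgSp.yon S).obj T ⟶ X) (t : ↥T.left) :
    ∃ (E : AlgSp.EtOver X) (_ : IsAffine E.obj.left.left) (T' : Over S) (k : T' ⟶ T)
      (e : T' ⟶ E.obj.left), Etale k.left ∧ t ∈ Set.range k.left ∧
        (AlgSp.yon S).map k ≫ h = (AlgSp.yon S).map e ≫ E.obj.hom := by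
  obtain ⟨U, φ, u, hU, hφ, hu⟩ := exists_affine_etale_chart_at hX (Points.ofPt h t)
  obtain ⟨W, ψ1, ψ2, sq⟩ := exists_isPullback_of_representable hφ.1 h
  obtain ⟨w, hw1, hw2⟩ := exists_of_ofPt_eq_ofPt sq hu
  have het : Etale ψ2.left := hφ.2 h _ ψ2 sq
  exact ⟨AlgSp.EtOver.mk φ hφ, hU, W, ψ2, ψ1, het, ⟨w, hw2⟩, sq.w.symm⟩

/-- a factorization gives an inclusion of the ideal families. -/
theorem idealOfRep_le_of_factor {Z X F : AlgSp.Sp S} (i : Z ⟶ X) (hi : AlgSp.Representable i)
    (g : F ⟶ X) (hg : AlgSp.Representable g) (k : F ⟶ Z) (hk : k ≫ i = g) :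
    AlgSp.idealOfRep hi ≤ AlgSp.idealOfRep hg := by
  intro E hE x hx
  have sqg := AlgSp.EtOver.isPullback_bcObj hg E
  have sqi := AlgSp.EtOver.isPullback_bcObj hi E
  have hcomm : ((AlgSp.EtOver.bcObj hg E).obj.hom ≫ k) ≫ i =
      (AlgSp.yon S).map (AlgSp.EtOver.bcπ hg E) ≫ E.obj.hom := by
    rw [Category.assoc, hk, sqg.w]
  let l0 := sqi.lift _ _ hcomm
  have hl0 : l0 ≫ (AlgSp.yon S).map (AlgSp.EtOver.bcπ hi E) =
      (AlgSp.yon S).map (AlgSp.EtOver.bcπ hg E) := sqi.lift_snd _ _ _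
  have hl : (AlgSp.yon S).preimage l0 ≫ AlgSp.EtOver.bcπ hi E = AlgSp.EtOver.bcπ hg E :=
    (AlgSp.yon S).map_injective (by rw [Functor.map_comp, Functor.map_preimage]; exact hl0)
  change x ∈ RingHom.ker (AlgSp.EtOver.bcπ hi E).left.appTop.hom at hx
  change x ∈ RingHom.ker (AlgSp.EtOver.bcπ hg E).left.appTop.hom
  rw [RingHom.mem_ker] at hx ⊢
  rw [← hl, Over.comp_left, Scheme.Hom.comp_appTop, CommRingCat.hom_comp, RingHom.comp_apply, hx,
    map_zero]

/-- an inclusion of ideal families gives a factorization through the closed subspace. -/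
theorem exists_factor_of_idealOfRep_le {Z X F : AlgSp.Sp S} (hX : AlgSp.IsAlgSpace X) (i : Z ⟶ X)
    (hi : AlgSp.RepWith @IsClosedImmersion i) (g : F ⟶ X) (hg : AlgSp.Representable g)
    (hle : AlgSp.idealOfRep hi.1 ≤ AlgSp.idealOfRep hg) : ∃ k : F ⟶ Z, k ≫ i = g := by
  have himono : Mono i := mono_of_repWith_isClosedImmersion i hi
  have hiso : IsIso (pullback.snd i g) := by
    apply Groth.Agent.Lib.Helper30.Coprod.isIso_of_mono_of_locally_lifts
    intro V σ
    choose E hE T' kk e het hmem hcomm using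
      fun v : ↥V.left => exists_affine_chart_nbhd hX (σ ≫ g) v
    refine ⟨Sieve.generate (Presieve.ofArrows T' kk),
      Groth.Agent.Lib.Helper78.AlgSpZar.generate_ofArrows_mem_J T' kk
        (fun v => by have := het v; infer_instance) (fun v => by have := het v; infer_instance)
        (fun v => ⟨v, hmem v⟩), ?_⟩
    rintro V' _ ⟨Y, h', _, ⟨v⟩, rfl⟩
    have sqi := AlgSp.EtOver.isPullback_bcObj hi.1 (E v)
    have sqg := AlgSp.EtOver.isPullback_bcObj hg (E v)
    have hc : IsClosedImmersion (AlgSp.EtOver.bcπ hi.1 (E v)).left := hi.property _ _ _ sqi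
    have hker : (AlgSp.EtOver.bcπ hi.1 (E v)).left.ker ≤ (e v).left.ker := by
      have h1 : (AlgSp.EtOver.bcπ hi.1 (E v)).left.ker ≤ (AlgSp.EtOver.bcπ hg (E v)).left.ker := by
        have := hE v
        rw [Scheme.ker_of_isAffine, Scheme.ker_of_isAffine]
        apply Scheme.IdealSheafData.le_of_isAffine
        simp only [Scheme.IdealSheafData.ofIdealTop_ideal]
        exact Ideal.map_mono (hle (E v) (hE v))
      have hcomm' : ((AlgSp.yon S).map (kk v) ≫ σ) ≫ g =
          (AlgSp.yon S).map (e v) ≫ (E v).obj.hom := by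
        rw [Category.assoc]; exact hcomm v
      let l0 := sqg.lift _ _ hcomm'
      have hl0 : l0 ≫ (AlgSp.yon S).map (AlgSp.EtOver.bcπ hg (E v)) = (AlgSp.yon S).map (e v) :=
        sqg.lift_snd _ _ _
      have hl : (AlgSp.yon S).preimage l0 ≫ AlgSp.EtOver.bcπ hg (E v) = e v :=
        (AlgSp.yon S).map_injective (by rw [Functor.map_comp, Functor.map_preimage]; exact hl0)
      refine h1.trans ?_
      rw [← hl, Over.comp_left]
      exact Scheme.Hom.le_ker_comp _ _
    obtain ⟨φ, hφ⟩ := (exists_factor_iff i (E v).obj.hom (AlgSp.EtOver.bcπ hi.1 (E v)) hc _ sqi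
      (e v)).2 hker
    refine ⟨(AlgSp.yon S).map h' ≫ pullback.lift φ ((AlgSp.yon S).map (kk v) ≫ σ)
      (by rw [hφ, ← hcomm v, Category.assoc]), ?_⟩
    rw [Category.assoc, pullback.lift_snd, Functor.map_comp, Category.assoc]
  refine ⟨inv (pullback.snd i g) ≫ pullback.fst i g, ?_⟩
  rw [Category.assoc, pullback.condition, IsIso.inv_hom_id_assoc]

end Groth.Agent.Lib.Helper51.IdealFac
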