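import Mathlib
import Groth.Agent.Lib.Helper20.IdealComap

set_option autoImplicit false
universe u
open CategoryTheory CategoryTheory.Limits AlgebraicGeometry Opposite

namespace Groth.Agent.Lib.Helper51.IdealDesc

/-- local form of faithfully flat descent for ideal membership. -/
theorem exists_mul_mem_of_map_mem_map {A B : Type u} [CommRing A] [CommRing B] (φ : A →+* B)
    (hφ : φ.Flat) (q : Ideal B) [q.IsPrime] (I : Ideal A) (x : A) (hx : φ x ∈ I.map φ) :
    ∃ s : A, s ∉ q.comap φ ∧ s * x ∈ I := by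
  set p := q.comap φ with hp
  have hψ := RingHom.Flat.localRingHom hφ q p hp
  set ψ := Localization.localRingHom p q φ hp with hψdef
  have hloc : IsLocalHom ψ := Localization.isLocalHom_localRingHom p q φ hp
  algebraize [ψ]
  have hff : Module.FaithfullyFlat (Localization.AtPrime p) (Localization.AtPrime q) :=
    Module.FaithfullyFlat.of_flat_of_isLocalHom
  let I' : Ideal (Localization.AtPrime p) := I.map (algebraMap A (Localization.AtPrime p))
  have h1 : ψ (algebraMap A _ x) ∈ I'.map ψ := by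
    rw [hψdef, Localization.localRingHom_to_map]
    have : I'.map ψ = (I.map φ).map (algebraMap B (Localization.AtPrime q)) := by
      rw [Ideal.map_map, Ideal.map_map]
      congr 1
      ext a
      simp only [RingHom.comp_apply]
      rw [hψdef, Localization.localRingHom_to_map]
    rw [this]
    exact Ideal.mem_map_of_mem _ hx
  have h2 : algebraMap A (Localization.AtPrime p) x ∈ I' := by
    have h3 := Ideal.comap_map_eq_self_of_faithfullyFlat (B := Localization.AtPrime q) I'
    rw [← h3]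
    exact h1
  rw [IsLocalization.algebraMap_mem_map_algebraMap_iff p.primeCompl] at h2
  obtain ⟨s, hs, hsx⟩ := h2
  exact ⟨s, hs, hsx⟩

open AlgebraicGeometry.Scheme in
/-- faithfully flat descent for inclusions of ideal sheaves. -/
theorem le_of_comap_le_of_flat_surjective {W U : Scheme.{u}} (p : W ⟶ U) [Flat p] [Surjective p]
    (I J : U.IdealSheafData) (h : J.comap p ≤ I.comap p) : J ≤ I := by
  intro V x hx
  by_contra hxI
  have hV : IsAffineOpen V.1 := V.2
  let K : Ideal Γ(U, V.1) := (I.ideal V).colon ({x} : Set Γ(U, V.1))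
  have hK : K ≠ ⊤ := by
    intro hK
    have h1 : (1 : Γ(U, V.1)) ∈ K := by rw [hK]; trivial
    rw [Submodule.mem_colon_singleton] at h1
    apply hxI
    simpa using h1
  obtain ⟨M, hM, hKM⟩ := Ideal.exists_le_maximal K hK
  let P : PrimeSpectrum Γ(U, V.1) := ⟨M, hM.isPrime⟩
  let v : ↥V.1 := hV.isoSpec.inv P
  have hv : hV.primeIdealOf v = P := by
    change hV.isoSpec.hom (hV.isoSpec.inv P) = P
    have := Scheme.Hom.comp_apply hV.isoSpec.inv hV.isoSpec.hom P
    rw [← this, Iso.inv_hom_id]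
    rfl
  obtain ⟨w, hw⟩ := Surjective.surj (f := p) v.1
  have hwV : w ∈ p ⁻¹ᵁ V.1 := by
    change p w ∈ V.1
    rw [hw]; exact v.2
  obtain ⟨_, ⟨U', hU', rfl⟩, hwU', hU'V⟩ :=
    W.isBasis_affineOpens.exists_subset_of_mem_open hwV (p ⁻¹ᵁ V.1).isOpen
  have e : U' ≤ p ⁻¹ᵁ V.1 := hU'V
  have hφ : (p.appLE V.1 U' e).hom.Flat :=
    HasRingHomProperty.appLE (P := @Flat) p inferInstance V ⟨U', hU'⟩ e
  have hq := IsAffineOpen.comap_primeIdealOf_appLE V.1 hV U' hU' e hwU'
  have hmem : (p.appLE V.1 U' e).hom x ∈ (I.ideal V).map (p.appLE V.1 U' e).hom := by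
    have h1 := h ⟨U', hU'⟩
    rw [Groth.Agent.Lib.Helper20.ideal_comap p J ⟨U', hU'⟩ V e,
      Groth.Agent.Lib.Helper20.ideal_comap p I ⟨U', hU'⟩ V e] at h1
    exact h1 (Ideal.mem_map_of_mem _ hx)
  obtain ⟨s, hs, hsx⟩ := exists_mul_mem_of_map_mem_map (p.appLE V.1 U' e).hom hφ
    (hU'.primeIdealOf ⟨w, hwU'⟩).asIdeal (I.ideal V) x hmem
  apply hs
  have h2 : (hU'.primeIdealOf ⟨w, hwU'⟩).asIdeal.comap (p.appLE V.1 U' e).hom =
      (hV.primeIdealOf ⟨p w, e hwU'⟩).asIdeal := congrArg PrimeSpectrum.asIdeal hq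
  rw [h2]
  have h3 : (⟨p w, e hwU'⟩ : ↥V.1) = v := Subtype.ext hw
  rw [h3, hv]
  apply hKM
  change s ∈ (I.ideal V).colon ({x} : Set Γ(U, V.1))
  rw [Submodule.mem_colon_singleton]
  exact hsx

open AlgebraicGeometry.Scheme in
theorem eq_of_comap_eq_of_flat_surjective {W U : Scheme.{u}} (p : W ⟶ U) [Flat p] [Surjective p]
    (I J : U.IdealSheafData) (h : J.comap p = I.comap p) : J = I :=
  le_antisymm (le_of_comap_le_of_flat_surjective p I J h.le)
    (le_of_comap_le_of_flat_surjective p J I h.ge)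

end Groth.Agent.Lib.Helper51.IdealDesc
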