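import Groth.Agent.Lib.Helper51.AlgSpIdealFac
import Groth.Agent.Lib.Helper51.IdealDesc

set_option autoImplicit false
set_option linter.unusedSectionVars false
universe u
open CategoryTheory CategoryTheory.Limits AlgebraicGeometry Opposite

set_option backward.isDefEq.respectTransparency false

namespace Groth.Agent.Lib.Helper51.IdealShf

open AlgSp Groth.Agent.Lib.Helper52 Groth.Agent.Lib.Helper51 Groth.Agent.Lib.Helper51.ClosedSub

variable {S : Scheme.{u}} {X : AlgSp.Sp S}

/-- restriction of an object of the small etale site to an open subscheme. -/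
noncomputable def resEt (E : AlgSp.EtOver X) (V : E.obj.left.left.Opens) : AlgSp.EtOver X :=
  AlgSp.EtOver.mk ((AlgSp.yon S).map (opensOverι E.obj.left V) ≫ E.obj.hom)
    (repWith_etale_yon_map_comp (opensOverι E.obj.left V) inferInstance E.obj.hom E.property)

/-- the inclusion of the restriction. -/
noncomputable def resEtι (E : AlgSp.EtOver X) (V : E.obj.left.left.Opens) : resEt E V ⟶ E :=
  AlgSp.EtOver.homMk (opensOverι E.obj.left V) rfl

/-- a morphism of schemes over `S` restricts to open subschemes. -/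
noncomputable def resOver {A' A : Over S} (γ : A' ⟶ A) (V : A.left.Opens) (U' : A'.left.Opens)
    (e : U' ≤ γ.left ⁻¹ᵁ V) : opensOver A' U' ⟶ opensOver A V :=
  Over.homMk (γ.left.resLE V U' e) (by
    change γ.left.resLE V U' e ≫ V.ι ≫ A.hom = U'.ι ≫ A'.hom
    rw [← Category.assoc, Scheme.Hom.resLE_comp_ι, Category.assoc, Over.w γ])

theorem resOver_comp_ι {A' A : Over S} (γ : A' ⟶ A) (V : A.left.Opens) (U' : A'.left.Opens)
    (e : U' ≤ γ.left ⁻¹ᵁ V) : resOver γ V U' e ≫ opensOverι A V = opensOverι A' U' ≫ γ :=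
  Over.OverMorphism.ext (Scheme.Hom.resLE_comp_ι _ _)

/-- a morphism of the small etale site restricts to open subschemes. -/
noncomputable def resEtHom {E' E : AlgSp.EtOver X} (g : E' ⟶ E) (V : E.obj.left.left.Opens)
    (U' : E'.obj.left.left.Opens) (e : U' ≤ g.hom.left.left ⁻¹ᵁ V) : resEt E' U' ⟶ resEt E V :=
  AlgSp.EtOver.homMk (resOver g.hom.left V U' e) (by
    change (AlgSp.yon S).map (resOver g.hom.left V U' e) ≫
      (AlgSp.yon S).map (opensOverι E.obj.left V) ≫ E.obj.hom =
        (AlgSp.yon S).map (opensOverι E'.obj.left U') ≫ E'.obj.hom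
    rw [← AlgSp.EtOver.w g, ← Category.assoc, ← Category.assoc, ← Functor.map_comp,
      ← Functor.map_comp, resOver_comp_ι])

theorem resEtHom_left_left {E' E : AlgSp.EtOver X} (g : E' ⟶ E) (V : E.obj.left.left.Opens)
    (U' : E'.obj.left.left.Opens) (e : U' ≤ g.hom.left.left ⁻¹ᵁ V) :
    (resEtHom g V U' e).hom.left.left = g.hom.left.left.resLE V U' e := rfl

theorem ideal_eq_map (I : AlgSp.IdealEt X) (hI : I.IsQCoh) {E' E : AlgSp.EtOver X} (g : E' ⟶ E)
    (hE : IsAffine E.obj.left.left) (hE' : IsAffine E'.obj.left.left) :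
    I.ideal E' hE' = (I.ideal E hE).map g.hom.left.left.appTop.hom :=
  le_antisymm (hI g hE hE') (I.map_le g hE hE')

theorem comm_topIso {Y' Y : Scheme.{u}} (γ : Y' ⟶ Y) (V : Y.Opens) (U' : Y'.Opens)
    (e : U' ≤ γ ⁻¹ᵁ V) :
    (γ.resLE V U' e).appTop ≫ U'.topIso.hom = V.topIso.hom ≫ γ.appLE V U' e := by
  rw [Scheme.Hom.appTop, Scheme.Hom.resLE_app_top]
  simp

theorem map_topIso_ideal (I : AlgSp.IdealEt X) (hI : I.IsQCoh) {E' E : AlgSp.EtOver X} (g : E' ⟶ E)
    (V : E.obj.left.left.Opens) (U' : E'.obj.left.left.Opens) (e : U' ≤ g.hom.left.left ⁻¹ᵁ V)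
    (hV : IsAffineOpen V) (hU' : IsAffineOpen U') :
    ((I.ideal (resEt E V) hV).map V.topIso.hom.hom).map (g.hom.left.left.appLE V U' e).hom =
      (I.ideal (resEt E' U') hU').map U'.topIso.hom.hom := by
  rw [ideal_eq_map I hI (resEtHom g V U' e) hV hU', Ideal.map_map, Ideal.map_map]
  congr 1
  rw [← CommRingCat.hom_comp, ← CommRingCat.hom_comp, resEtHom_left_left, comm_topIso]

/-- the ideal sheaf on a chart defined by a quasi-coherent family of ideals. -/
noncomputable def sheafData (I : AlgSp.IdealEt X) (hI : I.IsQCoh) (E : AlgSp.EtOver X) :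
    E.obj.left.left.IdealSheafData where
  ideal V := (I.ideal (resEt E V.1) V.2).map V.1.topIso.hom.hom
  map_ideal_basicOpen V f := by
    have e : E.obj.left.left.basicOpen f ≤ (𝟙 E : E ⟶ E).hom.left.left ⁻¹ᵁ V.1 :=
      E.obj.left.left.basicOpen_le f
    have h := map_topIso_ideal I hI (𝟙 E) V.1 (E.obj.left.left.basicOpen f) e V.2
      (E.obj.left.left.affineBasicOpen f).2
    have key : (E.obj.left.left.presheaf.map (homOfLE (E.obj.left.left.basicOpen_le f)).op).hom =
        ((𝟙 E : E ⟶ E).hom.left.left.appLE V.1 (E.obj.left.left.basicOpen f) e).hom := by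
      change _ = ((𝟙 E.obj.left.left : E.obj.left.left ⟶ E.obj.left.left).appLE V.1
        (E.obj.left.left.basicOpen f) e).hom
      simp [Scheme.Hom.appLE]
    rw [key]
    exact h

theorem sheafData_ideal (I : AlgSp.IdealEt X) (hI : I.IsQCoh) (E : AlgSp.EtOver X)
    (V : E.obj.left.left.affineOpens) :
    (sheafData I hI E).ideal V = (I.ideal (resEt E V.1) V.2).map V.1.topIso.hom.hom := rfl

/-- the ideal sheaves on the charts are compatible with pullback. -/
theorem sheafData_comap (I : AlgSp.IdealEt X) (hI : I.IsQCoh) {E' E : AlgSp.EtOver X}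
    (g : E' ⟶ E) : (sheafData I hI E).comap g.hom.left.left = sheafData I hI E' := by
  apply Scheme.IdealSheafData.ext_of_iSup_eq_top
    (fun i : {p : E'.obj.left.left.affineOpens × E.obj.left.left.affineOpens //
      p.1.1 ≤ g.hom.left.left ⁻¹ᵁ p.2.1} => i.1.1)
    (Groth.Agent.Lib.Helper20.iSup_affine_charts_eq_top g.hom.left.left)
  rintro ⟨⟨U', V⟩, e⟩
  rw [Groth.Agent.Lib.Helper20.ideal_comap g.hom.left.left _ U' V e, sheafData_ideal,
    sheafData_ideal]
  exact map_topIso_ideal I hI g V.1 U'.1 e V.2 U'.2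

/-- on an affine chart the ideal sheaf is the one generated by the given ideal. -/
theorem sheafData_of_isAffine (I : AlgSp.IdealEt X) (hI : I.IsQCoh) (E : AlgSp.EtOver X)
    (hE : IsAffine E.obj.left.left) :
    sheafData I hI E = Scheme.IdealSheafData.ofIdealTop (I.ideal E hE) := by
  apply Scheme.IdealSheafData.ext_of_isAffine
  rw [sheafData_ideal, Scheme.IdealSheafData.ofIdealTop_ideal,
    ideal_eq_map I hI (resEtι E ⊤) hE (isAffineOpen_top _), Ideal.map_map]
  congr 1
  rw [← CommRingCat.hom_comp]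
  congr 1
  change (⊤ : E.obj.left.left.Opens).ι.appTop ≫ (⊤ : E.obj.left.left.Opens).topIso.hom = _
  rw [Scheme.Opens.ι_appTop, Scheme.Opens.topIso_hom, ← Functor.map_comp]
  rfl

end Groth.Agent.Lib.Helper51.IdealShf
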