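import Groth.Agent.Lib.Helper51.AlgSpRedInduced
import Groth.Agent.Lib.Helper30.AlgSpMor
import Groth.Agent.Lib.Helper30.AlgSpDesc
import Groth.Agent.S4667

set_option autoImplicit false
set_option linter.unusedSectionVars false
universe u
open CategoryTheory CategoryTheory.Limits AlgebraicGeometry Opposite

set_option backward.isDefEq.respectTransparency false

namespace Groth.Agent.Lib.Helper51.ImmFactor

open AlgSp Groth.Agent.Lib.Helper52 Groth.Agent.Lib.Helper51 Groth.Agent.Lib.Helper51.RedInd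

variable {S : Scheme.{u}}

/-- A morphism factors through a closed immersion as soon as its restriction along a scheme
theoretically dominant morphism does. -/
theorem exists_lift_of_dominant {A P Zb U : Scheme.{u}} (d : A ⟶ P)
    [IsSchemeTheoreticallyDominant d] (q : P ⟶ U) (c : Zb ⟶ U) [IsClosedImmersion c]
    (θ : A ⟶ Zb) (h : θ ≫ c = d ≫ q) : ∃ l : P ⟶ Zb, l ≫ c = q := by
  have hk : c.ker ≤ q.ker := by
    have h1 : c.ker ≤ (θ ≫ c).ker := Scheme.Hom.le_ker_comp θ c
    rw [h, Scheme.Hom.ker_comp, d.ker_eq_bot, Scheme.IdealSheafData.map_bot] at h1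
    exact h1
  exact ⟨IsClosedImmersion.lift c q hk, IsClosedImmersion.lift_fac c q hk⟩

end Groth.Agent.Lib.Helper51.ImmFactor

namespace Groth.Agent.Lib.Helper51.ImmFactor

open AlgSp Groth.Agent.Lib.Helper52 Groth.Agent.Lib.Helper51 Groth.Agent.Lib.Helper51.RedInd

variable {S : Scheme.{u}}

/-- A quasi-compact immersion into an algebraic space factors as an open immersion followed
by a closed immersion. -/
theorem exists_open_closed_factorization {Z X : AlgSp.Sp S} (hX : AlgSp.IsAlgSpace X)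
    (i : Z ⟶ X) (hi : AlgSp.RepWith @IsImmersion i) (hq : AlgSp.IsQuasiCompactMor i) :
    ∃ (Zbar : AlgSp.Sp S) (_ : AlgSp.IsAlgSpace Zbar) (j : Z ⟶ Zbar) (c : Zbar ⟶ X),
      j ≫ c = i ∧ AlgSp.RepWith @IsOpenImmersion j ∧ AlgSp.RepWith @IsClosedImmersion c := by
  obtain ⟨U, a, ha, has⟩ := hX.atlas
  -- the chart of `Z`
  let ZU : Over S := hi.rep.pullback a
  let g : (AlgSp.yon S).obj ZU ⟶ Z := hi.rep.fst a
  let iU : ZU ⟶ U := hi.rep.snd a
  have sq0 : IsPullback g ((AlgSp.yon S).map iU) i a := hi.rep.isPullback a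
  have hiU : IsImmersion iU.left := hi.property a g iU sq0
  have hqU : QuasiCompact iU.left :=
    Groth.Agent.Lib.Helper30.quasiCompact_of_isQuasiCompactMor hq a g iU sq0
  -- the scheme theoretic image in the chart
  let ZbU : Over S := Over.mk (iU.left.imageι ≫ U.hom)
  let c' : ZbU ⟶ U := Over.homMk iU.left.imageι rfl
  let d' : ZU ⟶ ZbU := Over.homMk iU.left.toImage (by
    change iU.left.toImage ≫ iU.left.imageι ≫ U.hom = ZU.hom
    rw [← Category.assoc, Scheme.Hom.toImage_imageι]
    exact Over.w iU)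
  have hd'c' : d' ≫ c' = iU := Over.OverMorphism.ext iU.left.toImage_imageι
  have hc'ci : IsClosedImmersion c'.left := inferInstanceAs (IsClosedImmersion iU.left.imageι)
  have hd'oi : IsOpenImmersion d'.left := inferInstanceAs (IsOpenImmersion iU.left.toImage)
  have hd'dom : IsSchemeTheoreticallyDominant d'.left :=
    Groth.Agent.S4667.isSchemeTheoreticallyDominant_toImage iU.left
  have hd'qc : QuasiCompact d'.left := inferInstanceAs (QuasiCompact iU.left.toImage)
  have hc'rep : AlgSp.RepWith @IsClosedImmersion ((AlgSp.yon S).map c') :=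
    (AlgSp.repWith_yon_map_iff @IsClosedImmersion c').2 hc'ci
  have hd'rep : AlgSp.RepWith @IsOpenImmersion ((AlgSp.yon S).map d') :=
    (AlgSp.repWith_yon_map_iff @IsOpenImmersion d').2 hd'oi
  have hc'mono : Mono ((AlgSp.yon S).map c') :=
    mono_of_repWith (P := @IsClosedImmersion)
      (fun g (_ : IsClosedImmersion g) => inferInstance) hc'rep
  let ξ : (AlgSp.yon S).obj ZbU ⟶ X := (AlgSp.yon S).map c' ≫ a
  obtain ⟨P, q, p1, sqP0⟩ := exists_isPullback_of_representable ha.rep ξ
  have hp1e : Etale p1.left := ha.property ξ _ p1 sqP0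
  have hp1s : Surjective p1.left := has.property ξ _ p1 sqP0
  -- invariance: `q` factors through the image
  have hfl : Flat p1.left := inferInstance
  let dP : pullback d'.left p1.left ⟶ P.left := pullback.snd d'.left p1.left
  have hdPdom : IsSchemeTheoreticallyDominant dP :=
    IsSchemeTheoreticallyDominant.pullbackSnd d'.left p1.left
  let ZP : Over S := Over.mk (dP ≫ P.hom)
  let dP' : ZP ⟶ P := Over.homMk dP rfl
  let e' : ZP ⟶ ZU := Over.homMk (pullback.fst d'.left p1.left) (by
    change pullback.fst d'.left p1.left ≫ ZU.hom = dP ≫ P.hom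
    rw [← Over.w d', ← Over.w p1, ← Category.assoc, ← Category.assoc, pullback.condition])
  have he' : e' ≫ d' = dP' ≫ p1 := Over.OverMorphism.ext pullback.condition
  have hcomm : ((AlgSp.yon S).map e' ≫ g) ≫ i = (AlgSp.yon S).map (dP' ≫ q) ≫ a := by
    calc ((AlgSp.yon S).map e' ≫ g) ≫ i
        = (AlgSp.yon S).map e' ≫ (AlgSp.yon S).map iU ≫ a := by
          rw [Category.assoc, sq0.w]
      _ = (AlgSp.yon S).map (e' ≫ d') ≫ ξ := by
          rw [← hd'c', Functor.map_comp, Functor.map_comp, Category.assoc, Category.assoc]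
      _ = (AlgSp.yon S).map dP' ≫ (AlgSp.yon S).map p1 ≫ ξ := by
          rw [he', Functor.map_comp, Category.assoc]
      _ = (AlgSp.yon S).map (dP' ≫ q) ≫ a := by
          rw [← sqP0.w, Functor.map_comp, Category.assoc]
  let θ0 : (AlgSp.yon S).obj ZP ⟶ (AlgSp.yon S).obj ZU := sq0.lift _ _ hcomm
  have hθ0 : θ0 ≫ (AlgSp.yon S).map iU = (AlgSp.yon S).map (dP' ≫ q) := sq0.lift_snd _ _ _
  let θ : ZP ⟶ ZU := (AlgSp.yon S).preimage θ0
  have hθ : θ ≫ iU = dP' ≫ q := (AlgSp.yon S).map_injective (by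
    rw [Functor.map_comp, Functor.map_preimage]; exact hθ0)
  have hθl : (θ.left ≫ d'.left) ≫ c'.left = dP ≫ q.left := by
    have h1 := congrArg CommaMorphism.left hθ
    rw [← hd'c'] at h1
    rw [Category.assoc]
    exact h1
  obtain ⟨l0, hl0⟩ := exists_lift_of_dominant dP q.left c'.left (θ.left ≫ d'.left) hθl
  let l : P ⟶ ZbU := Over.homMk l0 (by
    change l0 ≫ iU.left.imageι ≫ U.hom = P.hom
    rw [← Category.assoc]
    have : l0 ≫ iU.left.imageι = q.left := hl0
    rw [this]
    exact Over.w q)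
  have hl : l ≫ c' = q := Over.OverMorphism.ext hl0
  have hlY : (AlgSp.yon S).map l ≫ (AlgSp.yon S).map c' = (AlgSp.yon S).map q := by
    rw [← Functor.map_comp, hl]
  have sqK : IsPullback ((AlgSp.yon S).map p1) ((AlgSp.yon S).map l) ξ ξ :=
    isPullback_kernelPair_of_factor sqP0.flip ((AlgSp.yon S).map c') rfl _ hlY
  have hfac : Sheaf.toImage ξ ≫ Sheaf.imageι ξ = ξ := Sheaf.toImage_ι ξ
  have sqz : IsPullback ((AlgSp.yon S).map l) ((AlgSp.yon S).map p1) (Sheaf.toImage ξ)
      (Sheaf.toImage ξ) := by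
    apply isPullback_of_comp_mono (Sheaf.imageι ξ)
    rw [hfac]
    exact sqK.flip
  obtain ⟨hZb, hze, hzs⟩ := isAlgSpace_of_epi_of_etale_kernelPair hX (Sheaf.imageι ξ)
    (Sheaf.toImage ξ) l p1 sqz hp1e hp1s
  have sqI : IsPullback (Sheaf.toImage ξ) ((AlgSp.yon S).map c') (Sheaf.imageι ξ) a := by
    refine isPullback_image_of_factor (Sheaf.toImage ξ) (Sheaf.imageι ξ) a ((AlgSp.yon S).map c')
      hfac.symm (p1 := (AlgSp.yon S).map p1) (q := (AlgSp.yon S).map q) ?_ ((AlgSp.yon S).map l)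
      hlY sqz.w
    rw [hfac]
    exact sqP0.flip
  have hci : AlgSp.RepWith @IsClosedImmersion (Sheaf.imageι ξ) :=
    Groth.Agent.Lib.Helper30.AffDesc.repWith_isClosedImmersion_of_etale_cover (Sheaf.imageι ξ)
      U a ha has (Sheaf.toImage ξ) ((AlgSp.yon S).map c') sqI hc'rep
  -- the factorization
  have hge : AlgSp.RepWith @Etale g := MorphismProperty.of_isPullback sq0.flip ha
  have hgs : AlgSp.RepWith @Surjective g := MorphismProperty.of_isPullback sq0.flip has
  have hgepi : Epi g := Groth.Agent.Lib.Helper30.epi_of_repWith_etale_surjective g hge hgs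
  have hsq : g ≫ i = ((AlgSp.yon S).map d' ≫ Sheaf.toImage ξ) ≫ Sheaf.imageι ξ := by
    rw [Category.assoc, hfac, sq0.w, ← hd'c', Functor.map_comp, Category.assoc]
  have hstrong : StrongEpi g := strongEpi_of_epi g
  have csq : CommSq ((AlgSp.yon S).map d' ≫ Sheaf.toImage ξ) g (Sheaf.imageι ξ) i := ⟨hsq.symm⟩
  let j : Z ⟶ Sheaf.image ξ := csq.lift
  have hj1 : g ≫ j = (AlgSp.yon S).map d' ≫ Sheaf.toImage ξ := csq.fac_left
  have hj2 : j ≫ Sheaf.imageι ξ = i := csq.fac_right
  have sqJ : IsPullback g ((AlgSp.yon S).map d') j (Sheaf.toImage ξ) := by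
    have big : IsPullback ((AlgSp.yon S).map d' ≫ (AlgSp.yon S).map c') g a
        (j ≫ Sheaf.imageι ξ) := by
      rw [hj2, ← Functor.map_comp, hd'c']
      exact sq0.flip
    exact (IsPullback.of_right big hj1.symm sqI.flip).flip
  have hjo : AlgSp.RepWith @IsOpenImmersion j :=
    Groth.Agent.Lib.Helper30.AffDesc.repWith_isOpenImmersion_of_etale_cover j ZbU
      (Sheaf.toImage ξ) hze hzs g ((AlgSp.yon S).map d') sqJ hd'rep
  exact ⟨Sheaf.image ξ, hZb, j, Sheaf.imageι ξ, hj2, hjo, hci⟩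

end Groth.Agent.Lib.Helper51.ImmFactor
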