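import Groth.Agent.Lib.Helper51.SchemeIntDim
import Groth.Agent.Lib.Helper51.AlgSpDimCharts2
import Groth.Agent.S10267

set_option autoImplicit false
universe u
open CategoryTheory CategoryTheory.Limits AlgebraicGeometry Topology TopologicalSpace
open AlgSp

namespace Groth.Agent.Lib.Helper51.DimCharts

open Groth.Agent.Lib.Helper52 Groth.Agent.Lib.Helper51 Groth.Agent.Lib.Helper51.Coheight
open Groth.Agent.Lib.Helper51.IntDim

variable {S : Scheme.{u}}

set_option backward.isDefEq.respectTransparency false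

theorem dim_le_of_repWith_integral {X Y : Sp S} (hY : IsAlgSpace Y) (f : X ⟶ Y)
    (hf : RepWith @IsIntegralHom f) : dim X ≤ dim Y := by
  rw [dim_le_iff]
  intro U a ha
  obtain ⟨V, b, hb, hbs⟩ := hY.atlas
  obtain ⟨W, φ, ψ, sq⟩ := exists_isPullback_of_representable hb.1 (a ≫ f)
  haveI hψ : Etale ψ.left := hb.2 (a ≫ f) _ ψ sq
  haveI hψs : Surjective ψ.left := hbs.2 (a ≫ f) _ ψ sq
  -- P = X ×_Y V, a scheme
  have sqP := hf.1.isPullback b
  haveI hp₂ : IsIntegralHom (hf.1.snd b).left := hf.2 b _ _ sqP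
  -- the map W → P
  have hw : ((yon S).map ψ ≫ a) ≫ f = (yon S).map φ ≫ b := by
    rw [Category.assoc]; exact sq.w.symm
  obtain ⟨θ, hθ⟩ := (yon S).map_surjective (sqP.lift _ _ hw)
  have hθ₁ : (yon S).map θ ≫ hf.1.fst b = (yon S).map ψ ≫ a := by
    rw [hθ]; exact sqP.lift_fst _ _ _
  have hθ₂ : θ ≫ hf.1.snd b = φ := (yon S).map_injective (by
    rw [Functor.map_comp, hθ]; exact sqP.lift_snd _ _ _)
  -- the left square is a pullback
  have sqL : IsPullback ((yon S).map ψ) ((yon S).map θ) a (hf.1.fst b) := by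
    refine (IsPullback.of_right ?_ hθ₁ sqP.flip).flip
    rw [← Functor.map_comp, hθ₂]
    exact sq
  haveI hθe : Etale θ.left := ha.2 _ _ θ sqL
  rw [← topologicalKrullDim_eq_of_etale_of_surjective ψ.left]
  refine le_trans (topologicalKrullDim_le_of_locallyQuasiFinite θ.left) ?_
  exact le_trans (topologicalKrullDim_le_of_integral (hf.1.snd b).left)
    (topologicalKrullDim_le_dim b hb)

theorem dim_le_of_repWith_integral_of_surjective {X Y : Sp S} (f : X ⟶ Y)
    (hf : RepWith @IsIntegralHom f) (hs : IsSurjectiveMor f) : dim Y ≤ dim X := by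
  rw [dim_le_iff]
  intro V b hb
  have hfs : RepWith @Surjective f := repWith_surjective_of_surjective_map hf.1 hs
  have sqP := hf.1.isPullback b
  haveI hp₂ : IsIntegralHom (hf.1.snd b).left := hf.2 b _ _ sqP
  haveI hp₂s : Surjective (hf.1.snd b).left := hfs.2 b _ _ sqP
  have hp₁ : RepWith @Etale (hf.1.fst b) :=
    MorphismProperty.of_isPullback (P := RepWith @Etale) sqP.flip hb
  exact le_trans (topologicalKrullDim_le_of_integral_of_surjective (hf.1.snd b).left)
    (topologicalKrullDim_le_dim _ hp₁)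

end Groth.Agent.Lib.Helper51.DimCharts
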