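import Groth.Agent.Lib.Helper51.AlgSpIntGen
import Groth.Agent.Lib.Helper51.AlgSpDimCharts2
import Groth.Agent.S9686

set_option autoImplicit false
universe u
open CategoryTheory CategoryTheory.Limits AlgebraicGeometry Topology TopologicalSpace
open AlgSp

namespace Groth.Agent.Lib.Helper51.IntGen

open Groth.Agent.Lib.Helper98.AlgSpLqf Groth.Agent.Lib.Helper51.Coheight
open Groth.Agent.Lib.Helper51.CodimZeroFib Groth.Agent.Lib.Helper51.QfCodimOne
open Groth.Agent.Lib.Helper52 Groth.Agent.Lib.Helper51 Groth.Agent.Lib.Helper98.AlgSpPtLocal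
open Groth.Agent.Lib.Helper51.DimCharts

variable {S : Scheme.{u}}

set_option backward.isDefEq.respectTransparency false

/-- dimension inequality for a morphism locally of finite type from a decent space with a generic
point to a locally Noetherian space. -/
theorem dim_le_dim_add_trdeg {X Y : Sp S} (hX : IsAlgSpace X) (hdX : IsDecent X) (f : X ⟶ Y)
    (hY : IsLocNoethSp Y) (hft : LocP @LocallyOfFiniteType f) (x : Points X)
    (hx : IsGenericPoint x (Set.univ : Set (Points X))) (r : ℕ)
    (hr : HasAtMor (fun _ _ h u => Dual3.resTrdeg h u = (r : Cardinal.{u})) f x) :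
    dim X ≤ dim Y + ((r : ℕ∞) : WithBot ℕ∞) := by
  rw [dim_le_iff]
  intro U a ha
  obtain ⟨T, t, ht, hts, hTN⟩ := hY
  obtain ⟨W, φ, ψ, sq⟩ := exists_isPullback_of_representable ht.1 (a ≫ f)
  haveI hψe : Etale ψ.left := ht.2 (a ≫ f) _ ψ sq
  haveI hψs : Surjective ψ.left := hts.2 (a ≫ f) _ ψ sq
  have ha' : RepWith @Etale ((yon S).map ψ ≫ a) :=
    (RepWith (S := S) @Etale).comp_mem _ _ ((repWith_yon_map_iff @Etale ψ).2 hψe) ha
  have comm : ((yon S).map ψ ≫ a) ≫ f = (yon S).map φ ≫ t := by
    rw [Category.assoc]; exact sq.w.symm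
  haveI : LocallyOfFiniteType φ.left := hft _ t φ ha' ht comm
  haveI : IsLocallyNoetherian T.left := hTN
  rw [← topologicalKrullDim_eq_of_etale_of_surjective ψ.left]
  have hT : topologicalKrullDim T.left ≤ dim Y := topologicalKrullDim_le_dim t ht
  have key : topologicalKrullDim W.left ≤ topologicalKrullDim T.left + r := by
    refine Groth.Agent.S9686.result φ.left r ?_
    intro ξ hξ
    have hmax : ∀ b : W.left, b ⤳ ξ → b = ξ :=
      isMaxPt_of_isGenericPoint hξ isGenericPoint_closure
    have h0 : HasAt (fun U u => ringKrullDim (U.presheaf.stalk u) = 0) X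
        (Points.ofPt ((yon S).map ψ ≫ a) ξ) :=
      ⟨W, _, ξ, ha', rfl,
        (stalk_dim_zero_iff_isMax ξ).2 ((isMax_iff_forall_specializes ξ).2 hmax)⟩
    have hxi : Points.ofPt ((yon S).map ψ ≫ a) ξ = x :=
      eq_of_codimZero_of_isGenericPoint hdX x hx _ h0
    have htr : Dual3.resTrdeg φ.left ξ = r :=
      (hasAtMor_iff_of_chart
        (Groth.Agent.Lib.Helper31.AlgSpFlatAt.etLocalPt_resTrdeg (fun c => c = (r : Cardinal.{u})))
        f _ t φ ha' ht comm ξ).1 (hxi ▸ hr)
    exact le_of_eq htr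
  calc topologicalKrullDim W.left ≤ topologicalKrullDim T.left + r := key
    _ ≤ dim Y + ((r : ℕ∞) : WithBot ℕ∞) := by
        gcongr
        exact le_rfl

end Groth.Agent.Lib.Helper51.IntGen
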