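import Groth.Agent.Lib.Helper51.AlgSpQfCodimOne
import Groth.Agent.Lib.Helper31.AlgSpResTrdegPt

set_option autoImplicit false
universe u
open CategoryTheory CategoryTheory.Limits AlgebraicGeometry Topology TopologicalSpace
open AlgSp

namespace Groth.Agent.Lib.Helper51.QfCodimOne

open Groth.Agent.Lib.Helper98.AlgSpLqf Groth.Agent.Lib.Helper51.Coheight
open Groth.Agent.Lib.Helper51.CodimZeroFib

/-- in a Noetherian quasi-sober space a dense open subset contains all maximal points. -/
theorem mem_of_dense_open_of_maximal {U : Type*} [TopologicalSpace U] [NoetherianSpace U]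
    [QuasiSober U] [T0Space U] (O : Set U) (hO : IsOpen O) (hd : Dense O) (η : U)
    (hmax : ∀ b : U, b ⤳ η → b = η) : η ∈ O := by
  obtain ⟨ζ, hζ⟩ := QuasiSober.sober (isIrreducible_irreducibleComponent (x := η))
    isClosed_irreducibleComponent
  have h1 : ζ ⤳ η := by
    rw [specializes_iff_mem_closure, hζ.def]; exact mem_irreducibleComponent
  have h2 : ζ = η := hmax ζ h1
  subst h2
  obtain ⟨o, ho, hne, hsub⟩ :=
    NoetherianSpace.exists_isOpen_nonempty_subset_irreducibleComponent
      (irreducibleComponent ζ) (irreducibleComponent_mem_irreducibleComponents ζ)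
  obtain ⟨q, hqo, hqO⟩ := hd.inter_open_nonempty o ho hne
  have hq : ζ ⤳ q := by
    rw [specializes_iff_mem_closure, hζ.def]; exact hsub hqo
  exact hq.mem_open hO hqO

theorem mem_of_dense_open_of_maximal_scheme {X : Scheme.{u}} [IsLocallyNoetherian X]
    (O : Set X) (hO : IsOpen O) (hd : Dense O) (η : X)
    (hmax : ∀ b : X, b ⤳ η → b = η) : η ∈ O := by
  obtain ⟨i, η', rfl⟩ := X.affineCover.exists_eq η
  let W : Scheme.{u} := X.affineCover.X i
  let ι : W ⟶ X := X.affineCover.f i
  haveI : IsOpenImmersion ι := inferInstanceAs (IsOpenImmersion (X.affineCover.f i))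
  haveI : IsAffine W := inferInstanceAs (IsAffine (X.affineCover.X i))
  haveI : IsLocallyNoetherian W := isLocallyNoetherian_of_isOpenImmersion ι
  haveI : IsNoetherian W := ⟨⟩
  have hemb := ι.isOpenEmbedding
  have hmaxW : ∀ b : W, b ⤳ η' → b = η' := by
    intro b hb
    exact hemb.injective (hmax _ (hb.map ι.continuous))
  exact mem_of_dense_open_of_maximal (U := W) (ι ⁻¹' O) (hO.preimage ι.continuous)
    (hd.preimage hemb.isOpenMap) η' hmaxW

/-- a maximal point with residue transcendence degree zero is a point of quasi-finiteness. -/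
theorem quasiFiniteAt_of_maximal_of_resTrdeg_zero {U V : Scheme.{u}} (h : U ⟶ V)
    [LocallyOfFiniteType h] (η : U) (hmax : ∀ b : U, b ⤳ η → b = η)
    (htr : Dual3.resTrdeg h η = 0) : h.QuasiFiniteAt η := by
  rw [← lqfNear_iff_quasiFiniteAt, lqfNear_iff_fibreDimAt,
    Groth.Agent.Lib.Helper31.AlgSpFlatAt.fibreDimAt_eq_stalk_add_resTrdeg, htr]
  have hemb := (h.fiberι (h η)).isEmbedding
  have hι : h.fiberι (h η) (h.asFiber η) = η := Scheme.Hom.fiberι_asFiber h η
  have hmaxF : ∀ b : h.fiber (h η), b ⤳ h.asFiber η → b = h.asFiber η := by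
    intro b hb
    have hs : h.fiberι (h η) b ⤳ h.fiberι (h η) (h.asFiber η) :=
      hb.map (h.fiberι (h η)).continuous
    rw [hι] at hs
    apply hemb.injective
    rw [hmax _ hs, hι]
  have h0 : ringKrullDim ((h.fiber (h η)).presheaf.stalk (h.asFiber η)) = 0 :=
    (stalk_dim_zero_iff_isMax _).2 ((isMax_iff_forall_specializes _).2 hmaxF)
  rw [h0]
  simp

variable {S : Scheme.{u}}

open Groth.Agent.Lib.Helper52 Groth.Agent.Lib.Helper51 Groth.Agent.Lib.Helper98.AlgSpPtLocal
open Groth.Agent.Lib.Helper51.DimCharts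

set_option backward.isDefEq.respectTransparency false

/-- the quasi-finite points are dense ⇒ quasi-finite at every point over a point of codimension at
most one. -/
theorem of_dense {X Y : Sp S} (hX : IsAlgSpace X) (f : X ⟶ Y)
    (hf : LocP @LocallyOfFiniteType f) (hY : IsLocNoethSp Y) (y : Points Y)
    (hy : HasAt (fun U u => ringKrullDim (U.presheaf.stalk u) ≤ 1) Y y)
    (h : Dense {x : Points X | HasAtMor LqfNear f x})
    (x : Points X) (hx : Points.map f x = y) : HasAtMor LqfNear f x := by
  refine core hX f hf hY y hy ?_ x hx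
  intro U T a t g ha ht comm hTN hg u η hmax hηu hu
  haveI : IsLocallyNoetherian T.left := hTN
  haveI : IsLocallyNoetherian U.left := LocallyOfFiniteType.isLocallyNoetherian g.left
  have hpre : {u' : U.left | LqfNear _ _ g.left u'} =
      Points.ofPt a ⁻¹' {x : Points X | HasAtMor LqfNear f x} := by
    ext u'
    exact (hasAtMor_iff_of_chart etLocalPt_lqfNear f a t g ha ht comm u').symm
  have hd : Dense {u' : U.left | LqfNear _ _ g.left u'} := by
    rw [hpre]
    exact h.preimage (isOpenMap_ofPt_of_etale a ha)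
  have hq : LqfNear _ _ g.left η :=
    mem_of_dense_open_of_maximal_scheme _ (isOpen_lqfNear g.left) hd η hmax
  exact (lqfNear_iff_quasiFiniteAt g.left η).1 hq

/-- residue transcendence degree zero at the codimension-zero points whose image specialises to
`y` ⇒ quasi-finite at every point over `y`. -/
theorem of_trdeg_zero {X Y : Sp S} (hX : IsAlgSpace X) (f : X ⟶ Y)
    (hf : LocP @LocallyOfFiniteType f) (hY : IsLocNoethSp Y) (y : Points Y)
    (hy : HasAt (fun U u => ringKrullDim (U.presheaf.stalk u) ≤ 1) Y y)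
    (h : ∀ x : Points X, HasAt (fun U u => ringKrullDim (U.presheaf.stalk u) = 0) X x →
      Points.map f x ⤳ y → HasAtMor (fun _ _ h u => Dual3.resTrdeg h u = 0) f x)
    (x : Points X) (hx : Points.map f x = y) : HasAtMor LqfNear f x := by
  refine core hX f hf hY y hy ?_ x hx
  intro U T a t g ha ht comm hTN hg u η hmax hηu hu
  have h0 : HasAt (fun U u => ringKrullDim (U.presheaf.stalk u) = 0) X (Points.ofPt a η) :=
    ⟨U, a, η, ha, rfl, (stalk_dim_zero_iff_isMax η).2 ((isMax_iff_forall_specializes η).2 hmax)⟩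
  have hsp : Points.map f (Points.ofPt a η) ⤳ y := by
    rw [Points.map_ofPt, comm, ofPt_yon_map_comp, ← hu]
    exact (hηu.map g.left.continuous).map (Points.continuous_ofPt t)
  have htr : Dual3.resTrdeg g.left η = 0 :=
    (hasAtMor_iff_of_chart
      (Groth.Agent.Lib.Helper31.AlgSpFlatAt.etLocalPt_resTrdeg (fun c => c = 0))
      f a t g ha ht comm η).1 (h _ h0 hsp)
  exact quasiFiniteAt_of_maximal_of_resTrdeg_zero g.left η hmax htr

end Groth.Agent.Lib.Helper51.QfCodimOne
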