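import Groth.Agent.Lib.Helper51.AlgSpSpecial
import Groth.Agent.Lib.Helper51.AlgSpGeneriz
import Groth.Agent.Lib.Helper51.AlgSpQfCodimOne2
import Groth.Prelude.Def_AlgSpDec
import Groth.Agent.Lib.Helper51.AlgSpQuotField7
import Groth.Agent.Lib.Helper31.AlgSpFibreDim

set_option autoImplicit false
universe u
open CategoryTheory CategoryTheory.Limits AlgebraicGeometry Topology TopologicalSpace
open AlgSp

namespace Groth.Agent.Lib.Helper51.IntGen

open Groth.Agent.Lib.Helper98.AlgSpLqf Groth.Agent.Lib.Helper51.Coheight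
open Groth.Agent.Lib.Helper51.CodimZeroFib Groth.Agent.Lib.Helper51.QfCodimOne
open Groth.Agent.Lib.Helper52 Groth.Agent.Lib.Helper51 Groth.Agent.Lib.Helper98.AlgSpPtLocal
open Groth.Agent.Lib.Helper51.DimCharts

variable {S : Scheme.{u}}

set_option backward.isDefEq.respectTransparency false

/-- a point whose closure is everything specialises to every point. -/
theorem specializes_of_isGenericPoint_univ {T : Type*} [TopologicalSpace T] {x : T}
    (hx : IsGenericPoint x (Set.univ : Set T)) (z : T) : x ⤳ z := by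
  rw [specializes_iff_mem_closure, hx.def]; exact Set.mem_univ z

/-- the generic point of the space of points of a decent algebraic space has codimension zero. -/
theorem codimZero_of_isGenericPoint {X : Sp S} (hX : IsAlgSpace X) (hd : IsDecent X)
    (x : Points X) (hx : IsGenericPoint x (Set.univ : Set (Points X))) :
    HasAt (fun U u => ringKrullDim (U.presheaf.stalk u) = 0) X x := by
  haveI : T0Space (Points X) := t0Space_points_of_isDecent hX hd
  obtain ⟨U, a, ha, has⟩ := hX.atlas
  obtain ⟨u, rfl⟩ := surjective_ofPt_of_repWith_surjective a has x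
  refine ⟨U, a, u, ha, rfl, ?_⟩
  show ringKrullDim (U.left.presheaf.stalk u) = 0
  rw [stalk_dim_zero_iff_isMax, isMax_iff_forall_specializes]
  intro b hb
  have h1 : Points.ofPt a b ⤳ Points.ofPt a u := hb.map (Points.continuous_ofPt a)
  have h2 : Points.ofPt a u ⤳ Points.ofPt a b := specializes_of_isGenericPoint_univ hx _
  have h3 : Points.ofPt a u = Points.ofPt a b := (h2.antisymm h1).eq
  exact (eq_of_specializes_of_isDecent hd a ha u b h3 hb).symm

/-- a codimension-zero point equals the generic point. -/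
theorem eq_of_codimZero_of_isGenericPoint {X : Sp S} (hd : IsDecent X)
    (x : Points X) (hx : IsGenericPoint x (Set.univ : Set (Points X))) (x' : Points X)
    (hx' : HasAt (fun U u => ringKrullDim (U.presheaf.stalk u) = 0) X x') : x' = x := by
  obtain ⟨U, a, u, ha, rfl, hu0⟩ := hx'
  have humax : ∀ b : U.left, b ⤳ u → b = u :=
    (isMax_iff_forall_specializes u).1 ((stalk_dim_zero_iff_isMax u).1 hu0)
  obtain ⟨p, hp, -, hq⟩ := hd x
  have h2 : Points.mk p ⤳ Points.ofPt a u := hp ▸ specializes_of_isGenericPoint_univ hx _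
  obtain ⟨u', hu', hu'x⟩ := exists_generization_of_quasiCompact_fieldPt _ p h2 hq a ha u rfl
  rw [← humax u' hu', hu'x, hp]

/-- a dominant morphism maps the generic point to the generic point. -/
theorem map_eq_of_isDominantMor {X Y : Sp S} (hY : IsAlgSpace Y) (hdY : IsDecent Y) (f : X ⟶ Y)
    (hdom : IsDominantMor f) (x : Points X)
    (hx : IsGenericPoint x (Set.univ : Set (Points X))) (y : Points Y)
    (hy : IsGenericPoint y (Set.univ : Set (Points Y))) : Points.map f x = y := by
  haveI : T0Space (Points Y) := t0Space_points_of_isDecent hY hdY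
  have h1 : y ⤳ Points.map f x := specializes_of_isGenericPoint_univ hy _
  have h2 : Points.map f x ⤳ y := by
    rw [specializes_iff_mem_closure]
    have hsub : Set.range (Points.map f) ⊆ closure {Points.map f x} := by
      rintro _ ⟨z, rfl⟩
      exact specializes_iff_mem_closure.1
        ((specializes_of_isGenericPoint_univ hx z).map (Points.continuous_map f))
    have := closure_minimal hsub isClosed_closure
    rw [hdom.closure_range] at this
    exact this (Set.mem_univ y)
  exact (h2.antisymm h1).eq

/-- for a dominant morphism locally of finite type between decent spaces with generic points: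
quasi-finite at the generic point iff the generic point is the only point over the generic point. -/
theorem lqfNear_iff_unique {X Y : Sp S} (hX : IsAlgSpace X) (hY : IsAlgSpace Y)
    (hdX : IsDecent X) (hdY : IsDecent Y) (f : X ⟶ Y) (hft : LocP @LocallyOfFiniteType f)
    (hdom : IsDominantMor f) (x : Points X)
    (hx : IsGenericPoint x (Set.univ : Set (Points X))) (y : Points Y)
    (hy : IsGenericPoint y (Set.univ : Set (Points Y))) :
    HasAtMor LqfNear f x ↔ ∀ x' : Points X, Points.map f x' = y → x' = x := by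
  have hy0 := codimZero_of_isGenericPoint hY hdY y hy
  have hx0 := codimZero_of_isGenericPoint hX hdX x hx
  have hfx := map_eq_of_isDominantMor hY hdY f hdom x hx y hy
  obtain ⟨h1, h2⟩ := main hX f hft y hy0
  constructor
  · intro hq x' hx'
    apply eq_of_codimZero_of_isGenericPoint hdX x hx
    refine h2 ?_ x' hx'
    intro x'' _ hx''0
    rw [eq_of_codimZero_of_isGenericPoint hdX x hx x'' hx''0]
    exact hq
  · intro huniq
    refine h1.1 ?_ x hfx
    intro x' hx'
    rw [huniq x' hx']
    exact hx0

/-- at a codimension-zero point: residue transcendence degree zero iff quasi-finite. -/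
theorem hasAtMor_resTrdeg_zero_iff_lqfNear {X Y : Sp S} (hX : IsAlgSpace X) (f : X ⟶ Y)
    (hft : LocP @LocallyOfFiniteType f) (x : Points X)
    (hx0 : HasAt (fun U u => ringKrullDim (U.presheaf.stalk u) = 0) X x) :
    HasAtMor (fun _ _ h u => Dual3.resTrdeg h u = 0) f x ↔ HasAtMor LqfNear f x := by
  constructor
  · rintro ⟨U, V, a, b, h, u, ha, hb, comm, hxu, htr⟩
    haveI : LocallyOfFiniteType h.left := hft a b h ha hb comm
    have h0 : ringKrullDim (U.left.presheaf.stalk u) = 0 :=
      (hasAt_iff_forall (fun U u => ringKrullDim (U.presheaf.stalk u)) stalk_hQ hX x 0).1 hx0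
        U a u ha hxu
    have hmax : ∀ b : U.left, b ⤳ u → b = u :=
      (isMax_iff_forall_specializes u).1 ((stalk_dim_zero_iff_isMax u).1 h0)
    refine ⟨U, V, a, b, h, u, ha, hb, comm, hxu, ?_⟩
    rw [lqfNear_iff_quasiFiniteAt]
    exact quasiFiniteAt_of_maximal_of_resTrdeg_zero h.left u hmax htr
  · rintro ⟨U, V, a, b, h, u, ha, hb, comm, hxu, hq⟩
    haveI : LocallyOfFiniteType h.left := hft a b h ha hb comm
    refine ⟨U, V, a, b, h, u, ha, hb, comm, hxu, ?_⟩
    show Dual3.resTrdeg h.left u = 0
    rw [lqfNear_iff_fibreDimAt,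
      Groth.Agent.Lib.Helper31.AlgSpFlatAt.fibreDimAt_eq_stalk_add_resTrdeg] at hq
    have hnn : (0 : WithBot ℕ∞) ≤
        ringKrullDim ((h.left.fiber (h.left u)).presheaf.stalk (h.left.asFiber u)) :=
      ringKrullDim_nonneg_of_nontrivial
    have hb0 : ((Cardinal.toENat (Dual3.resTrdeg h.left u) : ℕ∞) : WithBot ℕ∞) ≤ 0 := by
      calc ((Cardinal.toENat (Dual3.resTrdeg h.left u) : ℕ∞) : WithBot ℕ∞)
          = 0 + ((Cardinal.toENat (Dual3.resTrdeg h.left u) : ℕ∞) : WithBot ℕ∞) := by
            rw [zero_add]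
        _ ≤ ringKrullDim ((h.left.fiber (h.left u)).presheaf.stalk (h.left.asFiber u)) +
            ((Cardinal.toENat (Dual3.resTrdeg h.left u) : ℕ∞) : WithBot ℕ∞) := by gcongr
        _ = 0 := hq
    have hb1 : Cardinal.toENat (Dual3.resTrdeg h.left u) = 0 := by
      have : (Cardinal.toENat (Dual3.resTrdeg h.left u) : ℕ∞) ≤ 0 := by exact_mod_cast hb0
      exact le_antisymm this zero_le
    exact Cardinal.toENat_eq_zero.1 hb1

open Groth.Agent.Lib.Helper31.AlgSpFlatAt in
/-- quasi-finiteness at a point can be checked after base change. -/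
theorem hasAtMor_lqfNear_of_baseChange {X Y V P : Sp S} (hX : IsAlgSpace X) (hY : IsAlgSpace Y)
    (hV : IsAlgSpace V) (f : X ⟶ Y) (hft : LocP @LocallyOfFiniteType f) (j : V ⟶ Y)
    (fst : P ⟶ V) (snd : P ⟶ X) (sq : IsPullback fst snd j f) (p : Points P) :
    HasAtMor LqfNear fst p ↔ HasAtMor LqfNear f (Points.map snd p) := by
  obtain ⟨G⟩ := exists_goodChart f (𝟙 Y) hX hY hY
  haveI : LocallyOfFiniteType G.k.left := hft G.a G.b G.k G.ha G.hb G.comm_f
  exact hasAtMor_baseChange_iff etLocalPt_lqfNear G
    (fun mU k'' mV sq u'' => lqfNear_baseChange_iff G.k.left mU k'' mV sq u'')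
    hV j fst (𝟙 V) snd j IsPullback.of_id_snd sq.flip p

open Groth.Agent.Lib.Helper31.AlgSpFlatAt in
/-- a locally quasi-finite morphism is quasi-finite at every point. -/
theorem hasAtMor_lqfNear_of_locP {X Y : Sp S} (hX : IsAlgSpace X) (hY : IsAlgSpace Y) (f : X ⟶ Y)
    (hq : LocP (@LocallyQuasiFinite ⊓ @LocallyOfFiniteType) f) (x : Points X) :
    HasAtMor LqfNear f x := by
  obtain ⟨U, V, a, b, h, u, ha, hb, comm, hxu⟩ := exists_chart_at f hX hY x
  obtain ⟨h1, h2⟩ := hq a b h ha hb comm
  haveI : LocallyQuasiFinite h.left := h1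
  haveI : LocallyOfFiniteType h.left := h2
  refine ⟨U, V, a, b, h, u, ha, hb, comm, hxu, ?_⟩
  rw [lqfNear_iff_quasiFiniteAt]
  exact h.left.quasiFiniteAt u

/-- if `f` is locally quasi-finite over a nonempty open of `Y`, the generic point of `X` is the only
point over the generic point of `Y`. -/
theorem unique_of_lqf_over_open {X Y V P : Sp S} (hX : IsAlgSpace X) (hY : IsAlgSpace Y)
    (hV : IsAlgSpace V) (hP : IsAlgSpace P) (hdX : IsDecent X) (hdY : IsDecent Y) (f : X ⟶ Y)
    (hft : LocP @LocallyOfFiniteType f) (x : Points X)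
    (hx : IsGenericPoint x (Set.univ : Set (Points X))) (y : Points Y)
    (hy : IsGenericPoint y (Set.univ : Set (Points Y)))
    (j : V ⟶ Y) (hj : RepWith @IsOpenImmersion j) (hne : Nonempty (Points V))
    (fst : P ⟶ V) (snd : P ⟶ X) (sq : IsPullback fst snd j f)
    (hq : LocP (@LocallyQuasiFinite ⊓ @LocallyOfFiniteType) fst) :
    ∀ x' : Points X, Points.map f x' = y → x' = x := by
  have hy0 := codimZero_of_isGenericPoint hY hdY y hy
  obtain ⟨h1, -⟩ := main hX f hft y hy0
  have hyV : y ∈ Set.range (Points.map j) := by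
    obtain ⟨v⟩ := hne
    exact (specializes_of_isGenericPoint_univ hy (Points.map j v)).mem_open
      (isOpen_range_map_of_isOpenImmersion j hj) ⟨v, rfl⟩
  obtain ⟨v, hv⟩ := hyV
  have hall : ∀ x' : Points X, Points.map f x' = y → HasAtMor LqfNear f x' := by
    intro x' hx'
    obtain ⟨p, hp1, hp2⟩ := exists_point_of_isPullback sq v x' (hv.trans hx'.symm)
    rw [← hp2, ← hasAtMor_lqfNear_of_baseChange hX hY hV f hft j fst snd sq p]
    exact hasAtMor_lqfNear_of_locP hP hV fst hq p
  intro x' hx'
  exact eq_of_codimZero_of_isGenericPoint hdX x hx x' (h1.2 hall x' hx')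

end Groth.Agent.Lib.Helper51.IntGen
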