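import Groth.Agent.Lib.Helper51.AlgSpRedInduced
import Groth.Agent.Lib.Helper51.AlgSpDecent
import Groth.Agent.Lib.Helper51.AlgSpPoints2
import Groth.Prelude.Def_AlgSpDec

set_option autoImplicit false
set_option linter.unusedSectionVars false
universe u
open CategoryTheory CategoryTheory.Limits AlgebraicGeometry Opposite

set_option backward.isDefEq.respectTransparency false

namespace Groth.Agent.Lib.Helper51.RedInd

open AlgSp Groth.Agent.Lib.Helper52 Groth.Agent.Lib.Helper51

variable {S : Scheme.{u}}

theorem exists_integral_closed_subspace {X : AlgSp.Sp S} (hX : AlgSp.IsAlgSpace X)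
    (hd : AlgSp.IsDecent X) (T : Set (Points X)) (hT : IsClosed T) (hTi : IsIrreducible T) :
    ∃ (Z : AlgSp.Sp S) (_ : AlgSp.IsAlgSpace Z) (i : Z ⟶ X),
      AlgSp.RepWith @IsClosedImmersion i ∧ AlgSp.IsIntegralSp Z ∧
        Set.range (Points.map i) = T := by
  obtain ⟨Z, hZ, i, hi, hr, hred⟩ := exists_isRedInduced hX T hT
  refine ⟨Z, hZ, i, hi, ⟨hred, isDecent_of_representable i hi.rep hd, ?_⟩, hr⟩
  obtain ⟨U, a, ha, has⟩ := hX.atlas
  have himm : AlgSp.RepWith @IsImmersion i :=
    MorphismProperty.relative_monotone (fun A B k hk => by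
      have : IsClosedImmersion k.left := hk
      change IsImmersion k.left
      infer_instance) _ hi
  have hemb := (isEmbedding_map_of_immersion i himm a ha has).1
  have h1 : IrreducibleSpace ↥(Set.range (Points.map i)) := by
    rw [hr]
    exact Subtype.irreducibleSpace hTi
  exact hemb.toHomeomorph.irreducibleSpace_iff.mpr h1

end Groth.Agent.Lib.Helper51.RedInd
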