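import Groth.Agent.Lib.Helper51.AlgSpClosedPt2
import Mathlib.AlgebraicGeometry.Morphisms.Finite
import Mathlib.AlgebraicGeometry.Morphisms.FiniteType

/-!
Jacobson decent spaces: finite type points are the closed points (helper51).
-/

set_option autoImplicit false
set_option linter.unusedSectionVars false
universe u
open CategoryTheory CategoryTheory.Limits AlgebraicGeometry Opposite TensorProduct

set_option backward.isDefEq.respectTransparency false

namespace Groth.Agent.Lib.Helper51

open AlgSp Groth.Agent.Lib.Helper30 Groth.Agent.Lib.Helper52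

variable {S : Scheme.{u}}

/-- A point in the fibre of an etale morphism of schemes over a closed point is closed. -/
theorem isClosed_singleton_of_etale_over_closed {W U : Scheme.{u}} (f : W ⟶ U) [Etale f]
    (w : ↥W) (hu : IsClosed ({f w} : Set ↥U)) : IsClosed ({w} : Set ↥W) := by
  have hF : IsClosed (f ⁻¹' {f w}) := hu.preimage f.continuous
  have hd : _root_.IsDiscrete (f ⁻¹' {f w}) := f.isDiscrete_preimage_singleton (f w)
  have hdt : DiscreteTopology ↥(f ⁻¹' {f w}) := hd.to_subtype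
  have hw : w ∈ f ⁻¹' {f w} := rfl
  have h1 : IsClosed ({⟨w, hw⟩} : Set ↥(f ⁻¹' {f w})) := isClosed_discrete _
  have h2 := hF.isClosedEmbedding_subtypeVal.isClosedMap _ h1
  simpa using h2

/-- On a decent Jacobson space, a point with a closed representative in some etale chart is
closed. -/
theorem isClosed_point_of_hasAt_closed_of_jacobson {X : AlgSp.Sp S} (hX : AlgSp.IsAlgSpace X)
    (hd : AlgSp.IsDecent X) (hJ : AlgSp.EtaleLocally (fun U => JacobsonSpace ↥U) X)
    {U : Over S} (a : (AlgSp.yon S).obj U ⟶ X) (ha : AlgSp.RepWith @Etale a) (u : ↥U.left)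
    (hu : IsClosed ({u} : Set ↥U.left)) : IsClosed ({Points.ofPt a u} : Set (Points X)) := by
  obtain ⟨U0, a0, ha0e, ha0s, hU0⟩ := hJ
  have hU0' : JacobsonSpace ↥U0.left := hU0
  obtain ⟨p', hp'x, hm, hq⟩ := hd (Points.ofPt a u)
  rw [← (isQuotientMap_ofPt a0 ha0e ha0s).isClosed_preimage]
  obtain ⟨W, prU, pr0, sq⟩ := exists_isPullback_of_representable ha.1 a0
  have hprU : Etale prU.left := ha0e.2 a _ prU sq.flip
  have hpr0 : Etale pr0.left := ha.2 a0 _ pr0 sq
  refine isClosed_of_locally_finite_closed_points _ ?_ ?_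
  · intro u0 hu0
    rw [Set.mem_preimage, Set.mem_singleton_iff] at hu0
    obtain ⟨w, hw1, hw2⟩ := exists_of_ofPt_eq_ofPt sq hu0.symm
    have hwcl : IsClosed ({w} : Set ↥W.left) :=
      isClosed_singleton_of_etale_over_closed prU.left w (hw1 ▸ hu)
    have := pr0.left.closePoints_subset_preimage_closedPoints hwcl
    rw [Set.mem_preimage, hw2] at this
    exact this
  · intro O hO
    have hea : AlgSp.RepWith @Etale ((AlgSp.yon S).map (opensOverι U0 O) ≫ a0) :=
      repWith_etale_yon_map_comp (opensOverι U0 O) inferInstance a0 ha0e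
    have : IsAffine (opensOver U0 O).left := hO
    have h1 := finite_fibre_of_quasiCompact_fieldPt p' hq _ hea
    refine (h1.image O.ι).subset ?_
    rintro y ⟨hy1, hy2⟩
    refine ⟨(⟨y, hy2⟩ : ↥(O : Scheme.{u})), ?_, rfl⟩
    rw [Set.mem_preimage, Set.mem_singleton_iff, ofPt_yon_map_comp, hp'x]
    exact hy1

/-- On a decent Jacobson space the finite type points are exactly the closed points. -/
theorem hasAt_closed_iff_isClosed_of_jacobson {X : AlgSp.Sp S} (hX : AlgSp.IsAlgSpace X)
    (hd : AlgSp.IsDecent X) (hJ : AlgSp.EtaleLocally (fun U => JacobsonSpace ↥U) X)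
    (x : Points X) :
    AlgSp.HasAt (fun U u => IsClosed ({u} : Set ↥U)) X x ↔ IsClosed ({x} : Set (Points X)) := by
  constructor
  · rintro ⟨U, a, u, ha, rfl, hu⟩
    exact isClosed_point_of_hasAt_closed_of_jacobson hX hd hJ a ha u hu
  · intro hx
    obtain ⟨p, rfl, hm, hq⟩ := hd x
    obtain ⟨U, φ, u, -, hφ, hu⟩ := exists_affine_etale_chart_at hX (Points.mk p)
    exact ⟨U, φ, u, hφ, hu, isClosed_singleton_of_ofPt_eq p hq hx φ hφ hu⟩

end Groth.Agent.Lib.Helper51

namespace Groth.Agent.Lib.Helper51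

open AlgSp Groth.Agent.Lib.Helper30 Groth.Agent.Lib.Helper52

variable {S : Scheme.{u}}

/-- A space locally of finite type over a Jacobson space is Jacobson. -/
theorem jacobson_of_locP_lft {X Y : AlgSp.Sp S} (hY : AlgSp.IsAlgSpace Y)
    (hJ : AlgSp.EtaleLocally (fun U => JacobsonSpace ↥U) X) (f : Y ⟶ X)
    (hf : AlgSp.LocP @LocallyOfFiniteType f) :
    AlgSp.EtaleLocally (fun U => JacobsonSpace ↥U) Y := by
  obtain ⟨U0, a0, ha0e, ha0s, hU0⟩ := hJ
  have hU0' : JacobsonSpace ↥U0.left := hU0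
  obtain ⟨V, b, hbe, hbs⟩ := hY.atlas
  obtain ⟨W, φ, ψ, sq⟩ := exists_isPullback_of_representable ha0e.1 (b ≫ f)
  have hψe : Etale ψ.left := ha0e.2 (b ≫ f) _ ψ sq
  have hψs : Surjective ψ.left := ha0s.2 (b ≫ f) _ ψ sq
  have hce : AlgSp.RepWith @Etale ((AlgSp.yon S).map ψ ≫ b) :=
    repWith_etale_yon_map_comp ψ hψe b hbe
  have hcs : AlgSp.RepWith @Surjective ((AlgSp.yon S).map ψ ≫ b) :=
    repWith_surjective_comp _ _ ((AlgSp.repWith_yon_map_iff @Surjective ψ).2 hψs) hbs
  have hlft : LocallyOfFiniteType φ.left := by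
    refine hf ((AlgSp.yon S).map ψ ≫ b) a0 φ hce ha0e ?_
    rw [Category.assoc]
    exact sq.w.symm
  exact ⟨W, (AlgSp.yon S).map ψ ≫ b, hce, hcs, LocallyOfFiniteType.jacobsonSpace φ.left⟩

end Groth.Agent.Lib.Helper51
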