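import Mathlib.Topology.JacobsonSpace
import Mathlib.Topology.LocallyClosed
import Mathlib.AlgebraicGeometry.AffineScheme
import Mathlib.AlgebraicGeometry.Morphisms.UniversallyOpen
import Mathlib.AlgebraicGeometry.Morphisms.QuasiFinite
import Groth.Agent.Lib.Helper51.EtaleQF
import Groth.Agent.Lib.Helper51.SpecFibre

/-!
Jacobson schemes: criterion via locally closed points, and descent along etale surjections
(helper51).
-/

set_option autoImplicit false
universe u
open CategoryTheory AlgebraicGeometry Topology

namespace Groth.Agent.Lib.Helper51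

/-- A scheme all of whose locally closed points are closed is Jacobson. -/
theorem jacobsonSpace_of_locallyClosed_points_closed (U : Scheme.{u})
    (h : ∀ u : U, IsLocallyClosed ({u} : Set U) → IsClosed ({u} : Set U)) : JacobsonSpace U := by
  rw [jacobsonSpace_iff_locallyClosed]
  rintro Z ⟨z0, hz0⟩ ⟨G, C, hG, hC, rfl⟩
  obtain ⟨O', hO', hz0O', hO'G⟩ := exists_isAffineOpen_mem_and_subset
    (x := z0) (U := ⟨G, hG⟩) hz0.1
  have hc : CompactSpace ↥O' := isCompact_iff_compactSpace.1 hO'.isCompact
  have hS' : IsClosed (Subtype.val ⁻¹' C : Set ↥O') := hC.preimage continuous_subtype_val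
  have hne : (Subtype.val ⁻¹' C : Set ↥O').Nonempty := ⟨⟨z0, hz0O'⟩, hz0.2⟩
  obtain ⟨z', hz'S, hz'cl⟩ := hS'.exists_closed_singleton hne
  have hlc : IsLocallyClosed (Subtype.val '' ({z'} : Set ↥O')) := by
    refine hz'cl.isLocallyClosed.image IsInducing.subtypeVal ?_
    rw [Subtype.range_coe]
    exact O'.2.isLocallyClosed
  rw [Set.image_singleton] at hlc
  exact ⟨z'.1, ⟨hO'G z'.2, hz'S⟩, h _ hlc⟩

/-- Jacobson-ness descends along surjective flat morphisms with discrete fibres, in particular
along etale surjective morphisms. -/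
theorem jacobsonSpace_of_etale_surjective {A B : Scheme.{u}} (f : A ⟶ B) [Etale f]
    [Surjective f] [JacobsonSpace A] : JacobsonSpace B := by
  apply jacobsonSpace_of_locallyClosed_points_closed
  intro β hβ
  -- all points of the fibre over `β` are closed
  have hfib : ∀ α : A, f α = β → IsClosed ({α} : Set A) := by
    intro α hα
    apply isClosed_singleton_of_isLocallyClosed_singleton
    have hF : IsLocallyClosed (f ⁻¹' {β}) := hβ.preimage f.continuous
    have hd : _root_.IsDiscrete (f ⁻¹' {β}) := f.isDiscrete_preimage_singleton β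
    have hdt : DiscreteTopology ↥(f ⁻¹' {β}) := hd.to_subtype
    have hα' : α ∈ f ⁻¹' {β} := hα
    have h1 : IsLocallyClosed ({⟨α, hα'⟩} : Set ↥(f ⁻¹' {β})) :=
      (isClosed_discrete _).isLocallyClosed
    have h2 := h1.image IsInducing.subtypeVal (by rw [Subtype.range_coe]; exact hF)
    rwa [Set.image_singleton] at h2
  rw [← closure_eq_iff_isClosed]
  apply Set.Subset.antisymm _ subset_closure
  intro β' hβ'
  have hspec : β ⤳ β' := specializes_iff_mem_closure.2 hβ'
  obtain ⟨α', hα'⟩ := f.surjective β'
  obtain ⟨α, hαα', hα⟩ := (Flat.generalizingMap (f := f)) (hα' ▸ hspec)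
  have hcl := hfib α hα
  have h3 : α' ∈ closure ({α} : Set A) := specializes_iff_mem_closure.1 hαα'
  rw [hcl.closure_eq, Set.mem_singleton_iff] at h3
  rw [Set.mem_singleton_iff, ← hα', h3, hα]

end Groth.Agent.Lib.Helper51
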