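import Groth.Agent.Lib.Helper51.AlgSpJacobson
import Groth.Agent.Lib.Helper51.SchemeJacobson

/-!
Jacobson algebraic spaces: closed points over finite type points (helper51).
-/

set_option autoImplicit false
set_option linter.unusedSectionVars false
universe u
open CategoryTheory CategoryTheory.Limits AlgebraicGeometry Opposite TensorProduct

set_option backward.isDefEq.respectTransparency false

namespace Groth.Agent.Lib.Helper51

open AlgSp Groth.Agent.Lib.Helper30 Groth.Agent.Lib.Helper52

variable {S : Scheme.{u}}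

/-- A scheme locally of finite type over a Jacobson algebraic space is Jacobson. -/
theorem jacobsonSpace_of_locP_lft_yon {X : AlgSp.Sp S}
    (hJ : AlgSp.EtaleLocally (fun U => JacobsonSpace ↥U) X) {W : Over S}
    (g : (AlgSp.yon S).obj W ⟶ X) (hg : AlgSp.LocP @LocallyOfFiniteType g) :
    JacobsonSpace ↥W.left := by
  obtain ⟨U0, a0, ha0e, ha0s, hU0⟩ := hJ
  have hU0' : JacobsonSpace ↥U0.left := hU0
  obtain ⟨W0, φ0, ψ0, sq0⟩ := exists_isPullback_of_representable ha0e.1 g
  have hψe : Etale ψ0.left := ha0e.2 g _ ψ0 sq0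
  have hψs : Surjective ψ0.left := ha0s.2 g _ ψ0 sq0
  have hlft : LocallyOfFiniteType φ0.left :=
    hg ((AlgSp.yon S).map ψ0) a0 φ0 ((AlgSp.repWith_yon_map_iff @Etale ψ0).2 hψe) ha0e sq0.w.symm
  have : JacobsonSpace ↥W0.left := LocallyOfFiniteType.jacobsonSpace φ0.left
  exact jacobsonSpace_of_etale_surjective ψ0.left

/-- Over a finite type point of a Jacobson algebraic space, any scheme locally of finite type over
the space whose image contains the point has a closed point over it. -/
theorem exists_closedPoint_over_ftPt {X : AlgSp.Sp S}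
    (hJ : AlgSp.EtaleLocally (fun U => JacobsonSpace ↥U) X) (x : Points X)
    (hx : AlgSp.HasAt (fun U u => IsClosed ({u} : Set ↥U)) X x) {W : Over S}
    (g : (AlgSp.yon S).obj W ⟶ X) (hg : AlgSp.LocP @LocallyOfFiniteType g)
    (hxW : x ∈ Set.range (Points.ofPt g)) :
    ∃ w : ↥W.left, IsClosed ({w} : Set ↥W.left) ∧ Points.ofPt g w = x := by
  have hWJ : JacobsonSpace ↥W.left := jacobsonSpace_of_locP_lft_yon hJ g hg
  obtain ⟨U, a, u, ha, rfl, hu⟩ := hx
  obtain ⟨w0, hw0⟩ := hxW
  obtain ⟨P, πU, πW, sqP⟩ := exists_isPullback_of_representable ha.1 g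
  have hπW : Etale πW.left := ha.2 g _ πW sqP
  obtain ⟨π0, hπ0U, -⟩ := exists_of_ofPt_eq_ofPt sqP hw0.symm
  have hPJ : JacobsonSpace ↥P.left := LocallyOfFiniteType.jacobsonSpace πW.left
  have hF : IsClosed (πU.left ⁻¹' {u}) := hu.preimage πU.left.continuous
  obtain ⟨π', hπ'F, hπ'cl⟩ := nonempty_inter_closedPoints (Z := πU.left ⁻¹' {u}) ⟨π0, hπ0U⟩
    hF.isLocallyClosed
  refine ⟨πW.left π', ?_, ?_⟩
  · exact πW.left.closePoints_subset_preimage_closedPoints hπ'cl
  · rw [← ofPt_eq_ofPt_of_isPullback sqP π']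
    congr 1

end Groth.Agent.Lib.Helper51
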