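import Groth.Agent.Lib.Helper51.AlgSpJacobson2
import Groth.Agent.Lib.Helper51.AlgSpGeneriz

/-!
Jacobson decent spaces have Jacobson point spaces, and conversely (helper51).
-/

set_option autoImplicit false
set_option linter.unusedSectionVars false
universe u
open CategoryTheory CategoryTheory.Limits AlgebraicGeometry Opposite TensorProduct

set_option backward.isDefEq.respectTransparency false

namespace Groth.Agent.Lib.Helper51

open AlgSp Groth.Agent.Lib.Helper30 Groth.Agent.Lib.Helper52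

variable {S : Scheme.{u}}

/-- The image of a locally closed point of an etale chart is a locally closed point, provided
it has a quasi-compact monomorphic representative. -/
theorem isLocallyClosed_singleton_mk_of_chart {X : AlgSp.Sp S} (p : FieldPt X)
    (hq : AlgSp.RepWith @QuasiCompact p.toHom) {U : Over S} (a : (AlgSp.yon S).obj U ⟶ X)
    (ha : AlgSp.RepWith @Etale a) (u : ↥U.left) (hu : Points.ofPt a u = Points.mk p)
    (hlc : IsLocallyClosed ({u} : Set ↥U.left)) :
    IsLocallyClosed ({Points.mk p} : Set (Points X)) := by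
  obtain ⟨G, C, hG, hC, hGC⟩ := hlc
  have huGC : u ∈ G ∩ C := hGC ▸ Set.mem_singleton u
  obtain ⟨A, hA, huA, hAG⟩ := exists_isAffineOpen_mem_and_subset (x := u) (U := ⟨G, hG⟩) huGC.1
  have hea : AlgSp.RepWith @Etale ((AlgSp.yon S).map (opensOverι U A) ≫ a) :=
    repWith_etale_yon_map_comp (opensOverι U A) inferInstance a ha
  have : IsAffine (opensOver U A).left := hA
  have h1 := finite_fibre_of_quasiCompact_fieldPt p hq _ hea
  have hFfin : Set.Finite {y : ↥U.left | y ∈ A ∧ Points.ofPt a y = Points.mk p} := by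
    refine (h1.image A.ι).subset ?_
    rintro y ⟨hy2, hy1⟩
    refine ⟨(⟨y, hy2⟩ : ↥(A : Scheme.{u})), ?_, rfl⟩
    rw [Set.mem_preimage, Set.mem_singleton_iff, ofPt_yon_map_comp]
    exact hy1
  set F' : Set ↥U.left := {y | y ∈ A ∧ Points.ofPt a y = Points.mk p ∧ y ≠ u} with hF'
  have hF'fin : F'.Finite := hFfin.subset (fun y hy => ⟨hy.1, hy.2.1⟩)
  have hK : IsClosed (⋃ y ∈ F', closure ({y} : Set ↥U.left)) :=
    hF'fin.isClosed_biUnion (fun _ _ => isClosed_closure)
  have huK : u ∉ ⋃ y ∈ F', closure ({y} : Set ↥U.left) := by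
    intro h
    simp only [Set.mem_iUnion] at h
    obtain ⟨y, hy, huy⟩ := h
    have hs : y ⤳ u := specializes_iff_mem_closure.2 huy
    exact hy.2.2 (eq_of_specializes_of_ofPt_eq p hq a ha hy.2.1 hu hs)
  refine ⟨Points.ofPt a '' ((A : Set ↥U.left) ∩ (⋃ y ∈ F', closure ({y} : Set ↥U.left))ᶜ),
    closure {Points.mk p}, isOpenMap_ofPt_of_etale a ha _ (A.2.inter hK.isOpen_compl),
    isClosed_closure, ?_⟩
  apply Set.Subset.antisymm
  · rintro _ rfl
    exact ⟨⟨u, ⟨huA, huK⟩, hu⟩, subset_closure rfl⟩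
  · rintro x' ⟨⟨u', ⟨hu'A, hu'K⟩, rfl⟩, hx'⟩
    have hspec : Points.mk p ⤳ Points.ofPt a u' := specializes_iff_mem_closure.2 hx'
    obtain ⟨u'', hu''u', hu''⟩ :=
      exists_generization_of_quasiCompact_fieldPt _ p hspec hq a ha u' rfl
    have hu''A : u'' ∈ (A : Set ↥U.left) := hu''u'.mem_open A.2 hu'A
    have hu''K : u'' ∉ ⋃ y ∈ F', closure ({y} : Set ↥U.left) :=
      fun h => hu'K (hu''u'.mem_closed hK h)
    have hu''u : u'' = u := by
      by_contra hne
      exact hu''K (Set.mem_biUnion (show u'' ∈ F' from ⟨hu''A, hu'', hne⟩) (subset_closure rfl))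
    subst hu''u
    have hu'C : u' ∈ C := hu''u'.mem_closed hC huGC.2
    have hmem : u' ∈ ({u''} : Set ↥U.left) := hGC ▸ ⟨hAG hu'A, hu'C⟩
    rw [Set.mem_singleton_iff] at hmem
    rw [Set.mem_singleton_iff, hmem, hu]

/-- The points of a decent Jacobson space form a Jacobson topological space. -/
theorem jacobsonSpace_points_of_jacobson {X : AlgSp.Sp S} (hX : AlgSp.IsAlgSpace X)
    (hd : AlgSp.IsDecent X) (hJ : AlgSp.EtaleLocally (fun U => JacobsonSpace ↥U) X) :
    JacobsonSpace (Points X) := by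
  rw [jacobsonSpace_iff_locallyClosed]
  intro Z hZne hZ
  obtain ⟨U0, a0, ha0e, ha0s, hU0⟩ := hJ
  have hU0' : JacobsonSpace ↥U0.left := hU0
  have hpre : IsLocallyClosed (Points.ofPt a0 ⁻¹' Z) := hZ.preimage (Points.continuous_ofPt a0)
  obtain ⟨z, hz⟩ := hZne
  obtain ⟨u, hu⟩ := surjective_ofPt_of_repWith_surjective a0 ha0s z
  have hne : (Points.ofPt a0 ⁻¹' Z).Nonempty := ⟨u, by rw [Set.mem_preimage, hu]; exact hz⟩
  obtain ⟨α, hαZ, hαcl⟩ := (jacobsonSpace_iff_locallyClosed.1 hU0') _ hne hpre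
  exact ⟨Points.ofPt a0 α, hαZ, isClosed_point_of_hasAt_closed_of_jacobson hX hd
    ⟨U0, a0, ha0e, ha0s, hU0⟩ a0 ha0e α hαcl⟩

/-- A decent space whose point space is Jacobson is Jacobson. -/
theorem jacobson_of_jacobsonSpace_points {X : AlgSp.Sp S} (hX : AlgSp.IsAlgSpace X)
    (hd : AlgSp.IsDecent X) (hJ : JacobsonSpace (Points X)) :
    AlgSp.EtaleLocally (fun U => JacobsonSpace ↥U) X := by
  obtain ⟨U, a, hae, has⟩ := hX.atlas
  refine ⟨U, a, hae, has, ?_⟩
  apply jacobsonSpace_of_locallyClosed_points_closed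
  intro u hu
  obtain ⟨p, hp, hm, hq⟩ := hd (Points.ofPt a u)
  have hlc := isLocallyClosed_singleton_mk_of_chart p hq a hae u hp.symm hu
  have hcl : IsClosed ({Points.mk p} : Set (Points X)) :=
    isClosed_singleton_of_isLocallyClosed_singleton hlc
  exact isClosed_singleton_of_ofPt_eq p hq hcl a hae hp.symm

end Groth.Agent.Lib.Helper51
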