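import Groth.Agent.Lib.Helper51.AlgSpSchImCut
import Groth.Agent.Lib.Helper51.AlgSpEtStalkRed
import Groth.Agent.Lib.Helper30.AlgSpFib

set_option autoImplicit false
set_option linter.unusedSectionVars false
universe u
open CategoryTheory CategoryTheory.Limits AlgebraicGeometry Opposite

set_option backward.isDefEq.respectTransparency false

namespace Groth.Agent.Lib.Helper51.KerAt

open AlgSp Groth.Agent.Lib.Helper52 Groth.Agent.Lib.Helper51 Groth.Agent.Lib.Helper51.ClosedSub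

variable {S : Scheme.{u}}

theorem appTop_injective_of_flat_surjective {V U : Scheme.{u}} (f : V ⟶ U) [Flat f]
    [Surjective f] : Function.Injective f.appTop.hom := by
  rw [injective_iff_map_eq_zero]
  intro y hy
  apply TopCat.Presheaf.section_ext U.sheaf ⊤ y 0
  intro u hu
  obtain ⟨v, rfl⟩ := Surjective.surj (f := f) u
  rw [map_zero]
  exact Hens.germ_eq_zero_of_flat f v y hy

theorem ker_appTop_comp_of_flat_surjective {T Q B : Scheme.{u}} (φ : T ⟶ Q) (w : Q ⟶ B) [Flat φ]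
    [Surjective φ] : RingHom.ker (φ ≫ w).appTop.hom = RingHom.ker w.appTop.hom := by
  ext x
  rw [RingHom.mem_ker, RingHom.mem_ker, Scheme.Hom.comp_appTop, CommRingCat.hom_comp,
    RingHom.comp_apply]
  constructor
  · intro h
    apply appTop_injective_of_flat_surjective φ
    rw [h, map_zero]
  · intro h
    rw [h, map_zero]

/-- atlas independence of the kernel of functions of an algebraic space over a scheme. -/
theorem ker_appTop_eq_of_charts {V Y P₁ P₂ : AlgSp.Sp S} (g : V ⟶ Y) {B : Over S}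
    (y : (AlgSp.yon S).obj B ⟶ Y) {fst₁ : P₁ ⟶ V} {snd₁ : P₁ ⟶ (AlgSp.yon S).obj B}
    (sq₁ : IsPullback fst₁ snd₁ g y) {fst₂ : P₂ ⟶ V} {snd₂ : P₂ ⟶ (AlgSp.yon S).obj B}
    (sq₂ : IsPullback fst₂ snd₂ g y) {Q₁ Q₂ : Over S} (q₁ : (AlgSp.yon S).obj Q₁ ⟶ P₁)
    (hq₁e : AlgSp.RepWith @Etale q₁) (hq₁s : AlgSp.RepWith @Surjective q₁)
    (q₂ : (AlgSp.yon S).obj Q₂ ⟶ P₂) (hq₂e : AlgSp.RepWith @Etale q₂)
    (hq₂s : AlgSp.RepWith @Surjective q₂) (w₁ : Q₁ ⟶ B) (w₂ : Q₂ ⟶ B)
    (hw₁ : (AlgSp.yon S).map w₁ = q₁ ≫ snd₁) (hw₂ : (AlgSp.yon S).map w₂ = q₂ ≫ snd₂) :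
    RingHom.ker w₁.left.appTop.hom = RingHom.ker w₂.left.appTop.hom := by
  let e := sq₁.isoIsPullback _ _ sq₂
  have he2 : e.hom ≫ snd₂ = snd₁ := sq₁.isoIsPullback_hom_snd _ _ sq₂
  have hq₁e' : AlgSp.RepWith @Etale (q₁ ≫ e.hom) :=
    (MorphismProperty.cancel_right_of_respectsIso _ q₁ e.hom).2 hq₁e
  have hq₁s' : AlgSp.RepWith @Surjective (q₁ ≫ e.hom) :=
    (MorphismProperty.cancel_right_of_respectsIso _ q₁ e.hom).2 hq₁s
  obtain ⟨T, φ, ψ, sqT⟩ := exists_isPullback_of_representable hq₁e'.rep q₂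
  have hψe : Etale ψ.left := hq₁e'.property q₂ _ ψ sqT
  have hψs : Surjective ψ.left := hq₁s'.property q₂ _ ψ sqT
  have hφe : Etale φ.left := hq₂e.property (q₁ ≫ e.hom) _ φ sqT.flip
  have hφs : Surjective φ.left := hq₂s.property (q₁ ≫ e.hom) _ φ sqT.flip
  have hcomm : φ ≫ w₁ = ψ ≫ w₂ := by
    apply (AlgSp.yon S).map_injective
    rw [Functor.map_comp, Functor.map_comp, hw₁, hw₂, ← he2, ← Category.assoc q₁,
      ← Category.assoc, sqT.w, Category.assoc]
  have hφf : Flat φ.left := inferInstance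
  have hψf : Flat ψ.left := inferInstance
  rw [← ker_appTop_comp_of_flat_surjective φ.left w₁.left,
    ← ker_appTop_comp_of_flat_surjective ψ.left w₂.left]
  have : φ.left ≫ w₁.left = ψ.left ≫ w₂.left := congrArg CommaMorphism.left hcomm
  rw [this]

section Def

variable {V Y : AlgSp.Sp S} (hV : AlgSp.IsAlgSpace V) (hY : AlgSp.IsAlgSpace Y) (g : V ⟶ Y)
  {B : Over S} (y : (AlgSp.yon S).obj B ⟶ Y)

include hV hY in
theorem isAlgSpace_pullback_yon : AlgSp.IsAlgSpace (pullback g y) :=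
  Groth.Agent.Lib.Helper30.isAlgSpace_of_isPullback hY.diag hV (AlgSp.IsAlgSpace.yon_obj B)
    (IsPullback.of_hasPullback g y)

/-- the chosen atlas of the fibre product. -/
noncomputable def atlasOver : Over S := (isAlgSpace_pullback_yon hV hY g y).atlas.choose

noncomputable def atlasMap : (AlgSp.yon S).obj (atlasOver hV hY g y) ⟶ pullback g y :=
  (isAlgSpace_pullback_yon hV hY g y).atlas.choose_spec.choose

theorem atlasMap_etale : AlgSp.RepWith @Etale (atlasMap hV hY g y) :=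
  (isAlgSpace_pullback_yon hV hY g y).atlas.choose_spec.choose_spec.1

theorem atlasMap_surjective : AlgSp.RepWith @Surjective (atlasMap hV hY g y) :=
  (isAlgSpace_pullback_yon hV hY g y).atlas.choose_spec.choose_spec.2

noncomputable def atlasTo : atlasOver hV hY g y ⟶ B :=
  (AlgSp.yon S).preimage (atlasMap hV hY g y ≫ pullback.snd g y)

theorem map_atlasTo :
    (AlgSp.yon S).map (atlasTo hV hY g y) = atlasMap hV hY g y ≫ pullback.snd g y :=
  Functor.map_preimage _ _

/-- the ideal of functions on `B` vanishing on the fibre product `V ×_Y B`. -/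
noncomputable def kerAt : Ideal Γ(B.left, ⊤) :=
  RingHom.ker (atlasTo hV hY g y).left.appTop.hom

/-- the kernel can be computed with any chart of any fibre product. -/
theorem kerAt_eq_of_chart {P : AlgSp.Sp S} {fst : P ⟶ V} {snd : P ⟶ (AlgSp.yon S).obj B}
    (sq : IsPullback fst snd g y) {Q : Over S} (q : (AlgSp.yon S).obj Q ⟶ P)
    (hqe : AlgSp.RepWith @Etale q) (hqs : AlgSp.RepWith @Surjective q) (w : Q ⟶ B)
    (hw : (AlgSp.yon S).map w = q ≫ snd) :
    kerAt hV hY g y = RingHom.ker w.left.appTop.hom :=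
  ker_appTop_eq_of_charts g y (IsPullback.of_hasPullback g y) sq (atlasMap hV hY g y)
    (atlasMap_etale hV hY g y) (atlasMap_surjective hV hY g y) q hqe hqs _ w
    (map_atlasTo hV hY g y) hw

end Def

/-- base change: the kernel family of a base change is the kernel family along the composite. -/
theorem kerAt_of_isPullback {V Y X VX : AlgSp.Sp S} (hV : AlgSp.IsAlgSpace V)
    (hY : AlgSp.IsAlgSpace Y) (hX : AlgSp.IsAlgSpace X) (hVX : AlgSp.IsAlgSpace VX) (g : V ⟶ Y)
    (f : X ⟶ Y) (g₁ : VX ⟶ V) (gX : VX ⟶ X) (sqV : IsPullback g₁ gX g f) {B : Over S}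
    (x : (AlgSp.yon S).obj B ⟶ X) : kerAt hVX hX gX x = kerAt hV hY g (x ≫ f) := by
  have sq := (IsPullback.of_hasPullback gX x).paste_horiz sqV
  exact (kerAt_eq_of_chart hV hY g (x ≫ f) sq (atlasMap hVX hX gX x) (atlasMap_etale hVX hX gX x)
    (atlasMap_surjective hVX hX gX x) _ (map_atlasTo hVX hX gX x)).symm

/-- the kernel family of a representable morphism. -/
theorem idealOfRep_ideal_eq_kerAt {V Y : AlgSp.Sp S} (hV : AlgSp.IsAlgSpace V)
    (hY : AlgSp.IsAlgSpace Y) (m : V ⟶ Y) (hm : AlgSp.Representable m) (E : AlgSp.EtOver Y)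
    (hE : IsAffine E.obj.left.left) :
    (AlgSp.idealOfRep hm).ideal E hE = kerAt hV hY m E.obj.hom := by
  have sqE := AlgSp.EtOver.isPullback_bcObj hm E
  exact (kerAt_eq_of_chart hV hY m E.obj.hom sqE (𝟙 _) (AlgSp.repWith_id _ _)
    (AlgSp.repWith_id _ _) (AlgSp.EtOver.bcπ hm E) (Category.id_comp _).symm).symm

/-- the kernel family of the composite of an atlas with a morphism. -/
theorem idealOfRep_atlas_ideal_eq_kerAt {V Y : AlgSp.Sp S} (hV : AlgSp.IsAlgSpace V)
    (hY : AlgSp.IsAlgSpace Y) (g : V ⟶ Y) {V₀ : Over S} (c : (AlgSp.yon S).obj V₀ ⟶ V)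
    (hce : AlgSp.RepWith @Etale c) (hcs : AlgSp.RepWith @Surjective c)
    (hg₀ : AlgSp.Representable (c ≫ g)) (E : AlgSp.EtOver Y) (hE : IsAffine E.obj.left.left) :
    (AlgSp.idealOfRep hg₀).ideal E hE = kerAt hV hY g E.obj.hom := by
  have sqE := AlgSp.EtOver.isPullback_bcObj hg₀ E
  have hcomm : ((AlgSp.EtOver.bcObj hg₀ E).obj.hom ≫ c) ≫ g =
      (AlgSp.yon S).map (AlgSp.EtOver.bcπ hg₀ E) ≫ E.obj.hom := by
    rw [Category.assoc]; exact sqE.w
  let q := pullback.lift _ _ hcomm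
  have hq1 : q ≫ pullback.fst g E.obj.hom = (AlgSp.EtOver.bcObj hg₀ E).obj.hom ≫ c :=
    pullback.lift_fst _ _ _
  have hq2 : q ≫ pullback.snd g E.obj.hom = (AlgSp.yon S).map (AlgSp.EtOver.bcπ hg₀ E) :=
    pullback.lift_snd _ _ _
  have sqTop : IsPullback (AlgSp.EtOver.bcObj hg₀ E).obj.hom q c (pullback.fst g E.obj.hom) := by
    refine IsPullback.of_bot ?_ hq1.symm (IsPullback.of_hasPullback g E.obj.hom)
    rw [hq2]
    exact sqE
  have hqe : AlgSp.RepWith @Etale q := MorphismProperty.of_isPullback sqTop hce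
  have hqs : AlgSp.RepWith @Surjective q := MorphismProperty.of_isPullback sqTop hcs
  exact (kerAt_eq_of_chart hV hY g E.obj.hom (IsPullback.of_hasPullback g E.obj.hom) q hqe hqs
    (AlgSp.EtOver.bcπ hg₀ E) hq2.symm).symm

/-- for a quasi-compact morphism and an affine base there is a quasi-compact chart. -/
theorem exists_qc_chart {V Y : AlgSp.Sp S} (hV : AlgSp.IsAlgSpace V) (hY : AlgSp.IsAlgSpace Y)
    (g : V ⟶ Y) (hqc : AlgSp.IsQuasiCompactMor g) {B : Over S} [IsAffine B.left]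
    (y : (AlgSp.yon S).obj B ⟶ Y) :
    ∃ (Q : Over S) (q : (AlgSp.yon S).obj Q ⟶ pullback g y) (w : Q ⟶ B),
      AlgSp.RepWith @Etale q ∧ AlgSp.RepWith @Surjective q ∧
        (AlgSp.yon S).map w = q ≫ pullback.snd g y ∧ QuasiCompact w.left ∧
          kerAt hV hY g y = RingHom.ker w.left.appTop.hom := by
  have hB : CompactSpace ↥B.left := inferInstance
  obtain ⟨Q, q, hqe, hqs, hQ⟩ := hqc (AlgSp.IsAlgSpace.yon_obj B)
    (Groth.Agent.Lib.Helper30.isQuasiCompactSp_yon_obj B) y _ _ (IsPullback.of_hasPullback g y)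
  have hQ' : CompactSpace ↥Q.left := hQ
  let w : Q ⟶ B := (AlgSp.yon S).preimage (q ≫ pullback.snd g y)
  have hw : (AlgSp.yon S).map w = q ≫ pullback.snd g y := Functor.map_preimage _ _
  refine ⟨Q, q, w, hqe, hqs, hw, inferInstance, ?_⟩
  exact kerAt_eq_of_chart hV hY g y (IsPullback.of_hasPullback g y) q hqe hqs w hw

/-- flat base change of the kernel family of a quasi-compact morphism, between affine
schemes. -/
theorem kerAt_flat_base_change {V Y : AlgSp.Sp S} (hV : AlgSp.IsAlgSpace V)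
    (hY : AlgSp.IsAlgSpace Y) (g : V ⟶ Y) (hqc : AlgSp.IsQuasiCompactMor g) {B B' : Over S}
    [IsAffine B.left] [IsAffine B'.left] (y : (AlgSp.yon S).obj B ⟶ Y) (γ : B' ⟶ B)
    [Flat γ.left] :
    kerAt hV hY g ((AlgSp.yon S).map γ ≫ y) = (kerAt hV hY g y).map γ.left.appTop.hom := by
  obtain ⟨Q, q, w, hqe, hqs, hw, hwq, hker⟩ := exists_qc_chart hV hY g hqc y
  obtain ⟨Q', w1, w2, sqO, sqL⟩ := Groth.Agent.Lib.Helper30.isPullback_over' w γ
  have sqOy := sqO.map (AlgSp.yon S)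
  -- the fibre product over the new base
  have sqR := IsPullback.of_hasPullback (pullback.snd g y) ((AlgSp.yon S).map γ)
  have sqBig : IsPullback (pullback.fst (pullback.snd g y) ((AlgSp.yon S).map γ) ≫
      pullback.fst g y) (pullback.snd (pullback.snd g y) ((AlgSp.yon S).map γ)) g
      ((AlgSp.yon S).map γ ≫ y) := (sqR.flip.paste_vert (IsPullback.of_hasPullback g y).flip).flip
  have hcomm : ((AlgSp.yon S).map w1 ≫ q) ≫ pullback.snd g y =
      (AlgSp.yon S).map w2 ≫ (AlgSp.yon S).map γ := by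
    rw [Category.assoc, ← hw]; exact sqOy.w
  let q' := pullback.lift _ _ hcomm
  have hq'1 : q' ≫ pullback.fst (pullback.snd g y) ((AlgSp.yon S).map γ) =
      (AlgSp.yon S).map w1 ≫ q := pullback.lift_fst _ _ _
  have hq'2 : q' ≫ pullback.snd (pullback.snd g y) ((AlgSp.yon S).map γ) =
      (AlgSp.yon S).map w2 := pullback.lift_snd _ _ _
  have sqLeft : IsPullback q' ((AlgSp.yon S).map w1)
      (pullback.fst (pullback.snd g y) ((AlgSp.yon S).map γ)) q := by
    refine IsPullback.of_right ?_ hq'1 sqR.flip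
    rw [hq'2, ← hw]
    exact sqOy.flip
  have hq'e : AlgSp.RepWith @Etale q' := MorphismProperty.of_isPullback sqLeft.flip hqe
  have hq's : AlgSp.RepWith @Surjective q' := MorphismProperty.of_isPullback sqLeft.flip hqs
  rw [kerAt_eq_of_chart hV hY g ((AlgSp.yon S).map γ ≫ y) sqBig q' hq'e hq's w2 hq'2.symm, hker]
  have h1 := ker_of_isPullback_qc sqL
  have h2 := congrArg (fun J => J.ideal ⟨⊤, isAffineOpen_top B'.left⟩) h1
  simp only at h2
  rw [IdealShf.ker_ideal_top_of_isAffine, Groth.Agent.Lib.Helper20.ideal_comap_top_of_isAffine,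
    IdealShf.ker_ideal_top_of_isAffine] at h2
  exact h2

end Groth.Agent.Lib.Helper51.KerAt
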