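import Groth.Agent.Lib.Helper51.AlgSpPoints
import Mathlib.AlgebraicGeometry.Noetherian
import Mathlib.Topology.NoetherianSpace

/-!
Points of locally Noetherian algebraic spaces (helper51).
-/

set_option autoImplicit false
set_option linter.unusedSectionVars false
universe u
open CategoryTheory CategoryTheory.Limits AlgebraicGeometry Opposite TopologicalSpace

set_option backward.isDefEq.respectTransparency false

namespace Groth.Agent.Lib.Helper51

open AlgSp Groth.Agent.Lib.Helper52

variable {S : Scheme.{u}} {F G : AlgSp.Sp S}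

/-- In a locally Noetherian scheme every point has an affine open neighbourhood which is a
Noetherian space. -/
theorem exists_noetherian_affine_nhd (U : Scheme.{u}) [IsLocallyNoetherian U] (x : ↥U) :
    ∃ V : U.Opens, IsAffineOpen V ∧ x ∈ V ∧ NoetherianSpace ↥V := by
  obtain ⟨V, hV, hxV, _⟩ := exists_isAffineOpen_mem_and_subset (Opens.mem_top x)
  have : IsNoetherianRing Γ(U, V) := IsLocallyNoetherian.component_noetherian ⟨V, hV⟩
  exact ⟨V, hV, hxV, noetherianSpace_of_isAffineOpen V hV⟩

theorem noetherianSpace_image_ofPt {U : Over S} (p : (AlgSp.yon S).obj U ⟶ F)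
    (V : U.left.Opens) [NoetherianSpace ↥V] :
    NoetherianSpace ↥(Points.ofPt p '' (V : Set ↥U.left)) := by
  rw [Set.image_eq_range]
  exact NoetherianSpace.range (fun v : ↥V => Points.ofPt p v.1)
    ((Points.continuous_ofPt p).comp continuous_subtype_val)

theorem exists_noetherianSpace_nhd (hF : AlgSp.IsLocNoethSp F) (x : Points F) :
    ∃ W : Set (Points F), IsOpen W ∧ x ∈ W ∧ NoetherianSpace ↥W := by
  obtain ⟨U, p, hp, hs, hU⟩ := hF
  have : IsLocallyNoetherian U.left := hU
  obtain ⟨u, rfl⟩ := surjective_ofPt_of_repWith_surjective p hs x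
  obtain ⟨V, _, huV, hVN⟩ := exists_noetherian_affine_nhd U.left u
  exact ⟨Points.ofPt p '' (V : Set ↥U.left), isOpenMap_ofPt_of_etale p hp _ V.2,
    ⟨u, huV, rfl⟩, noetherianSpace_image_ofPt p V⟩

theorem noetherianSpace_points (hqc : AlgSp.IsQuasiCompactSp F) (hF : AlgSp.IsLocNoethSp F) :
    NoetherianSpace (Points F) := by
  have := compactSpace_points_of_isQuasiCompactSp hqc
  obtain ⟨U, p, hp, hs, hU⟩ := hF
  have : IsLocallyNoetherian U.left := hU
  choose V _ huV hVN using exists_noetherian_affine_nhd U.left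
  have hcov : (Set.univ : Set (Points F)) ⊆ ⋃ u : ↥U.left, Points.ofPt p '' (V u : Set ↥U.left) := by
    intro x _
    obtain ⟨u, rfl⟩ := surjective_ofPt_of_repWith_surjective p hs x
    exact Set.mem_iUnion.2 ⟨u, u, huV u, rfl⟩
  obtain ⟨t, ht⟩ := isCompact_univ.elim_finite_subcover
    (fun u : ↥U.left => Points.ofPt p '' (V u : Set ↥U.left))
    (fun u => isOpenMap_ofPt_of_etale p hp _ (V u).2) hcov
  have h1 : NoetherianSpace ↥(⋃ i : {u // u ∈ t}, Points.ofPt p '' (V i.1 : Set ↥U.left)) := by
    have : ∀ i : {u // u ∈ t}, NoetherianSpace ↥(Points.ofPt p '' (V i.1 : Set ↥U.left)) :=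
      fun i => noetherianSpace_image_ofPt p (V i.1)
    exact NoetherianSpace.iUnion _
  have h2 : (⋃ i : {u // u ∈ t}, Points.ofPt p '' (V i.1 : Set ↥U.left)) = Set.univ := by
    apply Set.eq_univ_of_univ_subset
    intro x hx
    have := ht hx
    simp only [Set.mem_iUnion, exists_prop] at this
    obtain ⟨u, hu, hxu⟩ := this
    exact Set.mem_iUnion.2 ⟨⟨u, hu⟩, hxu⟩
  rw [h2] at h1
  exact noetherian_univ_iff.1 h1

end Groth.Agent.Lib.Helper51
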