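import Groth.Agent.Lib.Helper51.AlgSpQuotField4
import Groth.Agent.Lib.Helper51.AlgSpDiag

/-!
Quasi-separated algebraic spaces are decent (helper51).
-/

set_option autoImplicit false
set_option linter.unusedSectionVars false
universe u
open CategoryTheory CategoryTheory.Limits AlgebraicGeometry Opposite TensorProduct

set_option backward.isDefEq.respectTransparency false

namespace Groth.Agent.Lib.Helper51

open AlgSp Groth.Agent.Lib.Helper30 Groth.Agent.Lib.Helper52

variable {S : Scheme.{u}}

/-- If the diagonal of `F` is quasi-compact, then any morphism from a scheme quasi-compact over `S`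
is quasi-compact. -/
theorem repWith_quasiCompact_of_isQuasiSeparatedSp {F : AlgSp.Sp S}
    (hqs : AlgSp.IsQuasiSeparatedSp F) {U : Over S} (hU : QuasiCompact U.hom)
    (a : (AlgSp.yon S).obj U ⟶ F) (ha : AlgSp.Representable a) :
    AlgSp.RepWith @QuasiCompact a := by
  refine ⟨ha, ?_⟩
  intro T V b fst snd sq
  obtain ⟨fst', rfl⟩ := (AlgSp.yon S).map_surjective fst
  have h1 : QuasiCompact (prod.lift fst' snd).left := hqs.2 (chart2 a b) _ _ (isPullback_diag_chart2 sq)
  have h2 : QuasiCompact (prod.snd : U ⨯ T ⟶ T).left := by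
    rw [← Over.prodLeftIsoPullback_hom_snd]
    infer_instance
  have h3 : snd.left = (prod.lift fst' snd).left ≫ (prod.snd : U ⨯ T ⟶ T).left := by
    rw [← Over.comp_left, prod.lift_snd]
  show QuasiCompact snd.left
  rw [h3]
  infer_instance

/-- Quasi-separated algebraic spaces are decent. -/
theorem isDecent_of_isQuasiSeparatedSp {X : AlgSp.Sp S} (hX : AlgSp.IsAlgSpace X)
    (hqs : AlgSp.IsQuasiSeparatedSp X) : AlgSp.IsDecent X := by
  intro x
  obtain ⟨q, rfl⟩ := Points.mk_surjective x
  refine exists_qc_mono_fieldPt_of_quasiCompact hX q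
    (repWith_quasiCompact_of_isQuasiSeparatedSp hqs ?_ q.toHom (hX.representable_from_yon _))
  have : Subsingleton ↥q.pt.left := inferInstanceAs (Subsingleton (PrimeSpectrum q.K))
  exact quasiCompact_of_subsingleton _

end Groth.Agent.Lib.Helper51
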