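import Groth.Agent.Lib.Helper51.AlgSpDiag
import Groth.Agent.Lib.Helper51.QCDescent

/-!
Checking properties of the diagonal of an algebraic space on a chart (helper51).
-/

set_option autoImplicit false
set_option linter.unusedSectionVars false
universe u
open CategoryTheory CategoryTheory.Limits AlgebraicGeometry Opposite

set_option backward.isDefEq.respectTransparency false

namespace Groth.Agent.Lib.Helper51

open AlgSp Groth.Agent.Lib.Helper52

variable {S : Scheme.{u}} {F G : AlgSp.Sp S}

section Descent

variable (P : MorphismProperty Scheme.{u}) [P.IsStableUnderBaseChange]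
  [P.DescendsAlong (@Surjective ⊓ @Flat ⊓ @LocallyOfFinitePresentation)]

/-- Variant of `repWith_of_chart` with an arbitrary pullback square over the chart. -/
theorem repWith_of_chart' {f : F ⟶ G} (hf : AlgSp.Representable f) {V W : Over S}
    (p : (AlgSp.yon S).obj V ⟶ G) (hp : AlgSp.RepWith @Etale p)
    (hs : AlgSp.RepWith @Surjective p) {fst : (AlgSp.yon S).obj W ⟶ F} {snd : W ⟶ V}
    (sq : IsPullback fst ((AlgSp.yon S).map snd) f p) (h : P snd.left) :
    AlgSp.RepWith P f := by
  apply MorphismProperty.relative_of_snd hf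
  intro T g
  obtain ⟨T', r, q, sqb⟩ := exists_isPullback_of_representable hp.1 g
  have hq : Etale q.left := hp.2 g _ q sqb
  have hqs : Surjective q.left := hs.2 g _ q sqb
  obtain ⟨g'', hg''⟩ : ∃ g'' : (AlgSp.yon S).obj T' ⟶ G, g'' = (AlgSp.yon S).map q ≫ g :=
    ⟨_, rfl⟩
  obtain ⟨W', snd', fst', sq'⟩ := hf g''
  have sq'T := sq'
  rw [hg''] at sq'T
  have sq'V := sq'
  rw [hg'', ← sqb.w] at sq'V
  obtain ⟨l1, _, h1⟩ := exists_isPullback_left_of_isPullback (hf.isPullback g) sq'T
  obtain ⟨l2, _, h2⟩ := exists_isPullback_left_of_isPullback sq sq'V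
  have hP' : P snd'.left := P.of_isPullback h2 h
  exact MorphismProperty.of_isPullback_of_descendsAlong
    (Q := @Surjective ⊓ @Flat ⊓ @LocallyOfFinitePresentation) h1.flip
    ⟨⟨hqs, inferInstance⟩, inferInstance⟩ hP'

/-- A base-change-stable, fppf-local property of the diagonal can be checked on the fibre product
of one etale surjective chart with itself. -/
theorem repWith_diag_of_chart (hF : AlgSp.Representable (Limits.diag F)) {R U : Over S}
    (p : (AlgSp.yon S).obj U ⟶ F) (hp : AlgSp.RepWith @Etale p)
    (hs : AlgSp.RepWith @Surjective p) (s t : R ⟶ U)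
    (hR : IsPullback ((AlgSp.yon S).map t) ((AlgSp.yon S).map s) p p)
    (h : P (prod.lift t s).left) : AlgSp.RepWith P (Limits.diag F) :=
  repWith_of_chart' P hF (chart2 p p) (repWith_chart2 @Etale hp hp)
    (repWith_chart2 @Surjective hs hs) (isPullback_diag_chart2 hR) h

end Descent

/-- The first projection of `U × U` over `S` is a base change of the structure morphism. -/
theorem isPullback_prod_left (U V : Over S) :
    IsPullback (prod.fst : U ⨯ V ⟶ U).left (prod.snd : U ⨯ V ⟶ V).left U.hom V.hom :=
  Over.isPullback_of_binaryFan_isLimit (BinaryFan.mk prod.fst prod.snd) (prodIsProd U V)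

instance quasiSeparated_prod_fst_left (U V : Over S) [QuasiSeparatedSpace ↥V.left] :
    QuasiSeparated (prod.fst : U ⨯ V ⟶ U).left :=
  MorphismProperty.of_isPullback (isPullback_prod_left U V).flip
    (inferInstance : QuasiSeparated V.hom)

instance quasiSeparated_prod_snd_left (U V : Over S) [QuasiSeparatedSpace ↥U.left] :
    QuasiSeparated (prod.snd : U ⨯ V ⟶ V).left :=
  MorphismProperty.of_isPullback (isPullback_prod_left U V)
    (inferInstance : QuasiSeparated U.hom)

end Groth.Agent.Lib.Helper51

namespace Groth.Agent.Lib.Helper51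

open AlgSp Groth.Agent.Lib.Helper52

variable {S : Scheme.{u}} {F G : AlgSp.Sp S}

/-- The fibre product of two charts of a sheaf embeds into their product over `S`. -/
theorem mono_prod_lift_left {W U V : Over S} {fst : W ⟶ U} {snd : W ⟶ V}
    {a : (AlgSp.yon S).obj U ⟶ F} {b : (AlgSp.yon S).obj V ⟶ F}
    (sq : IsPullback ((AlgSp.yon S).map fst) ((AlgSp.yon S).map snd) a b) :
    Mono (prod.lift fst snd).left := by
  have h1 := isPullback_diag_chart2 sq
  have h2 : Mono ((AlgSp.yon S).map (prod.lift fst snd)) :=
    MorphismProperty.of_isPullback (P := MorphismProperty.monomorphisms _) h1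
      (MorphismProperty.monomorphisms.infer_property (Limits.diag F))
  have h3 : Mono (prod.lift fst snd) := (AlgSp.yon S).mono_of_mono_map h2
  infer_instance

instance isSeparated_prod_fst_left (U V : Over S) [V.left.IsSeparated] :
    IsSeparated (prod.fst : U ⨯ V ⟶ U).left :=
  MorphismProperty.of_isPullback (isPullback_prod_left U V).flip
    (inferInstance : IsSeparated V.hom)

instance isSeparated_prod_snd_left (U V : Over S) [U.left.IsSeparated] :
    IsSeparated (prod.snd : U ⨯ V ⟶ V).left :=
  MorphismProperty.of_isPullback (isPullback_prod_left U V)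
    (inferInstance : IsSeparated U.hom)

/-- The second projection of the fibre product of a separated chart with any chart is
separated. -/
theorem isSeparated_snd_of_isPullback {W U V : Over S} {fst : W ⟶ U} {snd : W ⟶ V}
    {a : (AlgSp.yon S).obj U ⟶ F} {b : (AlgSp.yon S).obj V ⟶ F}
    (sq : IsPullback ((AlgSp.yon S).map fst) ((AlgSp.yon S).map snd) a b)
    [U.left.IsSeparated] : IsSeparated snd.left := by
  have := mono_prod_lift_left sq
  have h1 : (prod.lift fst snd).left ≫ (prod.snd : U ⨯ V ⟶ V).left = snd.left := by
    rw [← Over.comp_left, prod.lift_snd]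
  rw [← h1]
  infer_instance

theorem isSeparated_fst_of_isPullback {W U V : Over S} {fst : W ⟶ U} {snd : W ⟶ V}
    {a : (AlgSp.yon S).obj U ⟶ F} {b : (AlgSp.yon S).obj V ⟶ F}
    (sq : IsPullback ((AlgSp.yon S).map fst) ((AlgSp.yon S).map snd) a b)
    [V.left.IsSeparated] : IsSeparated fst.left :=
  isSeparated_snd_of_isPullback sq.flip

end Groth.Agent.Lib.Helper51

namespace Groth.Agent.Lib.Helper51

open AlgSp Groth.Agent.Lib.Helper52

variable {S : Scheme.{u}} {F G : AlgSp.Sp S}

/-- A representable morphism from a separated scheme is separated. -/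
theorem repWith_isSeparated_of_isSeparated_source {U : Over S} {a : (AlgSp.yon S).obj U ⟶ F}
    (ha : AlgSp.Representable a) [U.left.IsSeparated] : AlgSp.RepWith @IsSeparated a := by
  apply MorphismProperty.relative_of_snd ha
  intro T g
  obtain ⟨fst, hfst⟩ := (AlgSp.yon S).map_surjective (ha.fst g)
  have sq := ha.isPullback g
  rw [← hfst] at sq
  exact isSeparated_snd_of_isPullback sq

theorem scheme_isSeparated_of_isSeparated {X Y : Scheme.{u}} (f : X ⟶ Y) [IsSeparated f]
    [Y.IsSeparated] : X.IsSeparated := by
  constructor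
  rw [← terminal.comp_from f]
  infer_instance

end Groth.Agent.Lib.Helper51
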