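import Groth.Agent.Lib.Helper51.EtaleSepQC
import Groth.Agent.Lib.Helper51.AlgSpQuotField5
import Groth.Agent.Lib.Helper51.AlgSpSep
import Groth.Agent.Lib.Helper51.AlgSpSpecial

/-!
A locally Noetherian decent algebraic space is quasi-separated (helper51).
-/

set_option autoImplicit false
set_option linter.unusedSectionVars false
universe u
open CategoryTheory CategoryTheory.Limits AlgebraicGeometry Opposite Topology TopologicalSpace

set_option backward.isDefEq.respectTransparency false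

namespace Groth.Agent.Lib.Helper51.NoethQS

open AlgSp Groth.Agent.Lib.Helper51 Groth.Agent.Lib.Helper52 Groth.Agent.Lib.Helper30
  Groth.Agent.Lib.Helper51.EtSepQC

variable {S : Scheme.{u}}

/-- Finiteness of the part of a fibre of `s : U ×_X U ⟶ U` lying over a compact open via `t`. -/
theorem finite_fibre_inter {X : AlgSp.Sp S} {U : Over S}
    (φ : (AlgSp.yon S).obj U ⟶ X) {R : Over S} (s t : R ⟶ U)
    (sqR : IsPullback ((AlgSp.yon S).map t) ((AlgSp.yon S).map s) φ φ) (u : ↥U.left)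
    (hφ : AlgSp.RepWith @Etale φ)
    (hq : AlgSp.RepWith @QuasiCompact (FieldPt.ofPt φ u).toHom)
    (B : U.left.Opens) (hB : IsCompact (B : Set ↥U.left)) :
    {r : ↥R.left | s.left r = u ∧ t.left r ∈ B}.Finite := by
  rw [FieldPt.toHom_ofPt] at hq
  set iu := U.left.fromSpecResidueField u with hiu
  let Uκ : Over S := Over.mk (iu ≫ U.hom)
  let iuO : Uκ ⟶ U := Over.homMk iu rfl
  obtain ⟨F1, f1, f2, sqF, sqFl⟩ := isPullback_over' s iuO
  have hs_et : Etale s.left := hφ.2 φ ((AlgSp.yon S).map t) s sqR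
  have hf2_et : Etale f2.left := MorphismProperty.of_isPullback sqFl hs_et
  have big1 := (sqF.map (AlgSp.yon S)).paste_horiz sqR
  rw [← Functor.map_comp] at big1
  have hqc : QuasiCompact (f1 ≫ t).left := hq.2 φ _ _ big1.flip
  let K : F1.left.Opens := (f1 ≫ t).left ⁻¹ᵁ B
  have hKc : CompactSpace ↥(K : Scheme.{u}) :=
    isCompact_iff_compactSpace.1 (hqc.isCompact_preimage _ B.2 hB)
  have hfin : Finite ↥(K : Scheme.{u}) :=
    finite_of_etale_over_field (K := ↥(U.left.residueField u)) (K.ι ≫ f2.left)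
  refine (Set.finite_range (fun z : ↥(K : Scheme.{u}) => f1.left (K.ι z))).subset ?_
  rintro r ⟨hr, hrB⟩
  have hr' : s.left r = iu (IsLocalRing.closedPoint _) := by
    rw [hr]
    exact (Scheme.fromSpecResidueField_apply _ _).symm
  obtain ⟨z, hz1, -⟩ := Scheme.exists_preimage_of_isPullback sqFl r _ hr'
  have hzK : z ∈ K := by
    show (f1 ≫ t).left z ∈ B
    rw [Over.comp_left, Scheme.Hom.comp_apply, hz1]
    exact hrB
  exact ⟨⟨z, hzK⟩, hz1⟩


/-- The two projections of `U ×_X U` are jointly monomorphic on underlying schemes. -/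
theorem joint_mono {X : AlgSp.Sp S} {A R : Over S} (p : (AlgSp.yon S).obj A ⟶ X) (s t : R ⟶ A)
    (hR : IsPullback ((AlgSp.yon S).map t) ((AlgSp.yon S).map s) p p) {T : Scheme.{u}}
    (b₁ b₂ : T ⟶ R.left) (h1 : b₁ ≫ t.left = b₂ ≫ t.left) (h2 : b₁ ≫ s.left = b₂ ≫ s.left) :
    b₁ = b₂ := by
  let T' : Over S := Over.mk (b₁ ≫ R.hom)
  let b₁' : T' ⟶ R := Over.homMk b₁ rfl
  have hb₂ : b₂ ≫ R.hom = b₁ ≫ R.hom := by
    rw [← Over.w t, ← Category.assoc, ← h1, Category.assoc]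
  let b₂' : T' ⟶ R := Over.homMk b₂ hb₂
  have e1 : b₁' ≫ t = b₂' ≫ t := by
    ext; exact h1
  have e2 : b₁' ≫ s = b₂' ≫ s := by
    ext; exact h2
  have h3 : (AlgSp.yon S).map b₁' = (AlgSp.yon S).map b₂' := by
    apply hR.hom_ext
    · rw [← Functor.map_comp, ← Functor.map_comp, e1]
    · rw [← Functor.map_comp, ← Functor.map_comp, e2]
  have h4 := (AlgSp.yon S).map_injective h3
  exact congrArg (fun k => k.left) h4

/-- For a locally Noetherian etale chart `A` of a decent space, the part of `A ×_X A` lying over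
a pair of affine opens is quasi-compact. -/
theorem isCompact_inter {X : AlgSp.Space S} (hX : AlgSp.IsDecent X.obj) {A R : Over S}
    [IsLocallyNoetherian A.left] (p : (AlgSp.yon S).obj A ⟶ X.obj) (hpe : AlgSp.RepWith @Etale p)
    (s t : R ⟶ A) (hR : IsPullback ((AlgSp.yon S).map t) ((AlgSp.yon S).map s) p p)
    (Aα Aβ : A.left.Opens) (hα : IsAffineOpen Aα) (hβ : IsAffineOpen Aβ) :
    IsCompact ((t.left ⁻¹ᵁ Aα ⊓ s.left ⁻¹ᵁ Aβ : R.left.Opens) : Set ↥R.left) := by
  have hte : Etale t.left := hpe.2 p _ t hR.flip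
  have hse : Etale s.left := hpe.2 p _ s hR
  set O : R.left.Opens := t.left ⁻¹ᵁ Aα ⊓ s.left ⁻¹ᵁ Aβ with hO
  have hrα : Set.range (O.ι ≫ t.left) ⊆ Set.range Aα.ι := by
    rintro _ ⟨r, rfl⟩
    rw [Scheme.Opens.range_ι]
    exact r.2.1
  have hrβ : Set.range (O.ι ≫ s.left) ⊆ Set.range Aβ.ι := by
    rintro _ ⟨r, rfl⟩
    rw [Scheme.Opens.range_ι]
    exact r.2.2
  let f : O.toScheme ⟶ Aα.toScheme := IsOpenImmersion.lift Aα.ι (O.ι ≫ t.left) hrα
  let sβ : O.toScheme ⟶ Aβ.toScheme := IsOpenImmersion.lift Aβ.ι (O.ι ≫ s.left) hrβ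
  have hf : f ≫ Aα.ι = O.ι ≫ t.left := IsOpenImmersion.lift_fac _ _ _
  have hsβ : sβ ≫ Aβ.ι = O.ι ≫ s.left := IsOpenImmersion.lift_fac _ _ _
  haveI : Etale (f ≫ Aα.ι) := by rw [hf]; infer_instance
  haveI : Etale f := Etale.of_comp f Aα.ι
  haveI : IsAffine Aβ.toScheme := hβ
  have hcond : (O.ι ≫ t.left) ≫ A.hom = sβ ≫ (Aβ.ι ≫ A.hom) := by
    rw [← Category.assoc sβ, hsβ, Category.assoc, Category.assoc, Over.w t, Over.w s]
  let m : O.toScheme ⟶ pullback A.hom (Aβ.ι ≫ A.hom) := pullback.lift (O.ι ≫ t.left) sβ hcond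
  have hm1 : m ≫ pullback.fst _ _ = O.ι ≫ t.left := pullback.lift_fst _ _ _
  have hm2 : m ≫ pullback.snd _ _ = sβ := pullback.lift_snd _ _ _
  haveI : Mono m := by
    constructor
    intro T a₁ a₂ h12
    have e1 : a₁ ≫ O.ι ≫ t.left = a₂ ≫ O.ι ≫ t.left := by
      rw [← hm1, ← Category.assoc, h12, Category.assoc]
    have e2 : a₁ ≫ sβ = a₂ ≫ sβ := by
      rw [← hm2, ← Category.assoc, h12, Category.assoc]
    have e2' : a₁ ≫ O.ι ≫ s.left = a₂ ≫ O.ι ≫ s.left := by
      rw [← hsβ, ← Category.assoc, e2, Category.assoc]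
    have h5 := joint_mono p s t hR (a₁ ≫ O.ι) (a₂ ≫ O.ι)
      (by rw [Category.assoc, Category.assoc]; exact e1)
      (by rw [Category.assoc, Category.assoc]; exact e2')
    exact (cancel_mono O.ι).1 h5
  haveI : IsSeparated (O.ι ≫ t.left) := by
    rw [← hm1]; infer_instance
  haveI : IsSeparated (f ≫ Aα.ι) := by rw [hf]; infer_instance
  haveI : IsSeparated f := IsSeparated.of_comp f Aα.ι
  haveI : IsLocallyNoetherian Aα.toScheme := isLocallyNoetherian_of_isOpenImmersion Aα.ι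
  haveI : IsAffine Aα.toScheme := hα
  haveI : IsNoetherian Aα.toScheme := {}
  have hfib : ∀ a : ↥Aα.toScheme, (f ⁻¹' {a}).Finite := by
    intro a
    obtain ⟨q, hq1, -, hqc⟩ := hX (Points.ofPt p (Aα.ι a))
    have hqu : AlgSp.RepWith @QuasiCompact (FieldPt.ofPt p (Aα.ι a)).toHom :=
      repWith_quasiCompact_of_mk_eq' _ q (X.property.representable_from_yon _) hqc hq1.symm
    have hfin := finite_fibre_inter p t s hR.flip (Aα.ι a) hpe hqu Aβ hβ.isCompact
    refine Set.Finite.of_finite_image (f := fun r' => O.ι r') (hfin.subset ?_)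
      (O.ι.isOpenEmbedding.injective.injOn)
    rintro _ ⟨r', hr', rfl⟩
    refine ⟨?_, r'.2.2⟩
    have h6 : (f ≫ Aα.ι) r' = Aα.ι a := by
      rw [Scheme.Hom.comp_apply]
      exact congrArg _ hr'
    rw [hf, Scheme.Hom.comp_apply] at h6
    exact h6
  have hc := compactSpace_of_etale_separated f hfib
  exact isCompact_iff_compactSpace.2 hc


/-- A locally Noetherian decent algebraic space is quasi-separated. -/
theorem isQuasiSeparatedSp_of_locNoeth_decent (X : AlgSp.Space S)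
    (hN : AlgSp.IsLocNoethSp X.obj) (hX : AlgSp.IsDecent X.obj) :
    AlgSp.IsQuasiSeparatedSp X.obj := by
  obtain ⟨A, p, hpe, hps, hAN⟩ := hN
  haveI : IsLocallyNoetherian A.left := hAN
  obtain ⟨R, t, s, hR⟩ := exists_isPullback_of_representable hpe.1 p
  refine repWith_diag_of_chart @QuasiCompact X.property.diag p hpe hps s t hR ?_
  have hte : Etale t.left := hpe.2 p _ t hR.flip
  haveI : IsLocallyNoetherian R.left := LocallyOfFiniteType.isLocallyNoetherian t.left
  have hj1 : (prod.lift t s).left ≫ (prod.fst : A ⨯ A ⟶ A).left = t.left := by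
    rw [← Over.comp_left, prod.lift_fst]
  have hj2 : (prod.lift t s).left ≫ (prod.snd : A ⨯ A ⟶ A).left = s.left := by
    rw [← Over.comp_left, prod.lift_snd]
  rw [quasiCompact_iff_forall_isAffineOpen]
  intro Q hQ
  have hex : ∀ a : ↥A.left, ∃ Aa : A.left.Opens, IsAffineOpen Aa ∧ a ∈ Aa := fun a => by
    obtain ⟨Aa, hAa, haAa, -⟩ := exists_isAffineOpen_mem_and_subset
      (TopologicalSpace.Opens.mem_top a)
    exact ⟨Aa, hAa, haAa⟩
  choose Af hAf haAf using hex
  let N : ↥(A ⨯ A).left → Set ↥(A ⨯ A).left := fun o =>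
    (prod.fst : A ⨯ A ⟶ A).left ⁻¹' (Af ((prod.fst : A ⨯ A ⟶ A).left o) : Set ↥A.left) ∩
      (prod.snd : A ⨯ A ⟶ A).left ⁻¹' (Af ((prod.snd : A ⨯ A ⟶ A).left o) : Set ↥A.left)
  obtain ⟨T, -, hcov⟩ := hQ.isCompact.elim_nhds_subcover N (fun o _ =>
    IsOpen.mem_nhds (((Af _).2.preimage (prod.fst : A ⨯ A ⟶ A).left.continuous).inter
      ((Af _).2.preimage (prod.snd : A ⨯ A ⟶ A).left.continuous)) ⟨haAf _, haAf _⟩)
  let Oo : ↥(A ⨯ A).left → R.left.Opens := fun o =>
    t.left ⁻¹ᵁ Af ((prod.fst : A ⨯ A ⟶ A).left o) ⊓ s.left ⁻¹ᵁ Af ((prod.snd : A ⨯ A ⟶ A).left o)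
  have heq : (((prod.lift t s).left ⁻¹ᵁ Q : R.left.Opens) : Set ↥R.left) =
      ⋃ o ∈ T, ((Oo o : Set ↥R.left) ∩ (prod.lift t s).left ⁻¹' (Q : Set ↥(A ⨯ A).left)) := by
    apply Set.Subset.antisymm
    · intro r hr
      obtain ⟨o, hoT, ho⟩ := Set.mem_iUnion₂.1 (hcov hr)
      refine Set.mem_biUnion hoT ⟨⟨?_, ?_⟩, hr⟩
      · show t.left r ∈ Af _
        rw [← hj1, Scheme.Hom.comp_apply]
        exact ho.1
      · show s.left r ∈ Af _
        rw [← hj2, Scheme.Hom.comp_apply]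
        exact ho.2
    · intro r hr
      obtain ⟨o, -, ho⟩ := Set.mem_iUnion₂.1 hr
      exact ho.2
  rw [heq]
  refine T.isCompact_biUnion (fun o _ => ?_)
  have hOc : IsCompact (Oo o : Set ↥R.left) :=
    isCompact_inter hX p hpe s t hR _ _ (hAf _) (hAf _)
  haveI : CompactSpace ↥((Oo o : R.left.Opens) : Scheme.{u}) := isCompact_iff_compactSpace.1 hOc
  haveI : IsLocallyNoetherian ((Oo o : R.left.Opens) : Scheme.{u}) :=
    isLocallyNoetherian_of_isOpenImmersion (Oo o).ι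
  haveI : IsNoetherian ((Oo o : R.left.Opens) : Scheme.{u}) := {}
  have hNS : NoetherianSpace ↥((Oo o : R.left.Opens) : Set ↥R.left) :=
    (inferInstance : NoetherianSpace ↥((Oo o : R.left.Opens) : Scheme.{u}))
  have h7 := (NoetherianSpace.isCompact
    ((Subtype.val : ↥((Oo o : R.left.Opens) : Set ↥R.left) → ↥R.left) ⁻¹'
      ((prod.lift t s).left ⁻¹' (Q : Set ↥(A ⨯ A).left)))).image continuous_subtype_val
  rwa [Subtype.image_preimage_coe] at h7

end Groth.Agent.Lib.Helper51.NoethQS
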