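import Groth.Agent.Lib.Helper51.AlgSpKerAt

set_option autoImplicit false
set_option linter.unusedSectionVars false
universe u
open CategoryTheory CategoryTheory.Limits AlgebraicGeometry Opposite

set_option backward.isDefEq.respectTransparency false

namespace Groth.Agent.Lib.Helper51.KerAt

open AlgSp Groth.Agent.Lib.Helper52 Groth.Agent.Lib.Helper51 Groth.Agent.Lib.Helper51.ClosedSub

variable {S : Scheme.{u}}

/-- the scheme theoretic image does not change under precomposition with an epimorphism. -/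
theorem isSchImage_comp_epi_iff {W X Y Z : AlgSp.Sp S} (c : W ⟶ X) [Epi c] (f : X ⟶ Y)
    (i : Z ⟶ Y) : AlgSp.IsSchImage (c ≫ f) i ↔ AlgSp.IsSchImage f i := by
  have hstrong : StrongEpi c := strongEpi_of_epi c
  constructor
  · rintro ⟨hi, ⟨f', hf'⟩, hmin⟩
    have himono : Mono i := mono_of_repWith_isClosedImmersion i hi
    have csq : CommSq f' c i f := ⟨hf'⟩
    refine ⟨hi, ⟨csq.lift, csq.fac_right⟩, ?_⟩
    intro Z' i' hZ' hi' ⟨f'', hf''⟩
    exact hmin i' hZ' hi' ⟨c ≫ f'', by rw [Category.assoc, hf'']⟩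
  · rintro ⟨hi, ⟨f', hf'⟩, hmin⟩
    refine ⟨hi, ⟨c ≫ f', by rw [Category.assoc, hf']⟩, ?_⟩
    intro Z' i' hZ' hi' ⟨f'', hf''⟩
    have hi'mono : Mono i' := mono_of_repWith_isClosedImmersion i' hi'
    have csq : CommSq f'' c i' f := ⟨hf''⟩
    exact hmin i' hZ' hi' ⟨csq.lift, csq.fac_right⟩

/-- a closed subspace cut out by the kernel family of a representable morphism is its scheme
theoretic image. -/
theorem isSchImage_of_isCutOutBy {F Y Z : AlgSp.Sp S} (hY : AlgSp.IsAlgSpace Y) (g : F ⟶ Y)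
    (hg : AlgSp.Representable g) (i : Z ⟶ Y)
    (h : AlgSp.IsCutOutBy (AlgSp.idealOfRep hg) i) : AlgSp.IsSchImage g i := by
  obtain ⟨hi, hcut⟩ := h
  refine ⟨hi, ?_, ?_⟩
  · exact IdealFac.exists_factor_of_idealOfRep_le hY i hi g hg (fun E hE => by rw [hcut])
  · intro Z' i' hZ' hi' ⟨f'', hf''⟩
    have h1 := IdealFac.idealOfRep_le_of_factor i' hi'.1 g hg f'' hf''
    exact IdealFac.exists_factor_of_idealOfRep_le hY i' hi' i hi.1
      (fun E hE => by rw [hcut]; exact h1 E hE)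

/-- the kernel family of a quasi-compact morphism (through an atlas) is quasi-coherent. -/
theorem isQCoh_idealOfRep_atlas {V Y : AlgSp.Sp S} (hV : AlgSp.IsAlgSpace V)
    (hY : AlgSp.IsAlgSpace Y) (g : V ⟶ Y) (hqc : AlgSp.IsQuasiCompactMor g) {V₀ : Over S}
    (c : (AlgSp.yon S).obj V₀ ⟶ V) (hce : AlgSp.RepWith @Etale c)
    (hcs : AlgSp.RepWith @Surjective c) (hg₀ : AlgSp.Representable (c ≫ g)) :
    (AlgSp.idealOfRep hg₀).IsQCoh := by
  intro E E' γ hE hE'
  rw [idealOfRep_atlas_ideal_eq_kerAt hV hY g c hce hcs hg₀ E' hE',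
    idealOfRep_atlas_ideal_eq_kerAt hV hY g c hce hcs hg₀ E hE]
  have h : kerAt hV hY g E'.obj.hom = kerAt hV hY g ((AlgSp.yon S).map γ.hom.left ≫ E.obj.hom) :=
    congrArg _ (AlgSp.EtOver.w γ).symm
  have het : Etale γ.hom.left.left := AlgSp.EtOver.etale_left γ
  have hfl : Flat γ.hom.left.left := inferInstance
  rw [h, kerAt_flat_base_change hV hY g hqc E.obj.hom γ.hom.left]

/-- the scheme theoretic image of a quasi-compact morphism is cut out by the kernel family. -/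
theorem idealOfRep_eq_kerAt_of_isSchImage {X Y Z : AlgSp.Sp S} (hX : AlgSp.IsAlgSpace X)
    (hY : AlgSp.IsAlgSpace Y) (hZ : AlgSp.IsAlgSpace Z) (f : X ⟶ Y)
    (hqc : AlgSp.IsQuasiCompactMor f) (i : Z ⟶ Y) (hi : AlgSp.IsSchImage f i)
    (E : AlgSp.EtOver Y) (hE : IsAffine E.obj.left.left) :
    kerAt hZ hY i E.obj.hom = kerAt hX hY f E.obj.hom := by
  obtain ⟨X₀, c, hce, hcs⟩ := hX.atlas
  have hcepi : Epi c := Groth.Agent.Lib.Helper30.epi_of_repWith_etale_surjective c hce hcs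
  have hf₀ : AlgSp.Representable (c ≫ f) := hY.representable_from_yon _
  have hq := isQCoh_idealOfRep_atlas hX hY f hqc c hce hcs hf₀
  have h1 : AlgSp.IsSchImage (c ≫ f) i := (isSchImage_comp_epi_iff c f i).2 hi
  obtain ⟨hci, hcut⟩ := (IdealShf.isSchImage_iff_isCutOutBy hY (c ≫ f) hf₀ hq i).1 h1
  rw [← idealOfRep_ideal_eq_kerAt hZ hY i hci.1 E hE, hcut,
    idealOfRep_atlas_ideal_eq_kerAt hX hY f c hce hcs hf₀ E hE]

/-- a closed subspace with the same kernel family as a morphism is its scheme theoretic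
image. -/
theorem isSchImage_of_kerAt_eq {X Y Z : AlgSp.Sp S} (hX : AlgSp.IsAlgSpace X)
    (hY : AlgSp.IsAlgSpace Y) (hZ : AlgSp.IsAlgSpace Z) (f : X ⟶ Y) (i : Z ⟶ Y)
    (hi : AlgSp.RepWith @IsClosedImmersion i)
    (h : ∀ (E : AlgSp.EtOver Y) (_ : IsAffine E.obj.left.left),
      kerAt hZ hY i E.obj.hom = kerAt hX hY f E.obj.hom) : AlgSp.IsSchImage f i := by
  obtain ⟨X₀, c, hce, hcs⟩ := hX.atlas
  have hcepi : Epi c := Groth.Agent.Lib.Helper30.epi_of_repWith_etale_surjective c hce hcs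
  have hf₀ : AlgSp.Representable (c ≫ f) := hY.representable_from_yon _
  apply (isSchImage_comp_epi_iff c f i).1
  apply isSchImage_of_isCutOutBy hY (c ≫ f) hf₀ i
  refine ⟨hi, ?_⟩
  apply AlgSp.IdealEt.ext
  funext E hE
  rw [idealOfRep_ideal_eq_kerAt hZ hY i hi.1 E hE, h E hE,
    idealOfRep_atlas_ideal_eq_kerAt hX hY f c hce hcs hf₀ E hE]

/-- the scheme theoretic image of a quasi-compact morphism commutes with etale base change. -/
theorem isSchImage_etale_base_change_of_qc {X Y Z V XV ZV : AlgSp.Sp S}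
    (hX : AlgSp.IsAlgSpace X) (hY : AlgSp.IsAlgSpace Y) (hZ : AlgSp.IsAlgSpace Z)
    (hV : AlgSp.IsAlgSpace V) (hXV : AlgSp.IsAlgSpace XV) (hZV : AlgSp.IsAlgSpace ZV)
    (f : X ⟶ Y) (i : Z ⟶ Y) (hq : AlgSp.IsQuasiCompactMor f) (hZi : AlgSp.IsSchImage f i)
    (b : V ⟶ Y) (hb : AlgSp.IsEtaleMor b) (f₁ : XV ⟶ X) (fV : XV ⟶ V) (i₁ : ZV ⟶ Z)
    (iV : ZV ⟶ V) (sqX : IsPullback f₁ fV f b) (sqZ : IsPullback i₁ iV i b) :
    AlgSp.IsSchImage fV iV := by
  apply isSchImage_of_kerAt_eq hXV hV hZV fV iV (MorphismProperty.of_isPullback sqZ hZi.1)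
  intro E' hE'
  rw [kerAt_of_isPullback hZ hY hV hZV i b i₁ iV sqZ E'.obj.hom,
    kerAt_of_isPullback hX hY hV hXV f b f₁ fV sqX E'.obj.hom]
  exact idealOfRep_eq_kerAt_of_isSchImage hX hY hZ f hq i hZi
    (AlgSp.EtOver.mk (E'.obj.hom ≫ b) (hb _ E'.property)) hE'

/-- the image of a quasi-compact morphism is dense in its scheme theoretic image. -/
theorem range_subset_closure_of_isSchImage_qc {X Y Z : AlgSp.Sp S} (hX : AlgSp.IsAlgSpace X)
    (hY : AlgSp.IsAlgSpace Y) (hZ : AlgSp.IsAlgSpace Z) (f : X ⟶ Y)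
    (hq : AlgSp.IsQuasiCompactMor f) (i : Z ⟶ Y) (hZi : AlgSp.IsSchImage f i) :
    Set.range (Points.map i) ⊆ closure (Set.range (Points.map f)) := by
  rintro _ ⟨z, rfl⟩
  obtain ⟨U, φ, u, hU, hφ, hu⟩ := exists_affine_etale_chart_at hY (Points.map i z)
  let E : AlgSp.EtOver Y := AlgSp.EtOver.mk φ hφ
  have sqE := AlgSp.EtOver.isPullback_bcObj hZi.1.1 E
  have hu' : u ∈ Set.range (AlgSp.EtOver.bcπ hZi.1.1 E).left :=
    (ofPt_mem_range_map_iff sqE u).1 (by
      change Points.ofPt φ u ∈ _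
      rw [hu]; exact ⟨z, rfl⟩)
  obtain ⟨Q, q, w, hqe, hqs, hw, hwq, hker⟩ := exists_qc_chart hX hY f hq φ
  have hkeq : (AlgSp.EtOver.bcπ hZi.1.1 E).left.ker = w.left.ker := by
    have h0 := idealOfRep_eq_kerAt_of_isSchImage hX hY hZ f hq i hZi E hU
    rw [← idealOfRep_ideal_eq_kerAt hZ hY i hZi.1.1 E hU] at h0
    change _ = kerAt hX hY f φ at h0
    rw [hker] at h0
    have hE' : IsAffine E.obj.left.left := hU
    rw [Scheme.ker_of_isAffine, Scheme.ker_of_isAffine]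
    exact congrArg _ h0
  have h1 : u ∈ (w.left.ker.support : Set ↥U.left) := by
    rw [← hkeq]; exact Scheme.Hom.range_subset_ker_support _ hu'
  rw [Scheme.Hom.support_ker] at h1
  have h2 : Points.ofPt φ u ∈ closure (Points.ofPt φ '' Set.range w.left) :=
    image_closure_subset_closure_image (Points.continuous_ofPt φ) (Set.mem_image_of_mem _ h1)
  rw [← hu]
  refine closure_mono ?_ h2
  rintro _ ⟨_, ⟨q₀, rfl⟩, rfl⟩
  refine ⟨Points.ofPt (q ≫ pullback.fst f φ) q₀, ?_⟩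
  rw [Points.map_ofPt, ← ofPt_yon_map_comp, hw, Category.assoc, Category.assoc,
    pullback.condition]

end Groth.Agent.Lib.Helper51.KerAt
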