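import Groth.Agent.Lib.Helper51.AlgSpNormRed
import Groth.Agent.Lib.Helper51.AlgSpSchImBC
import Groth.Agent.Lib.Helper51.AlgSpQuotField4
import Groth.Agent.Lib.Helper51.AlgSpCodimZeroFib
import Groth.Agent.Lib.Helper30.AlgSpAffTested3
import Groth.Agent.Lib.Helper30.AlgSpQC
import Groth.Agent.Lib.Helper30.AlgSpProper
set_option autoImplicit false
universe u
open CategoryTheory CategoryTheory.Limits AlgebraicGeometry Topology TopologicalSpace

namespace Groth.Agent.Lib.Helper51.DomMax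

/-- a maximal point of a prime spectrum is a minimal prime. -/
theorem mem_minimalPrimes_of_maximal {R : Type*} [CommRing R] (p : PrimeSpectrum R)
    (hmax : ∀ b : PrimeSpectrum R, b ⤳ p → b = p) : p.asIdeal ∈ minimalPrimes R := by
  refine ⟨⟨p.2, bot_le⟩, ?_⟩
  rintro q ⟨hq, -⟩ hqp
  have : (⟨q, hq⟩ : PrimeSpectrum R) ⤳ p := (PrimeSpectrum.le_iff_specializes ⟨q, hq⟩ p).1 hqp
  have := hmax _ this
  rw [← this]

/-- Stacks 00FL for Spec maps. -/
theorem mem_range_of_denseRange_Spec {R A : CommRingCat.{u}} (h : Spec R ⟶ Spec A)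
    (hd : DenseRange h) (p : Spec A) (hmax : ∀ b : Spec A, b ⤳ p → b = p) :
    p ∈ Set.range h := by
  obtain ⟨φ, rfl⟩ := Spec.map_surjective h
  have hd' : DenseRange (PrimeSpectrum.comap φ.hom) := hd
  rw [PrimeSpectrum.denseRange_comap_iff_minimalPrimes] at hd'
  have hp := mem_minimalPrimes_of_maximal (R := A) p hmax
  exact hd' _ hp

/-- a quasi-compact morphism with dense image hits every maximal point. -/
theorem mem_range_of_quasiCompact_of_denseRange {W U : Scheme.{u}} (g : W ⟶ U) [QuasiCompact g]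
    (hd : DenseRange g) (u : U) (hmax : ∀ b : U, b ⤳ u → b = u) : u ∈ Set.range g := by
  obtain ⟨i, u', rfl⟩ := U.affineCover.exists_eq u
  let U₀ : Scheme.{u} := U.affineCover.X i
  let ι : U₀ ⟶ U := U.affineCover.f i
  haveI : IsOpenImmersion ι := inferInstanceAs (IsOpenImmersion (U.affineCover.f i))
  haveI : IsAffine U₀ := inferInstanceAs (IsAffine (U.affineCover.X i))
  have hemb := ι.isOpenEmbedding
  have hmax' : ∀ b : U₀, b ⤳ u' → b = u' := fun b hb =>
    hemb.injective (hmax _ (hb.map ι.continuous))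
  -- base change
  let g₀ : pullback g ι ⟶ U₀ := pullback.snd g ι
  haveI : QuasiCompact g₀ := inferInstance
  haveI : CompactSpace (pullback g ι : Scheme.{u}) :=
    QuasiCompact.compactSpace_of_compactSpace g₀
  obtain ⟨R, s, hs⟩ := compactSpace_iff_exists.mp (inferInstance : CompactSpace (pullback g ι : Scheme.{u}))
  -- dense range of g₀
  have hd₀ : DenseRange g₀ := by
    intro b
    rw [mem_closure_iff]
    intro O hO hbO
    have hO' : IsOpen (ι '' O) := hemb.isOpenMap O hO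
    obtain ⟨_, ⟨c, hcO, rfl⟩, ⟨w, hw⟩⟩ := hd.inter_open_nonempty _ hO' ⟨ι b, b, hbO, rfl⟩
    obtain ⟨z, hz1, hz2⟩ := Scheme.Pullback.exists_preimage_pullback w c hw
    refine ⟨c, hcO, z, hz2⟩
  let e := U₀.isoSpec
  have hd₁ : DenseRange (s ≫ g₀ ≫ e.hom) := by
    have h1 : DenseRange (s ≫ g₀) := by
      have := hd₀.comp hs.denseRange g₀.continuous
      exact this
    have h2 : Function.Surjective e.hom := e.hom.homeomorph.surjective
    exact h2.denseRange.comp h1 e.hom.continuous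
  have hmax'' : ∀ b : Spec Γ(U₀, ⊤), b ⤳ e.hom u' → b = e.hom u' := by
    intro b hb
    have hb' : e.inv b ⤳ e.inv (e.hom u') := hb.map e.inv.continuous
    have h3 : e.inv (e.hom u') = u' := by
      rw [← Scheme.Hom.comp_apply, e.hom_inv_id]; rfl
    rw [h3] at hb'
    have := hmax' _ hb'
    rw [← this, ← Scheme.Hom.comp_apply, e.inv_hom_id]; rfl
  obtain ⟨w, hw⟩ := mem_range_of_denseRange_Spec (s ≫ g₀ ≫ e.hom) hd₁ (e.hom u') hmax''
  have h4 : g₀ (s w) = u' := by
    have h5 : e.hom (g₀ (s w)) = e.hom u' := hw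
    exact e.hom.homeomorph.injective h5
  refine ⟨pullback.fst g ι (s w), ?_⟩
  have h6 : g (pullback.fst g ι (s w)) = ι (g₀ (s w)) := by
    rw [← Scheme.Hom.comp_apply, pullback.condition]; rfl
  rw [h6, h4]



open AlgSp
open Groth.Agent.Lib.Helper30 Groth.Agent.Lib.Helper51.ClosedSub Groth.Agent.Lib.Helper51.RedInd
open Groth.Agent.Lib.Helper52 Groth.Agent.Lib.Helper51 Groth.Agent.Lib.Helper78
open Groth.Agent.Lib.Helper51.NormRed Groth.Agent.Lib.Helper51.CodimZeroFib
open Groth.Agent.Lib.Helper51.DimCharts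

variable {S : Scheme.{u}}

set_option backward.isDefEq.respectTransparency false

/-- a closed subspace of the normalization through which the canonical map factors has a
retraction. -/
theorem exists_retraction_of_isRelNormalization {Y X X' Z : Sp S} (hX' : IsAlgSpace X')
    (hZ : IsAlgSpace Z) (f : Y ⟶ X) (ν : X' ⟶ X) (f' : Y ⟶ X')
    (hn : IsRelNormalization f ν f') (i : Z ⟶ X') (hi : RepWith @IsClosedImmersion i)
    (g : Y ⟶ Z) (hg : g ≫ i = f') : ∃ h : X' ⟶ Z, h ≫ i = 𝟙 X' := by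
  obtain ⟨hfac, hνi, huniv⟩ := hn
  have hrint : RepWith @IsIntegralHom i :=
    ⟨hi.1, fun _ _ g fst snd sq => by
      have : IsClosedImmersion snd.left := hi.2 g fst snd sq
      show IsIntegralHom snd.left
      infer_instance⟩
  have hνrep : RepWith @IsIntegralHom ν := (isIntegralMor_iff_repWith ν).1 hνi
  have hπ : IsIntegralMor (i ≫ ν) :=
    (isIntegralMor_iff_repWith _).2 ((RepWith (S := S) @IsIntegralHom).comp_mem i ν hrint hνrep)
  obtain ⟨h, ⟨hh1, hh2⟩, -⟩ := huniv hZ (i ≫ ν) g hπ (by rw [← Category.assoc, hg, hfac])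
  obtain ⟨k, -, hk⟩ := huniv hX' ν f' hνi hfac
  have e1 : h ≫ i = k :=
    hk _ ⟨by rw [← Category.assoc, hh1, hg], by rw [Category.assoc, hh2]⟩
  have e2 : 𝟙 X' = k := hk _ ⟨Category.comp_id _, Category.id_comp _⟩
  exact ⟨h, e1.trans e2.symm⟩

/-- the canonical map to the normalization has dense image. -/
theorem denseRange_of_isRelNormalization {Y X X' : Sp S} (hY : IsAlgSpace Y) (hX : IsAlgSpace X)
    (hX' : IsAlgSpace X') (f : Y ⟶ X) (ν : X' ⟶ X) (f' : Y ⟶ X')
    (hn : IsRelNormalization f ν f') (hq' : IsQuasiCompactMor f') :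
    Dense (Set.range (Points.map f')) := by
  obtain ⟨Z, hZ, i, hZi⟩ := exists_isSchImage hY hX' f'
  obtain ⟨g, hg⟩ := hZi.2.1
  obtain ⟨h, hh⟩ := exists_retraction_of_isRelNormalization hX' hZ f ν f' hn i hZi.1 g hg
  have hsub := Groth.Agent.Lib.Helper51.KerAt.range_subset_closure_of_isSchImage_qc hY hX' hZ f'
    hq' i hZi
  intro x
  apply hsub
  refine ⟨Points.map h x, ?_⟩
  rw [← Points.map_comp, hh, Points.map_id]

/-- a codimension-zero point of the normalization is the image of a codimension-zero point. -/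
theorem exists_codimZero_preimage {Y X X' : Sp S} (hY : IsAlgSpace Y) (hX : IsAlgSpace X)
    (hX' : IsAlgSpace X') (f : Y ⟶ X) (hqc : IsQuasiCompactMor f) (ν : X' ⟶ X) (f' : Y ⟶ X')
    (hn : IsRelNormalization f ν f') (x' : Points X')
    (hx' : HasAt (fun U u => ringKrullDim (U.presheaf.stalk u) = 0) X' x') :
    ∃ y : Points Y, HasAt (fun U u => ringKrullDim (U.presheaf.stalk u) = 0) Y y ∧
      Points.map f' y = x' := by
  have hfac := hn.1
  have hνi := hn.2.1
  have hνsep : IsSeparatedMor ν := isSeparatedMor_of_affTested @IsIntegralHom hX'.diag hνi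
  have hq' : IsQuasiCompactMor f' :=
    isQuasiCompactMor_of_comp_of_isQuasiSeparatedMor hY hX' hX f' ν (hfac ▸ hqc)
      (isQuasiSeparatedMor_of_isSeparatedMor hνsep)
  have hdense := denseRange_of_isRelNormalization hY hX hX' f ν f' hn hq'
  -- an affine chart through x'
  obtain ⟨V₀, φ₀, v, hV₀, hφ₀, hv⟩ := exists_affine_etale_chart_at hX' x'
  haveI : IsAffine V₀.left := hV₀
  have hv0 : ringKrullDim (V₀.left.presheaf.stalk v) = 0 :=
    (hasAt_iff_forall (fun U u => ringKrullDim (U.presheaf.stalk u)) stalk_hQ hX' x' 0).1 hx'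
      V₀ φ₀ v hφ₀ hv
  have hvmax : ∀ b : V₀.left, b ⤳ v → b = v :=
    (isMax_iff_forall_specializes v).1 ((stalk_dim_zero_iff_isMax v).1 hv0)
  -- compact chart of the base change
  have sqU : IsPullback (pullback.fst f' φ₀) (pullback.snd f' φ₀) f' φ₀ :=
    IsPullback.of_hasPullback f' φ₀
  have hV₀qc : IsQuasiCompactSp ((yon S).obj V₀) :=
    ⟨V₀, 𝟙 _, repWith_id @Etale V₀, repWith_id @Surjective V₀, inferInstance⟩
  have hX₀qc : IsQuasiCompactSp (pullback f' φ₀) :=
    hq' (IsAlgSpace.yon_obj V₀) hV₀qc φ₀ _ _ sqU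
  obtain ⟨U₀, a₀, ha₀e, ha₀s, hU₀c⟩ := hX₀qc
  haveI : CompactSpace U₀.left := hU₀c
  obtain ⟨h₀, hh₀⟩ := (yon S).map_surjective (a₀ ≫ pullback.snd f' φ₀)
  have hpr₁ : RepWith @Etale (pullback.fst f' φ₀) :=
    MorphismProperty.of_isPullback (P := RepWith @Etale) sqU.flip hφ₀
  have hc : RepWith @Etale (a₀ ≫ pullback.fst f' φ₀) :=
    (RepWith (S := S) @Etale).comp_mem _ _ ha₀e hpr₁
  have hcomm : (a₀ ≫ pullback.fst f' φ₀) ≫ f' = (yon S).map h₀ ≫ φ₀ := by
    rw [hh₀, Category.assoc, Category.assoc, sqU.w]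
  haveI : QuasiCompact h₀.left := inferInstance
  have heq : Points.ofPt φ₀ ⁻¹' (Set.range (Points.map f')) = Set.range h₀.left := by
    ext w
    constructor
    · rintro ⟨e, hev⟩
      have hxv : Points.map f' e = Points.map φ₀ (Points.ofScheme V₀ w) := by
        rw [hev, ← Points.ofPt_eq_map_ofScheme]
      obtain ⟨z, hz1, hz2⟩ := exists_point_of_isPullback sqU e (Points.ofScheme V₀ w) hxv
      obtain ⟨u₀, rfl⟩ := surjective_ofPt_of_repWith_surjective a₀ ha₀s z
      refine ⟨u₀, ?_⟩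
      apply ofScheme_injective V₀
      rw [← hz2, Points.map_ofPt, ← hh₀, Points.ofPt_eq_map_ofScheme, map_yon_map_ofScheme]
    · rintro ⟨u₀, rfl⟩
      refine ⟨Points.ofPt (a₀ ≫ pullback.fst f' φ₀) u₀, ?_⟩
      rw [Points.map_ofPt, hcomm, ofPt_yon_map_comp]
  have hd₀ : DenseRange h₀.left := by
    show Dense (Set.range h₀.left)
    rw [← heq]
    exact hdense.preimage (isOpenMap_ofPt_of_etale φ₀ hφ₀)
  obtain ⟨u₀, hu₀⟩ := mem_range_of_quasiCompact_of_denseRange h₀.left hd₀ v hvmax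
  obtain ⟨η, hηu, hηmax⟩ := exists_isMax_specializes u₀
  have hhη : h₀.left η = v := hvmax _ (hu₀ ▸ hηu.map h₀.left.continuous)
  refine ⟨Points.ofPt (a₀ ≫ pullback.fst f' φ₀) η, ?_, ?_⟩
  · exact ⟨U₀, _, η, hc, rfl,
      (stalk_dim_zero_iff_isMax η).2 ((isMax_iff_forall_specializes η).2 hηmax)⟩
  · rw [Points.map_ofPt, hcomm, ofPt_yon_map_comp, hhη, hv]

end Groth.Agent.Lib.Helper51.DomMax
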