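import Groth.Agent.Lib.Helper51.AlgSpSchImRed
import Groth.Agent.Lib.Helper30.AlgSpAffTested2
import Groth.Agent.Lib.Helper78.AlgSpBasic
import Groth.Prelude.Def_AlgSpMor5

set_option autoImplicit false
universe u
open CategoryTheory CategoryTheory.Limits AlgebraicGeometry Topology TopologicalSpace
open AlgSp

namespace Groth.Agent.Lib.Helper51.NormRed

open Groth.Agent.Lib.Helper30 Groth.Agent.Lib.Helper51.ClosedSub Groth.Agent.Lib.Helper51.RedInd
open Groth.Agent.Lib.Helper52 Groth.Agent.Lib.Helper51 Groth.Agent.Lib.Helper78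

variable {S : Scheme.{u}}

set_option backward.isDefEq.respectTransparency false

theorem isIntegralMor_iff_repWith {F G : Sp S} (f : F ⟶ G) :
    IsIntegralMor f ↔ RepWith @IsIntegralHom f :=
  affTested_iff_repWith @IsIntegralHom (fun i hi => by
    have : IsIntegralHom i := hi
    infer_instance) f

/-- the relative normalization of `X` in a reduced `Y` is reduced. -/
theorem isReducedSp_of_isRelNormalization {Y X X' : Sp S} (hX' : IsAlgSpace X') (f : Y ⟶ X)
    (ν : X' ⟶ X) (f' : Y ⟶ X') (hn : IsRelNormalization f ν f') (hY : IsReducedSp Y) :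
    IsReducedSp X' := by
  obtain ⟨hfac, hνi, huniv⟩ := hn
  obtain ⟨R, hR, r, hrci, hrrange, hRred⟩ := exists_isRedInduced hX' Set.univ isClosed_univ
  obtain ⟨g, hg⟩ := exists_factor_of_isReducedSp r hrci hY f'
    (by rw [hrrange]; exact Set.subset_univ _)
  have hrint : RepWith @IsIntegralHom r :=
    ⟨hrci.1, fun _ _ g fst snd sq => by
      have : IsClosedImmersion snd.left := hrci.2 g fst snd sq
      show IsIntegralHom snd.left
      infer_instance⟩
  have hνrep : RepWith @IsIntegralHom ν := (isIntegralMor_iff_repWith ν).1 hνi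
  have hπ : IsIntegralMor (r ≫ ν) :=
    (isIntegralMor_iff_repWith _).2 ((RepWith (S := S) @IsIntegralHom).comp_mem r ν hrint hνrep)
  obtain ⟨h, ⟨hh1, hh2⟩, -⟩ := huniv hR (r ≫ ν) g hπ (by rw [← Category.assoc, hg, hfac])
  obtain ⟨k, -, hk⟩ := huniv hX' ν f' hνi hfac
  have e1 : h ≫ r = k :=
    hk _ ⟨by rw [← Category.assoc, hh1, hg], by rw [Category.assoc, hh2]⟩
  have e2 : 𝟙 X' = k := hk _ ⟨Category.comp_id _, Category.id_comp _⟩
  have hsplit : h ≫ r = 𝟙 X' := e1.trans e2.symm
  have hmono : Mono r := mono_of_repWith_isClosedImmersion r hrci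
  have hiso : IsIso r :=
    ⟨h, by rw [← cancel_mono r, Category.assoc, hsplit, Category.comp_id, Category.id_comp],
      hsplit⟩
  obtain ⟨V, b, hbe, hbs, hV⟩ := hRred
  exact ⟨V, b ≫ r, (RepWith (S := S) @Etale).comp_mem b r hbe (AlgSpBasic.repWith_of_isIso @Etale r),
    (RepWith (S := S) @Surjective).comp_mem _ _ hbs (AlgSpBasic.repWith_of_isIso @Surjective r), hV⟩

end Groth.Agent.Lib.Helper51.NormRed
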