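import Groth.Agent.Lib.Helper51.AlgSpOnePt4
import Mathlib.RingTheory.Flat.FaithfullyFlat.Algebra
import Mathlib.RingTheory.Flat.Localization
import Mathlib.RingTheory.KrullDimension.Zero

/-!
One-point algebraic spaces: reduced one-point spaces are those covered by a flat surjective
field point (helper51).
-/

set_option autoImplicit false
set_option linter.unusedSectionVars false
universe u
open CategoryTheory CategoryTheory.Limits AlgebraicGeometry Opposite

set_option backward.isDefEq.respectTransparency false

namespace Groth.Agent.Lib.Helper51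

/-- Reducedness descends along flat surjective morphisms of schemes. -/
theorem isReduced_of_flat_of_surjective {F W : Scheme.{u}} (f : F ⟶ W) [Flat f] [Surjective f]
    [IsReduced F] : IsReduced W := by
  have : ∀ w : W, _root_.IsReduced (W.presheaf.stalk w) := by
    intro w
    obtain ⟨x, rfl⟩ := f.surjective w
    have hfl : (f.stalkMap x).hom.Flat := Flat.stalkMap f x
    let _ := (f.stalkMap x).hom.toAlgebra
    have : Module.Flat (W.presheaf.stalk (f x)) (F.presheaf.stalk x) := hfl
    have : IsLocalHom (algebraMap (W.presheaf.stalk (f x)) (F.presheaf.stalk x)) :=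
      inferInstanceAs (IsLocalHom (f.stalkMap x).hom)
    have : Module.FaithfullyFlat (W.presheaf.stalk (f x)) (F.presheaf.stalk x) :=
      Module.FaithfullyFlat.of_flat_of_isLocalHom
    have hinj : Function.Injective (algebraMap (W.presheaf.stalk (f x)) (F.presheaf.stalk x)) :=
      FaithfulSMul.algebraMap_injective _ _
    exact isReduced_of_injective _ hinj
  exact isReduced_of_isReduced_stalk W

open AlgSp Groth.Agent.Lib.Helper52 Groth.Agent.Lib.Helper78.AlgSpLocP

variable {S : Scheme.{u}}

/-- A reduced algebraic space with exactly one point admits a flat surjective field point. -/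
theorem exists_flat_surjective_fieldPt_of_reduced_singleton {Z : AlgSp.Sp S}
    (hr : AlgSp.EtaleLocally (fun U => IsReduced U) Z) (hne : Nonempty (AlgSp.Points Z))
    (hss : Subsingleton (AlgSp.Points Z)) :
    ∃ (k : Type u) (_ : Field k) (str : Spec (CommRingCat.of k) ⟶ S)
      (p : (AlgSp.yon S).obj (Over.mk str) ⟶ Z), AlgSp.LocP @Flat p ∧ AlgSp.IsSurjectiveMor p := by
  obtain ⟨U, a, hae, has, hUred⟩ := hr
  have : IsReduced U.left := hUred
  obtain ⟨x⟩ := hne
  obtain ⟨u, -⟩ := surjective_ofPt_of_repWith_surjective a has x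
  obtain ⟨U0, hU0, huU0, -⟩ := exists_isAffineOpen_mem_and_subset
    (TopologicalSpace.Opens.mem_top u)
  have hnt : Nontrivial Γ(U.left, U0) := by
    have : Nonempty ↥U0 := ⟨⟨u, huU0⟩⟩
    infer_instance
  obtain ⟨m, hm⟩ := Ideal.exists_maximal Γ(U.left, U0)
  have hmp : m.IsPrime := hm.isPrime
  obtain ⟨q, hq, -⟩ := Ideal.exists_minimalPrimes_le (bot_le : (⊥ : Ideal Γ(U.left, U0)) ≤ m)
  have hq' : q.IsPrime := hq.1.1
  have hq'' : q ∈ minimalPrimes Γ(U.left, U0) := hq
  have : Ring.KrullDimLE 0 (Localization.AtPrime q) := .of_isLocalization _ hq'' _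
  let _ : Field (Localization.AtPrime q) := Ring.KrullDimLE.isField_of_isReduced.toField
  let θ : Γ(U.left, U0) ⟶ CommRingCat.of (Localization.AtPrime q) :=
    CommRingCat.ofHom (algebraMap Γ(U.left, U0) (Localization.AtPrime q))
  refine ⟨Localization.AtPrime q, inferInstance, (specOverOfAffineOpen U hU0 θ).hom,
    (AlgSp.yon S).map (specOverOfAffineOpenHom U hU0 θ) ≫ a, ?_, ?_⟩
  · refine locP_yon_map_comp_etale Groth.Agent.Lib.Helper78.AlgSpLocPFlat.etLocalST_flat
      (fun e he => by have : Etale e := he; infer_instance) _ a hae ?_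
    rw [specOverOfAffineOpenHom_left]
    have : Flat (Spec.map θ) := by
      rw [HasRingHomProperty.Spec_iff (P := @Flat)]
      show (algebraMap Γ(U.left, U0) (Localization.AtPrime q)).Flat
      rw [RingHom.flat_algebraMap_iff]
      exact IsLocalization.flat _ q.primeCompl
    infer_instance
  · intro z
    obtain ⟨t⟩ := nonempty_points_yon_field (specOverOfAffineOpen U hU0 θ).hom
    exact ⟨t, Subsingleton.elim _ _⟩

/-- An algebraic space with a flat surjective field point is reduced and has exactly one point. -/
theorem reduced_singleton_of_flat_surjective_fieldPt {Z : AlgSp.Sp S} (hZ : AlgSp.IsAlgSpace Z)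
    {k : Type u} [Field k] (str : Spec (CommRingCat.of k) ⟶ S)
    (p : (AlgSp.yon S).obj (Over.mk str) ⟶ Z) (hpf : AlgSp.LocP @Flat p)
    (hps : AlgSp.IsSurjectiveMor p) :
    AlgSp.EtaleLocally (fun U => IsReduced U) Z ∧ Nonempty (AlgSp.Points Z) ∧
      Subsingleton (AlgSp.Points Z) := by
  refine ⟨?_, ?_, ?_⟩
  · obtain ⟨W, b, hbe, hbs⟩ := hZ.atlas
    refine ⟨W, b, hbe, hbs, ?_⟩
    have hrep := hZ.representable_from_yon p
    obtain ⟨Fw, φ, ψ, sq⟩ := exists_isPullback_of_representable hrep b
    have hφ : Etale φ.left := hbe.2 p _ φ sq.flip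
    have hψf : Flat ψ.left :=
      hpf _ b ψ ((AlgSp.repWith_yon_map_iff @Etale φ).2 hφ) hbe sq.w
    have hψs : Surjective ψ.left := (repWith_surjective_of_surjective_map hrep hps).2 b _ ψ sq
    have : IsReduced (Over.mk str).left := inferInstanceAs (IsReduced (Spec (CommRingCat.of k)))
    have : IsReduced Fw.left := isReduced_of_etale φ.left
    exact isReduced_of_flat_of_surjective ψ.left
  · obtain ⟨t⟩ := nonempty_points_yon_field str
    exact ⟨Points.map p t⟩
  · have := subsingleton_points_yon_field str
    exact hps.subsingleton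

end Groth.Agent.Lib.Helper51
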