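import Mathlib.AlgebraicGeometry.Noetherian
import Mathlib.AlgebraicGeometry.Properties
import Mathlib.RingTheory.Nilpotent.Lemmas

/-!
A reduced scheme all of whose points are open is locally Noetherian (helper51).
-/

set_option autoImplicit false
universe u
open CategoryTheory AlgebraicGeometry

namespace Groth.Agent.Lib.Helper51

/-- A nontrivial reduced ring with at most one prime ideal is a field. -/
theorem isField_of_isReduced_of_subsingleton_primeSpectrum (R : Type*) [CommRing R] [Nontrivial R]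
    [IsReduced R] [Subsingleton (PrimeSpectrum R)] : IsField R := by
  refine ⟨exists_pair_ne R, mul_comm, fun {a} ha => ?_⟩
  by_contra hna
  have hnu : ¬ IsUnit a := fun hu => hna ⟨_, hu.mul_val_inv⟩
  obtain ⟨m, hm, ham⟩ := exists_max_ideal_of_mem_nonunits hnu
  have hle : m ≤ nilradical R := by
    rw [nilradical_eq_sInf]
    refine le_sInf fun p hp => ?_
    have : (⟨p, hp⟩ : PrimeSpectrum R) = ⟨m, hm.isPrime⟩ := Subsingleton.elim _ _
    exact (congrArg PrimeSpectrum.asIdeal this).ge
  have : a ∈ nilradical R := hle ham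
  rw [nilradical_eq_zero, Ideal.zero_eq_bot, Ideal.mem_bot] at this
  exact ha this

/-- A reduced scheme all of whose points are open is locally Noetherian. -/
theorem isLocallyNoetherian_of_isReduced_of_isOpen_singleton (W : Scheme.{u}) [IsReduced W]
    (h : ∀ w : W, IsOpen ({w} : Set W)) : IsLocallyNoetherian W := by
  have key : ∀ w : W, ∃ D : W.affineOpens, w ∈ D.1 ∧ (D.1 : Set W) ⊆ {w} := by
    intro w
    obtain ⟨V, hV, hwV, -⟩ := exists_isAffineOpen_mem_and_subset
      (TopologicalSpace.Opens.mem_top w)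
    obtain ⟨f, hf1, hf2⟩ := hV.exists_basicOpen_le (V := ⟨{w}, h w⟩) ⟨w, rfl⟩ hwV
    exact ⟨⟨W.basicOpen f, hV.basicOpen f⟩, hf2, hf1⟩
  choose D hD1 hD2 using key
  refine isLocallyNoetherian_of_affine_cover (S := D) ?_ ?_
  · rw [eq_top_iff]
    intro w _
    exact TopologicalSpace.Opens.mem_iSup.2 ⟨w, hD1 w⟩
  · intro w
    have hne : Nonempty ↥(D w).1 := ⟨⟨w, hD1 w⟩⟩
    have hnt : Nontrivial Γ(W, (D w).1) := inferInstance
    have hss : Subsingleton (PrimeSpectrum Γ(W, (D w).1)) := by
      refine ⟨fun p1 p2 => ?_⟩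
      have hoi : IsOpenImmersion (D w).2.fromSpec := (D w).2.isOpenImmersion_fromSpec
      have hinj : Function.Injective (D w).2.fromSpec :=
        (D w).2.fromSpec.isOpenEmbedding.injective
      apply hinj
      have h1 : (D w).2.fromSpec p1 ∈ ((D w).1 : Set W) := by
        rw [← (D w).2.range_fromSpec]; exact ⟨p1, rfl⟩
      have h2 : (D w).2.fromSpec p2 ∈ ((D w).1 : Set W) := by
        rw [← (D w).2.range_fromSpec]; exact ⟨p2, rfl⟩
      rw [Set.mem_singleton_iff.1 (hD2 w h1), Set.mem_singleton_iff.1 (hD2 w h2)]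
    have hfield := isField_of_isReduced_of_subsingleton_primeSpectrum Γ(W, (D w).1)
    let _ : Field Γ(W, (D w).1) := hfield.toField
    infer_instance

end Groth.Agent.Lib.Helper51

namespace Groth.Agent.Lib.Helper51

/-- In a reduced scheme, the local ring at an open point is a field. -/
theorem isField_stalk_of_isReduced_of_isOpen_singleton (W : Scheme.{u}) [IsReduced W] (w : W)
    (h : IsOpen ({w} : Set W)) : IsField (W.presheaf.stalk w) := by
  obtain ⟨V, hV, hwV, -⟩ := exists_isAffineOpen_mem_and_subset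
    (TopologicalSpace.Opens.mem_top w)
  obtain ⟨f, hf1, hf2⟩ := hV.exists_basicOpen_le (V := ⟨{w}, h⟩) ⟨w, rfl⟩ hwV
  have hD : IsAffineOpen (W.basicOpen f) := hV.basicOpen f
  have hss : Subsingleton (PrimeSpectrum Γ(W, W.basicOpen f)) := by
    refine ⟨fun p1 p2 => ?_⟩
    have hoi : IsOpenImmersion hD.fromSpec := hD.isOpenImmersion_fromSpec
    have hinj : Function.Injective hD.fromSpec := hD.fromSpec.isOpenEmbedding.injective
    apply hinj
    have h1 : hD.fromSpec p1 ∈ ((W.basicOpen f : W.Opens) : Set W) := by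
      rw [← hD.range_fromSpec]; exact ⟨p1, rfl⟩
    have h2 : hD.fromSpec p2 ∈ ((W.basicOpen f : W.Opens) : Set W) := by
      rw [← hD.range_fromSpec]; exact ⟨p2, rfl⟩
    rw [Set.mem_singleton_iff.1 (hf1 h1), Set.mem_singleton_iff.1 (hf1 h2)]
  let _ : Algebra Γ(W, W.basicOpen f) (W.presheaf.stalk w) :=
    TopCat.Presheaf.algebra_section_stalk W.presheaf ⟨w, hf2⟩
  have hloc : IsLocalization.AtPrime (W.presheaf.stalk w)
      (hD.primeIdealOf ⟨w, hf2⟩).asIdeal := hD.isLocalization_stalk ⟨w, hf2⟩
  have hss' : Subsingleton (PrimeSpectrum (W.presheaf.stalk w)) :=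
    (PrimeSpectrum.localization_comap_injective (W.presheaf.stalk w)
      (hD.primeIdealOf ⟨w, hf2⟩).asIdeal.primeCompl).subsingleton
  exact isField_of_isReduced_of_subsingleton_primeSpectrum _

end Groth.Agent.Lib.Helper51
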