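import Groth.Agent.Lib.Helper51.AlgSpOnePt5
import Groth.Agent.Lib.Helper51.DiscreteNoeth
import Groth.Agent.Lib.Helper51.EtaleQF
import Mathlib.AlgebraicGeometry.Morphisms.QuasiFinite
import Mathlib.AlgebraicGeometry.Morphisms.UniversallyOpen
import Mathlib.AlgebraicGeometry.Morphisms.Flat

/-!
One-point algebraic spaces: reduced locally Noetherian one-point spaces are those covered by a
flat, locally finitely presented, surjective field point (helper51).
-/

set_option autoImplicit false
set_option linter.unusedSectionVars false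
universe u
open CategoryTheory CategoryTheory.Limits AlgebraicGeometry Opposite

set_option backward.isDefEq.respectTransparency false

namespace Groth.Agent.Lib.Helper51

open AlgSp Groth.Agent.Lib.Helper52 Groth.Agent.Lib.Helper78.AlgSpLocP

variable {S : Scheme.{u}}

/-- Every étale chart of a reduced sheaf is reduced. -/
theorem isReduced_of_etale_chart {Z : AlgSp.Sp S}
    (hr : AlgSp.EtaleLocally (fun U => IsReduced U) Z) {U : Over S}
    (a : (AlgSp.yon S).obj U ⟶ Z) (ha : AlgSp.RepWith @Etale a) : IsReduced U.left := by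
  obtain ⟨V, p, hp, hs, hPV⟩ := hr
  obtain ⟨W, φ, ψ, sq⟩ := exists_isPullback_of_representable hp.1 a
  have hψ : Etale ψ.left := hp.2 a _ ψ sq
  have hψs : Surjective ψ.left := hs.2 a _ ψ sq
  have hφ : Etale φ.left := ha.2 p _ φ sq.flip
  have : IsReduced V.left := hPV
  have hW : IsReduced W.left := isReduced_of_etale φ.left
  exact isReduced_of_flat_of_surjective ψ.left

/-- A reduced, locally Noetherian algebraic space with exactly one point admits a flat, locally
finitely presented, surjective field point. -/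
theorem exists_lfp_flat_surjective_fieldPt {Z : AlgSp.Sp S}
    (hr : AlgSp.EtaleLocally (fun U => IsReduced U) Z) (hN : AlgSp.IsLocNoethSp Z)
    (hne : Nonempty (AlgSp.Points Z)) (hss : Subsingleton (AlgSp.Points Z)) :
    ∃ (k : Type u) (_ : Field k) (str : Spec (CommRingCat.of k) ⟶ S)
      (p : (AlgSp.yon S).obj (Over.mk str) ⟶ Z),
      AlgSp.LocP @LocallyOfFinitePresentation p ∧ AlgSp.LocP @Flat p ∧
        AlgSp.IsSurjectiveMor p := by
  obtain ⟨k0, _, str0, p0, hp0f, hp0s⟩ :=
    exists_flat_surjective_fieldPt_of_reduced_singleton hr hne hss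
  obtain ⟨U, a, hae, has, hUN⟩ := hN
  have : IsLocallyNoetherian U.left := hUN
  obtain ⟨x⟩ := hne
  obtain ⟨u, -⟩ := surjective_ofPt_of_repWith_surjective a has x
  obtain ⟨U0, hU0, huU0, -⟩ := exists_isAffineOpen_mem_and_subset
    (TopologicalSpace.Opens.mem_top u)
  have hnoeth : IsNoetherianRing Γ(U.left, U0) :=
    IsLocallyNoetherian.component_noetherian ⟨U0, hU0⟩
  have hnt : Nontrivial Γ(U.left, U0) := by
    have : Nonempty ↥U0 := ⟨⟨u, huU0⟩⟩
    infer_instance
  obtain ⟨m, hm⟩ := Ideal.exists_maximal Γ(U.left, U0)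
  let _ : Field (Γ(U.left, U0) ⧸ m) := Ideal.Quotient.field m
  let θ : Γ(U.left, U0) ⟶ CommRingCat.of (Γ(U.left, U0) ⧸ m) :=
    CommRingCat.ofHom (Ideal.Quotient.mk m)
  let q : (AlgSp.yon S).obj (Over.mk (specOverOfAffineOpen U hU0 θ).hom) ⟶ Z :=
    (AlgSp.yon S).map (specOverOfAffineOpenHom U hU0 θ) ≫ a
  obtain ⟨h1, h2⟩ := locP_flat_and_surjective_of_field_cover str0 p0 hp0f hp0s
    (specOverOfAffineOpen U hU0 θ).hom q
  refine ⟨Γ(U.left, U0) ⧸ m, inferInstance, (specOverOfAffineOpen U hU0 θ).hom, q, ?_, h1, h2⟩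
  refine locP_yon_map_comp_etale Groth.Agent.Lib.Helper78.AlgSpLocPLofp.etLocalST_lofp
    (fun e he => by have : Etale e := he; infer_instance) _ a hae ?_
  rw [specOverOfAffineOpenHom_left]
  have : LocallyOfFinitePresentation (Spec.map θ) := by
    rw [HasRingHomProperty.Spec_iff (P := @LocallyOfFinitePresentation)]
    refine RingHom.FinitePresentation.of_surjective _ Ideal.Quotient.mk_surjective ?_
    exact (isNoetherianRing_iff_ideal_fg _).1 hnoeth _
  infer_instance

/-- An algebraic space with a flat, locally finitely presented, surjective field point is locally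
Noetherian. -/
theorem isLocNoethSp_of_lfp_flat_surjective_fieldPt {Z : AlgSp.Sp S} (hZ : AlgSp.IsAlgSpace Z)
    {k : Type u} [Field k] (str : Spec (CommRingCat.of k) ⟶ S)
    (p : (AlgSp.yon S).obj (Over.mk str) ⟶ Z)
    (hpfp : AlgSp.LocP @LocallyOfFinitePresentation p) (hpf : AlgSp.LocP @Flat p)
    (hps : AlgSp.IsSurjectiveMor p) : AlgSp.IsLocNoethSp Z := by
  obtain ⟨hr, -, -⟩ := reduced_singleton_of_flat_surjective_fieldPt hZ str p hpf hps
  obtain ⟨W, b, hbe, hbs⟩ := hZ.atlas
  refine ⟨W, b, hbe, hbs, ?_⟩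
  have hWred : IsReduced W.left := isReduced_of_etale_chart hr b hbe
  have hrep := hZ.representable_from_yon p
  obtain ⟨Fw, φ, ψ, sq⟩ := exists_isPullback_of_representable hrep b
  have hφ : Etale φ.left := hbe.2 p _ φ sq.flip
  have hφ' := (AlgSp.repWith_yon_map_iff @Etale φ).2 hφ
  have hψf : Flat ψ.left := hpf _ b ψ hφ' hbe sq.w
  have hψp : LocallyOfFinitePresentation ψ.left := hpfp _ b ψ hφ' hbe sq.w
  have hψs : Surjective ψ.left := (repWith_surjective_of_surjective_map hrep hps).2 b _ ψ sq
  apply isLocallyNoetherian_of_isReduced_of_isOpen_singleton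
  intro w
  obtain ⟨x, rfl⟩ := ψ.left.surjective w
  have hdisc := φ.left.isDiscrete_preimage_singleton
    (show ↥(Spec (CommRingCat.of k)) from IsLocalRing.closedPoint k)
  have hx : x ∈ φ.left ⁻¹' {(show ↥(Spec (CommRingCat.of k)) from IsLocalRing.closedPoint k)} :=
    Subsingleton.elim (α := PrimeSpectrum k) _ _
  obtain ⟨O, hO, hOx⟩ := isDiscrete_iff_forall_mem_exists_isOpen.1 hdisc x hx
  have huniv : φ.left ⁻¹'
      {(show ↥(Spec (CommRingCat.of k)) from IsLocalRing.closedPoint k)} = Set.univ := by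
    ext y
    simp only [Set.mem_preimage, Set.mem_singleton_iff, Set.mem_univ, iff_true]
    exact Subsingleton.elim (α := PrimeSpectrum k) _ _
  rw [huniv, Set.inter_univ] at hOx
  rw [hOx] at hO
  have := ψ.left.isOpenMap _ hO
  rwa [Set.image_singleton] at this

end Groth.Agent.Lib.Helper51
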