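import Groth.Agent.Lib.Helper51.AlgSpOnePt6
import Mathlib.RingTheory.RegularLocalRing.Defs

/-!
One-point algebraic spaces: reduced locally Noetherian one-point spaces are regular (helper51).
-/

set_option autoImplicit false
set_option linter.unusedSectionVars false
universe u
open CategoryTheory CategoryTheory.Limits AlgebraicGeometry Opposite

set_option backward.isDefEq.respectTransparency false

namespace Groth.Agent.Lib.Helper51

open AlgSp Groth.Agent.Lib.Helper52 Groth.Agent.Lib.Helper78.AlgSpLocP

variable {S : Scheme.{u}}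

/-- If an algebraic space has a flat, locally finitely presented, surjective field point, every
point of every étale chart is open. -/
theorem isOpen_singleton_of_etale_chart {Z : AlgSp.Sp S} (hZ : AlgSp.IsAlgSpace Z)
    {k : Type u} [Field k] (str : Spec (CommRingCat.of k) ⟶ S)
    (p : (AlgSp.yon S).obj (Over.mk str) ⟶ Z)
    (hpfp : AlgSp.LocP @LocallyOfFinitePresentation p) (hpf : AlgSp.LocP @Flat p)
    (hps : AlgSp.IsSurjectiveMor p) {W : Over S} (b : (AlgSp.yon S).obj W ⟶ Z)
    (hbe : AlgSp.RepWith @Etale b) (w : ↥W.left) : IsOpen ({w} : Set ↥W.left) := by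
  have hrep := hZ.representable_from_yon p
  obtain ⟨Fw, φ, ψ, sq⟩ := exists_isPullback_of_representable hrep b
  have hφ : Etale φ.left := hbe.2 p _ φ sq.flip
  have hφ' := (AlgSp.repWith_yon_map_iff @Etale φ).2 hφ
  have hψf : Flat ψ.left := hpf _ b ψ hφ' hbe sq.w
  have hψp : LocallyOfFinitePresentation ψ.left := hpfp _ b ψ hφ' hbe sq.w
  have hψs : Surjective ψ.left := (repWith_surjective_of_surjective_map hrep hps).2 b _ ψ sq
  obtain ⟨x, rfl⟩ := ψ.left.surjective w
  have hdisc := φ.left.isDiscrete_preimage_singleton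
    (show ↥(Spec (CommRingCat.of k)) from IsLocalRing.closedPoint k)
  have hx : x ∈ φ.left ⁻¹' {(show ↥(Spec (CommRingCat.of k)) from IsLocalRing.closedPoint k)} :=
    Subsingleton.elim (α := PrimeSpectrum k) _ _
  obtain ⟨O, hO, hOx⟩ := isDiscrete_iff_forall_mem_exists_isOpen.1 hdisc x hx
  have huniv : φ.left ⁻¹'
      {(show ↥(Spec (CommRingCat.of k)) from IsLocalRing.closedPoint k)} = Set.univ := by
    ext y
    simp only [Set.mem_preimage, Set.mem_singleton_iff, Set.mem_univ, iff_true]
    exact Subsingleton.elim (α := PrimeSpectrum k) _ _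
  rw [huniv, Set.inter_univ] at hOx
  rw [hOx] at hO
  have := ψ.left.isOpenMap _ hO
  rwa [Set.image_singleton] at this

/-- A reduced, locally Noetherian algebraic space with exactly one point is regular. -/
theorem regular_of_reduced_locNoeth_singleton {Z : AlgSp.Sp S} (hZ : AlgSp.IsAlgSpace Z)
    (hr : AlgSp.EtaleLocally (fun U => IsReduced U) Z) (hN : AlgSp.IsLocNoethSp Z)
    (hne : Nonempty (AlgSp.Points Z)) (hss : Subsingleton (AlgSp.Points Z)) :
    AlgSp.EtaleLocally (fun U => IsLocallyNoetherian U ∧
      ∀ u : ↥U, IsRegularLocalRing ↥(U.presheaf.stalk u)) Z := by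
  obtain ⟨k, _, str, p, hpfp, hpf, hps⟩ := exists_lfp_flat_surjective_fieldPt hr hN hne hss
  obtain ⟨U, a, hae, has, hUN⟩ := hN
  refine ⟨U, a, hae, has, hUN, fun u => ?_⟩
  have hUred : IsReduced U.left := isReduced_of_etale_chart hr a hae
  have hopen := isOpen_singleton_of_etale_chart hZ str p hpfp hpf hps a hae u
  have hfield := isField_stalk_of_isReduced_of_isOpen_singleton U.left u hopen
  let _ : Field ↥(U.left.presheaf.stalk u) := hfield.toField
  infer_instance

end Groth.Agent.Lib.Helper51
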