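import Groth.Agent.S1608
import Groth.Agent.Lib.Helper51.AlgSpCodimZeroFib

set_option autoImplicit false
universe u
open CategoryTheory CategoryTheory.Limits AlgebraicGeometry Topology TopologicalSpace
open AlgSp

namespace Groth.Agent.Lib.Helper51.QfCodimOne

open Groth.Agent.Lib.Helper98.AlgSpLqf Groth.Agent.Lib.Helper51.Coheight
open Groth.Agent.Lib.Helper51.CodimZeroFib

/-- the generic point of an irreducible component is a maximal point. -/
theorem isMaxPt_of_isGenericPoint {U : Type*} [TopologicalSpace U] [T0Space U] {Z : Set U}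
    (hZ : Z ∈ irreducibleComponents U) {η : U} (hη : IsGenericPoint η Z) :
    ∀ b : U, b ⤳ η → b = η := by
  intro b hb
  have h1 : closure {η} ⊆ closure {b} := by
    apply closure_minimal _ isClosed_closure
    rw [Set.singleton_subset_iff]
    exact specializes_iff_mem_closure.1 hb
  have h2 : Z ⊆ closure {b} := hη.def ▸ h1
  have h3 : closure {b} ⊆ Z := hZ.2 isIrreducible_singleton.closure h2
  have hb' : IsGenericPoint b Z := h3.antisymm h2
  exact hb'.eq hη

/-- in a Noetherian quasi-sober space, every point has an open neighbourhood all of whose maximal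
points specialise to it. -/
theorem exists_open_nhd_maximal_specializes {U : Type*} [TopologicalSpace U] [NoetherianSpace U]
    [QuasiSober U] [T0Space U] (x : U) :
    ∃ N : Set U, IsOpen N ∧ x ∈ N ∧ ∀ η ∈ N, (∀ b : U, b ⤳ η → b = η) → η ⤳ x := by
  have hfin : (irreducibleComponents U).Finite := NoetherianSpace.finite_irreducibleComponents
  refine ⟨(⋃₀ {Z ∈ irreducibleComponents U | x ∉ Z})ᶜ, ?_, ?_, ?_⟩
  · rw [Set.sUnion_eq_biUnion, isOpen_compl_iff]
    exact (hfin.subset (Set.sep_subset _ _)).isClosed_biUnion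
      fun W hW => isClosed_of_mem_irreducibleComponents W hW.1
  · rintro ⟨Z, ⟨-, hxZ⟩, hx⟩
    exact hxZ hx
  · intro η hη hmax
    have hxmem : x ∈ irreducibleComponent η := by
      by_contra hx
      exact hη ⟨irreducibleComponent η, ⟨irreducibleComponent_mem_irreducibleComponents η, hx⟩,
        mem_irreducibleComponent⟩
    obtain ⟨ζ, hζ⟩ := QuasiSober.sober (isIrreducible_irreducibleComponent (x := η))
      isClosed_irreducibleComponent
    have h1 : ζ ⤳ η := by
      rw [specializes_iff_mem_closure, hζ.def]; exact mem_irreducibleComponent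
    have h2 : ζ = η := hmax ζ h1
    rw [← h2, specializes_iff_mem_closure, hζ.def]
    exact hxmem

/-- strengthened form of the scheme-level statement: it suffices to know quasi-finiteness at the
maximal points that specialise to the point. -/
theorem quasiFiniteAt_of_maximal_generizations {X Y : Scheme.{u}} (f : X ⟶ Y)
    [LocallyOfFiniteType f] [IsLocallyNoetherian Y] (x : X)
    (hy : ringKrullDim (Y.presheaf.stalk (f x)) ≤ 1)
    (hgen : ∀ η : X, (∀ b : X, b ⤳ η → b = η) → η ⤳ x → f.QuasiFiniteAt η) :
    f.QuasiFiniteAt x := by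
  haveI : IsLocallyNoetherian X := LocallyOfFiniteType.isLocallyNoetherian f
  obtain ⟨i, x', rfl⟩ := X.affineCover.exists_eq x
  let W : Scheme.{u} := X.affineCover.X i
  let ι : W ⟶ X := X.affineCover.f i
  haveI : IsOpenImmersion ι := inferInstanceAs (IsOpenImmersion (X.affineCover.f i))
  haveI : IsAffine W := inferInstanceAs (IsAffine (X.affineCover.X i))
  haveI : IsLocallyNoetherian W := isLocallyNoetherian_of_isOpenImmersion ι
  haveI : IsNoetherian W := ⟨⟩
  obtain ⟨N, hNo, hxN, hN⟩ := exists_open_nhd_maximal_specializes (U := W) x'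
  let N' : W.Opens := ⟨N, hNo⟩
  let j : (N' : Scheme) ⟶ X := N'.ι ≫ ι
  haveI : LocallyOfFiniteType (j ≫ f) := inferInstanceAs (LocallyOfFiniteType ((N'.ι ≫ ι) ≫ f))
  let xN : (N' : Scheme) := ⟨x', hxN⟩
  have hq : (j ≫ f).QuasiFiniteAt xN := by
    apply Groth.Agent.S1608.result (j ≫ f) (f (ι x')) hy
    · intro Z hZ η hη
      rw [Scheme.Hom.quasiFiniteAt_comp_iff_of_isOpenImmersion]
      have hmaxN := isMaxPt_of_isGenericPoint hZ hη
      have hemb := j.isOpenEmbedding
      have hmaxX : ∀ b : X, b ⤳ j η → b = j η := by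
        intro b hb
        have hbr : b ∈ Set.range j := hb.mem_open hemb.isOpen_range ⟨η, rfl⟩
        obtain ⟨b', rfl⟩ := hbr
        rw [hemb.isInducing.specializes_iff] at hb
        rw [hmaxN b' hb]
      apply hgen _ hmaxX
      have hembN := N'.ι.isOpenEmbedding
      have hmaxW : ∀ b : W, b ⤳ N'.ι η → b = N'.ι η := by
        intro b hb
        have hbr : b ∈ Set.range N'.ι := hb.mem_open hembN.isOpen_range ⟨η, rfl⟩
        obtain ⟨b', rfl⟩ := hbr
        rw [hembN.isInducing.specializes_iff] at hb
        rw [hmaxN b' hb]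
      have := hN (N'.ι η) (η.2) hmaxW
      exact this.map ι.continuous
    · rfl
  exact (Scheme.Hom.quasiFiniteAt_comp_iff_of_isOpenImmersion (f := j) (g := f) (x := xN)).1 hq

variable {S : Scheme.{u}}

open Groth.Agent.Lib.Helper52 Groth.Agent.Lib.Helper51 Groth.Agent.Lib.Helper98.AlgSpPtLocal
open Groth.Agent.Lib.Helper51.DimCharts

set_option backward.isDefEq.respectTransparency false

/-- chart reduction: it suffices to check quasi-finiteness of the charts at the maximal points
specialising to a point over `y`. -/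
theorem core {X Y : Sp S} (hX : IsAlgSpace X) (f : X ⟶ Y)
    (hf : LocP @LocallyOfFiniteType f) (hY : IsLocNoethSp Y) (y : Points Y)
    (hy : HasAt (fun U u => ringKrullDim (U.presheaf.stalk u) ≤ 1) Y y)
    (H : ∀ (U T : Over S) (a : (yon S).obj U ⟶ X) (t : (yon S).obj T ⟶ Y) (h : U ⟶ T),
      RepWith @Etale a → RepWith @Etale t → a ≫ f = (yon S).map h ≫ t →
      IsLocallyNoetherian T.left → LocallyOfFiniteType h.left →
      ∀ (u η : U.left), (∀ b : U.left, b ⤳ η → b = η) → η ⤳ u →
        Points.ofPt t (h.left u) = y → h.left.QuasiFiniteAt η)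
    (x : Points X) (hx : Points.map f x = y) : HasAtMor LqfNear f x := by
  obtain ⟨T, t, ht, hts, hTN⟩ := hY
  obtain ⟨v, hv⟩ := surjective_ofPt_of_repWith_surjective t hts y
  obtain ⟨V, b, v', hb, hyv, hv1⟩ := hy
  have hdim : ringKrullDim (T.left.presheaf.stalk v) ≤ 1 := by
    have := chart_independent (fun U u => ringKrullDim (U.presheaf.stalk u)) stalk_hQ t b ht hb
      v v' (hv.trans hyv.symm)
    rw [this]; exact hv1
  obtain ⟨U, a, h, u, ha, comm, hxu, huv⟩ := exists_chart_over hX f t ht v x (hx.trans hv.symm)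
  haveI : LocallyOfFiniteType h.left := hf a t h ha ht comm
  haveI : IsLocallyNoetherian T.left := hTN
  refine ⟨U, T, a, t, h, u, ha, ht, comm, hxu, ?_⟩
  rw [lqfNear_iff_quasiFiniteAt]
  apply quasiFiniteAt_of_maximal_generizations h.left u (by rw [huv]; exact hdim)
  intro η hmax hηu
  exact H U T a t h ha ht comm hTN inferInstance u η hmax hηu (by rw [huv]; exact hv)

/-- quasi-finite at all codimension-zero points ⇒ quasi-finite at every point over a point of
codimension at most one. -/
theorem of_codimZero {X Y : Sp S} (hX : IsAlgSpace X) (f : X ⟶ Y)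
    (hf : LocP @LocallyOfFiniteType f) (hY : IsLocNoethSp Y) (y : Points Y)
    (hy : HasAt (fun U u => ringKrullDim (U.presheaf.stalk u) ≤ 1) Y y)
    (h : ∀ x : Points X, HasAt (fun U u => ringKrullDim (U.presheaf.stalk u) = 0) X x →
      HasAtMor LqfNear f x)
    (x : Points X) (hx : Points.map f x = y) : HasAtMor LqfNear f x := by
  refine core hX f hf hY y hy ?_ x hx
  intro U T a t g ha ht comm hTN hg u η hmax hηu hu
  have h0 : HasAt (fun U u => ringKrullDim (U.presheaf.stalk u) = 0) X (Points.ofPt a η) :=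
    ⟨U, a, η, ha, rfl, (stalk_dim_zero_iff_isMax η).2 ((isMax_iff_forall_specializes η).2 hmax)⟩
  have hq : LqfNear _ _ g.left η :=
    (hasAtMor_iff_of_chart etLocalPt_lqfNear f a t g ha ht comm η).1 (h _ h0)
  exact (lqfNear_iff_quasiFiniteAt g.left η).1 hq

end Groth.Agent.Lib.Helper51.QfCodimOne
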