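import Groth.Agent.Lib.Helper51.AlgSpQuotField9

/-!
Translation argument: finiteness of the relation over `(u, u')` implies finiteness over `(u, u)`
(helper51).
-/

set_option autoImplicit false
set_option linter.unusedSectionVars false
universe u
open CategoryTheory CategoryTheory.Limits AlgebraicGeometry Opposite TensorProduct

set_option backward.isDefEq.respectTransparency false

namespace Groth.Agent.Lib.Helper51

open AlgSp Groth.Agent.Lib.Helper30 Groth.Agent.Lib.Helper52

variable {S : Scheme.{u}}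

theorem finite_diag_of_finite_pairs {X : AlgSp.Sp S} {U : Over S}
    (φ : (AlgSp.yon S).obj U ⟶ X) (hφ : AlgSp.RepWith @Etale φ) {R : Over S} (s t : R ⟶ U)
    (sqR : IsPullback ((AlgSp.yon S).map t) ((AlgSp.yon S).map s) φ φ) (u u' : ↥U.left)
    (r0 : ↥R.left) (hr0s : s.left r0 = u) (hr0t : t.left r0 = u')
    (hfin : {r : ↥R.left | s.left r = u' ∧ t.left r = u}.Finite) :
    {r : ↥R.left | s.left r = u ∧ t.left r = u}.Finite := by
  have ht_et : Etale t.left := hφ.2 φ ((AlgSp.yon S).map s) t sqR.flip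
  set ir := R.left.fromSpecResidueField r0 with hir
  let Gκ : Over S := Over.mk (ir ≫ R.hom)
  let iO : Gκ ⟶ R := Over.homMk ir rfl
  have hirpt : ∀ y, ir y = r0 := fun y => Scheme.fromSpecResidueField_apply _ _
  have hw0 : (AlgSp.yon S).map t ≫ φ = (AlgSp.yon S).map s ≫ φ := sqR.w
  obtain ⟨A, prU, prG, sqA⟩ := exists_isPullback_of_representable hφ.1
    ((AlgSp.yon S).map (iO ≫ s) ≫ φ)
  have hc1 : (AlgSp.yon S).map prU ≫ φ = (AlgSp.yon S).map (prG ≫ iO ≫ s) ≫ φ := by
    rw [sqA.w]
    simp only [Functor.map_comp, Category.assoc]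
  have hc2 : (AlgSp.yon S).map prU ≫ φ = (AlgSp.yon S).map (prG ≫ iO ≫ t) ≫ φ := by
    rw [sqA.w]
    simp only [Functor.map_comp, Category.assoc]
    rw [hw0]
  let g1 : A ⟶ R := (AlgSp.yon S).preimage (sqR.lift _ _ hc1)
  let g2 : A ⟶ R := (AlgSp.yon S).preimage (sqR.lift _ _ hc2)
  have hg1t : (AlgSp.yon S).map g1 ≫ (AlgSp.yon S).map t = (AlgSp.yon S).map prU := by
    rw [Functor.map_preimage]; exact sqR.lift_fst _ _ _
  have hg1s : (AlgSp.yon S).map g1 ≫ (AlgSp.yon S).map s = (AlgSp.yon S).map (prG ≫ iO ≫ s) := by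
    rw [Functor.map_preimage]; exact sqR.lift_snd _ _ _
  have hg2t : (AlgSp.yon S).map g2 ≫ (AlgSp.yon S).map t = (AlgSp.yon S).map prU := by
    rw [Functor.map_preimage]; exact sqR.lift_fst _ _ _
  have hg2s : (AlgSp.yon S).map g2 ≫ (AlgSp.yon S).map s = (AlgSp.yon S).map (prG ≫ iO ≫ t) := by
    rw [Functor.map_preimage]; exact sqR.lift_snd _ _ _
  have sq1 : IsPullback ((AlgSp.yon S).map g1) ((AlgSp.yon S).map prG) ((AlgSp.yon S).map s)
      ((AlgSp.yon S).map (iO ≫ s)) := by
    refine IsPullback.of_right ?_ ?_ sqR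
    · rw [hg1t]; exact sqA
    · rw [hg1s, Functor.map_comp]
  have sq2 : IsPullback ((AlgSp.yon S).map g2) ((AlgSp.yon S).map prG) ((AlgSp.yon S).map s)
      ((AlgSp.yon S).map (iO ≫ t)) := by
    refine IsPullback.of_right ?_ ?_ sqR
    · rw [hg2t]
      have : (AlgSp.yon S).map (iO ≫ t) ≫ φ = (AlgSp.yon S).map (iO ≫ s) ≫ φ := by
        rw [Functor.map_comp, Functor.map_comp, Category.assoc, Category.assoc, hw0]
      rw [this]; exact sqA
    · rw [hg2s, Functor.map_comp]
  -- finiteness of fibres of `g2`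
  have hsub : Subsingleton ↥Gκ.left :=
    inferInstanceAs (Subsingleton (PrimeSpectrum ↥(R.left.residueField r0)))
  have hlqf0 : LocallyQuasiFinite (iO ≫ t).left := by
    show LocallyQuasiFinite (ir ≫ t.left)
    infer_instance
  have hqc0 : QuasiCompact (iO ≫ t).left := quasiCompact_of_subsingleton _
  have hlqf : LocallyQuasiFinite g2.left :=
    ((AlgSp.repWith_yon_map_iff @LocallyQuasiFinite _).2 hlqf0).2 _ _ g2 sq2.flip
  have hqc : QuasiCompact g2.left :=
    ((AlgSp.repWith_yon_map_iff @QuasiCompact _).2 hqc0).2 _ _ g2 sq2.flip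
  have hg1t' : ∀ a, t.left (g1.left a) = prU.left a := by
    intro a
    have := congrArg (fun k => k.left a) ((AlgSp.yon S).map_injective
      ((Functor.map_comp _ _ _).trans hg1t))
    simpa using this
  have hg2t' : ∀ a, t.left (g2.left a) = prU.left a := by
    intro a
    have := congrArg (fun k => k.left a) ((AlgSp.yon S).map_injective
      ((Functor.map_comp _ _ _).trans hg2t))
    simpa using this
  have hg2s' : ∀ a, s.left (g2.left a) = u' := by
    intro a
    have := congrArg (fun k => k.left a) ((AlgSp.yon S).map_injective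
      ((Functor.map_comp _ _ _).trans hg2s))
    simp only [Over.comp_left, Scheme.Hom.comp_apply] at this
    rw [this]
    show t.left (ir _) = u'
    rw [hirpt, hr0t]
  have hAu : (prU.left ⁻¹' {u}).Finite := by
    refine (Set.Finite.biUnion hfin (fun r _ => g2.left.finite_preimage_singleton r)).subset ?_
    intro a ha
    refine Set.mem_biUnion (x := g2.left a) ⟨hg2s' a, ?_⟩ rfl
    rw [hg2t' a]; exact ha
  refine (hAu.image g1.left).subset ?_
  rintro r ⟨hr1, hr2⟩
  have hpt : Points.ofPt ((AlgSp.yon S).map s) r =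
      Points.ofPt ((AlgSp.yon S).map (iO ≫ s)) (IsLocalRing.closedPoint _) := by
    rw [← Category.comp_id ((AlgSp.yon S).map s), ofPt_yon_map_comp,
      ← Category.comp_id ((AlgSp.yon S).map (iO ≫ s)), ofPt_yon_map_comp]
    congr 1
    show s.left r = s.left (ir _)
    rw [hirpt, hr0s, hr1]
  obtain ⟨a, ha1, -⟩ := exists_of_ofPt_eq_ofPt sq1 hpt
  refine ⟨a, ?_, ha1⟩
  rw [Set.mem_preimage, Set.mem_singleton_iff, ← hg1t' a, ha1, hr2]

end Groth.Agent.Lib.Helper51
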