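import Groth.Agent.Lib.Helper51.AlgSpQuotField10
import Groth.Agent.Lib.Helper51.AlgSpDecent
import Groth.Agent.Lib.Helper30.AlgSpSep
import Groth.Agent.Lib.Helper30.AlgSpFib

/-!
Representable and quasi-separated morphisms are decent (helper51).
-/

set_option autoImplicit false
set_option linter.unusedSectionVars false
universe u
open CategoryTheory CategoryTheory.Limits AlgebraicGeometry Opposite TensorProduct

set_option backward.isDefEq.respectTransparency false

namespace Groth.Agent.Lib.Helper51

open AlgSp Groth.Agent.Lib.Helper30 Groth.Agent.Lib.Helper52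

variable {S : Scheme.{u}}

/-- If `F ⟶ h_T` is quasi-separated, every morphism to `F` from a scheme which is quasi-compact over
`T` is quasi-compact. -/
theorem repWith_quasiCompact_of_isQuasiSeparatedMor {F : AlgSp.Sp S} {T : Over S}
    (h : F ⟶ (AlgSp.yon S).obj T) (hqs : AlgSp.IsQuasiSeparatedMor h) {U : Over S}
    (a : (AlgSp.yon S).obj U ⟶ F) (ha : AlgSp.Representable a)
    (hU : ∀ m : U ⟶ T, QuasiCompact m.left) : AlgSp.RepWith @QuasiCompact a := by
  have key : ∀ {T' : Over S} (b : (AlgSp.yon S).obj T' ⟶ F),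
      AlgSp.RepWith @QuasiCompact (pullback.snd a b) := by
    intro T' b
    have hmd : AlgSp.RepWith @QuasiCompact (pullback.mapDesc a b h) :=
      MorphismProperty.of_isPullback (pullback_map_diagonal_isPullback a b h) hqs
    obtain ⟨m, hm⟩ := (AlgSp.yon S).map_surjective (a ≫ h)
    have hm' : AlgSp.RepWith @QuasiCompact (a ≫ h) := by
      rw [← hm, AlgSp.repWith_yon_map_iff]
      exact hU m
    have h2 : AlgSp.RepWith @QuasiCompact (pullback.snd (a ≫ h) (b ≫ h)) :=
      MorphismProperty.of_isPullback (IsPullback.of_hasPullback (a ≫ h) (b ≫ h)) hm'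
    have h3 : pullback.snd a b = pullback.mapDesc a b h ≫ pullback.snd (a ≫ h) (b ≫ h) := by
      simp [pullback.mapDesc]
    rw [h3]
    exact (AlgSp.RepWith @QuasiCompact).comp_mem _ _ hmd h2
  refine ⟨ha, ?_⟩
  intro T' V b fst snd sq
  have h1 : (AlgSp.yon S).map snd = sq.isoPullback.hom ≫ pullback.snd a b :=
    (sq.isoPullback_hom_snd).symm
  have h2 : AlgSp.RepWith @QuasiCompact ((AlgSp.yon S).map snd) := by
    rw [h1]
    exact MorphismProperty.RespectsIso.precomp _ _ _ (key b)
  exact (AlgSp.repWith_yon_map_iff @QuasiCompact snd).1 h2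

/-- An algebraic space quasi-separated over a scheme is decent. -/
theorem isDecent_of_isQuasiSeparatedMor_to_yon {F : AlgSp.Sp S} (hF : AlgSp.IsAlgSpace F)
    {T : Over S} (h : F ⟶ (AlgSp.yon S).obj T) (hqs : AlgSp.IsQuasiSeparatedMor h) :
    AlgSp.IsDecent F := by
  intro x
  obtain ⟨q, rfl⟩ := Points.mk_surjective x
  refine exists_qc_mono_fieldPt_of_quasiCompact hF q
    (repWith_quasiCompact_of_isQuasiSeparatedMor h hqs q.toHom (hF.representable_from_yon _) ?_)
  intro m
  have : Subsingleton ↥q.pt.left := inferInstanceAs (Subsingleton (PrimeSpectrum q.K))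
  exact quasiCompact_of_subsingleton _

/-- Quasi-separatedness is stable under base change. -/
theorem isQuasiSeparatedMor_of_isPullback {X Y P Z : AlgSp.Sp S} {f : X ⟶ Y} {g : Z ⟶ Y}
    {fst : P ⟶ X} {snd : P ⟶ Z} (sq : IsPullback fst snd f g)
    (h : AlgSp.IsQuasiSeparatedMor f) : AlgSp.IsQuasiSeparatedMor snd :=
  diagonal_of_isPullback (AlgSp.RepWith @QuasiCompact) sq h

/-- Quasi-separated morphisms of algebraic spaces are decent. -/
theorem isDecentMor_of_isQuasiSeparatedMor {X Y : AlgSp.Sp S} (hX : AlgSp.IsAlgSpace X)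
    (hY : AlgSp.IsAlgSpace Y) (f : X ⟶ Y) (hf : AlgSp.IsQuasiSeparatedMor f) :
    AlgSp.IsDecentMor f := by
  intro T F' g fst snd sq
  have hF' : AlgSp.IsAlgSpace F' :=
    isAlgSpace_of_isPullback hY.diag hX (AlgSp.IsAlgSpace.yon_obj T) sq
  exact isDecent_of_isQuasiSeparatedMor_to_yon hF' snd (isQuasiSeparatedMor_of_isPullback sq hf)

end Groth.Agent.Lib.Helper51
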