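import Groth.Agent.Lib.Helper51.AlgSpQuotField11

/-!
Quasi-compactness of a field point from compactness of its base changes to affine etale charts
(helper51).
-/

set_option autoImplicit false
set_option linter.unusedSectionVars false
universe u
open CategoryTheory CategoryTheory.Limits AlgebraicGeometry Opposite TensorProduct

set_option backward.isDefEq.respectTransparency false

namespace Groth.Agent.Lib.Helper51

open AlgSp Groth.Agent.Lib.Helper30 Groth.Agent.Lib.Helper52

variable {S : Scheme.{u}}

/-- A morphism from a scheme to an algebraic space is quasi-compact as soon as its base changes to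
affine etale charts are compact. -/
theorem repWith_quasiCompact_of_compact_affine_charts {X : AlgSp.Sp S} (hX : AlgSp.IsAlgSpace X)
    {Q : Over S} (q : (AlgSp.yon S).obj Q ⟶ X)
    (H : ∀ (U : Over S) (φ : (AlgSp.yon S).obj U ⟶ X) (T : Over S) (c : T ⟶ Q) (v : T ⟶ U),
      IsAffine U.left → AlgSp.RepWith @Etale φ →
      IsPullback ((AlgSp.yon S).map c) ((AlgSp.yon S).map v) q φ → CompactSpace ↥T.left) :
    AlgSp.RepWith @QuasiCompact q := by
  obtain ⟨U', φ', hφ'e, hφ's⟩ := hX.atlas
  have hrep := hX.representable_from_yon q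
  obtain ⟨V, a, v, sq⟩ := exists_isPullback_of_representable hrep φ'
  refine repWith_of_etale_cover @QuasiCompact sq hrep hφ'e hφ's ?_
  rw [AlgSp.repWith_yon_map_iff, quasiCompact_iff_forall_isAffineOpen]
  intro U'' hU''
  have hea : AlgSp.RepWith @Etale ((AlgSp.yon S).map (opensOverι U' U'') ≫ φ') :=
    (AlgSp.RepWith @Etale).comp_mem _ _
      ((AlgSp.repWith_yon_map_iff @Etale _).2 inferInstance) hφ'e
  have sqs := isPullback_morphismRestrict v.left U''
  have hw : (v.left ∣_ U'') ≫ (opensOver U' U'').hom = (opensOver V (v.left ⁻¹ᵁ U'')).hom := by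
    show (v.left ∣_ U'') ≫ U''.ι ≫ U'.hom = (v.left ⁻¹ᵁ U'').ι ≫ V.hom
    rw [← Category.assoc, sqs.w, Category.assoc, Over.w v]
  let v'' : opensOver V (v.left ⁻¹ᵁ U'') ⟶ opensOver U' U'' := Over.homMk (v.left ∣_ U'') hw
  have sqO : IsPullback (opensOverι V (v.left ⁻¹ᵁ U'')) v'' v (opensOverι U' U'') :=
    IsPullback.of_map_of_faithful (Over.forget S) sqs.flip
  have big := (sqO.map (AlgSp.yon S)).paste_horiz sq
  rw [← Functor.map_comp] at big
  have hc : CompactSpace ↥(opensOver V (v.left ⁻¹ᵁ U'')).left :=
    H (opensOver U' U'') _ _ _ v'' hU'' hea big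
  exact isCompact_iff_compactSpace.mpr hc

/-- If every affine etale chart has universally bounded fibres then the space is decent. -/
theorem isDecent_of_finite_base_changes {X : AlgSp.Sp S} (hX : AlgSp.IsAlgSpace X)
    (H : ∀ (U : Over S) (φ : (AlgSp.yon S).obj U ⟶ X), IsAffine U.left → AlgSp.RepWith @Etale φ →
      ∀ (q : FieldPt X) (T : Over S) (c : T ⟶ q.pt)
        (snd : (AlgSp.yon S).obj T ⟶ (AlgSp.yon S).obj U),
        IsPullback ((AlgSp.yon S).map c) snd q.toHom φ → IsFinite c.left) :
    AlgSp.IsDecent X := by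
  intro x
  obtain ⟨q, rfl⟩ := Points.mk_surjective x
  refine exists_qc_mono_fieldPt_of_quasiCompact hX q ?_
  refine repWith_quasiCompact_of_compact_affine_charts hX q.toHom ?_
  intro U φ T c v hU hφ sq
  have hfin : IsFinite c.left := H U φ hU hφ q T c _ sq
  have : IsAffine q.pt.left := inferInstanceAs (IsAffine (Spec (CommRingCat.of q.K)))
  have : IsAffine T.left := isAffine_of_isAffineHom c.left
  infer_instance

end Groth.Agent.Lib.Helper51
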