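import Groth.Agent.Lib.Helper51.AlgSpQuotField12
import Groth.Agent.Lib.Helper51.QCDescent
import Groth.Agent.Lib.Helper30.AlgSpDesc

/-!
Small composition lemmas for `RepWith` (helper51), stated so that statement files need no
instance search.
-/

set_option autoImplicit false
set_option backward.isDefEq.respectTransparency false
universe u
open CategoryTheory CategoryTheory.Limits AlgebraicGeometry Opposite MorphismProperty

namespace Groth.Agent.Lib.Helper51

open AlgSp Groth.Agent.Lib.Helper52

variable {S : Scheme.{u}}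

theorem repWith_etale_comp {F G H : AlgSp.Sp S} (f : F ⟶ G) (g : G ⟶ H)
    (hf : AlgSp.RepWith @Etale f) (hg : AlgSp.RepWith @Etale g) : AlgSp.RepWith @Etale (f ≫ g) :=
  (AlgSp.RepWith @Etale).comp_mem _ _ hf hg

theorem repWith_quasiCompact_comp {F G H : AlgSp.Sp S} (f : F ⟶ G) (g : G ⟶ H)
    (hf : AlgSp.RepWith @QuasiCompact f) (hg : AlgSp.RepWith @QuasiCompact g) :
    AlgSp.RepWith @QuasiCompact (f ≫ g) :=
  (AlgSp.RepWith @QuasiCompact).comp_mem _ _ hf hg

theorem repWith_surjective_comp {F G H : AlgSp.Sp S} (f : F ⟶ G) (g : G ⟶ H)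
    (hf : AlgSp.RepWith @Surjective f) (hg : AlgSp.RepWith @Surjective g) :
    AlgSp.RepWith @Surjective (f ≫ g) :=
  (AlgSp.RepWith @Surjective).comp_mem _ _ hf hg

theorem repWith_etale_of_isOpenImmersion {F G : AlgSp.Sp S} (f : F ⟶ G)
    (hf : AlgSp.RepWith @IsOpenImmersion f) : AlgSp.RepWith @Etale f := by
  refine MorphismProperty.relative_monotone ?_ _ hf
  intro A B k hk
  have : IsOpenImmersion k.left := hk
  show Etale k.left
  infer_instance

/-- Quasi-compactness of an etale surjective chart can be read off from its kernel pair. -/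
theorem repWith_quasiCompact_of_kernelPair {X : AlgSp.Sp S} {U : Over S}
    (a : (AlgSp.yon S).obj U ⟶ X) (hae : AlgSp.RepWith @Etale a)
    (has : AlgSp.RepWith @Surjective a) {R : Over S} (s t : R ⟶ U)
    (sq : IsPullback ((AlgSp.yon S).map t) ((AlgSp.yon S).map s) a a)
    (hs : QuasiCompact s.left) : AlgSp.RepWith @QuasiCompact a :=
  Groth.Agent.Lib.Helper30.repWith_of_etale_cover @QuasiCompact sq hae.1 hae has
    ((AlgSp.repWith_yon_map_iff @QuasiCompact s).2 hs)

end Groth.Agent.Lib.Helper51
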