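import Groth.Agent.Lib.Helper51.AlgSpQuotField12
import Groth.Agent.Lib.Helper51.AlgSpVR

/-!
Two-chart version of the finiteness of relation fibres over a point with a monomorphic
representative (helper51).
-/

set_option autoImplicit false
set_option linter.unusedSectionVars false
universe u
open CategoryTheory CategoryTheory.Limits AlgebraicGeometry Opposite TensorProduct

set_option backward.isDefEq.respectTransparency false

namespace Groth.Agent.Lib.Helper51

open AlgSp Groth.Agent.Lib.Helper30 Groth.Agent.Lib.Helper52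

variable {S : Scheme.{u}}

/-- If `x` has a monomorphic representative, then for etale charts `U`, `W` and points
`u`, `w` over `x` there are finitely many points of `U ×_X W` over `(u, w)`. -/
theorem finite_pairs_of_mono_fieldPt₂ {X : AlgSp.Sp S} (hX : AlgSp.IsAlgSpace X) (p : FieldPt X)
    [Mono p.toHom] {U W : Over S} (φ : (AlgSp.yon S).obj U ⟶ X) (hφ : AlgSp.RepWith @Etale φ)
    (ψ : (AlgSp.yon S).obj W ⟶ X) (hψ : AlgSp.RepWith @Etale ψ)
    (u : ↥U.left) (w : ↥W.left) (hu : Points.ofPt φ u = Points.mk p)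
    (hw : Points.ofPt ψ w = Points.mk p)
    {R : Over S} (s : R ⟶ U) (t : R ⟶ W)
    (sqR : IsPullback ((AlgSp.yon S).map t) ((AlgSp.yon S).map s) ψ φ) :
    {r : ↥R.left | s.left r = u ∧ t.left r = w}.Finite := by
  have hrep := hX.representable_from_yon p.toHom
  obtain ⟨V, a, v, sqV⟩ := exists_isPullback_of_representable hrep φ
  obtain ⟨V', a', v', sqV'⟩ := exists_isPullback_of_representable hrep ψ
  have ha : Etale a.left := hφ.2 p.toHom _ a sqV.flip
  have ha' : Etale a'.left := hψ.2 p.toHom _ a' sqV'.flip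
  have hmv : Mono ((AlgSp.yon S).map v) := sqV.mono_snd_of_mono
  have hmv' : Mono v := (AlgSp.yon S).mono_of_mono_map hmv
  have hml : Mono v.left := inferInstance
  have hinj : Function.Injective v.left := v.left.injective
  have hmv2 : Mono ((AlgSp.yon S).map v') := sqV'.mono_snd_of_mono
  have hmv2' : Mono v' := (AlgSp.yon S).mono_of_mono_map hmv2
  have hml2 : Mono v'.left := inferInstance
  have hinj' : Function.Injective v'.left := v'.left.injective
  have hz : Points.ofPt p.toHom (IsLocalRing.closedPoint p.K) = Points.ofPt φ u := by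
    rw [Points.ofPt_toHom, hu]
  obtain ⟨z, -, hz2⟩ := exists_of_ofPt_eq_ofPt sqV hz
  have hz' : Points.ofPt p.toHom (IsLocalRing.closedPoint p.K) = Points.ofPt ψ w := by
    rw [Points.ofPt_toHom, hw]
  obtain ⟨z', -, hz'2⟩ := exists_of_ofPt_eq_ofPt sqV' hz'
  have hd : DiscreteTopology ↥V.left := discreteTopology_of_etale_spec_field (κ := p.K) a.left
  have hd' : DiscreteTopology ↥V'.left :=
    discreteTopology_of_etale_spec_field (κ := p.K) a'.left
  obtain ⟨Vz, hVz⟩ : ∃ Vz : V.left.Opens, (Vz : Set ↥V.left) = {z} :=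
    ⟨⟨{z}, isOpen_discrete _⟩, rfl⟩
  obtain ⟨Vz', hVz'⟩ : ∃ Vz' : V'.left.Opens, (Vz' : Set ↥V'.left) = {z'} :=
    ⟨⟨{z'}, isOpen_discrete _⟩, rfl⟩
  have hfz : Finite ↥(Vz : Scheme.{u}) :=
    Set.finite_coe_iff.mpr (hVz ▸ Set.finite_singleton z)
  have hfz' : Finite ↥(Vz' : Scheme.{u}) :=
    Set.finite_coe_iff.mpr (hVz' ▸ Set.finite_singleton z')
  have haz : IsFinite (Vz.ι ≫ a.left) := isFinite_of_etale_of_finite (κ := p.K) (Vz.ι ≫ a.left)
  have haz' : IsFinite (Vz'.ι ≫ a'.left) :=
    isFinite_of_etale_of_finite (κ := p.K) (Vz'.ι ≫ a'.left)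
  set az := Vz.ι ≫ a.left with haz_def
  set az' := Vz'.ι ≫ a'.left with haz'_def
  have hWfin : Finite ↥(pullback az az') :=
    finite_of_isFinite_spec_field (κ := p.K) (pullback.snd az az' ≫ az')
  -- the map to `R`
  have hVhom : a.left ≫ p.pt.hom = V.hom := Over.w a
  have hVhom' : a'.left ≫ p.pt.hom = V'.hom := Over.w a'
  let WO : Over S := Over.mk (pullback.fst az az' ≫ Vz.ι ≫ V.hom)
  let w1 : WO ⟶ V := Over.homMk (pullback.fst az az' ≫ Vz.ι) (Category.assoc _ _ _)
  have hw2 : (pullback.snd az az' ≫ Vz'.ι) ≫ V'.hom = pullback.fst az az' ≫ Vz.ι ≫ V.hom := by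
    rw [← hVhom, ← hVhom']
    have := pullback.condition (f := az) (g := az')
    simp only [haz_def, haz'_def, Category.assoc] at this ⊢
    have h2 := congrArg (· ≫ p.pt.hom) this.symm
    simpa only [Category.assoc] using h2
  let w2 : WO ⟶ V' := Over.homMk (pullback.snd az az' ≫ Vz'.ι) hw2
  have hwa : w1 ≫ a = w2 ≫ a' := by
    apply Over.OverMorphism.ext
    have := pullback.condition (f := az) (g := az')
    simpa [w1, w2, haz_def, haz'_def, Category.assoc] using this
  have hvφ : (AlgSp.yon S).map v ≫ φ = (AlgSp.yon S).map a ≫ p.toHom := sqV.w.symm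
  have hvψ : (AlgSp.yon S).map v' ≫ ψ = (AlgSp.yon S).map a' ≫ p.toHom := sqV'.w.symm
  have hcompat : (AlgSp.yon S).map (w2 ≫ v') ≫ ψ = (AlgSp.yon S).map (w1 ≫ v) ≫ φ := by
    rw [Functor.map_comp, Functor.map_comp, Category.assoc, Category.assoc, hvφ, hvψ,
      ← Category.assoc, ← Category.assoc, ← Functor.map_comp, ← Functor.map_comp, hwa]
  let g : WO ⟶ R := (AlgSp.yon S).preimage (sqR.lift _ _ hcompat)
  have hgt : g ≫ t = w2 ≫ v' := by
    apply (AlgSp.yon S).map_injective
    rw [Functor.map_comp, Functor.map_preimage]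
    exact sqR.lift_fst _ _ _
  have hgs : g ≫ s = w1 ≫ v := by
    apply (AlgSp.yon S).map_injective
    rw [Functor.map_comp, Functor.map_preimage]
    exact sqR.lift_snd _ _ _
  have hWfin' : Finite ↥WO.left := hWfin
  refine (Set.finite_range g.left).subset ?_
  rintro r ⟨hr1, hr2⟩
  -- the point `r` lifts
  set ir := R.left.fromSpecResidueField r with hir
  let q : FieldPt X := FieldPt.ofPt ((AlgSp.yon S).map s ≫ φ) r
  let irO : q.pt ⟶ R := Over.homMk ir rfl
  have hqhom : q.toHom = (AlgSp.yon S).map irO ≫ (AlgSp.yon S).map s ≫ φ := FieldPt.toHom_ofPt _ _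
  have hq : Points.mk p = Points.mk q := by
    show _ = Points.ofPt ((AlgSp.yon S).map s ≫ φ) r
    rw [ofPt_yon_map_comp, hr1, hu]
  obtain ⟨c, hc, -⟩ := existsUnique_factor_of_mono_fieldPt p q hrep hq
  have hc1 : (AlgSp.yon S).map c ≫ p.toHom = (AlgSp.yon S).map (irO ≫ s) ≫ φ := by
    rw [hc, hqhom, Functor.map_comp, Category.assoc]
  have hc2 : (AlgSp.yon S).map c ≫ p.toHom = (AlgSp.yon S).map (irO ≫ t) ≫ ψ := by
    rw [hc, hqhom, Functor.map_comp, Category.assoc, sqR.w]
  let m1 : q.pt ⟶ V := (AlgSp.yon S).preimage (sqV.lift _ _ hc1)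
  let m2 : q.pt ⟶ V' := (AlgSp.yon S).preimage (sqV'.lift _ _ hc2)
  have hm1a : m1 ≫ a = c := by
    apply (AlgSp.yon S).map_injective
    rw [Functor.map_comp, Functor.map_preimage]
    exact sqV.lift_fst _ _ _
  have hm1v : m1 ≫ v = irO ≫ s := by
    apply (AlgSp.yon S).map_injective
    rw [Functor.map_comp, Functor.map_preimage]
    exact sqV.lift_snd _ _ _
  have hm2a : m2 ≫ a' = c := by
    apply (AlgSp.yon S).map_injective
    rw [Functor.map_comp, Functor.map_preimage]
    exact sqV'.lift_fst _ _ _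
  have hm2v : m2 ≫ v' = irO ≫ t := by
    apply (AlgSp.yon S).map_injective
    rw [Functor.map_comp, Functor.map_preimage]
    exact sqV'.lift_snd _ _ _
  have hirpt : ∀ y, ir y = r := fun y => Scheme.fromSpecResidueField_apply _ _
  have hm1z : ∀ y, m1.left y = z := by
    intro y
    apply hinj
    have := congrArg (fun k => k.left y) hm1v
    simp only [Over.comp_left, Scheme.Hom.comp_apply] at this
    rw [this, hz2]
    show s.left (ir y) = u
    rw [hirpt, hr1]
  have hm2z : ∀ y, m2.left y = z' := by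
    intro y
    apply hinj'
    have := congrArg (fun k => k.left y) hm2v
    simp only [Over.comp_left, Scheme.Hom.comp_apply] at this
    rw [this, hz'2]
    show t.left (ir y) = w
    rw [hirpt, hr2]
  have hr1' : Set.range m1.left ⊆ Set.range Vz.ι := by
    rintro _ ⟨y, rfl⟩
    rw [Scheme.Opens.range_ι, hVz, hm1z y]
    rfl
  have hr2' : Set.range m2.left ⊆ Set.range Vz'.ι := by
    rintro _ ⟨y, rfl⟩
    rw [Scheme.Opens.range_ι, hVz', hm2z y]
    rfl
  let n1 := IsOpenImmersion.lift Vz.ι m1.left hr1'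
  let n2 := IsOpenImmersion.lift Vz'.ι m2.left hr2'
  have hn1 : n1 ≫ Vz.ι = m1.left := IsOpenImmersion.lift_fac _ _ _
  have hn2 : n2 ≫ Vz'.ι = m2.left := IsOpenImmersion.lift_fac _ _ _
  have hn12 : n1 ≫ az = n2 ≫ az' := by
    rw [haz_def, haz'_def, ← Category.assoc, ← Category.assoc, hn1, hn2]
    have e1 := congrArg (fun k => k.left) hm1a
    have e2 := congrArg (fun k => k.left) hm2a
    simp only [Over.comp_left] at e1 e2
    rw [e1, e2]
  let n := pullback.lift n1 n2 hn12
  have hnO : n ≫ WO.hom = q.pt.hom := by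
    show n ≫ pullback.fst az az' ≫ Vz.ι ≫ V.hom = q.pt.hom
    rw [← Category.assoc, pullback.lift_fst, ← Category.assoc, hn1]
    exact Over.w m1
  let nO : q.pt ⟶ WO := Over.homMk n hnO
  have hnw1 : nO ≫ w1 = m1 := by
    apply Over.OverMorphism.ext
    show n ≫ pullback.fst az az' ≫ Vz.ι = m1.left
    rw [← Category.assoc, pullback.lift_fst, hn1]
  have hnw2 : nO ≫ w2 = m2 := by
    apply Over.OverMorphism.ext
    show n ≫ pullback.snd az az' ≫ Vz'.ι = m2.left
    rw [← Category.assoc, pullback.lift_snd, hn2]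
  have hng : nO ≫ g = irO := by
    apply (AlgSp.yon S).map_injective
    apply sqR.hom_ext
    · rw [← Functor.map_comp, ← Functor.map_comp, Category.assoc, hgt, ← Category.assoc, hnw2,
        hm2v]
    · rw [← Functor.map_comp, ← Functor.map_comp, Category.assoc, hgs, ← Category.assoc, hnw1,
        hm1v]
  refine ⟨n (IsLocalRing.closedPoint _), ?_⟩
  have := congrArg (fun k => k.left (IsLocalRing.closedPoint _)) hng
  simp only [Over.comp_left, Scheme.Hom.comp_apply] at this
  exact this.trans (hirpt _)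

end Groth.Agent.Lib.Helper51
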