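import Groth.Agent.Lib.Helper51.AlgSpQuotField13
import Groth.Agent.Lib.Helper51.EtaleQF
import Groth.Agent.Lib.Helper51.AlgSpEtaleMor
import Groth.Agent.Lib.Helper30.AlgSpFib

/-!
Descending monomorphic representatives of points along quasi-compact etale morphisms (helper51).
-/

set_option autoImplicit false
set_option linter.unusedSectionVars false
universe u
open CategoryTheory CategoryTheory.Limits AlgebraicGeometry Opposite TensorProduct

set_option backward.isDefEq.respectTransparency false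

namespace Groth.Agent.Lib.Helper51

open AlgSp Groth.Agent.Lib.Helper30 Groth.Agent.Lib.Helper52

variable {S : Scheme.{u}}

/-- The chart package attached to a quasi-compact etale morphism `f : X ⟶ Y` and an affine etale
chart `U` of `X`: an affine scheme `W` with an etale chart `β : W ⟶ X` and an etale map
`α : W ⟶ U` with `f ∘ β = f ∘ φ ∘ α`, such that `W ×_X U ⟶ U ×_Y U` is surjective and
`W ⟶ U ×_Y X` is surjective. -/
theorem exists_chart_package {X Y : AlgSp.Sp S} (hX : AlgSp.IsAlgSpace X) (hY : AlgSp.IsAlgSpace Y)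
    (f : X ⟶ Y) (hq : AlgSp.IsQuasiCompactMor f) (he : AlgSp.IsEtaleMor f)
    {U : Over S} [IsAffine U.left] (φ : (AlgSp.yon S).obj U ⟶ X) (hφ : AlgSp.RepWith @Etale φ)
    {R : Over S} (s t : R ⟶ U)
    (sqR : IsPullback ((AlgSp.yon S).map t) ((AlgSp.yon S).map s) (φ ≫ f) (φ ≫ f)) :
    ∃ (W : Over S) (β : (AlgSp.yon S).obj W ⟶ X) (α : W ⟶ U), IsAffine W.left ∧
      AlgSp.RepWith @Etale β ∧ Etale α.left ∧ β ≫ f = (AlgSp.yon S).map α ≫ φ ≫ f ∧
      (∀ (u : ↥U.left) (x' : Points X), Points.map f x' = Points.ofPt (φ ≫ f) u →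
        ∃ w : ↥W.left, α.left w = u ∧ Points.ofPt β w = x') ∧
      ∀ (P : Over S) (pW : P ⟶ W) (pU : P ⟶ U),
        IsPullback ((AlgSp.yon S).map pW) ((AlgSp.yon S).map pU) β φ →
        ∃ δ : P ⟶ R, δ ≫ s = pW ≫ α ∧ δ ≫ t = pU ∧ Function.Surjective δ.left := by
  set ψ := φ ≫ f with hψdef
  have hψ : AlgSp.RepWith @Etale ψ := he φ hφ
  have sqT := IsPullback.of_hasPullback ψ f
  set T := pullback ψ f
  set pr1 : T ⟶ (AlgSp.yon S).obj U := pullback.fst ψ f
  set pr2 : T ⟶ X := pullback.snd ψ f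
  have hT : AlgSp.IsAlgSpace T :=
    isAlgSpace_of_isPullback hY.diag (IsAlgSpace.yon_obj U) hX sqT
  have hTqc : AlgSp.IsQuasiCompactSp T :=
    hq (IsAlgSpace.yon_obj U) (isQuasiCompactSp_yon_obj U) ψ pr2 pr1 sqT.flip
  obtain ⟨W, c, hW, hce, hcs⟩ := (isQuasiCompactSp_iff_exists_affine_chart hT).1 hTqc
  have hpr2 : AlgSp.RepWith @Etale pr2 := MorphismProperty.of_isPullback sqT hψ
  have hβ : AlgSp.RepWith @Etale (c ≫ pr2) := repWith_etale_comp _ _ hce hpr2
  have hpr1 : AlgSp.IsEtaleMor pr1 :=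
    isEtaleMor_of_isPullback hX hY (IsAlgSpace.yon_obj U) sqT he
  set α : W ⟶ U := (AlgSp.yon S).preimage (c ≫ pr1) with hαdef
  have hα : (AlgSp.yon S).map α = c ≫ pr1 := Functor.map_preimage _ _
  have hαe : Etale α.left := by
    have h1 : AlgSp.RepWith @Etale ((AlgSp.yon S).map α) := by
      rw [hα]; exact hpr1 c hce
    exact (AlgSp.repWith_yon_map_iff @Etale α).1 h1
  have hcomm : (c ≫ pr2) ≫ f = (AlgSp.yon S).map α ≫ ψ := by
    rw [hα, Category.assoc, Category.assoc, sqT.w]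
  refine ⟨W, c ≫ pr2, α, hW, hβ, hαe, hcomm, ?_, ?_⟩
  · intro u x' hx'
    have h1 : Points.map ψ (Points.ofScheme U u) = Points.map f x' := by
      rw [hx', Points.ofPt_eq_map_ofScheme]
    obtain ⟨τ, hτ1, hτ2⟩ := exists_point_of_isPullback sqT _ _ h1
    obtain ⟨w, rfl⟩ := surjective_ofPt_of_repWith_surjective c hcs τ
    refine ⟨w, ?_, ?_⟩
    · have h2 : Points.ofPt ((AlgSp.yon S).map α) w = Points.ofScheme U u := by
        rw [hα, ← Points.map_ofPt, hτ1]
      have h3 := ofPt_yon_map_comp α (𝟙 _) w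
      rw [Category.comp_id] at h3
      exact (Points.schemeEquiv U).injective (h3.symm.trans h2)
    · rw [← Points.map_ofPt, hτ2]
  · intro P pW pU sqP
    -- the map `e : h_R ⟶ T`
    have hwe : (AlgSp.yon S).map s ≫ ψ = ((AlgSp.yon S).map t ≫ φ) ≫ f := by
      rw [Category.assoc]; exact sqR.w.symm
    set e : (AlgSp.yon S).obj R ⟶ T := sqT.lift _ _ hwe with hedef
    have he1 : e ≫ pr1 = (AlgSp.yon S).map s := sqT.lift_fst _ _ _
    have he2 : e ≫ pr2 = (AlgSp.yon S).map t ≫ φ := sqT.lift_snd _ _ _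
    have sqE : IsPullback e ((AlgSp.yon S).map t) pr2 φ := by
      refine IsPullback.of_right ?_ he2 sqT
      rw [he1]
      exact sqR.flip
    -- the map `δ`
    have hwδ : (AlgSp.yon S).map pU ≫ ψ = (AlgSp.yon S).map (pW ≫ α) ≫ ψ := by
      rw [Functor.map_comp, Category.assoc, ← hcomm, hψdef, ← Category.assoc, ← sqP.w,
        Category.assoc]
    set δ : P ⟶ R := (AlgSp.yon S).preimage (sqR.lift _ _ hwδ) with hδdef
    have hδt : δ ≫ t = pU := by
      apply (AlgSp.yon S).map_injective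
      rw [Functor.map_comp, Functor.map_preimage]
      exact sqR.lift_fst _ _ _
    have hδs : δ ≫ s = pW ≫ α := by
      apply (AlgSp.yon S).map_injective
      rw [Functor.map_comp, Functor.map_preimage]
      exact sqR.lift_snd _ _ _
    refine ⟨δ, hδs, hδt, ?_⟩
    have hδe : (AlgSp.yon S).map δ ≫ e = (AlgSp.yon S).map pW ≫ c := by
      apply sqT.hom_ext
      · rw [Category.assoc, he1, ← Functor.map_comp, hδs, Functor.map_comp, hα, Category.assoc]
      · rw [Category.assoc, he2, ← Category.assoc, ← Functor.map_comp, hδt, Category.assoc]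
        exact sqP.w.symm
    have sqD : IsPullback ((AlgSp.yon S).map δ) ((AlgSp.yon S).map pW) e c := by
      refine IsPullback.of_right ?_ hδe sqE.flip
      rw [← Functor.map_comp, hδt]
      exact sqP.flip
    have hsurj : Surjective δ.left := hcs.2 e _ δ sqD.flip
    exact hsurj.surj

end Groth.Agent.Lib.Helper51

namespace Groth.Agent.Lib.Helper51

open AlgSp Groth.Agent.Lib.Helper30 Groth.Agent.Lib.Helper52

variable {S : Scheme.{u}}

/-- Monomorphic representatives of points descend along quasi-compact etale morphisms. -/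
theorem exists_mono_fieldPt_map_of_qc_etale {X Y : AlgSp.Sp S} (hX : AlgSp.IsAlgSpace X)
    (hY : AlgSp.IsAlgSpace Y) (f : X ⟶ Y) (hq : AlgSp.IsQuasiCompactMor f)
    (he : AlgSp.IsEtaleMor f) (p : FieldPt X) [Mono p.toHom] :
    ∃ q : FieldPt Y, Points.mk q = Points.map f (Points.mk p) ∧ Mono q.toHom := by
  obtain ⟨U, φ, u, hU, hφ, hu⟩ := exists_affine_etale_chart_at hX (Points.mk p)
  have hψ : AlgSp.RepWith @Etale (φ ≫ f) := he φ hφ
  obtain ⟨R, t, s, sqR⟩ := exists_isPullback_of_representable hψ.1 (φ ≫ f)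
  obtain ⟨W, β, α, hW, hβ, hα, hcomm, -, hP⟩ := exists_chart_package hX hY f hq he φ hφ s t sqR
  obtain ⟨P, pW, pU, sqP⟩ := exists_isPullback_of_representable hβ.1 φ
  obtain ⟨δ, hδs, hδt, hδsurj⟩ := hP P pW pU sqP
  have hfinα : (α.left ⁻¹' {u}).Finite := finite_preimage_singleton_of_etale α.left u
  have hfinw : ∀ w : ↥W.left, {ρ : ↥P.left | pU.left ρ = u ∧ pW.left ρ = w}.Finite := by
    intro w
    by_cases h : ∃ ρ : ↥P.left, pU.left ρ = u ∧ pW.left ρ = w
    · obtain ⟨ρ, hρ1, hρ2⟩ := h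
      have hw : Points.ofPt β w = Points.mk p := by
        have h1 := congrArg (fun k => Points.ofPt k ρ) sqP.w
        simp only [ofPt_yon_map_comp] at h1
        rw [← hρ2, h1, hρ1, hu]
      exact finite_pairs_of_mono_fieldPt₂ hX p φ hφ β hβ u w hu hw pU pW sqP
    · convert Set.finite_empty
      rw [Set.eq_empty_iff_forall_notMem]
      intro ρ hρ
      exact h ⟨ρ, hρ⟩
  have hfin : {r : ↥R.left | s.left r = u ∧ t.left r = u}.Finite := by
    refine ((hfinα.biUnion (fun w _ => hfinw w)).image δ.left).subset ?_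
    rintro r ⟨hr1, hr2⟩
    obtain ⟨ρ, rfl⟩ := hδsurj r
    refine ⟨ρ, ?_, rfl⟩
    have e1 := congrArg (fun k => k.left ρ) hδs
    have e2 := congrArg (fun k => k.left ρ) hδt
    simp only [Over.comp_left, Scheme.Hom.comp_apply] at e1 e2
    rw [Set.mem_iUnion₂]
    refine ⟨pW.left ρ, ?_, ?_, rfl⟩
    · rw [Set.mem_preimage, Set.mem_singleton_iff, ← e1]; exact hr1
    · rw [← e2]; exact hr2
  obtain ⟨q, hq1, hq2⟩ := exists_mono_fieldPt_of_finite_fibre (φ ≫ f) hψ s t sqR u hfin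
  refine ⟨q, ?_, hq2⟩
  rw [hq1, ← hu, Points.map_ofPt]

end Groth.Agent.Lib.Helper51

namespace Groth.Agent.Lib.Helper51

open AlgSp Groth.Agent.Lib.Helper30 Groth.Agent.Lib.Helper52

variable {S : Scheme.{u}}

/-- For a quasi-compact morphism `f : X ⟶ Y` and an affine etale chart `V` of `Y` there is an
affine etale chart `W` of `X` over `V` through which all pairs of points `(v, x')` over the same
point of `Y` lift. -/
theorem exists_chart_over {X Y : AlgSp.Sp S} (hX : AlgSp.IsAlgSpace X) (hY : AlgSp.IsAlgSpace Y)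
    (f : X ⟶ Y) (hq : AlgSp.IsQuasiCompactMor f)
    {V : Over S} [IsAffine V.left] (χ : (AlgSp.yon S).obj V ⟶ Y) (hχ : AlgSp.RepWith @Etale χ) :
    ∃ (W : Over S) (β : (AlgSp.yon S).obj W ⟶ X) (α : W ⟶ V), IsAffine W.left ∧
      AlgSp.RepWith @Etale β ∧ β ≫ f = (AlgSp.yon S).map α ≫ χ ∧
      ∀ (v : ↥V.left) (x' : Points X), Points.map f x' = Points.ofPt χ v →
        ∃ w : ↥W.left, α.left w = v ∧ Points.ofPt β w = x' := by
  have sqT := IsPullback.of_hasPullback χ f
  set T := pullback χ f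
  set pr1 : T ⟶ (AlgSp.yon S).obj V := pullback.fst χ f
  set pr2 : T ⟶ X := pullback.snd χ f
  have hT : AlgSp.IsAlgSpace T :=
    isAlgSpace_of_isPullback hY.diag (IsAlgSpace.yon_obj V) hX sqT
  have hTqc : AlgSp.IsQuasiCompactSp T :=
    hq (IsAlgSpace.yon_obj V) (isQuasiCompactSp_yon_obj V) χ pr2 pr1 sqT.flip
  obtain ⟨W, c, hW, hce, hcs⟩ := (isQuasiCompactSp_iff_exists_affine_chart hT).1 hTqc
  have hpr2 : AlgSp.RepWith @Etale pr2 := MorphismProperty.of_isPullback sqT hχ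
  have hβ : AlgSp.RepWith @Etale (c ≫ pr2) := repWith_etale_comp _ _ hce hpr2
  set α : W ⟶ V := (AlgSp.yon S).preimage (c ≫ pr1) with hαdef
  have hα : (AlgSp.yon S).map α = c ≫ pr1 := Functor.map_preimage _ _
  have hcomm : (c ≫ pr2) ≫ f = (AlgSp.yon S).map α ≫ χ := by
    rw [hα, Category.assoc, Category.assoc, sqT.w]
  refine ⟨W, c ≫ pr2, α, hW, hβ, hcomm, ?_⟩
  intro v x' hx'
  have h1 : Points.map χ (Points.ofScheme V v) = Points.map f x' := by
    rw [hx', Points.ofPt_eq_map_ofScheme]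
  obtain ⟨τ, hτ1, hτ2⟩ := exists_point_of_isPullback sqT _ _ h1
  obtain ⟨w, rfl⟩ := surjective_ofPt_of_repWith_surjective c hcs τ
  refine ⟨w, ?_, ?_⟩
  · have h2 : Points.ofPt ((AlgSp.yon S).map α) w = Points.ofScheme V v := by
      rw [hα, ← Points.map_ofPt, hτ1]
    have h3 := ofPt_yon_map_comp α (𝟙 _) w
    rw [Category.comp_id] at h3
    exact (Points.schemeEquiv V).injective (h3.symm.trans h2)
  · rw [← Points.map_ofPt, hτ2]

/-- Decency descends along quasi-compact etale surjective morphisms. -/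
theorem isDecent_of_qc_etale_surjective {X Y : AlgSp.Sp S} (hX : AlgSp.IsAlgSpace X)
    (hY : AlgSp.IsAlgSpace Y) (f : X ⟶ Y) (hq : AlgSp.IsQuasiCompactMor f)
    (he : AlgSp.IsEtaleMor f) (hs : AlgSp.IsSurjectiveMor f) (hd : AlgSp.IsDecent X) :
    AlgSp.IsDecent Y := by
  intro y
  obtain ⟨x, rfl⟩ := hs y
  obtain ⟨p, rfl, hm, hpq⟩ := hd x
  obtain ⟨q, hq1, hq2⟩ := exists_mono_fieldPt_map_of_qc_etale hX hY f hq he p
  refine ⟨q, hq1, hq2, ?_⟩
  refine repWith_quasiCompact_of_mono_of_finite_fibres hY q ?_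
  intro V χ hV hχ
  obtain ⟨W, β, α, hW, hβ, hcomm, hlift⟩ := exists_chart_over hX hY f hq χ hχ
  have hfin := finite_fibre_of_quasiCompact_fieldPt p hpq β hβ
  refine (hfin.image α.left).subset ?_
  intro v hv
  rw [Set.mem_preimage, Set.mem_singleton_iff, hq1] at hv
  obtain ⟨w, hw1, hw2⟩ := hlift v (Points.mk p) hv.symm
  exact ⟨w, hw2, hw1⟩

end Groth.Agent.Lib.Helper51
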