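import Groth.Agent.Lib.Helper51.AlgSpQuotField14
import Groth.Agent.Lib.Helper30.AlgSpQC
import Groth.Agent.Lib.Helper30.AlgSpMor

/-!
Decency of a space over a scheme can be checked etale locally on the base scheme (helper51).
-/

set_option autoImplicit false
set_option linter.unusedSectionVars false
universe u
open CategoryTheory CategoryTheory.Limits AlgebraicGeometry Opposite TensorProduct

set_option backward.isDefEq.respectTransparency false

namespace Groth.Agent.Lib.Helper51

open AlgSp Groth.Agent.Lib.Helper30 Groth.Agent.Lib.Helper52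

variable {S : Scheme.{u}}

/-- An etale surjective morphism of schemes is, Zariski locally on the target, refined by
quasi-compact etale surjective morphisms from affine schemes. -/
theorem exists_affine_qc_etale_refinement {T' T : Over S} (b : T' ⟶ T) (hbe : Etale b.left)
    (hbs : Surjective b.left) (t : ↥T.left) :
    ∃ (O : T.left.Opens) (W : T'.left.Opens) (β : opensOver T' W ⟶ opensOver T O),
      t ∈ O ∧ IsAffineOpen W ∧ β ≫ opensOverι T O = opensOverι T' W ≫ b ∧
        Etale β.left ∧ Surjective β.left ∧ QuasiCompact β.left := by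
  obtain ⟨t', rfl⟩ := hbs.surj t
  obtain ⟨Tt, hTt, htTt, -⟩ := exists_isAffineOpen_mem_and_subset
    (TopologicalSpace.Opens.mem_top (b.left t'))
  have ht' : t' ∈ b.left ⁻¹ᵁ Tt := htTt
  obtain ⟨W, hW, ht'W, hWT⟩ := exists_isAffineOpen_mem_and_subset ht'
  have hopen : IsOpen (b.left '' (W : Set ↥T'.left)) := b.left.isOpenMap _ W.2
  obtain ⟨O, hO⟩ : ∃ O : T.left.Opens, (O : Set ↥T.left) = b.left '' (W : Set ↥T'.left) :=
    ⟨⟨_, hopen⟩, rfl⟩
  have hOT : (O : Set ↥T.left) ⊆ Tt := by
    rw [hO]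
    rintro _ ⟨w, hw, rfl⟩
    exact hWT hw
  have hrange : Set.range (W.ι ≫ b.left) ⊆ Set.range O.ι := by
    rw [Scheme.Opens.range_ι, hO]
    rintro _ ⟨w, rfl⟩
    exact ⟨w.1, w.2, rfl⟩
  set β0 : (W : Scheme.{u}) ⟶ (O : Scheme.{u}) := IsOpenImmersion.lift O.ι (W.ι ≫ b.left) hrange
    with hβ0def
  have hβ0 : β0 ≫ O.ι = W.ι ≫ b.left := IsOpenImmersion.lift_fac _ _ _
  have hβw : β0 ≫ (opensOver T O).hom = (opensOver T' W).hom := by
    show β0 ≫ O.ι ≫ T.hom = W.ι ≫ T'.hom
    rw [← Category.assoc, hβ0, Category.assoc, Over.w b]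
  refine ⟨O, W, Over.homMk β0 hβw, ?_, hW, ?_, ?_, ?_, ?_⟩
  · show b.left t' ∈ (O : Set ↥T.left)
    rw [hO]
    exact ⟨t', ht'W, rfl⟩
  · apply Over.OverMorphism.ext
    exact hβ0
  · show Etale β0
    have : Etale (β0 ≫ O.ι) := by
      rw [hβ0]
      infer_instance
    exact Etale.of_comp β0 O.ι
  · show Surjective β0
    constructor
    rintro ⟨o, ho⟩
    have ho' : o ∈ b.left '' (W : Set ↥T'.left) := by rw [← hO]; exact ho
    obtain ⟨w, hw, rfl⟩ := ho'
    refine ⟨⟨w, hw⟩, ?_⟩
    apply O.ι.injective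
    rw [← Scheme.Hom.comp_apply, hβ0, Scheme.Hom.comp_apply]
    rfl
  · show QuasiCompact β0
    have hc : CompactSpace ↥(W : Scheme.{u}) := isCompact_iff_compactSpace.1 hW.isCompact
    have hqs : QuasiSeparatedSpace ↥(O : Scheme.{u}) := by
      have h1 : IsQuasiSeparated (O : Set ↥T.left) := hTt.isQuasiSeparated.of_subset hOT
      exact (isQuasiSeparated_iff_quasiSeparatedSpace _ O.2).1 h1
    infer_instance

end Groth.Agent.Lib.Helper51

namespace Groth.Agent.Lib.Helper51

open AlgSp Groth.Agent.Lib.Helper30 Groth.Agent.Lib.Helper52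

variable {S : Scheme.{u}}

/-- An algebraic space `F'` over a scheme `T` is decent as soon as, Zariski locally on `T`, it
becomes decent after a quasi-compact etale surjective base change. -/
theorem isDecent_of_local_qc_etale_base_change {F' : AlgSp.Sp S} (hF' : AlgSp.IsAlgSpace F')
    {T : Over S} (snd' : F' ⟶ (AlgSp.yon S).obj T)
    (h : ∀ t : ↥T.left, ∃ (O : T.left.Opens) (W : Over S) (β : W ⟶ opensOver T O), t ∈ O ∧
      Etale β.left ∧ Surjective β.left ∧ QuasiCompact β.left ∧
      ∀ (P : AlgSp.Sp S) (p1 : P ⟶ F') (p2 : P ⟶ (AlgSp.yon S).obj W),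
        IsPullback p1 p2 snd' ((AlgSp.yon S).map (β ≫ opensOverι T O)) → AlgSp.IsDecent P) :
    AlgSp.IsDecent F' := by
  choose O W β htO hβe hβs hβq hdec using h
  have hιo : ∀ t, AlgSp.RepWith @IsOpenImmersion ((AlgSp.yon S).map (opensOverι T (O t))) :=
    fun t => (AlgSp.repWith_yon_map_iff @IsOpenImmersion _).2 inferInstance
  have sq1 : ∀ t, IsPullback (pullback.fst snd' ((AlgSp.yon S).map (opensOverι T (O t))))
      (pullback.snd snd' ((AlgSp.yon S).map (opensOverι T (O t)))) snd'
      ((AlgSp.yon S).map (opensOverι T (O t))) := fun t => IsPullback.of_hasPullback _ _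
  have hF1 : ∀ t, AlgSp.IsAlgSpace (pullback snd' ((AlgSp.yon S).map (opensOverι T (O t)))) :=
    fun t => isAlgSpace_of_isPullback (IsAlgSpace.yon_obj T).diag hF' (IsAlgSpace.yon_obj _) (sq1 t)
  refine isDecent_of_isZarCover hF'
    (fun t => pullback snd' ((AlgSp.yon S).map (opensOverι T (O t))))
    (fun t => pullback.fst snd' ((AlgSp.yon S).map (opensOverι T (O t)))) ⟨fun t => ?_, fun z => ?_⟩
    (fun t => ?_)
  · exact MorphismProperty.of_isPullback (sq1 t).flip (hιo t)
  · set t0 := Points.toScheme T (Points.map snd' z) with ht0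
    have h0 : Points.map snd' z = Points.ofScheme T t0 := (Points.ofScheme_toScheme T _).symm
    have h1 : Points.map snd' z = Points.map ((AlgSp.yon S).map (opensOverι T (O t0)))
        (Points.ofScheme (opensOver T (O t0)) ⟨t0, htO t0⟩) := by
      rw [h0]
      have h3 := ofPt_yon_map_comp (opensOverι T (O t0)) (𝟙 _)
        (⟨t0, htO t0⟩ : ↥(opensOver T (O t0)).left)
      rw [Category.comp_id] at h3
      rw [← Points.ofPt_eq_map_ofScheme, h3]
      rfl
    obtain ⟨w, hw1, -⟩ := exists_point_of_isPullback (sq1 t0) _ _ h1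
    exact ⟨t0, w, hw1⟩
  · set F1 := pullback snd' ((AlgSp.yon S).map (opensOverι T (O t)))
    set j := pullback.fst snd' ((AlgSp.yon S).map (opensOverι T (O t)))
    set q := pullback.snd snd' ((AlgSp.yon S).map (opensOverι T (O t)))
    have sq2 := IsPullback.of_hasPullback q ((AlgSp.yon S).map (β t))
    set F2 := pullback q ((AlgSp.yon S).map (β t))
    set m := pullback.fst q ((AlgSp.yon S).map (β t))
    set r := pullback.snd q ((AlgSp.yon S).map (β t))
    have hF2 : AlgSp.IsAlgSpace F2 :=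
      isAlgSpace_of_isPullback (IsAlgSpace.yon_obj _).diag (hF1 t) (IsAlgSpace.yon_obj _) sq2
    have hme : AlgSp.IsEtaleMor m :=
      isEtaleMor_of_isPullback (IsAlgSpace.yon_obj _) (IsAlgSpace.yon_obj _) (hF1 t) sq2
        ((AlgSp.isEtaleMor_yon_map_iff (β t)).2 (hβe t))
    have hmq : AlgSp.IsQuasiCompactMor m :=
      isQuasiCompactMor_snd_of_isPullback sq2.flip
        (isQuasiCompactMor_of_repWith ((AlgSp.repWith_yon_map_iff @QuasiCompact (β t)).2 (hβq t)))
    have hms : AlgSp.IsSurjectiveMor m :=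
      surjective_map_fst_of_isPullback sq2
        (surjective_map_of_repWith_surjective
          ((AlgSp.repWith_yon_map_iff @Surjective (β t)).2 (hβs t)))
    have hF2d : AlgSp.IsDecent F2 := by
      refine hdec t F2 (m ≫ j) r ?_
      have := sq2.paste_horiz (sq1 t)
      rwa [← Functor.map_comp] at this
    exact isDecent_of_qc_etale_surjective hF2 (hF1 t) m hmq hme hms hF2d

end Groth.Agent.Lib.Helper51

namespace Groth.Agent.Lib.Helper51

open AlgSp Groth.Agent.Lib.Helper30 Groth.Agent.Lib.Helper52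

variable {S : Scheme.{u}}

/-- Decency of a morphism can be checked after an etale surjective base change from a scheme. -/
theorem isDecentMor_of_etale_cover {X Y : AlgSp.Sp S} (hX : AlgSp.IsAlgSpace X)
    (hY : AlgSp.IsAlgSpace Y) (f : X ⟶ Y) {V : Over S} (p : (AlgSp.yon S).obj V ⟶ Y)
    (hp : AlgSp.RepWith @Etale p) (hps : AlgSp.RepWith @Surjective p) (X' : AlgSp.Sp S)
    (fst : X' ⟶ X) (snd : X' ⟶ (AlgSp.yon S).obj V) (hsq : IsPullback fst snd f p)
    (h : AlgSp.IsDecentMor snd) : AlgSp.IsDecentMor f := by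
  intro T F' g fst' snd' sq'
  have hF' : AlgSp.IsAlgSpace F' := isAlgSpace_of_isPullback hY.diag hX (IsAlgSpace.yon_obj T) sq'
  obtain ⟨T', a, b, sqT'⟩ := exists_isPullback_of_representable hp.1 g
  have hbe : Etale b.left := hp.2 g _ b sqT'
  have hbs : Surjective b.left := hps.2 g _ b sqT'
  apply isDecent_of_local_qc_etale_base_change hF' snd'
  intro t
  obtain ⟨O, W, β, htO, hW, hβι, hβe, hβs, hβq⟩ := exists_affine_qc_etale_refinement b hbe hbs t
  refine ⟨O, opensOver T' W, β, htO, hβe, hβs, hβq, ?_⟩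
  intro P p1 p2 sqP
  rw [hβι] at sqP
  have big := sqP.paste_horiz sq'
  have hcomp : (AlgSp.yon S).map (opensOverι T' W ≫ b) ≫ g =
      (AlgSp.yon S).map (opensOverι T' W ≫ a) ≫ p := by
    rw [Functor.map_comp, Functor.map_comp, Category.assoc, Category.assoc, sqT'.w]
  rw [hcomp] at big
  have hw : (p1 ≫ fst') ≫ f = (p2 ≫ (AlgSp.yon S).map (opensOverι T' W ≫ a)) ≫ p := by
    rw [Category.assoc p2]
    exact big.w
  have hl1 : hsq.lift _ _ hw ≫ fst = p1 ≫ fst' := hsq.lift_fst _ _ _
  have hl2 : hsq.lift _ _ hw ≫ snd = p2 ≫ (AlgSp.yon S).map (opensOverι T' W ≫ a) :=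
    hsq.lift_snd _ _ _
  have left : IsPullback (hsq.lift _ _ hw) p2 snd ((AlgSp.yon S).map (opensOverι T' W ≫ a)) := by
    refine IsPullback.of_right ?_ hl2 hsq
    rw [hl1]
    exact big
  exact h _ _ _ left

end Groth.Agent.Lib.Helper51
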