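import Groth.Agent.Lib.Helper51.AlgSpQuotField

/-!
From a finite "kernel pair" of a field point of an algebraic space to a monomorphic field point
(helper51).
-/

set_option autoImplicit false
set_option linter.unusedSectionVars false
universe u
open CategoryTheory CategoryTheory.Limits AlgebraicGeometry Opposite TensorProduct

set_option backward.isDefEq.respectTransparency false

namespace Groth.Agent.Lib.Helper51

open AlgSp

variable {S : Scheme.{u}}

/-- If `Spec K ×_X Spec K` is the spectrum of a finite `K`-algebra, then `Spec K ⟶ X` factors through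
a monomorphism `Spec k ⟶ X` with `K / k` finite. -/
theorem exists_mono_of_finite_kernelPair {X : AlgSp.Sp S} {K : Type u} [Field K]
    (str : Spec (CommRingCat.of K) ⟶ S) (q : (AlgSp.yon S).obj (Over.mk str) ⟶ X)
    {B : CommRingCat.{u}} (s t : CommRingCat.of K ⟶ B) (hs : s.hom.Finite)
    (strR : Spec B ⟶ S) (h1 : Spec.map s ≫ str = strR) (h2 : Spec.map t ≫ str = strR)
    (sq : IsPullback ((AlgSp.yon S).map (Over.homMk (Spec.map s) h1 : Over.mk strR ⟶ Over.mk str))
      ((AlgSp.yon S).map (Over.homMk (Spec.map t) h2 : Over.mk strR ⟶ Over.mk str)) q q) :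
    ∃ (k : Type u) (_ : Field k) (ι : k →+* K) (_ : ι.Finite)
      (strk : Spec (CommRingCat.of k) ⟶ S) (hk : Spec.map (CommRingCat.ofHom ι) ≫ strk = str)
      (p : (AlgSp.yon S).obj (Over.mk strk) ⟶ X),
      (AlgSp.yon S).map (Over.homMk (Spec.map (CommRingCat.ofHom ι)) hk :
        Over.mk str ⟶ Over.mk strk) ≫ p = q ∧ Mono p := by
  letI : Algebra K B := s.hom.toAlgebra
  haveI : Module.Finite K B := hs
  set pr1 : Over.mk strR ⟶ Over.mk str := Over.homMk (Spec.map s) h1 with hpr1
  set pr2 : Over.mk strR ⟶ Over.mk str := Over.homMk (Spec.map t) h2 with hpr2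
  -- joint monomorphy
  have hjm : ∀ {T : Scheme.{u}} (a b : T ⟶ Spec B), a ≫ Spec.map s = b ≫ Spec.map s →
      a ≫ Spec.map t = b ≫ Spec.map t → a = b := by
    intro T a b hab1 hab2
    have hb : b ≫ strR = a ≫ strR := by
      rw [← h1, ← Category.assoc, ← hab1, Category.assoc]
    let a' : Over.mk (a ≫ strR) ⟶ Over.mk strR := Over.homMk a rfl
    let b' : Over.mk (a ≫ strR) ⟶ Over.mk strR := Over.homMk b hb
    have e1 : a' ≫ pr1 = b' ≫ pr1 := by
      apply Over.OverMorphism.ext
      simpa [a', b', pr1] using hab1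
    have e2 : a' ≫ pr2 = b' ≫ pr2 := by
      apply Over.OverMorphism.ext
      simpa [a', b', pr2] using hab2
    have : (AlgSp.yon S).map a' = (AlgSp.yon S).map b' := by
      apply sq.hom_ext
      · rw [← Functor.map_comp, ← Functor.map_comp, e1]
      · rw [← Functor.map_comp, ← Functor.map_comp, e2]
    have h3 := (AlgSp.yon S).map_injective this
    exact congrArg (fun m => m.left) h3
  have hje : ∀ {C : CommRingCat.{u}} (f g : B ⟶ C), s ≫ f = s ≫ g → t ≫ f = t ≫ g → f = g := by
    intro C f g hf hg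
    apply Spec.map_injective
    apply hjm
    · rw [← Spec.map_comp, ← Spec.map_comp, hf]
    · rw [← Spec.map_comp, ← Spec.map_comp, hg]
  -- the product map is surjective
  let mm := Algebra.TensorProduct.productMap s.hom.toIntAlgHom t.hom.toIntAlgHom
  let m : CommRingCat.of (K ⊗[ℤ] K) ⟶ B := CommRingCat.ofHom mm.toRingHom
  have hm1 : ∀ x : K, mm (x ⊗ₜ 1) = s.hom x := by intro x; simp [mm]
  have hm2 : ∀ x : K, mm (1 ⊗ₜ x) = t.hom x := by intro x; simp [mm]
  have hmepi : Epi m := by
    constructor
    intro C f g hfg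
    apply hje
    · ext x
      have := congrArg (fun k => k.hom (x ⊗ₜ[ℤ] (1 : K))) hfg
      simpa [m, hm1] using this
    · ext x
      have := congrArg (fun k => k.hom ((1 : K) ⊗ₜ[ℤ] x)) hfg
      simpa [m, hm2] using this
  have hmfin : m.hom.Finite := by
    have hcomp : s.hom = m.hom.comp (Algebra.TensorProduct.includeLeft (R := ℤ) (S := ℤ) (A := K) (B := K)).toRingHom := by
      ext x
      exact (hm1 x).symm
    apply RingHom.Finite.of_comp_finite (f := (Algebra.TensorProduct.includeLeft (R := ℤ) (S := ℤ) (A := K) (B := K)).toRingHom)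
    rw [← hcomp]
    exact hs
  have hmsurj : Function.Surjective mm := RingHom.surjective_of_epi_of_finite m hmfin
  have hspan : Submodule.span K (Set.range t.hom) = ⊤ := by
    rw [eq_top_iff]
    rintro b -
    obtain ⟨z, rfl⟩ := hmsurj b
    induction z using TensorProduct.induction_on with
    | zero => simp
    | tmul x y =>
      have : mm (x ⊗ₜ y) = x • t.hom y := by
        simp [mm, Algebra.smul_def]
        rfl
      rw [this]
      exact Submodule.smul_mem _ _ (Submodule.subset_span ⟨y, rfl⟩)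
    | add x y hx hy =>
      rw [map_add]
      exact Submodule.add_mem _ hx hy
  -- the identity
  have hw0 : (AlgSp.yon S).map pr1 ≫ q = (AlgSp.yon S).map pr2 ≫ q := sq.w
  let δ := sq.lift (𝟙 _) (𝟙 _) rfl
  let δ' : Over.mk str ⟶ Over.mk strR := (AlgSp.yon S).preimage δ
  have hδ1 : δ' ≫ pr1 = 𝟙 _ := by
    apply (AlgSp.yon S).map_injective
    rw [Functor.map_comp, Functor.map_preimage, CategoryTheory.Functor.map_id]
    exact sq.lift_fst _ _ _
  have hδ2 : δ' ≫ pr2 = 𝟙 _ := by
    apply (AlgSp.yon S).map_injective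
    rw [Functor.map_comp, Functor.map_preimage, CategoryTheory.Functor.map_id]
    exact sq.lift_snd _ _ _
  let e' : B ⟶ CommRingCat.of K := Spec.preimage δ'.left
  have he' : Spec.map e' = δ'.left := Spec.map_preimage _
  have hes : s ≫ e' = 𝟙 _ := by
    apply Spec.map_injective
    rw [Spec.map_comp, he', Spec.map_id]
    exact congrArg (fun m => m.left) hδ1
  have het : t ≫ e' = 𝟙 _ := by
    apply Spec.map_injective
    rw [Spec.map_comp, he', Spec.map_id]
    exact congrArg (fun m => m.left) hδ2
  -- the division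
  let il : B ⟶ CommRingCat.of (B ⊗[K] B) :=
    CommRingCat.ofHom (Algebra.TensorProduct.includeLeft (R := K) (S := K) (A := B) (B := B)).toRingHom
  let ir : B ⟶ CommRingCat.of (B ⊗[K] B) :=
    CommRingCat.ofHom (Algebra.TensorProduct.includeRight (R := K) (A := B) (B := B)).toRingHom
  have hw : s ≫ il = s ≫ ir := by
    ext x
    show (algebraMap K B x) ⊗ₜ[K] (1 : B) = (1 : B) ⊗ₜ[K] (algebraMap K B x)
    rw [Algebra.algebraMap_eq_smul_one, TensorProduct.smul_tmul]
  let π1 : Over.mk (Spec.map il ≫ strR) ⟶ Over.mk strR := Over.homMk (Spec.map il) rfl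
  have hπ2 : Spec.map ir ≫ strR = Spec.map il ≫ strR := by
    rw [← h1, ← Category.assoc, ← Category.assoc, ← Spec.map_comp, ← Spec.map_comp, hw]
  let π2 : Over.mk (Spec.map il ≫ strR) ⟶ Over.mk strR := Over.homMk (Spec.map ir) hπ2
  have hπ : π1 ≫ pr1 = π2 ≫ pr1 := by
    apply Over.OverMorphism.ext
    show Spec.map il ≫ Spec.map s = Spec.map ir ≫ Spec.map s
    rw [← Spec.map_comp, ← Spec.map_comp, hw]
  have hγw : (AlgSp.yon S).map (π1 ≫ pr2) ≫ q = (AlgSp.yon S).map (π2 ≫ pr2) ≫ q := by
    rw [Functor.map_comp, Functor.map_comp, Category.assoc, Category.assoc, ← hw0,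
      ← Category.assoc, ← Category.assoc, ← Functor.map_comp, ← Functor.map_comp, hπ]
  let γ := sq.lift _ _ hγw
  let γ' : Over.mk (Spec.map il ≫ strR) ⟶ Over.mk strR := (AlgSp.yon S).preimage γ
  have hγ1 : γ' ≫ pr1 = π1 ≫ pr2 := by
    apply (AlgSp.yon S).map_injective
    rw [Functor.map_comp, Functor.map_preimage]
    exact sq.lift_fst _ _ _
  have hγ2 : γ' ≫ pr2 = π2 ≫ pr2 := by
    apply (AlgSp.yon S).map_injective
    rw [Functor.map_comp, Functor.map_preimage]
    exact sq.lift_snd _ _ _
  let c' : B ⟶ CommRingCat.of (B ⊗[K] B) := Spec.preimage γ'.left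
  have hc' : Spec.map c' = γ'.left := Spec.map_preimage _
  have hcs : s ≫ c' = t ≫ il := by
    apply Spec.map_injective
    rw [Spec.map_comp, hc', Spec.map_comp]
    exact congrArg (fun m => m.left) hγ1
  have hct : t ≫ c' = t ≫ ir := by
    apply Spec.map_injective
    rw [Spec.map_comp, hc', Spec.map_comp]
    exact congrArg (fun m => m.left) hγ2
  obtain ⟨hfinK, hpo⟩ := FieldGroupoid.main (K := K) (B := B) t.hom e'.hom
    (fun x => congrArg (fun k => k.hom x) hes) (fun x => congrArg (fun k => k.hom x) het)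
    c'.hom (fun x => congrArg (fun k => k.hom x) hcs) (fun x => congrArg (fun k => k.hom x) hct)
    hspan
  have hpo' : IsPushout (CommRingCat.ofHom (FieldGroupoid.invField t.hom).subtype)
      (CommRingCat.ofHom (FieldGroupoid.invField t.hom).subtype) s t := hpo
  have hfin : ((FieldGroupoid.invField t.hom).subtype).Finite := hfinK
  obtain ⟨strk, hk, p, hp, hmono⟩ := exists_mono_of_isPushout
    (FieldGroupoid.invField t.hom).subtype hfin s t hpo' str q strR h1 h2 sq
  exact ⟨_, inferInstance, _, hfin, strk, hk, p, hp, hmono⟩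

end Groth.Agent.Lib.Helper51
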