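import Groth.Agent.Lib.Helper51.AlgSpQuotField2
import Groth.Agent.Lib.Helper51.FieldFibre
import Groth.Agent.Lib.Helper30.AlgSpDesc
import Groth.Agent.Lib.Helper52.Points

/-!
Monomorphic field points of algebraic spaces from finiteness of fibres of an etale chart
(helper51).
-/

set_option autoImplicit false
set_option linter.unusedSectionVars false
universe u
open CategoryTheory CategoryTheory.Limits AlgebraicGeometry Opposite TensorProduct

set_option backward.isDefEq.respectTransparency false

namespace Groth.Agent.Lib.Helper51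

open AlgSp Groth.Agent.Lib.Helper30 Groth.Agent.Lib.Helper52

variable {S : Scheme.{u}}

/-- Variant of `exists_mono_of_finite_kernelPair` for a kernel pair given by a scheme finite over
the field. -/
theorem exists_mono_of_finite_kernelPair' {X : AlgSp.Sp S} {K : Type u} [Field K]
    (str : Spec (CommRingCat.of K) ⟶ S) (q : (AlgSp.yon S).obj (Over.mk str) ⟶ X)
    {R' : Over S} (pr1 pr2 : R' ⟶ Over.mk str) (hfin : IsFinite pr1.left)
    (sq : IsPullback ((AlgSp.yon S).map pr1) ((AlgSp.yon S).map pr2) q q) :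
    ∃ (k : Type u) (_ : Field k) (ι : k →+* K) (_ : ι.Finite)
      (strk : Spec (CommRingCat.of k) ⟶ S) (hk : Spec.map (CommRingCat.ofHom ι) ≫ strk = str)
      (p : (AlgSp.yon S).obj (Over.mk strk) ⟶ X),
      (AlgSp.yon S).map (Over.homMk (Spec.map (CommRingCat.ofHom ι)) hk :
        Over.mk str ⟶ Over.mk strk) ≫ p = q ∧ Mono p := by
  have haff0 : IsAffine (Over.mk str).left := inferInstanceAs (IsAffine (Spec (CommRingCat.of K)))
  have haff : IsAffine R'.left := isAffine_of_isAffineHom pr1.left
  let e : R'.left ≅ Spec Γ(R'.left, ⊤) := R'.left.isoSpec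
  let s : CommRingCat.of K ⟶ Γ(R'.left, ⊤) := Spec.preimage (e.inv ≫ pr1.left)
  let t : CommRingCat.of K ⟶ Γ(R'.left, ⊤) := Spec.preimage (e.inv ≫ pr2.left)
  have hs' : Spec.map s = e.inv ≫ pr1.left := Spec.map_preimage _
  have ht' : Spec.map t = e.inv ≫ pr2.left := Spec.map_preimage _
  have w1 : pr1.left ≫ str = R'.hom := Over.w pr1
  have w2 : pr2.left ≫ str = R'.hom := Over.w pr2
  have h1 : Spec.map s ≫ str = e.inv ≫ R'.hom := by rw [hs', Category.assoc, w1]
  have h2 : Spec.map t ≫ str = e.inv ≫ R'.hom := by rw [ht', Category.assoc, w2]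
  have hsfin : s.hom.Finite := by
    rw [← IsFinite.SpecMap_iff, hs']
    infer_instance
  let eO : Over.mk (e.inv ≫ R'.hom) ≅ R' := Over.isoMk e.symm rfl
  have e1 : (Over.homMk (Spec.map s) h1 : Over.mk (e.inv ≫ R'.hom) ⟶ Over.mk str) = eO.hom ≫ pr1 := by
    apply Over.OverMorphism.ext
    exact hs'
  have e2 : (Over.homMk (Spec.map t) h2 : Over.mk (e.inv ≫ R'.hom) ⟶ Over.mk str) = eO.hom ≫ pr2 := by
    apply Over.OverMorphism.ext
    exact ht'
  refine exists_mono_of_finite_kernelPair str q s t hsfin (e.inv ≫ R'.hom) h1 h2 ?_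
  rw [e1, e2, Functor.map_comp, Functor.map_comp]
  refine IsPullback.of_iso sq ((AlgSp.yon S).mapIso eO.symm) (Iso.refl _) (Iso.refl _) (Iso.refl _)
    ?_ ?_ ?_ ?_
  · simp only [Iso.refl_hom, Category.comp_id, Functor.mapIso_hom, Iso.symm_hom]
    rw [← Category.assoc, ← Functor.map_comp, Iso.inv_hom_id, CategoryTheory.Functor.map_id,
      Category.id_comp]
  · simp only [Iso.refl_hom, Category.comp_id, Functor.mapIso_hom, Iso.symm_hom]
    rw [← Category.assoc, ← Functor.map_comp, Iso.inv_hom_id, CategoryTheory.Functor.map_id,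
      Category.id_comp]
  · simp
  · simp

/-- The main construction: if an etale chart `φ : h_U ⟶ X` has only finitely many points of
`U ×_X U` over `(u, u)`, then `Spec κ(u) ⟶ U ⟶ X` factors through a monomorphism `Spec k ⟶ X` with
`κ(u) / k` finite. -/
theorem exists_mono_of_finite_fibre {X : AlgSp.Sp S} {U : Over S}
    (φ : (AlgSp.yon S).obj U ⟶ X) (hφ : AlgSp.RepWith @Etale φ) {R : Over S} (s t : R ⟶ U)
    (sqR : IsPullback ((AlgSp.yon S).map t) ((AlgSp.yon S).map s) φ φ) (u : ↥U.left)
    (hfin : {r : ↥R.left | s.left r = u ∧ t.left r = u}.Finite) :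
    ∃ (k : Type u) (_ : Field k) (ι : k →+* ↥(U.left.residueField u)) (_ : ι.Finite)
      (strk : Spec (CommRingCat.of k) ⟶ S)
      (hk : Spec.map (CommRingCat.ofHom ι) ≫ strk = U.left.fromSpecResidueField u ≫ U.hom)
      (p : (AlgSp.yon S).obj (Over.mk strk) ⟶ X),
      (AlgSp.yon S).map (Over.homMk (Spec.map (CommRingCat.ofHom ι)) hk :
        Over.mk (U.left.fromSpecResidueField u ≫ U.hom) ⟶ Over.mk strk) ≫ p =
        (AlgSp.yon S).map (Over.homMk (U.left.fromSpecResidueField u) rfl :
          Over.mk (U.left.fromSpecResidueField u ≫ U.hom) ⟶ U) ≫ φ ∧ Mono p := by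
  set iu := U.left.fromSpecResidueField u with hiu
  let Uκ : Over S := Over.mk (iu ≫ U.hom)
  let iuO : Uκ ⟶ U := Over.homMk iu rfl
  obtain ⟨F1, f1, f2, sqF, sqFl⟩ := isPullback_over' s iuO
  have hs_et : Etale s.left := hφ.2 φ ((AlgSp.yon S).map t) s sqR
  have hf2_et : Etale f2.left := MorphismProperty.of_isPullback sqFl hs_et
  have hf1_pre : IsPreimmersion f1.left :=
    MorphismProperty.of_isPullback sqFl.flip (inferInstanceAs (IsPreimmersion iu))
  obtain ⟨V, ψ, hVeq, sqV⟩ := exists_isPullback_fibre_of_etale_field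
    (κ := ↥(U.left.residueField u)) f2.left (f1.left ≫ t.left) u
  -- finiteness of `V`
  have hVfin : Finite ↥(V : Scheme.{u}) := by
    have : Finite {r : ↥R.left | s.left r = u ∧ t.left r = u} := hfin.to_subtype
    let ρ : ↥(V : Scheme.{u}) → {r : ↥R.left | s.left r = u ∧ t.left r = u} := fun v =>
      ⟨f1.left (V.ι v), by
        constructor
        · have := congrArg (fun k => k (V.ι v)) sqFl.w
          simp only [Scheme.Hom.comp_apply] at this
          rw [this]
          exact Scheme.fromSpecResidueField_apply _ _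
        · have hv : V.ι v ∈ (V : Set F1.left) := by
            have := Set.mem_range_self (f := V.ι) v
            rwa [Scheme.Opens.range_ι] at this
          rw [hVeq] at hv
          exact hv⟩
    refine Finite.of_injective ρ ?_
    intro v w hvw
    have h3 : f1.left (V.ι v) = f1.left (V.ι w) := congrArg Subtype.val hvw
    exact V.ι.injective (f1.left.isEmbedding.injective h3)
  have hg_et : Etale (V.ι ≫ f2.left) := inferInstance
  have hg_fin : IsFinite (V.ι ≫ f2.left) :=
    isFinite_of_etale_of_finite (κ := ↥(U.left.residueField u)) (V.ι ≫ f2.left)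
  -- the pullback square in `Over S`
  let VO : Over S := Over.mk (V.ι ≫ F1.hom)
  let vι : VO ⟶ F1 := Over.homMk V.ι rfl
  have hψw : ψ ≫ iu ≫ U.hom = V.ι ≫ F1.hom := by
    rw [← Category.assoc, ← sqV.w, Category.assoc, Category.assoc]
    congr 1
    rw [← Over.w f1, ← Over.w t]
  let vψ : VO ⟶ Uκ := Over.homMk ψ hψw
  have sqVO : IsPullback vι vψ (f1 ≫ t) iuO :=
    IsPullback.of_map_of_faithful (Over.forget S) sqV
  have sqF' := sqF.map (AlgSp.yon S)
  have big1 := sqF'.paste_horiz sqR
  have sqVO' := sqVO.map (AlgSp.yon S)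
  rw [Functor.map_comp] at sqVO'
  have big2 := sqVO'.paste_horiz big1.flip
  rw [← Functor.map_comp] at big2
  exact exists_mono_of_finite_kernelPair' (K := ↥(U.left.residueField u)) (iu ≫ U.hom)
    ((AlgSp.yon S).map iuO ≫ φ) (vι ≫ f2) vψ hg_fin big2

end Groth.Agent.Lib.Helper51
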