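import Groth.Agent.Lib.Helper51.AlgSpQuotField5
import Groth.Agent.Lib.Helper51.QCDescent

/-!
Quasi-compactness of a monomorphic field point from finiteness of fibres of affine etale charts
(helper51).
-/

set_option autoImplicit false
set_option linter.unusedSectionVars false
universe u
open CategoryTheory CategoryTheory.Limits AlgebraicGeometry Opposite TensorProduct

set_option backward.isDefEq.respectTransparency false

namespace Groth.Agent.Lib.Helper51

open AlgSp Groth.Agent.Lib.Helper30 Groth.Agent.Lib.Helper52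

variable {S : Scheme.{u}}

/-- A monomorphic field point whose class has finite fibres in all affine etale charts is
quasi-compact. -/
theorem repWith_quasiCompact_of_mono_of_finite_fibres {X : AlgSp.Sp S} (hX : AlgSp.IsAlgSpace X)
    (p : FieldPt X) [Mono p.toHom]
    (hfin : ∀ (U : Over S) (φ : (AlgSp.yon S).obj U ⟶ X), IsAffine U.left →
      AlgSp.RepWith @Etale φ → (Points.ofPt φ ⁻¹' {Points.mk p}).Finite) :
    AlgSp.RepWith @QuasiCompact p.toHom := by
  obtain ⟨U', φ', hφ'e, hφ's⟩ := hX.atlas
  have hrep := hX.representable_from_yon p.toHom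
  obtain ⟨V, a, v, sq⟩ := exists_isPullback_of_representable hrep φ'
  refine repWith_of_etale_cover @QuasiCompact sq hrep hφ'e hφ's ?_
  rw [AlgSp.repWith_yon_map_iff]
  have hmv : Mono ((AlgSp.yon S).map v) := sq.mono_snd_of_mono
  have hmv' : Mono v := (AlgSp.yon S).mono_of_mono_map hmv
  have hml : Mono v.left := inferInstance
  have hinj : Function.Injective v.left := v.left.injective
  rw [quasiCompact_iff_forall_isAffineOpen]
  intro U'' hU''
  apply Set.Finite.isCompact
  have hea : AlgSp.RepWith @Etale ((AlgSp.yon S).map (opensOverι U' U'') ≫ φ') :=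
    (AlgSp.RepWith @Etale).comp_mem _ _
      ((AlgSp.repWith_yon_map_iff @Etale _).2 inferInstance) hφ'e
  have h1 := hfin (opensOver U' U'') _ hU'' hea
  have h2 : (U''.ι '' (Points.ofPt ((AlgSp.yon S).map (opensOverι U' U'') ≫ φ') ⁻¹'
      {Points.mk p})).Finite := h1.image _
  refine Set.Finite.of_finite_image (f := v.left) (h2.subset ?_) hinj.injOn
  rintro _ ⟨z, hz, rfl⟩
  refine ⟨(⟨v.left z, hz⟩ : ↥(U'' : Scheme.{u})), ?_, rfl⟩
  rw [Set.mem_preimage, Set.mem_singleton_iff, ofPt_yon_map_comp]
  have h3 := ofPt_eq_ofPt_of_isPullback sq z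
  rw [← Points.ofPt_toHom p (a.left z), h3]
  rfl

end Groth.Agent.Lib.Helper51
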