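import Groth.Agent.Lib.Helper51.AlgSpQuotField7

/-!
Finiteness of fibres of affine etale charts from an etale covering with finite fibres (helper51).
-/

set_option autoImplicit false
set_option linter.unusedSectionVars false
universe u
open CategoryTheory CategoryTheory.Limits AlgebraicGeometry Opposite TensorProduct

set_option backward.isDefEq.respectTransparency false

namespace Groth.Agent.Lib.Helper51

open AlgSp Groth.Agent.Lib.Helper30 Groth.Agent.Lib.Helper52

variable {S : Scheme.{u}}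

/-- An etale morphism restricted to affine opens has finite fibres. -/
theorem finite_inter_preimage_of_etale {W U : Scheme.{u}} (b : W ⟶ U) [Etale b] (W' : W.Opens)
    (hW' : IsAffineOpen W') (U' : U.Opens) (hU' : IsAffineOpen U') (e : W' ≤ b ⁻¹ᵁ U') (u' : U) :
    ((W' : Set W) ∩ b ⁻¹' {u'}).Finite := by
  by_cases hu' : u' ∈ U'
  · have : IsAffine (W' : Scheme.{u}) := hW'
    have : IsAffine (U' : Scheme.{u}) := hU'
    have hqc : QuasiCompact (b.resLE U' W' e) := inferInstance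
    have hfin := (b.resLE U' W' e).finite_preimage_singleton ⟨u', hu'⟩
    refine (hfin.image W'.ι).subset ?_
    rintro w' ⟨hw'1, hw'2⟩
    refine ⟨(⟨w', hw'1⟩ : ↥(W' : Scheme.{u})), ?_, rfl⟩
    rw [Set.mem_preimage, Set.mem_singleton_iff]
    apply Subtype.ext
    rw [Scheme.Hom.coe_resLE_apply]
    exact hw'2
  · convert Set.finite_empty
    rw [Set.eq_empty_iff_forall_notMem]
    rintro w' ⟨hw'1, hw'2⟩
    apply hu'
    rw [Set.mem_preimage, Set.mem_singleton_iff] at hw'2
    rw [← hw'2]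
    exact e hw'1

/-- If a jointly surjective family of etale charts has finite fibres over `x`, then so does every
affine etale chart. -/
theorem finite_fibre_of_etale_cover_finite_fibres {X : AlgSp.Sp S} (x : Points X) {ι : Type u}
    (U : ι → Over S) (φ : ∀ i, (AlgSp.yon S).obj (U i) ⟶ X)
    (hφ : ∀ i, AlgSp.RepWith @Etale (φ i))
    (hsurj : ∀ y : Points X, ∃ (i : ι) (v : ↥(U i).left), Points.ofPt (φ i) v = y)
    (hfin : ∀ i, (Points.ofPt (φ i) ⁻¹' {x}).Finite)
    {V : Over S} [IsAffine V.left] (ψ : (AlgSp.yon S).obj V ⟶ X) (hψ : AlgSp.RepWith @Etale ψ) :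
    (Points.ofPt ψ ⁻¹' {x}).Finite := by
  apply finite_fibre_of_locally_finite
  intro v
  obtain ⟨i, u, hu⟩ := hsurj (Points.ofPt ψ v)
  obtain ⟨W, a, b, sq⟩ := exists_isPullback_of_representable hψ.1 (φ i)
  have ha : Etale a.left := (hφ i).2 ψ _ a sq.flip
  have hb : Etale b.left := hψ.2 (φ i) _ b sq
  obtain ⟨w, hw1, hw2⟩ := exists_of_ofPt_eq_ofPt sq hu.symm
  obtain ⟨U', hU', huU', -⟩ := exists_isAffineOpen_mem_and_subset
    (TopologicalSpace.Opens.mem_top u)
  obtain ⟨W', hW', hwW', hW'U'⟩ := exists_isAffineOpen_mem_and_subset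
    (U := b.left ⁻¹ᵁ U') (x := w) (by show b.left w ∈ U'; rw [hw2]; exact huU')
  refine ⟨a.left '' (W' : Set ↥W.left), a.left.isOpenMap _ W'.isOpen, ⟨w, hwW', hw1⟩, ?_⟩
  have hfin2 : ((W' : Set ↥W.left) ∩ b.left ⁻¹' (Points.ofPt (φ i) ⁻¹' {x})).Finite := by
    have : (W' : Set ↥W.left) ∩ b.left ⁻¹' (Points.ofPt (φ i) ⁻¹' {x}) =
        ⋃ u' ∈ Points.ofPt (φ i) ⁻¹' {x}, ((W' : Set ↥W.left) ∩ b.left ⁻¹' {u'}) := by
      ext w'
      simp only [Set.mem_inter_iff, Set.mem_preimage, Set.mem_singleton_iff, Set.mem_iUnion,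
        exists_prop]
      constructor
      · rintro ⟨h1, h2⟩
        exact ⟨b.left w', h2, h1, rfl⟩
      · rintro ⟨u', h2, h1, h3⟩
        exact ⟨h1, by rw [h3]; exact h2⟩
    rw [this]
    exact Set.Finite.biUnion (hfin i)
      (fun u' _ => finite_inter_preimage_of_etale b.left W' hW' U' hU' hW'U' u')
  refine (hfin2.image a.left).subset ?_
  rintro _ ⟨⟨w', hw', rfl⟩, hv'⟩
  refine ⟨w', ⟨hw', ?_⟩, rfl⟩
  rw [Set.mem_preimage, Set.mem_preimage, Set.mem_singleton_iff,
    ← ofPt_eq_ofPt_of_isPullback sq w']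
  exact hv'

end Groth.Agent.Lib.Helper51
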