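import Mathlib.AlgebraicGeometry.Morphisms.Basic
import Mathlib.AlgebraicGeometry.Morphisms.IsIso

/-!
A monomorphism of schemes admitting local sections is an isomorphism (helper51).
-/

set_option autoImplicit false
universe u
open CategoryTheory AlgebraicGeometry

namespace Groth.Agent.Lib.Helper51

theorem isIso_of_mono_of_local_sections {F T : Scheme.{u}} (m : F ⟶ T) [Mono m]
    (h : ∀ t : T, ∃ (W : T.Opens) (_ : t ∈ W) (s : W.toScheme ⟶ F), s ≫ m = W.ι) : IsIso m := by
  choose W hW s hs using h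
  have hsup : iSup W = ⊤ := by
    rw [eq_top_iff]
    intro t _
    exact TopologicalSpace.Opens.mem_iSup.2 ⟨t, hW t⟩
  refine (IsZariskiLocalAtTarget.iff_of_iSup_eq_top
    (P := MorphismProperty.isomorphisms Scheme) W hsup).mpr fun t => ?_
  show IsIso (m ∣_ W t)
  have hr : Set.range (s t) ⊆ Set.range (m ⁻¹ᵁ W t).ι := by
    rintro _ ⟨w, rfl⟩
    rw [Scheme.Opens.range_ι]
    show m (s t w) ∈ W t
    rw [← Scheme.Hom.comp_apply, hs t]
    exact w.2
  let s' : (W t).toScheme ⟶ (m ⁻¹ᵁ W t).toScheme := IsOpenImmersion.lift (m ⁻¹ᵁ W t).ι (s t) hr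
  have hs' : s' ≫ (m ⁻¹ᵁ W t).ι = s t := IsOpenImmersion.lift_fac _ _ _
  have hsec : s' ≫ (m ∣_ W t) = 𝟙 _ := by
    rw [← cancel_mono (W t).ι, Category.assoc, morphismRestrict_ι, ← Category.assoc, hs', hs t,
      Category.id_comp]
  have hmono : Mono (m ∣_ W t) := by
    have : Mono ((m ∣_ W t) ≫ (W t).ι) := by rw [morphismRestrict_ι]; infer_instance
    exact mono_of_mono _ (W t).ι
  have : IsSplitEpi (m ∣_ W t) := IsSplitEpi.mk' ⟨s', hsec⟩
  exact isIso_of_mono_of_isSplitEpi _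

end Groth.Agent.Lib.Helper51
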