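import Mathlib.AlgebraicGeometry.Properties
import Mathlib.AlgebraicGeometry.ResidueField
import Mathlib.RingTheory.LocalRing.ResidueField.Ideal
import Mathlib.RingTheory.Localization.AtPrime.Basic

/-!
A morphism from a reduced scheme to an affine scheme whose image is a single point factors through
the residue field of that point (helper51).
-/

set_option autoImplicit false
universe u
open CategoryTheory AlgebraicGeometry

namespace Groth.Agent.Lib.Helper51

/-- A ring homomorphism killing a prime `q` and inverting its complement factors through the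
residue field of `q`. -/
theorem exists_residueField_lift {A B : Type*} [CommRing A] [CommRing B] (q : Ideal A) [q.IsPrime]
    (θ : A →+* B) (h0 : ∀ a ∈ q, θ a = 0) (h1 : ∀ a, a ∉ q → IsUnit (θ a)) :
    ∃ θ' : q.ResidueField →+* B, θ'.comp (algebraMap A q.ResidueField) = θ := by
  let θ1 : Localization.AtPrime q →+* B :=
    IsLocalization.lift (M := q.primeCompl) (g := θ) (fun y => h1 y.1 y.2)
  have hθ1 : ∀ a, θ1 (algebraMap A _ a) = θ a := fun a => IsLocalization.lift_eq _ a
  have hker : ∀ a ∈ IsLocalRing.maximalIdeal (Localization.AtPrime q), θ1 a = 0 := by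
    intro a ha
    obtain ⟨x, s, rfl⟩ := IsLocalization.exists_mk'_eq q.primeCompl a
    rw [IsLocalization.AtPrime.mk'_mem_maximal_iff (Localization.AtPrime q) q] at ha
    rw [IsLocalization.lift_mk', h0 x ha, zero_mul]
  let θ2 : q.ResidueField →+* B := Ideal.Quotient.lift _ θ1 hker
  refine ⟨θ2, ?_⟩
  ext a
  have : algebraMap A q.ResidueField a =
      Ideal.Quotient.mk _ (algebraMap A (Localization.AtPrime q) a) := rfl
  show θ2 (algebraMap A q.ResidueField a) = θ a
  rw [this]
  show θ1 _ = θ a
  exact hθ1 a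

/-- A morphism from a reduced scheme to an affine scheme with image a single point `q` factors
through the residue field of `q`. -/
theorem exists_factor_residueField_of_isReduced {V : Scheme.{u}} [IsReduced V] {A : CommRingCat.{u}}
    (h : V ⟶ Spec A) (q : PrimeSpectrum A) (hq : ∀ v : V, h v = q) :
    ∃ ψ : V ⟶ Spec (CommRingCat.of q.asIdeal.ResidueField),
      ψ ≫ Spec.map (CommRingCat.ofHom (algebraMap A q.asIdeal.ResidueField)) = h := by
  let θ : A ⟶ Γ(V, ⊤) := (Scheme.ΓSpecIso A).inv ≫ h.appTop
  have hfac : h = V.toSpecΓ ≫ Spec.map θ := by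
    have h1 := Scheme.toSpecΓ_naturality h
    rw [← SpecMap_ΓSpecIso_hom] at h1
    have h2 : h = (V.toSpecΓ ≫ Spec.map h.appTop) ≫ Spec.map (Scheme.ΓSpecIso A).inv := by
      rw [← h1, Category.assoc, ← Spec.map_comp, Iso.inv_hom_id, Spec.map_id, Category.comp_id]
    rw [h2, Category.assoc, ← Spec.map_comp]
  have hbo : ∀ a : A, V.basicOpen (θ a) = h ⁻¹ᵁ (PrimeSpectrum.basicOpen a) := by
    intro a
    rw [← basicOpen_eq_of_affine, Scheme.preimage_basicOpen_top]
    rfl
  have h0 : ∀ a ∈ q.asIdeal, θ.hom a = 0 := by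
    intro a ha
    apply eq_zero_of_basicOpen_eq_bot
    rw [hbo]
    ext v
    simp only [TopologicalSpace.Opens.coe_bot, Set.mem_empty_iff_false, iff_false, SetLike.mem_coe]
    intro hv
    have hv' : h v ∈ PrimeSpectrum.basicOpen a := hv
    rw [hq] at hv'
    exact hv' ha
  have h1 : ∀ a, a ∉ q.asIdeal → IsUnit (θ.hom a) := by
    intro a ha
    apply V.toRingedSpace.isUnit_of_isUnit_germ ⊤
    intro v _
    have hv : v ∈ V.basicOpen (θ a) := by
      rw [hbo]
      show h v ∈ PrimeSpectrum.basicOpen a
      rw [hq]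
      exact ha
    exact (Scheme.mem_basicOpen_top V (θ.hom a) v).1 hv
  obtain ⟨θ', hθ'⟩ := exists_residueField_lift q.asIdeal θ.hom h0 h1
  refine ⟨V.toSpecΓ ≫ Spec.map (CommRingCat.ofHom θ'), ?_⟩
  rw [hfac, Category.assoc, ← Spec.map_comp]
  congr 2
  ext a
  exact congrFun (congrArg DFunLike.coe hθ') a

end Groth.Agent.Lib.Helper51
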