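import Groth.Agent.Lib.Helper51.AlgSpOnePt3
import Groth.Agent.Lib.Helper51.AlgSpSpecial
import Groth.Agent.Lib.Helper51.EtaleReduced
import Groth.Agent.Lib.Helper51.ReducedFactor
import Groth.Agent.Lib.Helper51.MonoLocalSection

/-!
A morphism from a reduced algebraic space whose image is a single decent point factors through
the monomorphic field point representing it (helper51).
-/

set_option autoImplicit false
set_option linter.unusedSectionVars false
universe u
open CategoryTheory CategoryTheory.Limits AlgebraicGeometry Opposite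

set_option backward.isDefEq.respectTransparency false

namespace Groth.Agent.Lib.Helper51

/-- In a finite set without specializations between distinct points, every point is isolated. -/
theorem exists_isOpen_inter_eq_singleton {U : Type*} [TopologicalSpace U] {Fb : Set U}
    (hfin : Fb.Finite) (hns : ∀ a ∈ Fb, ∀ b ∈ Fb, a ⤳ b → a = b) {u : U} (hu : u ∈ Fb) :
    ∃ N : Set U, IsOpen N ∧ u ∈ N ∧ N ∩ Fb = {u} := by
  have key : ∀ b ∈ Fb \ {u}, ∃ N : Set U, IsOpen N ∧ u ∈ N ∧ b ∉ N := by
    intro b hb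
    have : ¬ b ⤳ u := fun h => hb.2 (hns b hb.1 u hu h)
    exact not_specializes_iff_exists_open.mp this
  choose! N hN1 hN2 hN3 using key
  refine ⟨⋂ b ∈ Fb \ {u}, N b, (hfin.subset Set.sdiff_subset).isOpen_biInter hN1,
    Set.mem_iInter₂.2 hN2, ?_⟩
  ext b
  constructor
  · rintro ⟨hb1, hb2⟩
    by_contra hne
    exact hN3 b ⟨hb2, hne⟩ (Set.mem_iInter₂.1 hb1 b ⟨hb2, hne⟩)
  · rintro rfl
    exact ⟨Set.mem_iInter₂.2 hN2, hu⟩

/-- Factoring through a monomorphism can be checked after precomposing with an epimorphism. -/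
theorem exists_factor_of_epi_of_mono {C : Type*} [Category C] [HasPullbacks C] [Balanced C]
    {A B D E : C} (j : B ⟶ D) [Mono j] (f : A ⟶ D) (e : E ⟶ A) [Epi e] (g' : E ⟶ B)
    (hg' : g' ≫ j = e ≫ f) : ∃ g : A ⟶ B, g ≫ j = f := by
  have : Epi (pullback.lift g' e hg' ≫ pullback.snd j f) := by
    rw [pullback.lift_snd]; infer_instance
  have : Epi (pullback.snd j f) := epi_of_epi (pullback.lift g' e hg') _
  have : IsIso (pullback.snd j f) := isIso_of_mono_of_epi _
  exact ⟨inv (pullback.snd j f) ≫ pullback.fst j f, by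
    rw [Category.assoc, pullback.condition, IsIso.inv_hom_id_assoc]⟩

open AlgSp Groth.Agent.Lib.Helper52

variable {S : Scheme.{u}}

/-- A morphism from a reduced scheme to an affine étale chart of `X`, all of whose points lie over
the point represented by a quasi-compact monomorphic field point `p`, factors through `p`. -/
theorem exists_factor_of_reduced_of_etale_chart {X : AlgSp.Sp S} (hX : AlgSp.IsAlgSpace X)
    (p : FieldPt X) [Mono p.toHom] (hq : AlgSp.RepWith @QuasiCompact p.toHom)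
    {U : Over S} [IsAffine U.left] (φ : (AlgSp.yon S).obj U ⟶ X) (hφ : AlgSp.RepWith @Etale φ)
    {V : Over S} [IsReduced V.left] (h : V ⟶ U)
    (hx : ∀ v : ↥V.left, Points.ofPt φ (h.left v) = Points.mk p) :
    ∃ g : (AlgSp.yon S).obj V ⟶ (AlgSp.yon S).obj p.pt,
      g ≫ p.toHom = (AlgSp.yon S).map h ≫ φ := by
  have hfin := finite_fibre_of_quasiCompact_fieldPt p hq φ hφ
  have hns : ∀ a ∈ Points.ofPt φ ⁻¹' {Points.mk p}, ∀ b ∈ Points.ofPt φ ⁻¹' {Points.mk p},
      a ⤳ b → a = b := fun a ha b hb hs =>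
    eq_of_specializes_of_finite_fibre hφ (Points.mk p) hfin hb ha hs
  have hrep := hX.representable_from_yon p.toHom
  obtain ⟨Fv, φ1, m, sq⟩ := exists_isPullback_of_representable hrep ((AlgSp.yon S).map h ≫ φ)
  have hm1 : Mono ((AlgSp.yon S).map m) := sq.mono_snd_of_mono
  have hm2 : Mono m := (AlgSp.yon S).mono_of_mono_map hm1
  have hm3 : Mono m.left := inferInstance
  have hiso : IsIso m.left := by
    apply isIso_of_mono_of_local_sections
    intro v
    obtain ⟨N, hNo, huN, hN⟩ := exists_isOpen_inter_eq_singleton hfin hns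
      (u := h.left v) (hx v)
    let W : V.left.Opens := h.left ⁻¹ᵁ ⟨N, hNo⟩
    have hvW : v ∈ W := huN
    refine ⟨W, hvW, ?_⟩
    have hWred : IsReduced W.toScheme := isReduced_of_isOpenImmersion W.ι
    let q : PrimeSpectrum Γ(U.left, ⊤) := U.left.isoSpec.hom (h.left v)
    let hW : W.toScheme ⟶ Spec Γ(U.left, ⊤) := W.ι ≫ h.left ≫ U.left.isoSpec.hom
    have hWq : ∀ w : W.toScheme, hW w = q := by
      intro w
      have h1 : h.left (W.ι w) ∈ N ∩ Points.ofPt φ ⁻¹' {Points.mk p} := ⟨w.2, hx _⟩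
      rw [hN] at h1
      show U.left.isoSpec.hom (h.left (W.ι w)) = U.left.isoSpec.hom (h.left v)
      rw [h1]
    obtain ⟨ψ, hψ⟩ := exists_factor_residueField_of_isReduced hW q hWq
    let K := q.asIdeal.ResidueField
    let κ : Spec (CommRingCat.of K) ⟶ U.left :=
      Spec.map (CommRingCat.ofHom (algebraMap Γ(U.left, ⊤) K)) ≫ U.left.isoSpec.inv
    have hψκ : ψ ≫ κ = W.ι ≫ h.left := by
      show ψ ≫ Spec.map _ ≫ U.left.isoSpec.inv = _
      rw [← Category.assoc, hψ]
      simp only [hW, Category.assoc, Iso.hom_inv_id, Category.comp_id]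
    let strK : Spec (CommRingCat.of K) ⟶ S := κ ≫ U.hom
    let kOver : Over.mk strK ⟶ U := Over.homMk κ rfl
    let r : FieldPt X := fieldPtOfHom strK ((AlgSp.yon S).map kOver ≫ φ)
    have hr : r.toHom = (AlgSp.yon S).map kOver ≫ φ := fieldPtOfHom_toHom _ _
    have hrp : Points.mk p = Points.mk r := by
      have h1 : Points.ofPt r.toHom (ψ ⟨v, hvW⟩) = Points.mk r := Points.ofPt_toHom r (ψ ⟨v, hvW⟩)
      have h2 : Points.ofPt ((AlgSp.yon S).map kOver ≫ φ) (ψ ⟨v, hvW⟩) =
          Points.ofPt φ (kOver.left (ψ ⟨v, hvW⟩)) := ofPt_yon_map_comp kOver φ _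
      have h3 : kOver.left (ψ ⟨v, hvW⟩) = h.left v := by
        show κ (ψ ⟨v, hvW⟩) = h.left v
        rw [← Scheme.Hom.comp_apply, hψκ]
        rfl
      have h4 : Points.ofPt r.toHom (ψ ⟨v, hvW⟩) =
          Points.ofPt ((AlgSp.yon S).map kOver ≫ φ) (ψ ⟨v, hvW⟩) := by
        congr 1
      rw [← h1, h4, h2, h3, hx]
    obtain ⟨c, hc, -⟩ := existsUnique_factor_of_mono_fieldPt p r hrep hrp
    let ψO : opensOver V W ⟶ Over.mk strK := Over.homMk ψ (by
      show ψ ≫ κ ≫ U.hom = W.ι ≫ V.hom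
      rw [← Category.assoc, hψκ, Category.assoc, Over.w h])
    have hψO : ψO ≫ kOver = opensOverι V W ≫ h := by
      apply Over.OverMorphism.ext
      exact hψκ
    have hcomm : (AlgSp.yon S).map (ψO ≫ c) ≫ p.toHom =
        (AlgSp.yon S).map (opensOverι V W) ≫ (AlgSp.yon S).map h ≫ φ := by
      rw [Functor.map_comp, Category.assoc, hc, hr, ← Category.assoc, ← Functor.map_comp, hψO,
        Functor.map_comp, Category.assoc]
    let s0 : opensOver V W ⟶ Fv := (AlgSp.yon S).preimage (sq.lift _ _ hcomm)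
    have hs0 : s0 ≫ m = opensOverι V W := by
      apply (AlgSp.yon S).map_injective
      rw [Functor.map_comp, (AlgSp.yon S).map_preimage, sq.lift_snd]
    exact ⟨s0.left, congrArg CommaMorphism.left hs0⟩
  have hiso' : IsIso m := by
    have : IsIso ((Over.forget S).map m) := hiso
    exact isIso_of_reflects_iso m (Over.forget S)
  refine ⟨(AlgSp.yon S).map (inv m ≫ φ1), ?_⟩
  rw [Functor.map_comp, Category.assoc, sq.w, ← Category.assoc, ← Functor.map_comp,
    IsIso.inv_hom_id, CategoryTheory.Functor.map_id, Category.id_comp]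

/-- A morphism from a reduced algebraic space whose image is the point represented by a
quasi-compact monomorphic field point `p` factors through `p`. -/
theorem exists_factor_of_reduced_of_mono_fieldPt {Y X : AlgSp.Sp S} (hX : AlgSp.IsAlgSpace X)
    (f : Y ⟶ X) (p : FieldPt X) [Mono p.toHom] (hq : AlgSp.RepWith @QuasiCompact p.toHom)
    (hYr : AlgSp.EtaleLocally (fun U => IsReduced U) Y)
    (hf : ∀ y : Points Y, Points.map f y = Points.mk p) :
    ∃ g : Y ⟶ (AlgSp.yon S).obj p.pt, g ≫ p.toHom = f := by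
  obtain ⟨V0, a0, ha0e, ha0s, hV0⟩ := hYr
  obtain ⟨U1, φ1, hφ1e, hφ1s⟩ := hX.atlas
  obtain ⟨u1, hu1⟩ := surjective_ofPt_of_repWith_surjective φ1 hφ1s (Points.mk p)
  obtain ⟨U0, hU0, hu1U0, -⟩ := exists_isAffineOpen_mem_and_subset
    (TopologicalSpace.Opens.mem_top u1)
  let U : Over S := opensOver U1 U0
  have : IsAffine U.left := hU0
  let φ : (AlgSp.yon S).obj U ⟶ X := (AlgSp.yon S).map (opensOverι U1 U0) ≫ φ1
  have hφ : AlgSp.RepWith @Etale φ := repWith_etale_yon_map_comp _ inferInstance φ1 hφ1e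
  have hu : Points.ofPt φ (⟨u1, hu1U0⟩ : ↥U.left) = Points.mk p := by
    rw [ofPt_yon_map_comp]
    exact hu1
  obtain ⟨V', h, e, sq'⟩ := exists_isPullback_of_representable hφ.1 (a0 ≫ f)
  have hee : Etale e.left := hφ.2 (a0 ≫ f) _ e sq'
  have hpt : ∀ v0 : ↥V0.left, Points.ofPt (a0 ≫ f) v0 = Points.mk p := by
    intro v0
    rw [← Points.map_ofPt]
    exact hf _
  have hes : Surjective e.left := by
    refine ⟨fun v0 => ?_⟩
    obtain ⟨w, -, hw⟩ := exists_of_ofPt_eq_ofPt sq' (hu.trans (hpt v0).symm)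
    exact ⟨w, hw⟩
  have : IsReduced V0.left := hV0
  have hV'red : IsReduced V'.left := isReduced_of_etale e.left
  have hx : ∀ w : ↥V'.left, Points.ofPt φ (h.left w) = Points.mk p := by
    intro w
    rw [← ofPt_yon_map_comp, sq'.w, ofPt_yon_map_comp]
    exact hpt _
  obtain ⟨g', hg'⟩ := exists_factor_of_reduced_of_etale_chart hX p hq φ hφ h hx
  have hepi1 : Epi ((AlgSp.yon S).map e) :=
    Groth.Agent.Lib.Helper30.epi_of_repWith_etale_surjective _
      ((AlgSp.repWith_yon_map_iff @Etale e).2 hee) ((AlgSp.repWith_yon_map_iff @Surjective e).2 hes)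
  have hepi2 : Epi a0 := Groth.Agent.Lib.Helper30.epi_of_repWith_etale_surjective a0 ha0e ha0s
  have hepi : Epi ((AlgSp.yon S).map e ≫ a0) := epi_comp _ _
  refine exists_factor_of_epi_of_mono p.toHom f ((AlgSp.yon S).map e ≫ a0) g' ?_
  rw [hg', sq'.w, Category.assoc]

end Groth.Agent.Lib.Helper51
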