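import Groth.Agent.Lib.Helper51.AlgSpImage
import Groth.Agent.Lib.Helper51.EtaleReduced
import Groth.Agent.Lib.Helper51.AlgSpOpen
import Groth.Agent.Lib.Helper30.AlgSpImmDesc
import Groth.Agent.Lib.Helper8.SheafType
import Groth.Agent.S9360
import Groth.Prelude.Def_AlgSpSub

set_option autoImplicit false
set_option linter.unusedSectionVars false
universe u
open CategoryTheory CategoryTheory.Limits AlgebraicGeometry Opposite

set_option backward.isDefEq.respectTransparency false

namespace Groth.Agent.Lib.Helper51.RedInd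

/-- The reduced induced subscheme on a closed subset is reduced. -/
theorem isReduced_vanishingIdeal_subscheme {X : Scheme.{u}} (W : TopologicalSpace.Closeds X) :
    IsReduced (Scheme.IdealSheafData.vanishingIdeal W).subscheme := by
  have : ∀ U, IsReduced ((Scheme.IdealSheafData.vanishingIdeal W).subschemeCover.openCover.X U) := by
    intro U
    change IsReduced (Spec (.of <| Γ(X, U.1) ⧸ (Scheme.IdealSheafData.vanishingIdeal W).ideal U))
    have : _root_.IsReduced (Γ(X, U.1) ⧸ (Scheme.IdealSheafData.vanishingIdeal W).ideal U) := by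
      rw [← Ideal.isRadical_iff_quotient_reduced, Scheme.IdealSheafData.vanishingIdeal_ideal]
      exact PrimeSpectrum.isRadical_vanishingIdeal _
    infer_instance
  exact IsReduced.of_openCover _ (Scheme.IdealSheafData.vanishingIdeal W).subschemeCover.openCover

/-- A morphism from a reduced scheme whose image lies in a closed subset factors through the
reduced induced subscheme. -/
theorem exists_lift_vanishingIdeal_subscheme {P U : Scheme.{u}} (q : P ⟶ U) [IsReduced P]
    (W : TopologicalSpace.Closeds U) (h : Set.range q ⊆ W) :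
    ∃ l : P ⟶ (Scheme.IdealSheafData.vanishingIdeal W).subscheme,
      l ≫ (Scheme.IdealSheafData.vanishingIdeal W).subschemeι = q := by
  have hk : (Scheme.IdealSheafData.vanishingIdeal W).subschemeι.ker ≤ q.ker := by
    rw [Scheme.IdealSheafData.ker_subschemeι]
    exact Groth.Agent.S9360.vanishingIdeal_le_ker q W h
  exact ⟨IsClosedImmersion.lift _ q hk, IsClosedImmersion.lift_fac _ q hk⟩

/-- kernel pair from a pullback along a monomorphism factor. -/
theorem isPullback_kernelPair_of_factor {C : Type*} [Category C] {P A B X : C} {p1 : P ⟶ A}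
    {q : P ⟶ B} {ξ : A ⟶ X} {a : B ⟶ X} (sq : IsPullback p1 q ξ a) (i : A ⟶ B) [Mono i]
    (hi : i ≫ a = ξ) (l : P ⟶ A) (hl : l ≫ i = q) : IsPullback p1 l ξ ξ := by
  refine ⟨⟨?_⟩, ⟨PullbackCone.IsLimit.mk _
    (fun s => sq.lift s.fst (s.snd ≫ i) (by rw [Category.assoc, hi]; exact s.condition))
    (fun s => sq.lift_fst _ _ _) (fun s => ?_) (fun s m h1 h2 => ?_)⟩⟩
  · rw [sq.w, ← hl, Category.assoc, hi]
  · rw [← cancel_mono i, Category.assoc, hl]
    exact sq.lift_snd _ _ _
  · apply sq.hom_ext
    · rw [sq.lift_fst]; exact h1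
    · rw [sq.lift_snd, ← hl, ← Category.assoc, h2]

end Groth.Agent.Lib.Helper51.RedInd

namespace Groth.Agent.Lib.Helper51.RedInd

open AlgSp Groth.Agent.Lib.Helper52 Groth.Agent.Lib.Helper51

variable {S : Scheme.{u}}

/-- The image of a chart of a subsheaf pulls back to the chart, when the kernel pair condition
holds. -/
theorem isPullback_image_of_factor {A B Z X P : AlgSp.Sp S} (z : A ⟶ Z) [Epi z] (f : Z ⟶ X)
    (a : B ⟶ X) (i : A ⟶ B) [Mono i] (hi : i ≫ a = z ≫ f) {p1 : P ⟶ A} {q : P ⟶ B}
    (sqP : IsPullback p1 q (z ≫ f) a) (l : P ⟶ A) (hl : l ≫ i = q) (hlz : l ≫ z = p1 ≫ z) :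
    IsPullback z i f a := by
  let c : A ⟶ pullback f a := pullback.lift z i hi.symm
  have hc1 : c ≫ pullback.fst f a = z := pullback.lift_fst _ _ _
  have hc2 : c ≫ pullback.snd f a = i := pullback.lift_snd _ _ _
  have hcm : Mono c := mono_of_mono_fac hc2
  let can : P ⟶ pullback f a := pullback.lift (p1 ≫ z) q (by rw [Category.assoc]; exact sqP.w)
  have hcan1 : can ≫ pullback.fst f a = p1 ≫ z := pullback.lift_fst _ _ _
  have hcan2 : can ≫ pullback.snd f a = q := pullback.lift_snd _ _ _
  have hfac : l ≫ c = can := by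
    apply pullback.hom_ext
    · rw [Category.assoc, hc1, hcan1, hlz]
    · rw [Category.assoc, hc2, hcan2, hl]
  have sqR : IsPullback (pullback.snd f a) (pullback.fst f a) a f :=
    (IsPullback.of_hasPullback f a).flip
  have sqBig : IsPullback (can ≫ pullback.snd f a) p1 a (z ≫ f) := by
    rw [hcan2]; exact sqP.flip
  have sqL : IsPullback can p1 (pullback.fst f a) z := IsPullback.of_right sqBig hcan1 sqR
  have hcanE : Epi can := Groth.Agent.Lib.Helper8.epi_of_isPullback_of_epi (AlgSp.J S) sqL
  have hce : Epi c := by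
    rw [← hfac] at hcanE
    exact epi_of_epi l c
  have hciso : IsIso c := isIso_of_mono_of_epi c
  exact IsPullback.of_iso_pullback ⟨hi.symm⟩ (asIso c) hc1 hc2

end Groth.Agent.Lib.Helper51.RedInd

namespace Groth.Agent.Lib.Helper51.RedInd

open AlgSp Groth.Agent.Lib.Helper52 Groth.Agent.Lib.Helper51

variable {S : Scheme.{u}}

/-- Existence of the reduced induced closed subspace structure on a closed subset of the points
of an algebraic space. -/
theorem exists_isRedInduced {X : AlgSp.Sp S} (hX : AlgSp.IsAlgSpace X) (T : Set (Points X))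
    (hT : IsClosed T) :
    ∃ (Z : AlgSp.Sp S) (_ : AlgSp.IsAlgSpace Z) (f : Z ⟶ X), AlgSp.IsRedInduced T f := by
  obtain ⟨U, a, ha, has⟩ := hX.atlas
  let Tc : TopologicalSpace.Closeds U.left :=
    ⟨Points.ofPt a ⁻¹' T, hT.preimage (Points.continuous_ofPt a)⟩
  let I := Scheme.IdealSheafData.vanishingIdeal Tc
  have hred : IsReduced I.subscheme := isReduced_vanishingIdeal_subscheme Tc
  have hrange : Set.range I.subschemeι = Points.ofPt a ⁻¹' T := by
    rw [Scheme.IdealSheafData.range_subschemeι, Scheme.IdealSheafData.coe_support_vanishingIdeal]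
    rfl
  let ZU : Over S := Over.mk (I.subschemeι ≫ U.hom)
  let i : ZU ⟶ U := Over.homMk I.subschemeι rfl
  have hici : IsClosedImmersion i.left := inferInstanceAs (IsClosedImmersion I.subschemeι)
  have hirep : AlgSp.RepWith @IsClosedImmersion ((AlgSp.yon S).map i) :=
    (AlgSp.repWith_yon_map_iff @IsClosedImmersion i).2 hici
  have himono : Mono ((AlgSp.yon S).map i) :=
    mono_of_repWith (P := @IsClosedImmersion)
      (fun g (_ : IsClosedImmersion g) => inferInstance) hirep
  let ξ : (AlgSp.yon S).obj ZU ⟶ X := (AlgSp.yon S).map i ≫ a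
  obtain ⟨P, q, p1, sqP0⟩ := exists_isPullback_of_representable ha.rep ξ
  have hp1e : Etale p1.left := ha.property ξ _ p1 sqP0
  have hp1s : Surjective p1.left := has.property ξ _ p1 sqP0
  have hPred : IsReduced P.left := by
    have : IsReduced ZU.left := hred
    exact isReduced_of_etale p1.left
  have hqrange : Set.range q.left ⊆ (Tc : Set U.left) := by
    rintro _ ⟨w, rfl⟩
    change Points.ofPt a (q.left w) ∈ T
    rw [← ofPt_yon_map_comp q a w, sqP0.w, ofPt_yon_map_comp p1 ξ w, ofPt_yon_map_comp i a]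
    have : i.left (p1.left w) ∈ Set.range I.subschemeι := ⟨p1.left w, rfl⟩
    rw [hrange] at this
    exact this
  obtain ⟨l0, hl0⟩ := exists_lift_vanishingIdeal_subscheme q.left Tc hqrange
  let l : P ⟶ ZU := Over.homMk l0 (by
    change l0 ≫ I.subschemeι ≫ U.hom = P.hom
    rw [← Category.assoc, hl0]
    exact Over.w q)
  have hl : l ≫ i = q := Over.OverMorphism.ext hl0
  have hlY : (AlgSp.yon S).map l ≫ (AlgSp.yon S).map i = (AlgSp.yon S).map q := by
    rw [← Functor.map_comp, hl]
  have sqK : IsPullback ((AlgSp.yon S).map p1) ((AlgSp.yon S).map l) ξ ξ :=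
    isPullback_kernelPair_of_factor sqP0.flip ((AlgSp.yon S).map i) rfl _ hlY
  have hfac : Sheaf.toImage ξ ≫ Sheaf.imageι ξ = ξ := Sheaf.toImage_ι ξ
  have sqz : IsPullback ((AlgSp.yon S).map l) ((AlgSp.yon S).map p1) (Sheaf.toImage ξ)
      (Sheaf.toImage ξ) := by
    apply isPullback_of_comp_mono (Sheaf.imageι ξ)
    rw [hfac]
    exact sqK.flip
  obtain ⟨hZ, hze, hzs⟩ := isAlgSpace_of_epi_of_etale_kernelPair hX (Sheaf.imageι ξ)
    (Sheaf.toImage ξ) l p1 sqz hp1e hp1s
  have sqI : IsPullback (Sheaf.toImage ξ) ((AlgSp.yon S).map i) (Sheaf.imageι ξ) a := by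
    refine isPullback_image_of_factor (Sheaf.toImage ξ) (Sheaf.imageι ξ) a ((AlgSp.yon S).map i)
      hfac.symm (p1 := (AlgSp.yon S).map p1) (q := (AlgSp.yon S).map q) ?_ ((AlgSp.yon S).map l)
      hlY sqz.w
    rw [hfac]
    exact sqP0.flip
  have hci : AlgSp.RepWith @IsClosedImmersion (Sheaf.imageι ξ) :=
    Groth.Agent.Lib.Helper30.AffDesc.repWith_isClosedImmersion_of_etale_cover (Sheaf.imageι ξ) U a ha has
      (Sheaf.toImage ξ) ((AlgSp.yon S).map i) sqI hirep
  refine ⟨Sheaf.image ξ, hZ, Sheaf.imageι ξ, hci, ?_, ⟨ZU, Sheaf.toImage ξ, hze, hzs, hred⟩⟩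
  have hsurj := surjective_map_of_repWith_surjective hzs
  have h0 : Points.map ξ = Points.map (Sheaf.imageι ξ) ∘ Points.map (Sheaf.toImage ξ) := by
    funext y
    rw [Function.comp_apply, ← Points.map_comp, hfac]
  rw [show Set.range (Points.map (Sheaf.imageι ξ)) = Set.range (Points.map ξ) by
    rw [h0, Set.range_comp, hsurj.range_eq, Set.image_univ]]
  rw [range_map_eq_range_ofPt]
  ext x
  constructor
  · rintro ⟨w, rfl⟩
    rw [ofPt_yon_map_comp i a]
    have : i.left w ∈ Set.range I.subschemeι := ⟨w, rfl⟩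
    rw [hrange] at this
    exact this
  · intro hx
    obtain ⟨u, rfl⟩ := surjective_ofPt_of_repWith_surjective a has x
    have : u ∈ Set.range I.subschemeι := by rw [hrange]; exact hx
    obtain ⟨w, rfl⟩ := this
    exact ⟨w, ofPt_yon_map_comp i a w⟩

end Groth.Agent.Lib.Helper51.RedInd
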