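import Groth.Agent.Lib.Helper51.AlgSpPoints
import Groth.Prelude.Def_AlgSpMor5

set_option autoImplicit false
universe u
open CategoryTheory CategoryTheory.Limits AlgebraicGeometry
open AlgSp

namespace Groth.Agent.Lib.Helper51

variable {S : Scheme.{u}}

set_option backward.isDefEq.respectTransparency false

/-- base change of a property local on the target for the etale precoverage along an etale map. -/
theorem of_isPullback_of_etale (P : MorphismProperty Scheme.{u})
    [P.IsLocalAtTarget Scheme.etalePrecoverage] {X Y X' Y' : Scheme.{u}} {f : X ⟶ Y} {g : Y' ⟶ Y}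
    {fst : X' ⟶ X} {snd : X' ⟶ Y'} (h : IsPullback fst snd f g) [Etale g] (hf : P f) : P snd := by
  have : HasPullback f g := h.hasPullback
  rw [← P.cancel_left_of_respectsIso h.isoPullback.inv, h.isoPullback_inv_snd]
  let R : Presieve Y := Presieve.ofArrows (fun b : Bool => cond b Y' Y)
    (fun b => match b with | true => g | false => 𝟙 Y)
  have hR : R ∈ Scheme.etalePrecoverage Y := by
    refine (Scheme.ofArrows_mem_precoverage_iff (P := @Etale)).2 ⟨fun y => ⟨false, y, rfl⟩, ?_⟩
    intro b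
    cases b
    · exact (inferInstance : Etale (𝟙 Y))
    · exact (inferInstance : Etale g)
  exact MorphismProperty.IsLocalAtTarget.pullbackSnd hR (Presieve.ofArrows.mk true) hf

/-- descent of a property local on the target for the etale precoverage along an etale surjection. -/
theorem of_isPullback_of_etale_surjective (P : MorphismProperty Scheme.{u})
    [P.IsLocalAtTarget Scheme.etalePrecoverage] {X Y X' Y' : Scheme.{u}} {f : X ⟶ Y} {g : Y' ⟶ Y}
    {fst : X' ⟶ X} {snd : X' ⟶ Y'} (h : IsPullback fst snd f g) [Etale g] [Surjective g]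
    (hs : P snd) : P f := by
  have hR : Presieve.singleton g ∈ Scheme.etalePrecoverage Y :=
    (Scheme.singleton_mem_precoverage_iff (P := @Etale) g).2 ⟨g.surjective, inferInstance⟩
  refine MorphismProperty.IsLocalAtTarget.of_forall_pullbackSnd hR ?_
  intro U g' _ hg'
  obtain ⟨⟩ := hg'
  rw [← h.isoPullback_inv_snd, P.cancel_left_of_respectsIso]
  exact hs

theorem repLocT_of_surjective_etale_chart (P : MorphismProperty Scheme.{u})
    [P.IsLocalAtTarget Scheme.etalePrecoverage] {X Y : Sp S} (f : X ⟶ Y) (hf : Representable f)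
    {V W : Over S} (b : (yon S).obj V ⟶ Y) (hb1 : RepWith @Etale b) (hb2 : RepWith @Surjective b)
    (fst : (yon S).obj W ⟶ X) (snd : W ⟶ V)
    (sq : IsPullback fst ((yon S).map snd) f b) (hP : P snd.left) :
    RepLocT P f := by
  refine ⟨hf, ?_⟩
  intro V' W' b' fst' snd' hb' sq'
  obtain ⟨V'', φ, ψ, sqV⟩ := exists_isPullback_of_representable hb1.1 b'
  have hψe : Etale ψ.left := hb1.2 _ _ _ sqV
  have hψs : Surjective ψ.left := hb2.2 _ _ _ sqV
  have hφe : Etale φ.left := hb'.2 _ _ _ sqV.flip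
  -- `W'' = X ×_Y V''`
  have hf' : (yon S).relativelyRepresentable f := hf
  have sqW := hf'.isPullback ((yon S).map φ ≫ b)
  set W'' := hf'.pullback ((yon S).map φ ≫ b)
  set τ := hf'.snd ((yon S).map φ ≫ b)
  set σ := hf'.fst ((yon S).map φ ≫ b)
  -- left square over `snd`
  have key : ∀ {V₁ W₁ : Over S} (b₁ : (yon S).obj V₁ ⟶ Y) (fst₁ : (yon S).obj W₁ ⟶ X)
      (snd₁ : W₁ ⟶ V₁) (sq₁ : IsPullback fst₁ ((yon S).map snd₁) f b₁) (φ₁ : V'' ⟶ V₁)
      (hφ₁ : (yon S).map φ₁ ≫ b₁ = (yon S).map φ ≫ b),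
      ∃ w : W'' ⟶ W₁, IsPullback w.left τ.left snd₁.left φ₁.left := by
    intro V₁ W₁ b₁ fst₁ snd₁ sq₁ φ₁ hφ₁
    have hcomm : σ ≫ f = ((yon S).map τ ≫ (yon S).map φ₁) ≫ b₁ := by
      rw [Category.assoc, hφ₁]; exact sqW.w
    let w := sq₁.lift σ ((yon S).map τ ≫ (yon S).map φ₁) hcomm
    have hw1 : w ≫ fst₁ = σ := sq₁.lift_fst _ _ _
    have hw2 : w ≫ (yon S).map snd₁ = (yon S).map τ ≫ (yon S).map φ₁ := sq₁.lift_snd _ _ _
    have big : IsPullback (w ≫ fst₁) ((yon S).map τ) f ((yon S).map φ₁ ≫ b₁) := by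
      rw [hw1, hφ₁]; exact sqW
    have left := IsPullback.of_right big hw2 sq₁
    let w₀ : W'' ⟶ W₁ := (yon S).preimage w
    have hw₀ : (yon S).map w₀ = w := Functor.map_preimage _ _
    rw [← hw₀] at left
    have left' : IsPullback w₀ τ snd₁ φ₁ := IsPullback.of_map (yon S)
      ((yon S).map_injective (by rw [Functor.map_comp, Functor.map_comp]; exact left.w)) left
    exact ⟨w₀, left'.map (Over.forget S)⟩
  obtain ⟨w, hw⟩ := key b fst snd sq φ rfl
  obtain ⟨w', hw'⟩ := key b' fst' snd' sq' ψ sqV.w.symm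
  have hτ : P τ.left := of_isPullback_of_etale P hw hP
  exact of_isPullback_of_etale_surjective P hw' hτ

end Groth.Agent.Lib.Helper51
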