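import Mathlib.AlgebraicGeometry.Morphisms.Finite
import Mathlib.AlgebraicGeometry.Morphisms.FiniteType
import Mathlib.RingTheory.AlgebraicIndependent.Transcendental
import Groth.Prelude.Def_Dual3

/-!
Closed points of schemes locally of finite type over a Jacobson scheme have algebraic residue
field extensions (helper51).
-/

set_option autoImplicit false
universe u
open CategoryTheory AlgebraicGeometry Topology

namespace Groth.Agent.Lib.Helper51

/-- The residue field extension at a closed point of a scheme locally of finite type over a
Jacobson scheme is finite. -/
theorem finite_residueFieldMap_of_isClosed_of_jacobson {X Y : Scheme.{u}} (f : X ⟶ Y)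
    [LocallyOfFiniteType f] [JacobsonSpace Y] (x : X) (hx : IsClosed ({x} : Set X)) :
    (f.residueFieldMap x).hom.Finite := by
  have hci : IsClosedImmersion (X.fromSpecResidueField x) :=
    isClosed_singleton_iff_isClosedImmersion.mp hx
  have hfin : IsFinite (X.fromSpecResidueField x ≫ f) :=
    (isFinite_iff_locallyOfFiniteType_of_jacobsonSpace
      (f := X.fromSpecResidueField x ≫ f)).mpr inferInstance
  rw [← Scheme.Hom.SpecMap_residueFieldMap_fromSpecResidueField] at hfin
  have h2 : IsFinite (Spec.map (f.residueFieldMap x)) :=
    IsFinite.of_comp _ (Y.fromSpecResidueField (f x))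
  exact (IsFinite.SpecMap_iff _).1 h2

/-- The residue field extension at a closed point of a scheme locally of finite type over a
Jacobson scheme has transcendence degree zero. -/
theorem resTrdeg_eq_zero_of_isClosed_of_jacobson {X Y : Scheme.{u}} (f : X ⟶ Y)
    [LocallyOfFiniteType f] [JacobsonSpace Y] (x : X) (hx : IsClosed ({x} : Set X)) :
    Dual3.resTrdeg f x = 0 := by
  have hfin := finite_residueFieldMap_of_isClosed_of_jacobson f x hx
  unfold Dual3.resTrdeg
  letI := (f.residueFieldMap x).hom.toAlgebra
  have : Module.Finite (Y.residueField (f x)) (X.residueField x) := hfin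
  exact _root_.trdeg_eq_zero

end Groth.Agent.Lib.Helper51
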