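import Groth.Agent.Lib.Helper51.AlgSpJacobson3
import Groth.Agent.Lib.Helper51.SchemeResTrdegJac

/-!
Finite type points over Jacobson spaces have transcendence degree zero (helper51).
-/

set_option autoImplicit false
set_option linter.unusedSectionVars false
universe u
open CategoryTheory CategoryTheory.Limits AlgebraicGeometry Opposite TensorProduct

set_option backward.isDefEq.respectTransparency false

namespace Groth.Agent.Lib.Helper51

open AlgSp Groth.Agent.Lib.Helper30 Groth.Agent.Lib.Helper52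

variable {S : Scheme.{u}}

/-- Over a Jacobson algebraic space, a finite type point of a space locally of finite type over it
has transcendence degree zero over its image. -/
theorem hasAtMor_resTrdeg_zero_of_jacobson {X Y : AlgSp.Sp S} (f : X ⟶ Y)
    (hf : AlgSp.LocP @LocallyOfFiniteType f)
    (hY : AlgSp.EtaleLocally (fun U => JacobsonSpace ↥U) Y) (x : Points X)
    (hx : AlgSp.HasAt (fun U u => IsClosed ({u} : Set ↥U)) X x) :
    AlgSp.HasAtMor (fun _ _ h u => Dual3.resTrdeg h u = 0) f x := by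
  obtain ⟨V0, b0, hb0e, hb0s, hV0⟩ := hY
  have hV0' : JacobsonSpace ↥V0.left := hV0
  obtain ⟨U, a, u, ha, rfl, hu⟩ := hx
  obtain ⟨W, φ, ψ, sq⟩ := exists_isPullback_of_representable hb0e.1 (a ≫ f)
  have hψe : Etale ψ.left := hb0e.2 (a ≫ f) _ ψ sq
  have hψs : Surjective ψ.left := hb0s.2 (a ≫ f) _ ψ sq
  have hce : AlgSp.RepWith @Etale ((AlgSp.yon S).map ψ ≫ a) :=
    repWith_etale_yon_map_comp ψ hψe a ha
  have hcomm : ((AlgSp.yon S).map ψ ≫ a) ≫ f = (AlgSp.yon S).map φ ≫ b0 := by
    rw [Category.assoc]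
    exact sq.w.symm
  have hφ : LocallyOfFiniteType φ.left := hf ((AlgSp.yon S).map ψ ≫ a) b0 φ hce hb0e hcomm
  obtain ⟨w, hw⟩ := ψ.left.surjective u
  have hwcl : IsClosed ({w} : Set ↥W.left) :=
    isClosed_singleton_of_etale_over_closed ψ.left w (hw ▸ hu)
  refine ⟨W, V0, (AlgSp.yon S).map ψ ≫ a, b0, φ, w, hce, hb0e, hcomm, ?_, ?_⟩
  · rw [ofPt_yon_map_comp, hw]
  · exact resTrdeg_eq_zero_of_isClosed_of_jacobson φ.left w hwcl

end Groth.Agent.Lib.Helper51
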