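import Groth.Agent.Lib.Helper51.AlgSpFtPts4
import Groth.Agent.Lib.Helper51.FieldFibre

/-!
Existence of the residual space at a point of an algebraic space (helper51).
-/

set_option autoImplicit false
set_option linter.unusedSectionVars false
universe u
open CategoryTheory CategoryTheory.Limits AlgebraicGeometry Opposite

set_option backward.isDefEq.respectTransparency false

namespace Groth.Agent.Lib.Helper51

open AlgSp Groth.Agent.Lib.Helper30 Groth.Agent.Lib.Helper52

variable {S : Scheme.{u}}

/-- The kernel pair of the residue field point of a point of an etale chart of an algebraic space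
is etale and surjective over the point. -/
theorem etale_kernelPair_of_residueField_chart {X : AlgSp.Sp S} {U : Over S}
    (φ : (AlgSp.yon S).obj U ⟶ X) (hφ : AlgSp.RepWith @Etale φ) (u : ↥U.left)
    {R : Over S} (s t : R ⟶ Over.mk (U.left.fromSpecResidueField u ≫ U.hom))
    (sq : IsPullback ((AlgSp.yon S).map s) ((AlgSp.yon S).map t)
      ((AlgSp.yon S).map (Over.homMk (U.left.fromSpecResidueField u) rfl :
        Over.mk (U.left.fromSpecResidueField u ≫ U.hom) ⟶ U) ≫ φ)
      ((AlgSp.yon S).map (Over.homMk (U.left.fromSpecResidueField u) rfl :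
        Over.mk (U.left.fromSpecResidueField u ≫ U.hom) ⟶ U) ≫ φ)) :
    Etale t.left ∧ Surjective t.left := by
  set c : Over.mk (U.left.fromSpecResidueField u ≫ U.hom) ⟶ U :=
    Over.homMk (U.left.fromSpecResidueField u) rfl with hc
  obtain ⟨R'', a, b, sq''⟩ := exists_isPullback_of_representable hφ.1 ((AlgSp.yon S).map c ≫ φ)
  have hb : Etale b.left := hφ.2 _ _ b sq''
  have hcomm : ((AlgSp.yon S).map s ≫ (AlgSp.yon S).map c) ≫ φ =
      (AlgSp.yon S).map t ≫ ((AlgSp.yon S).map c ≫ φ) := by
    rw [Category.assoc]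
    exact sq.w
  let r : R ⟶ R'' := (AlgSp.yon S).preimage
    (sq''.lift ((AlgSp.yon S).map s ≫ (AlgSp.yon S).map c) ((AlgSp.yon S).map t) hcomm)
  have hr1 : (AlgSp.yon S).map r ≫ (AlgSp.yon S).map a =
      (AlgSp.yon S).map s ≫ (AlgSp.yon S).map c := by
    rw [Functor.map_preimage, sq''.lift_fst]
  have hr2 : (AlgSp.yon S).map r ≫ (AlgSp.yon S).map b = (AlgSp.yon S).map t := by
    rw [Functor.map_preimage, sq''.lift_snd]
  have hbig : IsPullback ((AlgSp.yon S).map r ≫ (AlgSp.yon S).map b) ((AlgSp.yon S).map s)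
      ((AlgSp.yon S).map c ≫ φ) ((AlgSp.yon S).map c ≫ φ) := by
    rw [hr2]
    exact sq.flip
  have hleft : IsPullback ((AlgSp.yon S).map r) ((AlgSp.yon S).map s) ((AlgSp.yon S).map a)
      ((AlgSp.yon S).map c) := IsPullback.of_right hbig hr1 sq''.flip
  have hrs : r ≫ a = s ≫ c := (AlgSp.yon S).map_injective (by
    rw [Functor.map_comp, Functor.map_comp]; exact hr1)
  have hleft' : IsPullback r s a c := IsPullback.of_map (AlgSp.yon S) hrs hleft
  have hleft'' : IsPullback r.left s.left a.left (U.left.fromSpecResidueField u) :=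
    hleft'.map (Over.forget S)
  have hb' : Etale (show R''.left ⟶ Spec (CommRingCat.of (U.left.residueField u)) from b.left) :=
    hb
  obtain ⟨V, ψ, -, sqV⟩ := exists_isPullback_fibre_of_etale_field
    (κ := U.left.residueField u)
    (show R''.left ⟶ Spec (CommRingCat.of (U.left.residueField u)) from b.left) a.left u
  have hrV : r.left = (hleft''.isoIsPullback _ _ sqV).hom ≫ V.ι :=
    (IsPullback.isoIsPullback_hom_fst _ _ hleft'' sqV).symm
  have hroi : IsOpenImmersion r.left := by
    rw [hrV]
    infer_instance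
  have hrb : r ≫ b = t := (AlgSp.yon S).map_injective (by rw [Functor.map_comp]; exact hr2)
  have htl : t.left = r.left ≫ b.left := by rw [← hrb]; rfl
  constructor
  · rw [htl]
    infer_instance
  · let δ : Over.mk (U.left.fromSpecResidueField u ≫ U.hom) ⟶ R :=
      (AlgSp.yon S).preimage (sq.lift (𝟙 _) (𝟙 _) rfl)
    have hδ : δ ≫ t = 𝟙 _ := (AlgSp.yon S).map_injective (by
      rw [Functor.map_comp, Functor.map_preimage, sq.lift_snd, CategoryTheory.Functor.map_id])
    refine ⟨fun y => ⟨δ.left y, ?_⟩⟩
    have : (δ ≫ t).left y = y := by rw [hδ]; rfl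
    exact this

/-- The residual space: every point of an algebraic space is the image of a monomorphism from an
algebraic space which has an etale surjective chart from the spectrum of a field. -/
theorem exists_residualSpace {X : AlgSp.Sp S} (hX : AlgSp.IsAlgSpace X) (x : Points X) :
    ∃ (Z : AlgSp.Sp S) (_ : AlgSp.IsAlgSpace Z) (i : Z ⟶ X) (k : Type u) (_ : Field k)
      (str : Spec (CommRingCat.of k) ⟶ S) (z : (AlgSp.yon S).obj (Over.mk str) ⟶ Z),
      Mono i ∧ Set.range (Points.map i) = {x} ∧ AlgSp.RepWith @Etale z ∧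
        AlgSp.RepWith @Surjective z ∧ Points.ofPt (z ≫ i) (IsLocalRing.closedPoint k) = x := by
  obtain ⟨U, φ, u, -, hφ, rfl⟩ := exists_affine_etale_chart_at hX x
  let str : Spec (CommRingCat.of (U.left.residueField u)) ⟶ S :=
    U.left.fromSpecResidueField u ≫ U.hom
  let c : Over.mk str ⟶ U := Over.homMk (U.left.fromSpecResidueField u) rfl
  let ξ : (AlgSp.yon S).obj (Over.mk str) ⟶ X := (AlgSp.yon S).map c ≫ φ
  obtain ⟨R, s, t, sq⟩ := exists_isPullback_of_representable (hX.representable_from_yon ξ) ξ
  obtain ⟨hte, hts⟩ := etale_kernelPair_of_residueField_chart φ hφ u s t sq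
  have hfac : Sheaf.toImage ξ ≫ Sheaf.imageι ξ = ξ := Sheaf.toImage_ι ξ
  have sqz : IsPullback ((AlgSp.yon S).map s) ((AlgSp.yon S).map t) (Sheaf.toImage ξ)
      (Sheaf.toImage ξ) := by
    apply isPullback_of_comp_mono (Sheaf.imageι ξ)
    rw [hfac]
    exact sq
  obtain ⟨hZ, hze, hzs⟩ := isAlgSpace_of_epi_of_etale_kernelPair hX (Sheaf.imageι ξ)
    (Sheaf.toImage ξ) s t sqz hte hts
  have hpt : Points.ofPt ξ (IsLocalRing.closedPoint (U.left.residueField u)) = Points.ofPt φ u := by
    rw [ofPt_yon_map_comp]
    congr 1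
    exact Scheme.fromSpecResidueField_apply _ _
  refine ⟨Sheaf.image ξ, hZ, Sheaf.imageι ξ, U.left.residueField u, inferInstance, str,
    Sheaf.toImage ξ, inferInstance, ?_, hze, hzs, ?_⟩
  · have hsurj := surjective_map_of_repWith_surjective hzs
    have h0 : Points.map ξ = Points.map (Sheaf.imageι ξ) ∘ Points.map (Sheaf.toImage ξ) := by
      funext y
      rw [Function.comp_apply, ← Points.map_comp, hfac]
    have h1 : Set.range (Points.map (Sheaf.imageι ξ)) = Set.range (Points.map ξ) := by
      rw [h0, Set.range_comp, hsurj.range_eq, Set.image_univ]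
    rw [h1, range_map_yon_field str ξ, hpt]
  · rw [hfac]
    exact hpt


/-- The residual space, in the form with a flat, locally finitely presented, surjective field
point. -/
theorem exists_residualSpace' {X : AlgSp.Sp S} (hX : AlgSp.IsAlgSpace X) (x : Points X) :
    ∃ (Z : AlgSp.Sp S) (_ : AlgSp.IsAlgSpace Z) (i : Z ⟶ X), Mono i ∧
      Set.range (Points.map i) = {x} ∧
      ∃ (k : Type u) (_ : Field k) (str : Spec (CommRingCat.of k) ⟶ S)
        (p : (AlgSp.yon S).obj (Over.mk str) ⟶ Z),
        AlgSp.LocP @LocallyOfFinitePresentation p ∧ AlgSp.LocP @Flat p ∧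
          AlgSp.IsSurjectiveMor p := by
  obtain ⟨Z, hZ, i, k, _, str, z, hm, hr, hze, hzs, -⟩ := exists_residualSpace hX x
  refine ⟨Z, hZ, i, hm, hr, k, inferInstance, str, z, ?_, ?_, ?_⟩
  · exact Groth.Agent.Lib.Helper30.locP_of_repWith @Etale @LocallyOfFinitePresentation
      (fun k i hk hi => by
        have : Etale k := hk
        have : Etale i := hi
        infer_instance) hze
  · exact Groth.Agent.Lib.Helper30.locP_of_repWith @Etale @Flat
      (fun k i hk hi => by
        have : Etale k := hk
        have : Etale i := hi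
        infer_instance) hze
  · exact surjective_map_of_repWith_surjective hzs

end Groth.Agent.Lib.Helper51
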