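import Groth.Agent.Lib.Helper51.AlgSpSchDenseIff
import Groth.Agent.Lib.Helper30.AlgSpFib

set_option autoImplicit false
set_option linter.unusedSectionVars false
universe u
open CategoryTheory CategoryTheory.Limits AlgebraicGeometry Opposite

set_option backward.isDefEq.respectTransparency false

namespace Groth.Agent.Lib.Helper51.ClosedSub

open AlgSp Groth.Agent.Lib.Helper52 Groth.Agent.Lib.Helper51

variable {S : Scheme.{u}}

/-- the inverse image of a quasi-compact scheme theoretically dense open under a flat morphism is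
scheme theoretically dense. -/
theorem isSchDense_of_flat_base_change {X Y V V' : AlgSp.Sp S} (hX : AlgSp.IsAlgSpace X)
    (hY : AlgSp.IsAlgSpace Y) (f : X ⟶ Y) (hf : AlgSp.LocP @Flat f) (j : V ⟶ Y)
    (hj : AlgSp.IsSchDense j) (hjq : AlgSp.IsQuasiCompactMor j) (fst : V' ⟶ V) (jX : V' ⟶ X)
    (sq : IsPullback fst jX j f) : AlgSp.IsSchDense jX := by
  obtain ⟨hjo, V₀, φ, W, fst₀, hφe, hφs, sq₀, hdense⟩ := hj
  have hjX : AlgSp.RepWith @IsOpenImmersion jX := MorphismProperty.of_isPullback sq hjo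
  have sqP := IsPullback.of_hasPullback f φ
  have hP : AlgSp.IsAlgSpace (pullback f φ) :=
    Groth.Agent.Lib.Helper30.isAlgSpace_of_isPullback hY.diag hX (AlgSp.IsAlgSpace.yon_obj V₀) sqP
  obtain ⟨U₀, b, hbe, hbs⟩ := hP.atlas
  have hπe : AlgSp.RepWith @Etale (pullback.fst f φ) := MorphismProperty.of_isPullback sqP.flip hφe
  have hπs : AlgSp.RepWith @Surjective (pullback.fst f φ) :=
    MorphismProperty.of_isPullback sqP.flip hφs
  have ha : AlgSp.RepWith @Etale (b ≫ pullback.fst f φ) :=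
    (AlgSp.RepWith @Etale).comp_mem _ _ hbe hπe
  have has : AlgSp.RepWith @Surjective (b ≫ pullback.fst f φ) :=
    (AlgSp.RepWith @Surjective).comp_mem _ _ hbs hπs
  let h : U₀ ⟶ V₀ := (AlgSp.yon S).preimage (b ≫ pullback.snd f φ)
  have hh : (AlgSp.yon S).map h = b ≫ pullback.snd f φ := Functor.map_preimage _ _
  have hcomm : (b ≫ pullback.fst f φ) ≫ f = (AlgSp.yon S).map h ≫ φ := by
    rw [hh, Category.assoc, Category.assoc, pullback.condition]
  have hflat : Flat h.left := hf _ φ h ha hφe hcomm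
  have hqW : QuasiCompact W.ι :=
    Groth.Agent.Lib.Helper30.quasiCompact_of_isQuasiCompactMor hjq φ fst₀
      (Over.homMk W.ι rfl : Over.mk (W.ι ≫ V₀.hom) ⟶ V₀) sq₀
  have sqS := isPullback_morphismRestrict h.left W
  have hw := Groth.Agent.Lib.Helper30.over_w h _ _ _ sqS
  have sqo := (Groth.Agent.Lib.Helper30.isPullback_over h _ _ _ sqS hw).map (AlgSp.yon S)
  have big := sqo.paste_horiz sq₀
  rw [← hcomm] at big
  have bigw : ((AlgSp.yon S).map (Over.homMk (h.left ∣_ W) hw :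
      Over.mk ((h.left ⁻¹ᵁ W).ι ≫ U₀.hom) ⟶ Over.mk (W.ι ≫ V₀.hom)) ≫ fst₀) ≫ j =
      ((AlgSp.yon S).map (Over.homMk (h.left ⁻¹ᵁ W).ι rfl :
      Over.mk ((h.left ⁻¹ᵁ W).ι ≫ U₀.hom) ⟶ U₀) ≫ (b ≫ pullback.fst f φ)) ≫ f := by
    rw [Category.assoc _ _ f]; exact big.w
  let fst' := sq.lift _ _ bigw
  have hfst'1 : fst' ≫ fst = _ := sq.lift_fst _ _ _
  have hfst'2 : fst' ≫ jX = _ := sq.lift_snd _ _ _
  have sq' : IsPullback fst' ((AlgSp.yon S).map (Over.homMk (h.left ⁻¹ᵁ W).ι rfl :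
      Over.mk ((h.left ⁻¹ᵁ W).ι ≫ U₀.hom) ⟶ U₀)) jX (b ≫ pullback.fst f φ) := by
    refine IsPullback.of_right ?_ hfst'2 sq
    rw [hfst'1]
    exact big
  refine ⟨hjX, U₀, _, h.left ⁻¹ᵁ W, fst', ha, has, sq', ?_⟩
  have hk : W.ι.ker = ⊥ := SchemeDense.ker_ι_eq_bot_of_isSchematicallyDense W hdense
  have hk' : (h.left ⁻¹ᵁ W).ι.ker = ⊥ := by
    rw [ker_of_isPullback_qc sqS, hk, Scheme.IdealSheafData.comap_bot]
  have hq' : QuasiCompact (h.left ⁻¹ᵁ W).ι := MorphismProperty.of_isPullback sqS hqW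
  have := SchemeDense.isSchematicallyDense_of_qc (h.left ⁻¹ᵁ W).ι hk'
  rw [Scheme.Opens.opensRange_ι] at this
  exact this

end Groth.Agent.Lib.Helper51.ClosedSub
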