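import Groth.Agent.Lib.Helper51.AlgSpSchImRed
import Groth.Agent.S4667

set_option autoImplicit false
set_option linter.unusedSectionVars false
universe u
open CategoryTheory CategoryTheory.Limits AlgebraicGeometry Opposite

set_option backward.isDefEq.respectTransparency false

namespace Groth.Agent.Lib.Helper51.ClosedSub

open AlgSp Groth.Agent.Lib.Helper52 Groth.Agent.Lib.Helper51 Groth.Agent.Lib.Helper51.RedInd

variable {S : Scheme.{u}}

/-- flat base change of the kernel of a quasi-compact morphism, for an arbitrary pullback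
square. -/
theorem ker_of_isPullback_qc {P R Zc U : Scheme.{u}} {p1 : P ⟶ Zc} {r : P ⟶ R}
    {f : Zc ⟶ U} {s : R ⟶ U} [QuasiCompact f] [Flat s] (sq : IsPullback p1 r f s) :
    r.ker = f.ker.comap s := by
  have h1 : r = sq.isoPullback.hom ≫ pullback.snd f s := (sq.isoPullback_hom_snd).symm
  rw [h1, Scheme.Hom.ker_comp_of_isIso, Groth.Agent.S4667.result]

/-- the chart of a representable morphism is epi. -/
theorem epi_chart_of_isPullback {Z X : AlgSp.Sp S} (h : Z ⟶ X) {U ZU : Over S}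
    (a : (AlgSp.yon S).obj U ⟶ X) (ha : AlgSp.RepWith @Etale a)
    (has : AlgSp.RepWith @Surjective a) (hU : ZU ⟶ U) (g : (AlgSp.yon S).obj ZU ⟶ Z)
    (sqh : IsPullback g ((AlgSp.yon S).map hU) h a) : Epi g :=
  Groth.Agent.Lib.Helper30.epi_of_repWith_etale_surjective g
    (MorphismProperty.of_isPullback sqh.flip ha) (MorphismProperty.of_isPullback sqh.flip has)

theorem ker_comap_le_of_isPullback_qc {Z X : AlgSp.Sp S} (h : Z ⟶ X) {U ZU R : Over S}
    (a : (AlgSp.yon S).obj U ⟶ X) (hU : ZU ⟶ U) (hUq : QuasiCompact hU.left)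
    (g : (AlgSp.yon S).obj ZU ⟶ Z) (sqh : IsPullback g ((AlgSp.yon S).map hU) h a)
    (s t : R ⟶ U) (hs : Flat s.left) (ht : Flat t.left)
    (hst : (AlgSp.yon S).map s ≫ a = (AlgSp.yon S).map t ≫ a) :
    hU.left.ker.comap t.left ≤ hU.left.ker.comap s.left := by
  obtain ⟨A, w1, w2, sqO, sqL⟩ := Groth.Agent.Lib.Helper30.isPullback_over' hU s
  obtain ⟨A', w1', w2', sqO', sqL'⟩ := Groth.Agent.Lib.Helper30.isPullback_over' hU t
  rw [← ker_of_isPullback_qc sqL, ← ker_of_isPullback_qc sqL']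
  have hcomm : ((AlgSp.yon S).map w1 ≫ g) ≫ h = (AlgSp.yon S).map (w2 ≫ t) ≫ a := by
    rw [Category.assoc, sqh.w, ← Category.assoc, ← Functor.map_comp, sqO.w, Functor.map_comp,
      Functor.map_comp, Category.assoc, Category.assoc, hst]
  let m0 : (AlgSp.yon S).obj A ⟶ (AlgSp.yon S).obj ZU := sqh.lift _ _ hcomm
  have hm0 : m0 ≫ (AlgSp.yon S).map hU = (AlgSp.yon S).map (w2 ≫ t) := sqh.lift_snd _ _ _
  let m1 : A ⟶ ZU := (AlgSp.yon S).preimage m0
  have hm1 : m1 ≫ hU = w2 ≫ t := (AlgSp.yon S).map_injective (by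
    rw [Functor.map_comp, Functor.map_preimage]; exact hm0)
  let m : A ⟶ A' := sqO'.lift m1 w2 hm1
  have hm : m ≫ w2' = w2 := sqO'.lift_snd _ _ _
  have h1 : w2'.left.ker ≤ (m.left ≫ w2'.left).ker := Scheme.Hom.le_ker_comp m.left w2'.left
  have h2 : m.left ≫ w2'.left = w2.left := congrArg CommaMorphism.left hm
  rw [h2] at h1
  exact h1

end Groth.Agent.Lib.Helper51.ClosedSub

namespace Groth.Agent.Lib.Helper51.ClosedSub

open AlgSp Groth.Agent.Lib.Helper52 Groth.Agent.Lib.Helper51 Groth.Agent.Lib.Helper51.RedInd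

variable {S : Scheme.{u}}

/-- the chart of the scheme theoretic image: one inequality, valid always. -/
theorem ker_chart_le_of_factor {Z X Zbar : AlgSp.Sp S} (h : Z ⟶ X) (c : Zbar ⟶ X)
    (h' : Z ⟶ Zbar) (fac : h' ≫ c = h) {U ZU ZbU : Over S} (a : (AlgSp.yon S).obj U ⟶ X)
    (hU : ZU ⟶ U) (g : (AlgSp.yon S).obj ZU ⟶ Z)
    (sqh : IsPullback g ((AlgSp.yon S).map hU) h a) (cU : ZbU ⟶ U)
    (zb : (AlgSp.yon S).obj ZbU ⟶ Zbar) (sqc : IsPullback zb ((AlgSp.yon S).map cU) c a) :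
    ∃ h'U : ZU ⟶ ZbU, h'U ≫ cU = hU ∧ (AlgSp.yon S).map h'U ≫ zb = g ≫ h' := by
  have hcomm : (g ≫ h') ≫ c = (AlgSp.yon S).map hU ≫ a := by
    rw [Category.assoc, fac, sqh.w]
  let m0 : (AlgSp.yon S).obj ZU ⟶ (AlgSp.yon S).obj ZbU := sqc.lift _ _ hcomm
  have hm0 : m0 ≫ (AlgSp.yon S).map cU = (AlgSp.yon S).map hU := sqc.lift_snd _ _ _
  have hm0' : m0 ≫ zb = g ≫ h' := sqc.lift_fst _ _ _
  refine ⟨(AlgSp.yon S).preimage m0, (AlgSp.yon S).map_injective (by
    rw [Functor.map_comp, Functor.map_preimage]; exact hm0), ?_⟩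
  rw [Functor.map_preimage]; exact hm0'

/-- For a representable quasi-compact morphism, the scheme theoretic image is computed on
charts. -/
theorem ker_chart_eq_of_isSchImage_qc {Z X Zbar : AlgSp.Sp S} (hX : AlgSp.IsAlgSpace X)
    (h : Z ⟶ X) (c : Zbar ⟶ X) (hc : AlgSp.IsSchImage h c) {U ZU ZbU : Over S}
    (a : (AlgSp.yon S).obj U ⟶ X) (ha : AlgSp.RepWith @Etale a)
    (has : AlgSp.RepWith @Surjective a) (hU : ZU ⟶ U) (hUq : QuasiCompact hU.left)
    (g : (AlgSp.yon S).obj ZU ⟶ Z) (sqh : IsPullback g ((AlgSp.yon S).map hU) h a)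
    (cU : ZbU ⟶ U) (zb : (AlgSp.yon S).obj ZbU ⟶ Zbar)
    (sqc : IsPullback zb ((AlgSp.yon S).map cU) c a) : cU.left.ker = hU.left.ker := by
  obtain ⟨hci, ⟨h', fac⟩, hmin⟩ := hc
  have hcU : IsClosedImmersion cU.left := hci.property a zb cU sqc
  apply le_antisymm
  · obtain ⟨h'U, hh'U, -⟩ := ker_chart_le_of_factor h c h' fac a hU g sqh cU zb sqc
    have h1 : cU.left.ker ≤ (h'U.left ≫ cU.left).ker := Scheme.Hom.le_ker_comp h'U.left cU.left
    have h2 : h'U.left ≫ cU.left = hU.left := congrArg CommaMorphism.left hh'U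
    rw [h2] at h1
    exact h1
  · obtain ⟨R, s, t, sqR⟩ := exists_isPullback_of_representable ha.rep a
    have hse : Etale s.left := ha.property a _ s sqR.flip
    have hte : Etale t.left := ha.property a _ t sqR
    have hsf : Flat s.left := inferInstance
    have htf : Flat t.left := inferInstance
    have hinv : hU.left.ker.comap s.left = hU.left.ker.comap t.left :=
      le_antisymm (ker_comap_le_of_isPullback_qc h a hU hUq g sqh t s htf hsf sqR.w.symm)
        (ker_comap_le_of_isPullback_qc h a hU hUq g sqh s t hsf htf sqR.w)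
    obtain ⟨Z'', hZ'', i'', z'', hci'', hze'', hzs'', sqI''⟩ :=
      exists_closedSubspace_of_invariant hX a ha has s t sqR hU.left.ker hinv
    have hi''mono : Mono i'' := mono_of_repWith_isClosedImmersion i'' hci''
    have hgepi : Epi g := epi_chart_of_isPullback h a ha has hU g sqh
    obtain ⟨φ, hφ⟩ := (exists_factor_iff i'' a (subOverι U hU.left.ker) inferInstance z'' sqI''
      hU).2 (by rw [ker_subOverι])
    have hstrong : StrongEpi g := strongEpi_of_epi g
    have csq : CommSq φ g i'' h := ⟨by rw [hφ, sqh.w]⟩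
    obtain ⟨k, hk⟩ := hmin i'' hZ'' hci'' ⟨csq.lift, csq.fac_right⟩
    have h3 := (exists_factor_iff i'' a (subOverι U hU.left.ker) inferInstance z'' sqI'' cU).1
      ⟨zb ≫ k, by rw [Category.assoc, hk, sqc.w]⟩
    rw [ker_subOverι] at h3
    exact h3

end Groth.Agent.Lib.Helper51.ClosedSub
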