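import Groth.Agent.Lib.Helper51.AlgSpCutOut
import Groth.Agent.Lib.Helper51.AlgSpSchImQc

set_option autoImplicit false
set_option linter.unusedSectionVars false
universe u
open CategoryTheory CategoryTheory.Limits AlgebraicGeometry Opposite

set_option backward.isDefEq.respectTransparency false

namespace Groth.Agent.Lib.Helper51.IdealShf

open AlgSp Groth.Agent.Lib.Helper52 Groth.Agent.Lib.Helper51 Groth.Agent.Lib.Helper51.ClosedSub

variable {S : Scheme.{u}}

theorem ker_ideal_top_of_isAffine {A B : Scheme.{u}} (f : A ⟶ B) [IsAffine B] :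
    f.ker.ideal ⟨⊤, isAffineOpen_top B⟩ = RingHom.ker f.appTop.hom := by
  rw [Scheme.ker_of_isAffine, Scheme.IdealSheafData.ofIdealTop_ideal]
  have : (homOfLE (le_top : (⊤ : B.Opens) ≤ ⊤)) = 𝟙 _ := rfl
  change Ideal.map (B.presheaf.map (homOfLE (le_top : (⊤ : B.Opens) ≤ ⊤)).op).hom _ = _
  rw [this, op_id, CategoryTheory.Functor.map_id]
  exact Ideal.map_id _

/-- the kernel family of a representable quasi-compact morphism is quasi-coherent. -/
theorem isQCoh_idealOfRep_of_qc {X Y : AlgSp.Sp S} (f : X ⟶ Y) (hf : AlgSp.Representable f)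
    (hqc : AlgSp.IsQuasiCompactMor f) : (AlgSp.idealOfRep hf).IsQCoh := by
  intro E E' g hE hE'
  have sq := AlgSp.EtOver.isPullback_bcMap_left hf g
  have hq : QuasiCompact (AlgSp.EtOver.bcπ hf E).left :=
    Groth.Agent.Lib.Helper30.quasiCompact_of_isQuasiCompactMor hqc E.obj.hom _
      (AlgSp.EtOver.bcπ hf E) (AlgSp.EtOver.isPullback_bcObj hf E)
  have het : Etale g.hom.left.left := AlgSp.EtOver.etale_left g
  have hfl : Flat g.hom.left.left := inferInstance
  have h1 := ker_of_isPullback_qc sq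
  have h2 := congrArg (fun J => J.ideal ⟨⊤, isAffineOpen_top E'.obj.left.left⟩) h1
  simp only at h2
  rw [ker_ideal_top_of_isAffine, Groth.Agent.Lib.Helper20.ideal_comap_top_of_isAffine,
    ker_ideal_top_of_isAffine] at h2
  exact h2.le

/-- for a representable morphism with quasi-coherent kernel family, the scheme theoretic image
is the closed subspace cut out by the family. -/
theorem isSchImage_iff_isCutOutBy {F Y Z : AlgSp.Sp S} (hY : AlgSp.IsAlgSpace Y) (g : F ⟶ Y)
    (hg : AlgSp.Representable g) (hq : (AlgSp.idealOfRep hg).IsQCoh) (i : Z ⟶ Y) :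
    AlgSp.IsSchImage g i ↔ AlgSp.IsCutOutBy (AlgSp.idealOfRep hg) i := by
  constructor
  · rintro ⟨hi, ⟨f', hf'⟩, hmin⟩
    refine ⟨hi, ?_⟩
    obtain ⟨Z'', hZ'', i'', hi'', hcut⟩ := exists_isCutOutBy hY (AlgSp.idealOfRep hg) hq
    obtain ⟨f'', hf''⟩ := IdealFac.exists_factor_of_idealOfRep_le hY i'' hi'' g hg
      (fun E hE => by rw [hcut])
    obtain ⟨k, hk⟩ := hmin i'' hZ'' hi'' ⟨f'', hf''⟩
    have h1 := IdealFac.idealOfRep_le_of_factor i'' hi''.1 i hi.1 k hk
    have h2 := IdealFac.idealOfRep_le_of_factor i hi.1 g hg f' hf'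
    apply AlgSp.IdealEt.ext
    funext E hE
    apply le_antisymm (h2 E hE)
    have := h1 E hE
    rw [hcut] at this
    exact this
  · rintro ⟨hi, hcut⟩
    refine ⟨hi, ?_, ?_⟩
    · exact IdealFac.exists_factor_of_idealOfRep_le hY i hi g hg (fun E hE => by rw [hcut])
    · intro Z' i' hZ' hi' ⟨f'', hf''⟩
      have h1 := IdealFac.idealOfRep_le_of_factor i' hi'.1 g hg f'' hf''
      exact IdealFac.exists_factor_of_idealOfRep_le hY i' hi' i hi.1
        (fun E hE => by rw [hcut]; exact h1 E hE)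

end Groth.Agent.Lib.Helper51.IdealShf
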