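import Groth.Agent.Lib.Helper51.IdealDesc

set_option autoImplicit false
universe u
open CategoryTheory CategoryTheory.Limits AlgebraicGeometry Opposite

namespace Groth.Agent.Lib.Helper51.IdealDesc

/-- descent of inclusions of ideals along a jointly surjective family of flat morphisms of affine
schemes. -/
theorem le_of_forall_exists_flat {B : Scheme.{u}} [IsAffine B] (I J : Ideal Γ(B, ⊤))
    (h : ∀ β : B, ∃ (W : Scheme.{u}) (γ : W ⟶ B), Flat γ ∧ IsAffine W ∧ β ∈ Set.range γ ∧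
      J.map γ.appTop.hom ≤ I.map γ.appTop.hom) : J ≤ I := by
  intro x hx
  by_contra hxI
  have hB : IsAffineOpen (⊤ : B.Opens) := isAffineOpen_top B
  let K : Ideal Γ(B, ⊤) := I.colon ({x} : Set Γ(B, ⊤))
  have hK : K ≠ ⊤ := by
    intro hK
    have h1 : (1 : Γ(B, ⊤)) ∈ K := by rw [hK]; trivial
    rw [Submodule.mem_colon_singleton] at h1
    apply hxI
    simpa using h1
  obtain ⟨M, hM, hKM⟩ := Ideal.exists_le_maximal K hK
  let P : PrimeSpectrum Γ(B, ⊤) := ⟨M, hM.isPrime⟩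
  let v : ↥(⊤ : B.Opens) := hB.isoSpec.inv P
  have hv : hB.primeIdealOf v = P := by
    change hB.isoSpec.hom (hB.isoSpec.inv P) = P
    have := Scheme.Hom.comp_apply hB.isoSpec.inv hB.isoSpec.hom P
    rw [← this, Iso.inv_hom_id]
    rfl
  obtain ⟨W, γ, hγ, hW, ⟨w, hw⟩, hle⟩ := h v.1
  have hWa : IsAffineOpen (⊤ : W.Opens) := isAffineOpen_top W
  have e : (⊤ : W.Opens) ≤ γ ⁻¹ᵁ (⊤ : B.Opens) := le_top
  have happ : γ.appLE ⊤ ⊤ e = γ.appTop := Scheme.Hom.appLE_eq_app (f := γ) (U := ⊤)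
  have hφ : γ.appTop.hom.Flat := HasRingHomProperty.appTop (P := @Flat) γ hγ
  have hq := IsAffineOpen.comap_primeIdealOf_appLE (f := γ) (x := w) ⊤ hB ⊤ hWa e trivial
  have hmem : γ.appTop.hom x ∈ I.map γ.appTop.hom := hle (Ideal.mem_map_of_mem _ hx)
  obtain ⟨s, hs, hsx⟩ := exists_mul_mem_of_map_mem_map γ.appTop.hom hφ
    (hWa.primeIdealOf ⟨w, trivial⟩).asIdeal I x hmem
  apply hs
  have h2 : (hWa.primeIdealOf ⟨w, trivial⟩).asIdeal.comap γ.appTop.hom =
      (hB.primeIdealOf ⟨γ w, trivial⟩).asIdeal := by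
    rw [← happ]
    exact congrArg PrimeSpectrum.asIdeal hq
  rw [h2]
  have h3 : (⟨γ w, trivial⟩ : ↥(⊤ : B.Opens)) = v := Subtype.ext hw
  rw [h3, hv]
  apply hKM
  change s ∈ I.colon ({x} : Set Γ(B, ⊤))
  rw [Submodule.mem_colon_singleton]
  exact hsx

end Groth.Agent.Lib.Helper51.IdealDesc
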