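import Groth.Agent.Lib.Helper51.AlgSpSchImBC
import Groth.Agent.Lib.Helper51.IdealDesc2

set_option autoImplicit false
set_option linter.unusedSectionVars false
universe u
open CategoryTheory CategoryTheory.Limits AlgebraicGeometry Opposite

set_option backward.isDefEq.respectTransparency false

namespace Groth.Agent.Lib.Helper51.KerAt

open AlgSp Groth.Agent.Lib.Helper52 Groth.Agent.Lib.Helper51 Groth.Agent.Lib.Helper51.ClosedSub

variable {S : Scheme.{u}}

/-- the kernel families of two quasi-compact morphisms which agree on affine etale charts agree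
on affine schemes mapping flat-locally to such charts. -/
theorem kerAt_eq_of_flat_local {V Z Y : AlgSp.Sp S} (hV : AlgSp.IsAlgSpace V)
    (hZ : AlgSp.IsAlgSpace Z) (hY : AlgSp.IsAlgSpace Y) (g : V ⟶ Y)
    (hgq : AlgSp.IsQuasiCompactMor g) (i : Z ⟶ Y) (hiq : AlgSp.IsQuasiCompactMor i)
    (h : ∀ (E : AlgSp.EtOver Y) (_ : IsAffine E.obj.left.left),
      kerAt hZ hY i E.obj.hom = kerAt hV hY g E.obj.hom)
    {B : Over S} [IsAffine B.left] (y : (AlgSp.yon S).obj B ⟶ Y)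
    (hy : ∀ β : ↥B.left, ∃ (W : Over S) (γ' : W ⟶ B) (E : AlgSp.EtOver Y) (γ : W ⟶ E.obj.left),
      IsAffine W.left ∧ IsAffine E.obj.left.left ∧ Flat γ'.left ∧ Flat γ.left ∧
        β ∈ Set.range γ'.left ∧ (AlgSp.yon S).map γ' ≫ y = (AlgSp.yon S).map γ ≫ E.obj.hom) :
    kerAt hZ hY i y = kerAt hV hY g y := by
  have key : ∀ β : ↥B.left, ∃ (W : Scheme.{u}) (γ : W ⟶ B.left), Flat γ ∧ IsAffine W ∧
      β ∈ Set.range γ ∧
        (kerAt hZ hY i y).map γ.appTop.hom = (kerAt hV hY g y).map γ.appTop.hom := by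
    intro β
    obtain ⟨W, γ', E, γ, hW, hE, hγ', hγ, hβ, hcomm⟩ := hy β
    refine ⟨W.left, γ'.left, hγ', hW, hβ, ?_⟩
    rw [← kerAt_flat_base_change hZ hY i hiq y γ', ← kerAt_flat_base_change hV hY g hgq y γ',
      hcomm, kerAt_flat_base_change hZ hY i hiq E.obj.hom γ,
      kerAt_flat_base_change hV hY g hgq E.obj.hom γ, h E hE]
  apply le_antisymm
  · apply IdealDesc.le_of_forall_exists_flat
    intro β
    obtain ⟨W, γ, h1, h2, h3, h4⟩ := key β
    exact ⟨W, γ, h1, h2, h3, h4.le⟩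
  · apply IdealDesc.le_of_forall_exists_flat
    intro β
    obtain ⟨W, γ, h1, h2, h3, h4⟩ := key β
    exact ⟨W, γ, h1, h2, h3, h4.ge⟩

theorem isQuasiCompactMor_of_isClosedImmersion {Z Y : AlgSp.Sp S} (i : Z ⟶ Y)
    (hi : AlgSp.RepWith @IsClosedImmersion i) : AlgSp.IsQuasiCompactMor i :=
  Groth.Agent.Lib.Helper30.isQuasiCompactMor_of_repWith
    (MorphismProperty.relative_monotone (fun A B k hk => by
      have : IsClosedImmersion k.left := hk
      change QuasiCompact k.left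
      infer_instance) _ hi)

/-- flat base change of the scheme theoretic image of a quasi-compact morphism. -/
theorem isSchImage_flat_base_change_of_qc {X Y V Z VX ZX : AlgSp.Sp S}
    (hX : AlgSp.IsAlgSpace X) (hY : AlgSp.IsAlgSpace Y) (hV : AlgSp.IsAlgSpace V)
    (hZ : AlgSp.IsAlgSpace Z) (hVX : AlgSp.IsAlgSpace VX) (hZX : AlgSp.IsAlgSpace ZX)
    (f : X ⟶ Y) (hf : AlgSp.LocP @Flat f) (g : V ⟶ Y) (hg : AlgSp.IsQuasiCompactMor g)
    (i : Z ⟶ Y) (hZi : AlgSp.IsSchImage g i) (g₁ : VX ⟶ V) (gX : VX ⟶ X)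
    (sqV : IsPullback g₁ gX g f) (i₁ : ZX ⟶ Z) (iX : ZX ⟶ X) (sqZ : IsPullback i₁ iX i f) :
    AlgSp.IsSchImage gX iX := by
  apply isSchImage_of_kerAt_eq hVX hX hZX gX iX (MorphismProperty.of_isPullback sqZ hZi.1)
  intro E' hE'
  rw [kerAt_of_isPullback hZ hY hX hZX i f i₁ iX sqZ E'.obj.hom,
    kerAt_of_isPullback hV hY hX hVX g f g₁ gX sqV E'.obj.hom]
  apply kerAt_eq_of_flat_local hV hZ hY g hg i (isQuasiCompactMor_of_isClosedImmersion i hZi.1)
    (fun E hE => idealOfRep_eq_kerAt_of_isSchImage hV hY hZ g hg i hZi E hE)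
  intro β
  obtain ⟨E, hE, T', k, e, hk, ⟨t, ht⟩, hcomm⟩ :=
    IdealFac.exists_affine_chart_nbhd hY (E'.obj.hom ≫ f) β
  obtain ⟨_, ⟨W₀, hW₀, rfl⟩, htW, -⟩ :=
    T'.left.isBasis_affineOpens.exists_subset_of_mem_open (Set.mem_univ t) isOpen_univ
  have hke : AlgSp.RepWith @Etale ((AlgSp.yon S).map k ≫ E'.obj.hom) :=
    repWith_etale_yon_map_comp k hk E'.obj.hom E'.property
  have hcomm' : ((AlgSp.yon S).map k ≫ E'.obj.hom) ≫ f = (AlgSp.yon S).map e ≫ E.obj.hom := by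
    rw [Category.assoc]; exact hcomm
  have hef : Flat e.left := hf _ E.obj.hom e hke E.property hcomm'
  have hkf : Flat k.left := inferInstance
  refine ⟨opensOver T' W₀, opensOverι T' W₀ ≫ k, E, opensOverι T' W₀ ≫ e, hW₀, hE, ?_, ?_, ?_, ?_⟩
  · change Flat (Scheme.Opens.ι (X := T'.left) W₀ ≫ k.left)
    infer_instance
  · change Flat (Scheme.Opens.ι (X := T'.left) W₀ ≫ e.left)
    infer_instance
  · exact ⟨⟨t, htW⟩, ht⟩
  · rw [Functor.map_comp, Functor.map_comp, Category.assoc, Category.assoc, hcomm]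

end Groth.Agent.Lib.Helper51.KerAt
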