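import Groth.Agent.S9385
import Groth.Prelude.Def_CInt

set_option autoImplicit false
universe u
open CategoryTheory CategoryTheory.Limits AlgebraicGeometry Opposite

namespace Groth.Agent.Lib.Helper51.SchemeDense

/-- The kernel of a morphism from a reduced scheme is the vanishing ideal of the closure of
its image. -/
theorem ker_eq_vanishingIdeal_of_isReduced {A B : Scheme.{u}} (f : A ⟶ B) [IsReduced A] :
    f.ker = Scheme.IdealSheafData.vanishingIdeal ⟨closure (Set.range f), isClosed_closure⟩ := by
  apply le_antisymm
  · rw [← Scheme.IdealSheafData.le_support_iff_le_vanishingIdeal]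
    change closure (Set.range f) ⊆ (f.ker.support : Set B)
    exact f.ker.support.isClosed.closure_subset_iff.2 f.range_subset_ker_support
  · exact Groth.Agent.S9360.vanishingIdeal_le_ker f _ subset_closure

/-- An open immersion which is quasi-compact and scheme theoretically dominant has
schematically dense image, in the strong sense. -/
theorem isSchematicallyDense_of_qc {A B : Scheme.{u}} (j : A ⟶ B) [IsOpenImmersion j]
    [QuasiCompact j] (hk : j.ker = ⊥) : CInt.IsSchematicallyDense j.opensRange := by
  have hdom : IsSchemeTheoreticallyDominant j := ⟨hk⟩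
  intro V s t hst
  apply j.app_injective V
  have hnat := fun x => congrArg (fun φ => φ.hom x)
    (j.naturality (homOfLE (inf_le_left : V ⊓ j.opensRange ≤ V)).op)
  have h1 := hnat s
  have h2 := hnat t
  simp only [CommRingCat.comp_apply] at h1 h2
  have hst' : (j.app (V ⊓ j.opensRange)).hom ((B.presheaf.map (homOfLE inf_le_left).op).hom s) =
      (j.app (V ⊓ j.opensRange)).hom ((B.presheaf.map (homOfLE inf_le_left).op).hom t) := by
    exact congrArg _ hst
  rw [h1, h2] at hst'
  have heq : j ⁻¹ᵁ (V ⊓ j.opensRange) = j ⁻¹ᵁ V := by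
    ext x
    simp only [Scheme.Hom.coe_preimage, Set.mem_preimage, TopologicalSpace.Opens.coe_inf,
      Set.mem_inter_iff, SetLike.mem_coe, and_iff_left_iff_imp]
    intro _
    exact ⟨x, rfl⟩
  have hiso : IsIso ((TopologicalSpace.Opens.map j.base).map
      (homOfLE (inf_le_left : V ⊓ j.opensRange ≤ V))) :=
    ⟨⟨homOfLE (le_of_eq heq.symm), Subsingleton.elim _ _, Subsingleton.elim _ _⟩⟩
  have hiso2 : IsIso (A.presheaf.map ((TopologicalSpace.Opens.map j.base).map
      (homOfLE (inf_le_left : V ⊓ j.opensRange ≤ V))).op) := inferInstance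
  exact (ConcreteCategory.bijective_of_isIso (A.presheaf.map ((TopologicalSpace.Opens.map j.base).map
      (homOfLE (inf_le_left : V ⊓ j.opensRange ≤ V))).op)).1 hst'

end Groth.Agent.Lib.Helper51.SchemeDense

namespace Groth.Agent.Lib.Helper51.SchemeDense

/-- A dense open of a reduced scheme is schematically dense in the strong sense. -/
theorem isSchematicallyDense_of_isReduced {B : Scheme.{u}} [IsReduced B] (U : B.Opens)
    (hU : Dense (U : Set B)) : CInt.IsSchematicallyDense U := by
  intro V s t hst
  rw [← sub_eq_zero]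
  apply eq_zero_of_basicOpen_eq_bot
  have h0 : (B.presheaf.map (homOfLE (inf_le_left : V ⊓ U ≤ V)).op).hom (s - t) = 0 := by
    rw [map_sub, sub_eq_zero]; exact hst
  have h1 : B.basicOpen ((B.presheaf.map (homOfLE (inf_le_left : V ⊓ U ≤ V)).op).hom (s - t)) = ⊥ := by
    rw [h0]; exact Scheme.basicOpen_zero _ _
  rw [Scheme.basicOpen_res] at h1
  by_contra hne
  have hne' : (B.basicOpen (s - t) : Set B).Nonempty := by
    rw [Set.nonempty_iff_ne_empty]
    intro h
    apply hne
    ext x
    simp only [TopologicalSpace.Opens.coe_bot, Set.mem_empty_iff_false, iff_false]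
    intro hx
    have : x ∈ (B.basicOpen (s - t) : Set B) := hx
    rw [h] at this
    exact this
  obtain ⟨x, hx1, hx2⟩ := hU.inter_open_nonempty _ (B.basicOpen (s - t)).isOpen hne'
  have hxV : x ∈ V := B.basicOpen_le _ hx1
  have : x ∈ ((V ⊓ U) ⊓ B.basicOpen (s - t) : B.Opens) := ⟨⟨hxV, hx2⟩, hx1⟩
  rw [h1] at this
  exact this

end Groth.Agent.Lib.Helper51.SchemeDense

namespace Groth.Agent.Lib.Helper51.SchemeDense

/-- An immersion which is quasi-compact or has reduced source is a schematically dense open
immersion into any closed subscheme with the same kernel. -/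
theorem immersion_factor_properties {Z Zb X : Scheme.{u}} (h : Z ⟶ X) [IsImmersion h]
    (hyp : QuasiCompact h ∨ IsReduced Z) (c : Zb ⟶ X) [IsClosedImmersion c] (h' : Z ⟶ Zb)
    (fac : h' ≫ c = h) (hk : c.ker = h.ker) :
    ∃ hI : IsOpenImmersion h',
      CInt.IsSchematicallyDense (@Scheme.Hom.opensRange _ _ h' hI) ∧ DenseRange h' := by
  have hk' : h.imageι.ker = c.ker := by
    rw [Scheme.Hom.imageι, Scheme.IdealSheafData.ker_subschemeι, hk]
  have heiso : IsIso (IsClosedImmersion.lift h.imageι c hk'.le) :=
    IsClosedImmersion.isIso_lift h.imageι c hk'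
  have he : h' ≫ IsClosedImmersion.lift h.imageι c hk'.le = h.toImage := by
    rw [← cancel_mono h.imageι, Category.assoc, IsClosedImmersion.lift_fac, fac,
      Scheme.Hom.toImage_imageι]
  have hh' : h' = h.toImage ≫ inv (IsClosedImmersion.lift h.imageι c hk'.le) := by
    rw [← he, Category.assoc, IsIso.hom_inv_id, Category.comp_id]
  obtain ⟨hI0, -, hdr0⟩ := Groth.Agent.S9385.result h hyp
  have hI : IsOpenImmersion h' := by rw [hh']; infer_instance
  have hdr : DenseRange h' := by
    rw [hh']
    have hsurj : Function.Surjective (inv (IsClosedImmersion.lift h.imageι c hk'.le)) :=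
      (inv (IsClosedImmersion.lift h.imageι c hk'.le)).homeomorph.surjective
    exact hsurj.denseRange.comp hdr0
      (inv (IsClosedImmersion.lift h.imageι c hk'.le)).continuous
  refine ⟨hI, ?_, hdr⟩
  rcases hyp with hq | hred
  · have hq' : QuasiCompact h' := by rw [hh']; infer_instance
    have hdom := Groth.Agent.S4667.isSchemeTheoreticallyDominant_toImage h
    have hker : h'.ker = ⊥ := by
      rw [hh', Scheme.Hom.ker_comp, h.toImage.ker_eq_bot, Scheme.IdealSheafData.map_bot]
      exact Scheme.Hom.ker_eq_bot_of_isIso _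
    exact isSchematicallyDense_of_qc h' hker
  · have h1 : IsReduced h.image := Groth.Agent.S4372.isReduced_image h
    have h2 : IsReduced Zb := isReduced_of_isOpenImmersion (IsClosedImmersion.lift h.imageι c hk'.le)
    apply isSchematicallyDense_of_isReduced
    have : ((@Scheme.Hom.opensRange _ _ h' hI : Zb.Opens) : Set Zb) = Set.range h' := rfl
    rw [this]
    exact hdr

end Groth.Agent.Lib.Helper51.SchemeDense
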