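import Groth.Agent.Lib.Helper51.AlgSpSchImQc
import Groth.Agent.Lib.Helper51.SchemeDense
import Groth.Agent.Lib.Helper78.AlgSpReduced

set_option autoImplicit false
set_option linter.unusedSectionVars false
universe u
open CategoryTheory CategoryTheory.Limits AlgebraicGeometry Opposite

set_option backward.isDefEq.respectTransparency false

namespace Groth.Agent.Lib.Helper51.ClosedSub

open AlgSp Groth.Agent.Lib.Helper52 Groth.Agent.Lib.Helper51 Groth.Agent.Lib.Helper51.RedInd
open Groth.Agent.Lib.Helper51.SchemeDense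

variable {S : Scheme.{u}}

theorem range_chart_eq_preimage {Z X : AlgSp.Sp S} (h : Z ⟶ X) {U ZU : Over S}
    (a : (AlgSp.yon S).obj U ⟶ X) (hU : ZU ⟶ U) (g : (AlgSp.yon S).obj ZU ⟶ Z)
    (sqh : IsPullback g ((AlgSp.yon S).map hU) h a) :
    Set.range hU.left = Points.ofPt a ⁻¹' Set.range (Points.map h) := by
  ext u
  exact (ofPt_mem_range_map_iff sqh u).symm

/-- For a morphism from a reduced space, the scheme theoretic image is computed on charts. -/
theorem ker_chart_eq_of_isSchImage_reduced {Z X Zbar : AlgSp.Sp S} (hX : AlgSp.IsAlgSpace X)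
    (h : Z ⟶ X) (hZr : AlgSp.IsReducedSp Z) (c : Zbar ⟶ X) (hc : AlgSp.IsSchImage h c)
    {U ZU ZbU : Over S} (a : (AlgSp.yon S).obj U ⟶ X) (ha : AlgSp.RepWith @Etale a)
    (hU : ZU ⟶ U) (g : (AlgSp.yon S).obj ZU ⟶ Z)
    (sqh : IsPullback g ((AlgSp.yon S).map hU) h a) (cU : ZbU ⟶ U)
    (zb : (AlgSp.yon S).obj ZbU ⟶ Zbar) (sqc : IsPullback zb ((AlgSp.yon S).map cU) c a) :
    cU.left.ker = hU.left.ker := by
  obtain ⟨-, hrange, hZbr⟩ := isRedInduced_of_isSchImage hX h c hZr hc
  have hZUr : IsReduced ZU.left :=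
    Groth.Agent.Lib.Helper78.AlgSpReduced.isReduced_of_chart hZr g
      (MorphismProperty.of_isPullback sqh.flip ha)
  have hZbUr : IsReduced ZbU.left :=
    Groth.Agent.Lib.Helper78.AlgSpReduced.isReduced_of_chart hZbr zb
      (MorphismProperty.of_isPullback sqc.flip ha)
  rw [ker_eq_vanishingIdeal_of_isReduced hU.left, ker_eq_vanishingIdeal_of_isReduced cU.left]
  congr 1
  apply TopologicalSpace.Closeds.ext
  change closure (Set.range cU.left) = closure (Set.range hU.left)
  rw [range_chart_eq_preimage c a cU zb sqc, range_chart_eq_preimage h a hU g sqh, hrange,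
    (isOpenMap_ofPt_of_etale a ha).preimage_closure_eq_closure_preimage (Points.continuous_ofPt a),
    closure_closure]

end Groth.Agent.Lib.Helper51.ClosedSub

namespace Groth.Agent.Lib.Helper51.ClosedSub

open AlgSp Groth.Agent.Lib.Helper52 Groth.Agent.Lib.Helper51 Groth.Agent.Lib.Helper51.RedInd
open Groth.Agent.Lib.Helper51.SchemeDense

variable {S : Scheme.{u}}

/-- Presenting an open immersion of schemes over `S` through its open range. -/
theorem isPullback_opensRange {Z Zbar : AlgSp.Sp S} (h' : Z ⟶ Zbar) {ZU ZbU : Over S}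
    (zb : (AlgSp.yon S).obj ZbU ⟶ Zbar) (g : (AlgSp.yon S).obj ZU ⟶ Z) (h'U : ZU ⟶ ZbU)
    (hI : IsOpenImmersion h'U.left) (sq : IsPullback g ((AlgSp.yon S).map h'U) h' zb) :
    ∃ fst : (AlgSp.yon S).obj (Over.mk ((@Scheme.Hom.opensRange _ _ h'U.left hI).ι ≫ ZbU.hom)) ⟶ Z,
      IsPullback fst ((AlgSp.yon S).map (Over.homMk (@Scheme.Hom.opensRange _ _ h'U.left hI).ι rfl :
        Over.mk ((@Scheme.Hom.opensRange _ _ h'U.left hI).ι ≫ ZbU.hom) ⟶ ZbU)) h' zb := by
  let W := @Scheme.Hom.opensRange _ _ h'U.left hI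
  let eO : ZU ≅ Over.mk (W.ι ≫ ZbU.hom) := Over.isoMk h'U.left.isoOpensRange (by
    change h'U.left.isoOpensRange.hom ≫ W.ι ≫ ZbU.hom = ZU.hom
    rw [← Category.assoc, Scheme.Hom.isoOpensRange_hom_ι]
    exact Over.w h'U)
  have heO : eO.hom ≫ (Over.homMk W.ι rfl : Over.mk (W.ι ≫ ZbU.hom) ⟶ ZbU) = h'U :=
    Over.OverMorphism.ext (Scheme.Hom.isoOpensRange_hom_ι h'U.left)
  refine ⟨(AlgSp.yon S).map eO.inv ≫ g, ?_⟩
  refine IsPullback.of_iso sq ((AlgSp.yon S).mapIso eO) (Iso.refl _) (Iso.refl _) (Iso.refl _)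
    ?_ ?_ (by simp) (by simp)
  · simp only [Iso.refl_hom, Category.comp_id, Functor.mapIso_hom]
    rw [← Category.assoc, ← Functor.map_comp, Iso.hom_inv_id, CategoryTheory.Functor.map_id,
      Category.id_comp]
  · simp only [Iso.refl_hom, Category.comp_id, Functor.mapIso_hom]
    rw [← Functor.map_comp, heO]

end Groth.Agent.Lib.Helper51.ClosedSub

namespace Groth.Agent.Lib.Helper51.ClosedSub

open AlgSp Groth.Agent.Lib.Helper52 Groth.Agent.Lib.Helper51 Groth.Agent.Lib.Helper51.RedInd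
open Groth.Agent.Lib.Helper51.SchemeDense

variable {S : Scheme.{u}}

/-- A quasi-compact (or reduced-source) immersion is a scheme theoretically dense, topologically
dense open immersion into its scheme theoretic image. -/
theorem immersion_into_schImage {Z X Zbar : AlgSp.Sp S} (hX : AlgSp.IsAlgSpace X) (h : Z ⟶ X)
    (hh : AlgSp.RepWith @IsImmersion h)
    (hq : AlgSp.IsQuasiCompactMor h ∨ AlgSp.IsReducedSp Z) (c : Zbar ⟶ X)
    (hc : AlgSp.IsSchImage h c) (h' : Z ⟶ Zbar) (fac : h' ≫ c = h) :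
    AlgSp.RepWith @IsOpenImmersion h' ∧ AlgSp.IsSchDense h' ∧
      Dense (Set.range (Points.map h')) := by
  obtain ⟨U, a, ha, has⟩ := hX.atlas
  let ZU : Over S := hh.rep.pullback a
  let g : (AlgSp.yon S).obj ZU ⟶ Z := hh.rep.fst a
  let hU : ZU ⟶ U := hh.rep.snd a
  have sqh : IsPullback g ((AlgSp.yon S).map hU) h a := hh.rep.isPullback a
  have hci := hc.1
  let ZbU : Over S := hci.rep.pullback a
  let zb : (AlgSp.yon S).obj ZbU ⟶ Zbar := hci.rep.fst a
  let cU : ZbU ⟶ U := hci.rep.snd a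
  have sqc : IsPullback zb ((AlgSp.yon S).map cU) c a := hci.rep.isPullback a
  have hcU : IsClosedImmersion cU.left := hci.property a zb cU sqc
  have hhU : IsImmersion hU.left := hh.property a g hU sqh
  have hge : AlgSp.RepWith @Etale g := MorphismProperty.of_isPullback sqh.flip ha
  have hzbe : AlgSp.RepWith @Etale zb := MorphismProperty.of_isPullback sqc.flip ha
  have hzbs : AlgSp.RepWith @Surjective zb := MorphismProperty.of_isPullback sqc.flip has
  have hyp : QuasiCompact hU.left ∨ IsReduced ZU.left := by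
    rcases hq with hq | hr
    · exact Or.inl (Groth.Agent.Lib.Helper30.quasiCompact_of_isQuasiCompactMor hq a g hU sqh)
    · exact Or.inr (Groth.Agent.Lib.Helper78.AlgSpReduced.isReduced_of_chart hr g hge)
  have hker : cU.left.ker = hU.left.ker := by
    rcases hq with hq | hr
    · exact ker_chart_eq_of_isSchImage_qc hX h c hc a ha has hU
        (Groth.Agent.Lib.Helper30.quasiCompact_of_isQuasiCompactMor hq a g hU sqh) g sqh cU zb sqc
    · exact ker_chart_eq_of_isSchImage_reduced hX h hr c hc a ha hU g sqh cU zb sqc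
  obtain ⟨h'U, hh'U, hh'U2⟩ := ker_chart_le_of_factor h c h' fac a hU g sqh cU zb sqc
  obtain ⟨hI, hsd, hdr⟩ := immersion_factor_properties hU.left hyp cU.left h'U.left
    (congrArg CommaMorphism.left hh'U) hker
  have sqh' : IsPullback g ((AlgSp.yon S).map h'U) h' zb := by
    have big : IsPullback ((AlgSp.yon S).map h'U ≫ (AlgSp.yon S).map cU) g a (h' ≫ c) := by
      rw [fac, ← Functor.map_comp, hh'U]
      exact sqh.flip
    exact (IsPullback.of_right big hh'U2 sqc.flip).flip
  have hopen : AlgSp.RepWith @IsOpenImmersion h' :=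
    Groth.Agent.Lib.Helper30.AffDesc.repWith_isOpenImmersion_of_etale_cover h' ZbU zb hzbe hzbs g
      ((AlgSp.yon S).map h'U) sqh' ((AlgSp.repWith_yon_map_iff @IsOpenImmersion h'U).2 hI)
  refine ⟨hopen, ?_, ?_⟩
  · obtain ⟨fst, sqW⟩ := isPullback_opensRange h' zb g h'U hI sqh'
    exact ⟨hopen, ZbU, zb, @Scheme.Hom.opensRange _ _ h'U.left hI, fst, hzbe, hzbs, sqW, hsd⟩
  · have hsurj := surjective_ofPt_of_repWith_surjective zb hzbs
    have hd : Dense (Points.ofPt zb '' Set.range h'U.left) :=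
      hsurj.denseRange.dense_image (Points.continuous_ofPt zb) hdr
    refine hd.mono ?_
    rintro _ ⟨_, ⟨w, rfl⟩, rfl⟩
    refine ⟨Points.ofPt g w, ?_⟩
    rw [Points.map_ofPt, ← hh'U2, ofPt_yon_map_comp]

end Groth.Agent.Lib.Helper51.ClosedSub
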