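import Groth.Agent.Lib.Helper51.AlgSpSchImRed
import Groth.Agent.Lib.Helper51.AlgSpEtaleMor
import Groth.Agent.Lib.Helper51.AlgSpCharts
import Groth.Agent.Lib.Helper78.AlgSpReduced

set_option autoImplicit false
set_option linter.unusedSectionVars false
universe u
open CategoryTheory CategoryTheory.Limits AlgebraicGeometry Opposite

set_option backward.isDefEq.respectTransparency false

namespace Groth.Agent.Lib.Helper51.ClosedSub

open AlgSp Groth.Agent.Lib.Helper52 Groth.Agent.Lib.Helper51 Groth.Agent.Lib.Helper51.RedInd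

variable {S : Scheme.{u}}

/-- the source of an etale morphism to a reduced space is reduced. -/
theorem isReducedSp_of_isEtaleMor {A B : AlgSp.Sp S} (hA : AlgSp.IsAlgSpace A) (p : A ⟶ B)
    (hp : AlgSp.IsEtaleMor p) (hB : AlgSp.IsReducedSp B) : AlgSp.IsReducedSp A := by
  obtain ⟨W, a', ha', ha's⟩ := hA.atlas
  exact ⟨W, a', ha', ha's,
    Groth.Agent.Lib.Helper78.AlgSpReduced.isReduced_of_chart hB (a' ≫ p) (hp a' ha')⟩

/-- the image of the base change of a morphism is the preimage of the image. -/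
theorem range_map_snd_of_isPullback {P A B D : AlgSp.Sp S} {p1 : P ⟶ A} {p2 : P ⟶ B}
    {f : A ⟶ D} {b : B ⟶ D} (sq : IsPullback p1 p2 f b) :
    Set.range (Points.map p2) = Points.map b ⁻¹' Set.range (Points.map f) := by
  ext v
  constructor
  · rintro ⟨w, rfl⟩
    exact ⟨Points.map p1 w, by rw [← Points.map_comp, ← Points.map_comp, sq.w]⟩
  · rintro ⟨x, hx⟩
    obtain ⟨w, -, hw⟩ := exists_point_of_isPullback sq x v hx
    exact ⟨w, hw⟩

/-- two reduced closed subspaces with the same points are exchanged by the universal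
properties. -/
theorem isSchImage_of_isSchImage_of_reduced_same_range {A V Z1 Z2 : AlgSp.Sp S}
    (fV : A ⟶ V) (i1 : Z1 ⟶ V) (i2 : Z2 ⟶ V) (h2 : AlgSp.IsSchImage fV i2)
    (hi1 : AlgSp.RepWith @IsClosedImmersion i1) (hZ1 : AlgSp.IsReducedSp Z1)
    (hZ2 : AlgSp.IsReducedSp Z2)
    (hr : Set.range (Points.map i1) = Set.range (Points.map i2)) : AlgSp.IsSchImage fV i1 := by
  obtain ⟨hi2, ⟨f2, hf2⟩, hmin⟩ := h2
  obtain ⟨m, hm⟩ := exists_factor_of_isReducedSp i2 hi2 hZ1 i1 hr.le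
  obtain ⟨m', hm'⟩ := exists_factor_of_isReducedSp i1 hi1 hZ2 i2 hr.ge
  refine ⟨hi1, ⟨f2 ≫ m', by rw [Category.assoc, hm', hf2]⟩, ?_⟩
  intro Z'' i'' hZ'' hi'' hfac
  obtain ⟨k', hk'⟩ := hmin i'' hZ'' hi'' hfac
  exact ⟨m ≫ k', by rw [Category.assoc, hk', hm]⟩

theorem isSchImage_etale_base_change_of_reduced {X Y Z V XV ZV : AlgSp.Sp S}
    (hX : AlgSp.IsAlgSpace X) (hY : AlgSp.IsAlgSpace Y) (hZ : AlgSp.IsAlgSpace Z)
    (hV : AlgSp.IsAlgSpace V) (hXV : AlgSp.IsAlgSpace XV) (hZV : AlgSp.IsAlgSpace ZV)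
    (f : X ⟶ Y) (i : Z ⟶ Y) (hXr : AlgSp.IsReducedSp X) (hZi : AlgSp.IsSchImage f i)
    (b : V ⟶ Y) (hb : AlgSp.IsEtaleMor b) (f₁ : XV ⟶ X) (fV : XV ⟶ V) (i₁ : ZV ⟶ Z)
    (iV : ZV ⟶ V) (sqX : IsPullback f₁ fV f b) (sqZ : IsPullback i₁ iV i b) :
    AlgSp.IsSchImage fV iV := by
  obtain ⟨hi, hrange, hZr⟩ := isRedInduced_of_isSchImage hY f i hXr hZi
  have hf₁ : AlgSp.IsEtaleMor f₁ := isEtaleMor_of_isPullback hV hY hX sqX hb
  have hi₁ : AlgSp.IsEtaleMor i₁ := isEtaleMor_of_isPullback hV hY hZ sqZ hb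
  have hXVr : AlgSp.IsReducedSp XV := isReducedSp_of_isEtaleMor hXV f₁ hf₁ hXr
  have hZVr : AlgSp.IsReducedSp ZV := isReducedSp_of_isEtaleMor hZV i₁ hi₁ hZr
  have hiV : AlgSp.RepWith @IsClosedImmersion iV := MorphismProperty.of_isPullback sqZ hi
  obtain ⟨Z', hZ', i', hZ'i⟩ := exists_isSchImage hXV hV fV
  obtain ⟨hi', hrange', hZ'r⟩ := isRedInduced_of_isSchImage hV fV i' hXVr hZ'i
  obtain ⟨UV, aV, haV, haVs⟩ := hV.atlas
  have hopen : IsOpenMap (Points.map b) := isOpenMap_map_of_isEtaleMor b hb aV haV haVs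
  refine isSchImage_of_isSchImage_of_reduced_same_range fV iV i' hZ'i hiV hZVr hZ'r ?_
  rw [hrange', range_map_snd_of_isPullback sqZ, range_map_snd_of_isPullback sqX, hrange,
    hopen.preimage_closure_eq_closure_preimage (Points.continuous_map b)]

end Groth.Agent.Lib.Helper51.ClosedSub
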