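import Groth.Agent.Lib.Helper51.AlgSpSchImFlat
import Groth.Agent.Lib.Helper51.AlgSpVR
import Groth.Agent.Lib.Helper30.AlgSpQC

set_option autoImplicit false
set_option linter.unusedSectionVars false
universe u
open CategoryTheory CategoryTheory.Limits AlgebraicGeometry Opposite

set_option backward.isDefEq.respectTransparency false

namespace Groth.Agent.Lib.Helper51.KerAt

open AlgSp Groth.Agent.Lib.Helper52 Groth.Agent.Lib.Helper51

variable {S : Scheme.{u}}

/-- the scheme theoretic image of a section over a quasi-compact open of a separated morphism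
maps isomorphically to the open. -/
theorem isIso_schImage_section_over_open {X Y V Y' P : AlgSp.Sp S} (hX : AlgSp.IsAlgSpace X)
    (hY : AlgSp.IsAlgSpace Y) (hV : AlgSp.IsAlgSpace V) (hY' : AlgSp.IsAlgSpace Y')
    (f : X ⟶ Y) (j : V ⟶ Y) (hj : AlgSp.RepWith @IsOpenImmersion j)
    (hjq : AlgSp.IsQuasiCompactMor j) (hf : AlgSp.IsSeparatedMor f) (s : V ⟶ X) (hs : s ≫ f = j)
    (c : Y' ⟶ X) (hc : AlgSp.IsSchImage s c) (fst : P ⟶ Y') (snd : P ⟶ V)
    (sq : IsPullback fst snd (c ≫ f) j) : IsIso snd := by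
  subst hs
  set p₁ := pullback.fst (s ≫ f) f with hp₁
  set b := pullback.snd (s ≫ f) f with hb_def
  have sqb : IsPullback p₁ b (s ≫ f) f := IsPullback.of_hasPullback _ _
  have hb : AlgSp.RepWith @IsOpenImmersion b := MorphismProperty.of_isPullback sqb hj
  have hbq : AlgSp.IsQuasiCompactMor b :=
    Groth.Agent.Lib.Helper30.isQuasiCompactMor_snd_of_isPullback sqb hjq
  have hXV : AlgSp.IsAlgSpace (pullback (s ≫ f) f) :=
    Groth.Agent.Lib.Helper30.isAlgSpace_of_isPullback hY.diag hV hX sqb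
  have hw : 𝟙 V ≫ s ≫ f = s ≫ f := Category.id_comp _
  set sV : V ⟶ pullback (s ≫ f) f := pullback.lift (𝟙 V) s hw with hsV_def
  have hsV₁ : sV ≫ p₁ = 𝟙 V := pullback.lift_fst _ _ _
  have hsV₂ : sV ≫ b = s := pullback.lift_snd _ _ _
  have hsV : AlgSp.RepWith @IsClosedImmersion sV :=
    MorphismProperty.of_isPullback (pullback_lift_diagonal_isPullback s f) hf
  have hsq : AlgSp.IsQuasiCompactMor s := by
    rw [← hsV₂]
    exact Groth.Agent.Lib.Helper30.isQuasiCompactMor_comp hXV hX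
      (isQuasiCompactMor_of_isClosedImmersion sV hsV) hbq
  haveI : Mono b :=
    mono_of_repWith (P := @IsOpenImmersion) (fun g (_ : IsOpenImmersion g) => inferInstance) hb
  have sqX : IsPullback (𝟙 V) sV s b :=
    IsPullback.of_horiz_isIso_mono ⟨by rw [Category.id_comp, hsV₂]⟩
  set i₁ := pullback.fst c b with hi₁
  set iV := pullback.snd c b with hiV
  have sqZ : IsPullback i₁ iV c b := IsPullback.of_hasPullback c b
  have hP' : AlgSp.IsAlgSpace (pullback c b) :=
    Groth.Agent.Lib.Helper30.isAlgSpace_of_isPullback hX.diag hY' hXV sqZ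
  have hbe : AlgSp.IsEtaleMor b := fun U φ hφ =>
    (AlgSp.RepWith @Etale).comp_mem φ b hφ (repWith_etale_of_isOpenImmersion b hb)
  have H1 : AlgSp.IsSchImage sV iV :=
    isSchImage_etale_base_change_of_qc hV hX hY' hXV hV hP' s c hsq hc b hbe (𝟙 V) sV i₁ iV
      sqX sqZ
  obtain ⟨k', hk'⟩ := H1.2.2 sV hV hsV ⟨𝟙 V, Category.id_comp _⟩
  obtain ⟨t, ht⟩ := H1.2.1
  have hk'₁ : iV ≫ p₁ = k' := by
    rw [← hk', Category.assoc, hsV₁, Category.comp_id]
  haveI : Mono iV := ClosedSub.mono_of_repWith_isClosedImmersion iV H1.1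
  have htk : t ≫ k' = 𝟙 V := by
    rw [← hk'₁, ← Category.assoc, ht, hsV₁]
  have hkt : k' ≫ t = 𝟙 _ := by
    rw [← cancel_mono iV, Category.assoc, ht, hk', Category.id_comp]
  haveI : IsIso k' := ⟨t, hkt, htk⟩
  have sqBig : IsPullback i₁ (iV ≫ p₁) (c ≫ f) (s ≫ f) := sqZ.paste_vert sqb.flip
  have hsnd : snd = (sq.isoIsPullback _ _ sqBig).hom ≫ k' := by
    rw [← hk'₁]
    exact (sq.isoIsPullback_hom_snd _ _ sqBig).symm
  rw [hsnd]
  infer_instance

end Groth.Agent.Lib.Helper51.KerAt
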