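import Groth.Agent.Lib.Helper51.AlgSpClosedPt
import Groth.Agent.Lib.Helper51.AlgSpMonoPt
import Groth.Agent.Lib.Helper51.AlgSpGrpSep
import Groth.Agent.Lib.Helper78.AlgSpLocPLqf

/-!
# A quasi-compact section of an algebraic space over a field is a closed immersion (helper51)
-/

set_option autoImplicit false
set_option linter.unusedSectionVars false
universe u
open CategoryTheory CategoryTheory.Limits AlgebraicGeometry Opposite

set_option backward.isDefEq.respectTransparency false

namespace Groth.Agent.Lib.Helper51.SectionClosed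

open AlgSp Groth.Agent.Lib.Helper30 Groth.Agent.Lib.Helper52 Groth.Agent.Lib.Helper51

variable {S : Scheme.{u}}

theorem isClosedImmersion_of_affine {F V T : Scheme.{u}} [IsLocallyArtinian T] [IsAffine T]
    [IsAffine V] (f : F ⟶ V) (h : V ⟶ T) [Mono f] [QuasiCompact f] [Etale (f ≫ h)] :
    IsClosedImmersion f := by
  haveI : LocallyQuasiFinite (f ≫ h) := Groth.Agent.Lib.Helper78.AlgSpLocPLqf.lqf_of_etale _
  haveI : QuasiCompact (f ≫ h) := inferInstance
  haveI : IsFinite (f ≫ h) := IsFinite.of_locallyQuasiFinite (f ≫ h)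
  haveI : IsProper (f ≫ h) := inferInstance
  haveI : IsProper f := IsProper.of_comp f h
  exact (IsClosedImmersion.iff_isProper_and_mono f).2 ⟨inferInstance, inferInstance⟩

/-- a quasi-compact monomorphism into a scheme over an artinian affine base whose source is etale over the base
is a closed immersion. -/
theorem isClosedImmersion_of_etale_comp {F V T : Scheme.{u}} [IsLocallyArtinian T] [IsAffine T]
    (f : F ⟶ V) (h : V ⟶ T) [Mono f] [QuasiCompact f] [Etale (f ≫ h)] :
    IsClosedImmersion f := by
  rw [IsZariskiLocalAtTarget.iff_of_openCover (P := @IsClosedImmersion) V.affineCover]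
  intro i
  dsimp only [Scheme.Cover.pullbackHom]
  haveI : Etale (pullback.snd f (V.affineCover.f i) ≫ (V.affineCover.f i ≫ h)) := by
    rw [← Category.assoc, ← pullback.condition, Category.assoc]
    infer_instance
  exact isClosedImmersion_of_affine (pullback.snd f (V.affineCover.f i)) (V.affineCover.f i ≫ h)

/-- a quasi-compact section of `π : X ⟶ h_T`, with `T` affine artinian, is a closed immersion. -/
theorem repWith_isClosedImmersion_of_section {X : AlgSp.Sp S} (hX : AlgSp.IsAlgSpace X) (T : Over S)
    [IsAffine T.left] [IsLocallyArtinian T.left] (π : X ⟶ (AlgSp.yon S).obj T)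
    (e : (AlgSp.yon S).obj T ⟶ X) (he : e ≫ π = 𝟙 _) (hq : AlgSp.RepWith @QuasiCompact e) :
    AlgSp.RepWith @IsClosedImmersion e := by
  obtain ⟨U', φ', hφ'e, hφ's⟩ := hX.atlas
  have hrep := hX.representable_from_yon e
  obtain ⟨V, a, v, sq⟩ := exists_isPullback_of_representable hrep φ'
  refine repWith_of_etale_cover @IsClosedImmersion sq hrep hφ'e hφ's ?_
  rw [AlgSp.repWith_yon_map_iff]
  haveI : Mono e := mono_of_mono_fac he
  have hmv : Mono ((AlgSp.yon S).map v) := sq.mono_snd_of_mono
  have hmv' : Mono v := (AlgSp.yon S).mono_of_mono_map hmv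
  have hml : Mono v.left := inferInstance
  have ha : Etale a.left := hφ'e.2 e _ a sq.flip
  have hvq : QuasiCompact v.left := hq.2 φ' _ v sq
  obtain ⟨h, hh⟩ : ∃ h : U' ⟶ T, (AlgSp.yon S).map h = φ' ≫ π :=
    ⟨(AlgSp.yon S).preimage _, (AlgSp.yon S).map_preimage _⟩
  have hvh : v ≫ h = a := by
    apply (AlgSp.yon S).map_injective
    rw [Functor.map_comp, hh, ← Category.assoc, ← sq.w, Category.assoc, he, Category.comp_id]
  haveI : Etale (v.left ≫ h.left) := by
    rw [← Over.comp_left, hvh]; exact ha
  exact isClosedImmersion_of_etale_comp v.left h.left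

end Groth.Agent.Lib.Helper51.SectionClosed
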