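import Groth.Agent.Lib.Helper51.AlgSpSep

/-!
Quasi-separatedness of algebraic spaces via affine charts (helper51).
-/

set_option autoImplicit false
set_option linter.unusedSectionVars false
universe u
open CategoryTheory CategoryTheory.Limits AlgebraicGeometry Opposite

set_option backward.isDefEq.respectTransparency false

namespace Groth.Agent.Lib.Helper51

open AlgSp Groth.Agent.Lib.Helper52

variable {S : Scheme.{u}} {F G : AlgSp.Sp S}

/-- Quasi-compactness of a representable morphism can be tested on affine schemes mapping to the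
target. -/
theorem repWith_quasiCompact_of_affine {f : F ⟶ G} (hf : AlgSp.Representable f)
    (H : ∀ (T W : Over S) (g : (AlgSp.yon S).obj T ⟶ G) (fst : (AlgSp.yon S).obj W ⟶ F)
      (snd : W ⟶ T), IsAffine T.left → IsPullback fst ((AlgSp.yon S).map snd) f g →
        CompactSpace ↥W.left) : AlgSp.RepWith @QuasiCompact f := by
  apply MorphismProperty.relative_of_snd hf
  intro T g
  change QuasiCompact (hf.snd g).left
  apply HasAffineProperty.of_openCover (P := @QuasiCompact) T.left.affineCover
  intro i
  let Ti : Over S := Over.mk (T.left.affineCover.f i ≫ T.hom)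
  let q : Ti ⟶ T := Over.homMk (T.left.affineCover.f i) rfl
  obtain ⟨W', snd', fst', sq'⟩ := hf ((AlgSp.yon S).map q ≫ g)
  have hc : CompactSpace ↥W'.left := H Ti W' _ fst' snd'
    (inferInstanceAs (IsAffine (T.left.affineCover.X i))) sq'
  obtain ⟨l, _, hl⟩ := exists_isPullback_left_of_isPullback (hf.isPullback g) sq'
  change CompactSpace ↥(pullback (hf.snd g).left (T.left.affineCover.f i))
  exact (Scheme.homeoOfIso hl.isoPullback).compactSpace

end Groth.Agent.Lib.Helper51

namespace Groth.Agent.Lib.Helper51

open AlgSp Groth.Agent.Lib.Helper52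

variable {S : Scheme.{u}} {F G : AlgSp.Sp S}

instance quasiCompact_diag_left (T : Over S) [QuasiSeparatedSpace ↥T.left] :
    QuasiCompact (Limits.diag T).left := by
  have h1 : (Limits.diag T).left ≫ (prod.fst : T ⨯ T ⟶ T).left = 𝟙 _ := by
    rw [← Over.comp_left, Limits.diag, prod.lift_fst]; rfl
  have : QuasiCompact ((Limits.diag T).left ≫ (prod.fst : T ⨯ T ⟶ T).left) := by
    rw [h1]; infer_instance
  exact QuasiCompact.of_comp _ (prod.fst : T ⨯ T ⟶ T).left

theorem yon_map_diag_chart2 {T : Over S} (g : (AlgSp.yon S).obj T ⟶ F ⨯ F) :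
    (AlgSp.yon S).map (Limits.diag T) ≫ chart2 (g ≫ prod.fst) (g ≫ prod.snd) = g := by
  unfold chart2
  rw [Limits.diag, ← Category.assoc, yon_map_lift_prodCmp]
  ext <;> simp

/-- The pullback of the diagonal along `g : h_T ⟶ F × F` maps to the fibre product of the two
components of `g`, as a base change of the diagonal of `T`. -/
theorem exists_isPullback_diag_left {T W P : Over S} (g : (AlgSp.yon S).obj T ⟶ F ⨯ F)
    {fst : (AlgSp.yon S).obj W ⟶ F} {snd : W ⟶ T}
    (sq : IsPullback fst ((AlgSp.yon S).map snd) (Limits.diag F) g) {p1 p2 : P ⟶ T}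
    (sqP : IsPullback ((AlgSp.yon S).map p1) ((AlgSp.yon S).map p2) (g ≫ prod.fst)
      (g ≫ prod.snd)) :
    ∃ l : W ⟶ P, IsPullback l.left snd.left (prod.lift p1 p2).left (Limits.diag T).left := by
  have h1 := isPullback_diag_chart2 sqP
  have sq' := sq
  rw [← yon_map_diag_chart2 g] at sq'
  obtain ⟨l, _, hl⟩ := exists_isPullback_left_of_isPullback h1 sq'
  exact ⟨l, hl⟩

/-- An algebraic space is quasi-separated if fibre products of affine charts are compact. -/
theorem isQuasiSeparatedSp_of_affine (hF : AlgSp.Representable (Limits.diag F))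
    (h : ∀ (U V P : Over S) (a : (AlgSp.yon S).obj U ⟶ F) (b : (AlgSp.yon S).obj V ⟶ F)
      (fst : P ⟶ U) (snd : P ⟶ V), IsAffine U.left → IsAffine V.left →
      IsPullback ((AlgSp.yon S).map fst) ((AlgSp.yon S).map snd) a b → CompactSpace ↥P.left) :
    AlgSp.IsQuasiSeparatedSp F := by
  apply repWith_quasiCompact_of_affine hF
  intro T W g fst snd hT sq
  obtain ⟨P, p2, p1', sqP⟩ := (Functor.relativelyRepresentable.of_diag hF (g ≫ prod.fst))
    (g ≫ prod.snd)
  obtain ⟨p1, rfl⟩ := (AlgSp.yon S).map_surjective p1'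
  have hc : CompactSpace ↥P.left := h T T P _ _ p1 p2 hT hT sqP
  obtain ⟨l, hl⟩ := exists_isPullback_diag_left g sq sqP
  have : QuasiCompact l.left :=
    MorphismProperty.of_isPullback hl.flip (inferInstance : QuasiCompact (Limits.diag T).left)
  exact QuasiCompact.compactSpace_of_compactSpace l.left

end Groth.Agent.Lib.Helper51
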