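import Groth.Agent.Lib.Helper51.AlgSpSep2
import Groth.Agent.Lib.Helper51.TensorGen
import Mathlib.AlgebraicGeometry.Morphisms.Separated
import Mathlib.AlgebraicGeometry.Morphisms.Affine

/-!
Separated algebraic spaces and fibre products of affine charts (helper51).
-/

set_option autoImplicit false
set_option linter.unusedSectionVars false
universe u
open CategoryTheory CategoryTheory.Limits AlgebraicGeometry Opposite

set_option backward.isDefEq.respectTransparency false

namespace Groth.Agent.Lib.Helper51

/-- If `P` embeds as a closed subscheme in a fibre product of affine schemes over an affine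
scheme, then `P` is affine and its global sections are generated by those of the factors. -/
theorem isAffine_and_range_sup_eq_top_of_isClosedImmersion_lift {P X Y Z : Scheme.{u}}
    [IsAffine X] [IsAffine Y] [IsAffine Z] (f : X ⟶ Z) (g : Y ⟶ Z) (a : P ⟶ X) (b : P ⟶ Y)
    (w : a ≫ f = b ≫ g) [IsClosedImmersion (pullback.lift a b w)] :
    IsAffine P ∧ a.appTop.hom.range ⊔ b.appTop.hom.range = ⊤ := by
  obtain ⟨hP, hc⟩ := IsClosedImmersion.isAffine_surjective_of_isAffine (pullback.lift a b w)
  refine ⟨hP, ?_⟩
  have h := range_sup_range_eq_top_of_isPushout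
    (isPushout_appTop_of_isPullback (IsPullback.of_hasPullback f g))
  have ha : a.appTop = (pullback.fst f g).appTop ≫ (pullback.lift a b w).appTop := by
    rw [← Scheme.Hom.comp_appTop, pullback.lift_fst]
  have hb : b.appTop = (pullback.snd f g).appTop ≫ (pullback.lift a b w).appTop := by
    rw [← Scheme.Hom.comp_appTop, pullback.lift_snd]
  rw [ha, hb, CommRingCat.hom_comp, CommRingCat.hom_comp, RingHom.range_eq_map,
    RingHom.range_eq_map (((pullback.lift a b w).appTop).hom.comp _), ← Subring.map_map,
    ← Subring.map_map, ← Subring.map_sup, ← RingHom.range_eq_map, ← RingHom.range_eq_map, h,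
    ← RingHom.range_eq_map]
  exact RingHom.range_eq_top.mpr hc

open AlgSp Groth.Agent.Lib.Helper52

variable {S : Scheme.{u}} {F G : AlgSp.Sp S}

/-- Over a separated base, fibre products of affine charts of a separated space are affine with
global sections generated by those of the charts. -/
theorem isAffine_and_range_sup_eq_top_of_isSeparatedSp [S.IsSeparated]
    (hF : AlgSp.IsSeparatedSp F) {U V P : Over S} {a : (AlgSp.yon S).obj U ⟶ F}
    {b : (AlgSp.yon S).obj V ⟶ F} {fst : P ⟶ U} {snd : P ⟶ V} [IsAffine U.left]
    [IsAffine V.left]
    (h : IsPullback ((AlgSp.yon S).map fst) ((AlgSp.yon S).map snd) a b) :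
    IsAffine P.left ∧ fst.left.appTop.hom.range ⊔ snd.left.appTop.hom.range = ⊤ := by
  have hj : IsClosedImmersion (prod.lift fst snd).left :=
    hF.2 (chart2 a b) _ _ (isPullback_diag_chart2 h)
  have w : fst.left ≫ (U.hom ≫ terminal.from S) = snd.left ≫ (V.hom ≫ terminal.from S) := by
    rw [← Category.assoc, ← Category.assoc, Over.w, Over.w]
  have hc : pullback.lift fst.left snd.left w =
      (prod.lift fst snd).left ≫ (Over.prodLeftIsoPullback U V).hom ≫
        pullback.mapDesc U.hom V.hom (terminal.from S) := by
    apply pullback.hom_ext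
    · simp [← Over.comp_left]
    · simp [← Over.comp_left]
  have : IsClosedImmersion (pullback.lift fst.left snd.left w) := by
    rw [hc]; infer_instance
  exact isAffine_and_range_sup_eq_top_of_isClosedImmersion_lift _ _ fst.left snd.left w

end Groth.Agent.Lib.Helper51
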