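import Groth.Agent.Lib.Helper51.AlgSpSep3

/-!
Affine-local properties of representable morphisms tested on affine schemes, and separatedness
of algebraic spaces via affine charts (helper51).
-/

set_option autoImplicit false
set_option linter.unusedSectionVars false
universe u
open CategoryTheory CategoryTheory.Limits AlgebraicGeometry Opposite

set_option backward.isDefEq.respectTransparency false

namespace Groth.Agent.Lib.Helper51

open AlgSp Groth.Agent.Lib.Helper52

variable {S : Scheme.{u}} {F G : AlgSp.Sp S}

/-- A property with an affine-target characterisation can be tested on affine schemes mapping to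
the target. -/
theorem repWith_of_affine (P : MorphismProperty Scheme.{u}) {Q : AffineTargetMorphismProperty}
    [HasAffineProperty P Q] {f : F ⟶ G} (hf : AlgSp.Representable f)
    (H : ∀ (T W : Over S) (g : (AlgSp.yon S).obj T ⟶ G) (fst : (AlgSp.yon S).obj W ⟶ F)
      (snd : W ⟶ T) [IsAffine T.left], IsPullback fst ((AlgSp.yon S).map snd) f g →
        Q snd.left) : AlgSp.RepWith P f := by
  apply MorphismProperty.relative_of_snd hf
  intro T g
  change P (hf.snd g).left
  apply HasAffineProperty.of_openCover (P := P) T.left.affineCover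
  intro i
  let Ti : Over S := Over.mk (T.left.affineCover.f i ≫ T.hom)
  let q : Ti ⟶ T := Over.homMk (T.left.affineCover.f i) rfl
  obtain ⟨W', snd', fst', sq'⟩ := hf ((AlgSp.yon S).map q ≫ g)
  have : IsAffine Ti.left := inferInstanceAs (IsAffine (T.left.affineCover.X i))
  have hc : Q snd'.left := H Ti W' _ fst' snd' sq'
  obtain ⟨l, _, hl⟩ := exists_isPullback_left_of_isPullback (hf.isPullback g) sq'
  have := HasAffineProperty.isLocal_affineProperty P (Q := Q)
  have hl' : IsPullback l.left snd'.left (hf.snd g).left (T.left.affineCover.f i) := hl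
  have hc' : @Q _ _ snd'.left (inferInstanceAs (IsAffine (T.left.affineCover.X i))) := hc
  refine (AffineTargetMorphismProperty.cancel_left_of_respectsIso Q hl'.isoPullback.hom
    (pullback.snd (hf.snd g).left (T.left.affineCover.f i))).mp ?_
  have h2 : hl'.isoPullback.hom ≫ pullback.snd (hf.snd g).left (T.left.affineCover.f i) =
      snd'.left := hl'.isoPullback_hom_snd
  rw [h2]
  exact hc'

instance isClosedImmersion_diag_left (T : Over S) [T.left.IsSeparated] :
    IsClosedImmersion (Limits.diag T).left := by
  have h1 : (Limits.diag T).left ≫ (prod.fst : T ⨯ T ⟶ T).left = 𝟙 _ := by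
    rw [← Over.comp_left, Limits.diag, prod.lift_fst]; rfl
  have : IsClosedImmersion ((Limits.diag T).left ≫ (prod.fst : T ⨯ T ⟶ T).left) := by
    rw [h1]; infer_instance
  exact IsClosedImmersion.of_comp _ (prod.fst : T ⨯ T ⟶ T).left

/-- An algebraic space is separated if fibre products of affine charts are affine with global
sections generated by those of the charts. -/
theorem isSeparatedSp_of_affine (hF : AlgSp.Representable (Limits.diag F))
    (h : ∀ (U V P : Over S) (a : (AlgSp.yon S).obj U ⟶ F) (b : (AlgSp.yon S).obj V ⟶ F)
      (fst : P ⟶ U) (snd : P ⟶ V), IsAffine U.left → IsAffine V.left →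
      IsPullback ((AlgSp.yon S).map fst) ((AlgSp.yon S).map snd) a b →
        IsAffine P.left ∧ fst.left.appTop.hom.range ⊔ snd.left.appTop.hom.range = ⊤) :
    AlgSp.IsSeparatedSp F := by
  apply repWith_of_affine @IsClosedImmersion hF
  intro T W g fst snd hT sq
  obtain ⟨P, p2, p1', sqP⟩ := (Functor.relativelyRepresentable.of_diag hF (g ≫ prod.fst))
    (g ≫ prod.snd)
  obtain ⟨p1, rfl⟩ := (AlgSp.yon S).map_surjective p1'
  obtain ⟨hPa, hgen⟩ := h T T P _ _ p1 p2 hT hT sqP
  obtain ⟨l, hl⟩ := exists_isPullback_diag_left g sq sqP
  have : IsClosedImmersion l.left :=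
    MorphismProperty.of_isPullback hl.flip
      (inferInstance : IsClosedImmersion (Limits.diag T).left)
  obtain ⟨hWa, hls⟩ := IsClosedImmersion.isAffine_surjective_of_isAffine l.left
  refine ⟨hWa, ?_⟩
  have e1 : l.left ≫ p1.left = snd.left := by
    have := hl.w =≫ (prod.fst : T ⨯ T ⟶ T).left
    simp only [Category.assoc, ← Over.comp_left, prod.lift_fst, Limits.diag] at this
    simpa using this
  have e2 : l.left ≫ p2.left = snd.left := by
    have := hl.w =≫ (prod.snd : T ⨯ T ⟶ T).left
    simp only [Category.assoc, ← Over.comp_left, prod.lift_snd, Limits.diag] at this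
    simpa using this
  have a1 : snd.left.appTop = p1.left.appTop ≫ l.left.appTop := by
    rw [← Scheme.Hom.comp_appTop, e1]
  have a2 : snd.left.appTop = p2.left.appTop ≫ l.left.appTop := by
    rw [← Scheme.Hom.comp_appTop, e2]
  have r1 : snd.left.appTop.hom.range = p1.left.appTop.hom.range.map l.left.appTop.hom := by
    rw [a1, CommRingCat.hom_comp, RingHom.range_eq_map, ← Subring.map_map,
      ← RingHom.range_eq_map]
  have r2 : snd.left.appTop.hom.range = p2.left.appTop.hom.range.map l.left.appTop.hom := by
    rw [a2, CommRingCat.hom_comp, RingHom.range_eq_map, ← Subring.map_map,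
      ← RingHom.range_eq_map]
  have r3 : snd.left.appTop.hom.range = ⊤ := by
    have : (p1.left.appTop.hom.range ⊔ p2.left.appTop.hom.range).map l.left.appTop.hom = ⊤ := by
      rw [hgen, ← RingHom.range_eq_map]
      exact RingHom.range_eq_top.mpr hls
    rw [Subring.map_sup, ← r1, ← r2, sup_idem] at this
    exact this
  exact RingHom.range_eq_top.mp r3

end Groth.Agent.Lib.Helper51
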