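import Groth.Agent.Lib.Helper51.AlgSpSep2

/-!
Zariski locally quasi-separated algebraic spaces and quasi-compact affine charts (helper51).
-/

set_option autoImplicit false
set_option linter.unusedSectionVars false
universe u
open CategoryTheory CategoryTheory.Limits AlgebraicGeometry Opposite

set_option backward.isDefEq.respectTransparency false

namespace Groth.Agent.Lib.Helper51

/-- The fibre product of two affine schemes over `S`, both landing in the same affine open of `S`,
is compact. -/
theorem compactSpace_pullback_of_affine_of_le {X Y S : Scheme.{u}} [IsAffine X] [IsAffine Y]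
    (f : X ⟶ S) (g : Y ⟶ S) (W : S.Opens) (hW : IsAffineOpen W) (hf : ∀ x : ↥X, f x ∈ W)
    (hg : ∀ y : ↥Y, g y ∈ W) : CompactSpace ↥(pullback f g) := by
  have hfr : Set.range f ⊆ Set.range W.ι := by
    rintro _ ⟨x, rfl⟩; simpa using hf x
  have hgr : Set.range g ⊆ Set.range W.ι := by
    rintro _ ⟨y, rfl⟩; simpa using hg y
  let f' : X ⟶ W.toScheme := IsOpenImmersion.lift W.ι f hfr
  let g' : Y ⟶ W.toScheme := IsOpenImmersion.lift W.ι g hgr
  have hf' : f' ≫ W.ι = f := IsOpenImmersion.lift_fac _ _ _
  have hg' : g' ≫ W.ι = g := IsOpenImmersion.lift_fac _ _ _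
  have : IsAffine W.toScheme := hW
  have h1 : IsPullback (pullback.fst f' g') (pullback.snd f' g') (f' ≫ W.ι) (g' ≫ W.ι) :=
    (isPullback_comp_mono_iff _ _ _ _ W.ι).2 (IsPullback.of_hasPullback f' g')
  rw [hf', hg'] at h1
  have : CompactSpace ↥(pullback f' g') := inferInstance
  exact (Scheme.homeoOfIso h1.isoPullback).compactSpace

open AlgSp Groth.Agent.Lib.Helper52

variable {S : Scheme.{u}} {F G : AlgSp.Sp S}

/-- A subsheaf (via a monomorphism) of a quasi-separated sheaf is quasi-separated. -/
theorem isQuasiSeparatedSp_of_mono {X' X : AlgSp.Sp S} (j : X' ⟶ X) [Mono j]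
    (h : AlgSp.IsQuasiSeparatedSp X) : AlgSp.IsQuasiSeparatedSp X' :=
  MorphismProperty.of_isPullback (isPullback_diag_of_mono j) h

/-- An etale surjective chart from an affine scheme lying over an affine open of the base of a
quasi-separated algebraic space is quasi-compact. -/
theorem repWith_quasiCompact_of_affine_chart (hF : AlgSp.IsAlgSpace F)
    (hqs : AlgSp.IsQuasiSeparatedSp F) {U : Over S} [IsAffine U.left]
    (p : (AlgSp.yon S).obj U ⟶ F) (hs : AlgSp.RepWith @Surjective p)
    (W : S.Opens) (hW : IsAffineOpen W) (hUW : ∀ v : ↥U.left, U.hom v ∈ W) :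
    AlgSp.RepWith @QuasiCompact p := by
  apply repWith_quasiCompact_of_affine (hF.representable_from_yon p)
  intro T P g fst snd hT sq
  obtain ⟨fst', rfl⟩ := (AlgSp.yon S).map_surjective fst
  have h1 : QuasiCompact (prod.lift fst' snd).left :=
    hqs.2 (chart2 p g) _ _ (isPullback_diag_chart2 sq)
  have hsurj : Surjective snd.left := hs.2 g _ snd sq
  have hTW : ∀ t : ↥T.left, T.hom t ∈ W := by
    intro t
    obtain ⟨y, rfl⟩ := hsurj.surj t
    have e1 : T.hom (snd.left y) = U.hom (fst'.left y) := by
      rw [← Scheme.Hom.comp_apply, ← Scheme.Hom.comp_apply, Over.w, Over.w]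
    rw [e1]
    exact hUW _
  have hc : CompactSpace ↥(pullback U.hom T.hom) :=
    compactSpace_pullback_of_affine_of_le U.hom T.hom W hW hUW hTW
  have hc' : CompactSpace ↥(U ⨯ T).left :=
    (Scheme.homeoOfIso (Over.prodLeftIsoPullback U T)).symm.compactSpace
  exact QuasiCompact.compactSpace_of_compactSpace (prod.lift fst' snd).left

end Groth.Agent.Lib.Helper51
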