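import Groth.Agent.Lib.Helper51.SoberSch
import Groth.Agent.Lib.Helper51.AlgSpQuotField5
import Groth.Agent.Lib.Helper51.AlgSpPoints2
import Groth.Agent.Lib.Helper51.AlgSpCharts
import Groth.Agent.S10198

/-!
The space of points of a Zariski locally quasi-separated algebraic space is sober (helper51).
-/

set_option autoImplicit false
set_option linter.unusedSectionVars false
universe u
open CategoryTheory CategoryTheory.Limits AlgebraicGeometry Opposite Topology TopologicalSpace

set_option backward.isDefEq.respectTransparency false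

namespace Groth.Agent.Lib.Helper51.Sober

open AlgSp Groth.Agent.Lib.Helper51 Groth.Agent.Lib.Helper52

variable {S : Scheme.{u}}

/-- An algebraic space with a quasi-compact etale surjective chart from an affine scheme has a
sober space of points. -/
theorem sober_of_qc_affine_chart {Y : AlgSp.Sp S} {U : Over S} [IsAffine U.left]
    (p : (AlgSp.yon S).obj U ⟶ Y) (hq : AlgSp.RepWith @QuasiCompact p)
    (he : AlgSp.RepWith @Etale p) (hs : AlgSp.RepWith @Surjective p) :
    QuasiSober (Points Y) ∧ T0Space (Points Y) := by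
  obtain ⟨R, s, t, hR⟩ := exists_isPullback_of_representable he.1 p
  have hsq : QuasiCompact s.left := hq.2 p _ s hR.flip
  have hcont := Points.continuous_ofPt p
  have hopen := isOpenMap_ofPt_of_etale p he
  have hsurj := surjective_ofPt_of_repWith_surjective p hs
  have hsat : ∀ V : Set ↥U.left,
      Points.ofPt p ⁻¹' (Points.ofPt p '' V) = t.left '' (s.left ⁻¹' V) :=
    fun V => preimage_ofPt_image hR V
  constructor
  · refine quasiSober_of_isOpenMap (Points.ofPt p) hcont hopen hsurj ?_
    intro V c hV hcV
    obtain ⟨V', hV'aff, hcV', hV'V⟩ := exists_isAffineOpen_mem_and_subset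
      (U := (⟨V, hV⟩ : U.left.Opens)) hcV
    refine ⟨V', V'.2, hcV', hV'V, ?_⟩
    intro C hC y hy
    rw [hsat] at hy ⊢
    let W : R.left.Opens := s.left ⁻¹ᵁ V'
    have hWc : CompactSpace ↥(W : Scheme.{u}) := by
      have : IsCompact (W : Set ↥R.left) := hsq.isCompact_preimage _ V'.2 hV'aff.isCompact
      exact isCompact_iff_compactSpace.1 this
    have hrange : Set.range (W.ι ≫ t.left) = t.left '' (s.left ⁻¹' V') := by
      rw [Scheme.Hom.comp_base, TopCat.coe_comp, Set.range_comp, Scheme.Opens.range_ι]; rfl
    rw [← hrange] at hy ⊢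
    exact exists_specializes_of_mem_closure_range_inter (W.ι ≫ t.left) C hC y hy
  · refine t0Space_of_isOpenMap_of_finite_fibres (Points.ofPt p) hcont hopen hsurj ?_
    intro x
    obtain ⟨u, rfl⟩ := hsurj x
    have h1 : Points.ofPt p ⁻¹' {Points.ofPt p u} = t.left '' (s.left ⁻¹' {u}) := by
      rw [← hsat, Set.image_singleton]
    rw [h1]
    refine Set.Finite.image _ ?_
    have hqu : AlgSp.RepWith @QuasiCompact (FieldPt.ofPt p u).toHom := by
      rw [FieldPt.toHom_ofPt]
      refine (AlgSp.RepWith @QuasiCompact).comp_mem _ _ ?_ hq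
      rw [AlgSp.repWith_yon_map_iff]
      have : Subsingleton ↥(FieldPt.ofPt p u).pt.left :=
        inferInstanceAs (Subsingleton (PrimeSpectrum (FieldPt.ofPt p u).K))
      exact quasiCompact_of_subsingleton _
    exact finite_fibre_source_of_quasiCompact p s t hR.flip u he hqu

/-- An open immersion of algebraic spaces induces an open embedding on points. -/
theorem isOpenEmbedding_map_of_isOpenImmersion {X' X : AlgSp.Sp S} (hX' : AlgSp.IsAlgSpace X')
    (j : X' ⟶ X) (hj : AlgSp.RepWith @IsOpenImmersion j) :
    IsOpenEmbedding (Points.map j) := by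
  have hjet : AlgSp.RepWith @Etale j :=
    ⟨hj.1, fun a b g fst snd sq => by
      have : IsOpenImmersion snd.left := hj.2 g fst snd sq
      exact (inferInstance : Etale snd.left)⟩
  have hjim : AlgSp.RepWith @IsImmersion j :=
    ⟨hj.1, fun a b g fst snd sq => by
      have : IsOpenImmersion snd.left := hj.2 g fst snd sq
      exact (inferInstance : IsImmersion snd.left)⟩
  have hmono : Mono j := mono_of_repWith_isImmersion hjim
  obtain ⟨U', a, hae, has⟩ := hX'.atlas
  have hopen : IsOpenMap (Points.map j) :=
    isOpenMap_map_of_isEtaleMor j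
      (fun V φ hφ => (AlgSp.RepWith @Etale).comp_mem _ _ hφ hjet) a hae has
  exact IsOpenEmbedding.of_continuous_injective_isOpenMap (Points.continuous_map j)
    (injective_map_of_mono j) hopen

/-- The space of points of a Zariski locally quasi-separated algebraic space is sober. -/
theorem sober_of_zlqs (X : AlgSp.Space S)
    (hX : ∃ (ι : Type u) (Xi : ι → AlgSp.Space S) (j : ∀ i, Xi i ⟶ X),
        AlgSp.IsZarCover (fun i => (Xi i).obj) (fun i => (j i).hom) ∧
          ∀ i, AlgSp.IsQuasiSeparatedSp (Xi i).obj) :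
    QuasiSober (AlgSp.Points X.obj) ∧ T0Space (AlgSp.Points X.obj) := by
  obtain ⟨ι, Xi, j, hcov, hch⟩ := Groth.Agent.S10198.fwd X hX
  have hoe : ∀ i, IsOpenEmbedding (Points.map (j i).hom) := fun i =>
    isOpenEmbedding_map_of_isOpenImmersion (Xi i).property _ (hcov.1 i)
  have hsob : ∀ i, QuasiSober (Points (Xi i).obj) ∧ T0Space (Points (Xi i).obj) := by
    intro i
    obtain ⟨U, p, hU, hpq, hpe, hps⟩ := hch i
    exact sober_of_qc_affine_chart p hpq hpe hps
  constructor
  · haveI : ∀ s : ↥(Set.range fun i => Set.range (Points.map (j i).hom)),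
        QuasiSober ↥(s : Set (Points X.obj)) := by
      rintro ⟨_, i, rfl⟩
      haveI := (hsob i).1
      exact ((hoe i).isEmbedding.toHomeomorph.symm.isOpenEmbedding).quasiSober
    refine quasiSober_of_open_cover (Set.range fun i => Set.range (Points.map (j i).hom)) ?_ ?_
    · rintro ⟨_, i, rfl⟩
      exact (hoe i).isOpen_range
    · ext x
      simp only [Set.sUnion_range, Set.mem_iUnion, Set.mem_range, Set.top_eq_univ, Set.mem_univ,
        iff_true]
      obtain ⟨i, y, hy⟩ := hcov.2 x
      exact ⟨i, y, hy⟩
  · refine ⟨fun x y hxy => ?_⟩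
    obtain ⟨i, z, rfl⟩ := hcov.2 x
    have hy : y ∈ Set.range (Points.map (j i).hom) :=
      (hxy.mem_open_iff (hoe i).isOpen_range).1 ⟨z, rfl⟩
    obtain ⟨z', rfl⟩ := hy
    have hzz' : Inseparable z z' := (hoe i).isInducing.inseparable_iff.1 hxy
    haveI := (hsob i).2
    rw [hzz'.eq]

end Groth.Agent.Lib.Helper51.Sober
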