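import Groth.Agent.Lib.Helper51.AlgSpSpecial
import Mathlib.RingTheory.Ideal.KrullsHeightTheorem
import Mathlib.AlgebraicGeometry.Noetherian

/-!
Specializations in fibres of etale charts of locally Noetherian algebraic spaces (helper51).
-/

set_option autoImplicit false
set_option linter.unusedSectionVars false
universe u
open CategoryTheory CategoryTheory.Limits AlgebraicGeometry Opposite

set_option backward.isDefEq.respectTransparency false

namespace Groth.Agent.Lib.Helper51

theorem height_toNat_lt {A : Type*} [CommRing A] [IsNoetherianRing A] {a b : PrimeSpectrum A}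
    (h : a ⤳ b) (hne : a ≠ b) : a.asIdeal.height.toNat < b.asIdeal.height.toNat := by
  have hle : a ≤ b := (PrimeSpectrum.le_iff_specializes a b).2 h
  have hlt : a.asIdeal < b.asIdeal := lt_of_le_of_ne hle (fun e => hne (PrimeSpectrum.ext e))
  have h1 : a.asIdeal.height < b.asIdeal.height := Ideal.height_strict_mono_of_isPrime hlt
  have h2 : b.asIdeal.height ≠ ⊤ := Ideal.height_ne_top_of_isPrime
  have h3 : a.asIdeal.height ≠ ⊤ := Ideal.height_ne_top_of_isPrime
  obtain ⟨m, hm⟩ := ENat.ne_top_iff_exists.mp h3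
  obtain ⟨n, hn⟩ := ENat.ne_top_iff_exists.mp h2
  rw [← hm, ← hn] at h1 ⊢
  simpa using h1

/-- On an affine Noetherian scheme there is a natural number valued function which strictly
decreases along nontrivial generizations. -/
theorem exists_measure_of_affine_noetherian (V : Scheme.{u}) [IsAffine V]
    [IsNoetherianRing Γ(V, ⊤)] :
    ∃ μ : ↥V → ℕ, ∀ p q : ↥V, p ⤳ q → p ≠ q → μ p < μ q := by
  refine ⟨fun v => (show PrimeSpectrum Γ(V, ⊤) from V.isoSpec.hom v).asIdeal.height.toNat, ?_⟩
  intro p q hpq hne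
  apply height_toNat_lt
  · exact hpq.map V.isoSpec.hom.continuous
  · intro e
    exact hne ((Scheme.homeoOfIso V.isoSpec).injective e)

open AlgSp Groth.Agent.Lib.Helper52

variable {S : Scheme.{u}} {F G : AlgSp.Sp S}

theorem eq_of_specializes_of_measure_chart {U : Over S} {a : (AlgSp.yon S).obj U ⟶ F}
    (ha : AlgSp.RepWith @Etale a) (μ : ↥U.left → ℕ)
    (hμ : ∀ p q : ↥U.left, p ⤳ q → p ≠ q → μ p < μ q) {v v' : ↥U.left}
    (he : Points.ofPt a v' = Points.ofPt a v) (hs : v' ⤳ v) : v' = v := by
  obtain ⟨W, φ, ψ, sq⟩ := exists_isPullback_of_representable ha.1 a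
  refine eq_of_specializes_of_measure (Points.ofPt a ⁻¹' {Points.ofPt a v}) μ ?_ ?_ v rfl v' he hs
  · intro p _ q _ hpq hne
    exact hμ p q hpq hne
  · intro w hw w' hw' hs' hne
    have he' : Points.ofPt a w' = Points.ofPt a w := by
      rw [Set.mem_preimage, Set.mem_singleton_iff] at hw hw'
      rw [hw, hw']
    obtain ⟨w'', h1, h2, h3⟩ := exists_strict_generization ha sq he' hs' hne
    exact ⟨w'', by rw [Set.mem_preimage, Set.mem_singleton_iff, h1]; exact hw', h2, h3⟩

/-- Locally Noetherian chart case. -/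
theorem eq_of_specializes_of_isLocallyNoetherian_chart {U : Over S}
    [IsLocallyNoetherian U.left] (a : (AlgSp.yon S).obj U ⟶ F) (ha : AlgSp.RepWith @Etale a)
    (u u' : ↥U.left) (he : Points.ofPt a u = Points.ofPt a u') (hs : u' ⤳ u) : u = u' := by
  obtain ⟨U0, hU0, huU0, _⟩ := exists_isAffineOpen_mem_and_subset
    (TopologicalSpace.Opens.mem_top u)
  have hu'U0 : u' ∈ U0 := hs.mem_open U0.2 huU0
  let b := (AlgSp.yon S).map (opensOverι U U0) ≫ a
  have hb : AlgSp.RepWith @Etale b := repWith_etale_yon_map_comp _ inferInstance a ha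
  let v : ↥(opensOver U U0).left := ⟨u, huU0⟩
  let v' : ↥(opensOver U U0).left := ⟨u', hu'U0⟩
  have hιv : (opensOverι U U0).left v = u := rfl
  have hιv' : (opensOverι U U0).left v' = u' := rfl
  have hbe : Points.ofPt b v' = Points.ofPt b v := by
    change Points.ofPt ((AlgSp.yon S).map (opensOverι U U0) ≫ a) v' =
      Points.ofPt ((AlgSp.yon S).map (opensOverι U U0) ≫ a) v
    rw [ofPt_yon_map_comp, ofPt_yon_map_comp, hιv, hιv', he]
  have hsv : v' ⤳ v := by
    have : Topology.IsInducing (Subtype.val : ↥U0 → ↥U.left) := Topology.IsInducing.subtypeVal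
    exact this.specializes_iff.mp hs
  have hA : IsAffine (opensOver U U0).left := hU0
  have hN : IsNoetherianRing Γ((opensOver U U0).left, ⊤) := by
    have : IsLocallyNoetherian (opensOver U U0).left :=
      inferInstanceAs (IsLocallyNoetherian U0.toScheme)
    exact IsLocallyNoetherian.component_noetherian ⟨⊤, isAffineOpen_top _⟩
  obtain ⟨μ, hμ⟩ := exists_measure_of_affine_noetherian (opensOver U U0).left
  have := eq_of_specializes_of_measure_chart hb μ hμ hbe hsv
  rw [← hιv, ← hιv', this]

/-- General chart of a locally Noetherian algebraic space. -/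
theorem eq_of_specializes_of_isLocNoethSp (hF : AlgSp.IsLocNoethSp F) {U : Over S}
    (a : (AlgSp.yon S).obj U ⟶ F) (ha : AlgSp.RepWith @Etale a)
    (u u' : ↥U.left) (he : Points.ofPt a u = Points.ofPt a u') (hs : u' ⤳ u) : u = u' := by
  obtain ⟨U1, p, hp, hps, hU1⟩ := hF
  have : IsLocallyNoetherian U1.left := hU1
  obtain ⟨W, ψ, φ, sq⟩ := exists_isPullback_of_representable hp.1 a
  -- sq : IsPullback (yon.map ψ) (yon.map φ) p a, with ψ : W ⟶ U1, φ : W ⟶ U
  have hφe : Etale φ.left := hp.2 a _ φ sq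
  have hφs : Surjective φ.left := hps.2 a _ φ sq
  have hψe : Etale ψ.left := ha.2 p _ ψ sq.flip
  have hWN : IsLocallyNoetherian W.left := LocallyOfFiniteType.isLocallyNoetherian ψ.left
  obtain ⟨w, hw⟩ := hφs.surj u
  have hs' : u' ⤳ φ.left w := by rw [hw]; exact hs
  obtain ⟨w', hw's, hw'⟩ := (Flat.generalizingMap φ.left) hs'
  let c := (AlgSp.yon S).map φ ≫ a
  have hc : AlgSp.RepWith @Etale c := repWith_etale_yon_map_comp φ hφe a ha
  have hce : Points.ofPt c w = Points.ofPt c w' := by
    change Points.ofPt ((AlgSp.yon S).map φ ≫ a) w = Points.ofPt ((AlgSp.yon S).map φ ≫ a) w'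
    rw [ofPt_yon_map_comp, ofPt_yon_map_comp, hw, hw', he]
  have := eq_of_specializes_of_isLocallyNoetherian_chart c hc w w' hce hw's
  rw [← hw, ← hw', this]

end Groth.Agent.Lib.Helper51
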