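import Groth.Agent.Lib.Helper51.AlgSpSober

/-!
The space of points of a quasi-compact quasi-separated algebraic space is spectral (helper51).
-/

set_option autoImplicit false
set_option linter.unusedSectionVars false
universe u
open CategoryTheory CategoryTheory.Limits AlgebraicGeometry Opposite Topology TopologicalSpace

set_option backward.isDefEq.respectTransparency false

namespace Groth.Agent.Lib.Helper51.Sober

open AlgSp Groth.Agent.Lib.Helper51 Groth.Agent.Lib.Helper52

variable {S : Scheme.{u}}

/-- An algebraic space with a quasi-compact etale surjective chart from an affine scheme has a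
spectral space of points. -/
theorem spectralSpace_of_qc_affine_chart {Y : AlgSp.Sp S} {U : Over S} [IsAffine U.left]
    (p : (AlgSp.yon S).obj U ⟶ Y) (hq : AlgSp.RepWith @QuasiCompact p)
    (he : AlgSp.RepWith @Etale p) (hs : AlgSp.RepWith @Surjective p) :
    SpectralSpace (Points Y) := by
  obtain ⟨hqsob, ht0⟩ := sober_of_qc_affine_chart p hq he hs
  obtain ⟨R, s, t, hR⟩ := exists_isPullback_of_representable he.1 p
  have hsq : QuasiCompact s.left := hq.2 p _ s hR.flip
  have hcont := Points.continuous_ofPt p
  have hopen := isOpenMap_ofPt_of_etale p he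
  have hsurj := surjective_ofPt_of_repWith_surjective p hs
  have hsat : ∀ V : Set ↥U.left,
      Points.ofPt p ⁻¹' (Points.ofPt p '' V) = t.left '' (s.left ⁻¹' V) :=
    fun V => preimage_ofPt_image hR V
  have hcompact : CompactSpace (Points Y) := by
    constructor
    rw [← hsurj.range_eq]
    exact isCompact_range hcont
  have hpre : ∀ O : Set (Points Y), IsOpen O → IsCompact O →
      IsCompact (Points.ofPt p ⁻¹' O) := by
    intro O hO hOc
    have hex : ∀ x : Points Y, x ∈ O → ∃ V : U.left.Opens, IsAffineOpen V ∧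
        x ∈ Points.ofPt p '' (V : Set ↥U.left) ∧ (V : Set ↥U.left) ⊆ Points.ofPt p ⁻¹' O := by
      intro x hx
      obtain ⟨u, rfl⟩ := hsurj x
      obtain ⟨V, hV, huV, hVO⟩ := exists_isAffineOpen_mem_and_subset
        (U := (⟨Points.ofPt p ⁻¹' O, hO.preimage hcont⟩ : U.left.Opens)) hx
      exact ⟨V, hV, ⟨u, huV, rfl⟩, hVO⟩
    choose! V hVaff hxV hVO using hex
    obtain ⟨b', hb'O, hb'fin, hb'⟩ := hOc.elim_finite_subcover_image
      (b := O) (c := fun x => Points.ofPt p '' (V x : Set ↥U.left))
      (fun x _ => hopen _ (V x).2) (fun x hx => Set.mem_biUnion hx (hxV x hx))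
    have heq : Points.ofPt p ⁻¹' O = ⋃ x ∈ b', t.left '' (s.left ⁻¹' (V x : Set ↥U.left)) := by
      apply Set.Subset.antisymm
      · intro u hu
        obtain ⟨x, hx, hux⟩ := Set.mem_iUnion₂.1 (hb' hu)
        refine Set.mem_biUnion hx ?_
        rw [← hsat]
        exact hux
      · intro u hu
        obtain ⟨x, hx, hux⟩ := Set.mem_iUnion₂.1 hu
        rw [← hsat] at hux
        obtain ⟨v, hv, hvu⟩ := hux
        show Points.ofPt p u ∈ O
        rw [← hvu]
        exact hVO x (hb'O hx) hv
    rw [heq]
    refine hb'fin.isCompact_biUnion (fun x hx => ?_)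
    exact (hsq.isCompact_preimage _ (V x).2 (hVaff x (hb'O hx)).isCompact).image
      t.left.continuous
  have hqsep : QuasiSeparatedSpace (Points Y) := by
    refine ⟨fun O₁ O₂ h1 h1c h2 h2c => ?_⟩
    have h := QuasiSeparatedSpace.inter_isCompact _ _ (h1.preimage hcont) (hpre O₁ h1 h1c)
      (h2.preimage hcont) (hpre O₂ h2 h2c)
    rw [← Set.preimage_inter] at h
    have h' := h.image hcont
    rwa [Set.image_preimage_eq _ hsurj] at h'
  have hpresp : PrespectralSpace (Points Y) := by
    refine PrespectralSpace.of_isTopologicalBasis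
      (B := {O | ∃ V : U.left.Opens, IsAffineOpen V ∧ O = Points.ofPt p '' (V : Set ↥U.left)})
      ?_ ?_
    · refine isTopologicalBasis_of_isOpen_of_nhds ?_ ?_
      · rintro _ ⟨V, -, rfl⟩
        exact hopen _ V.2
      · intro x O hx hO
        obtain ⟨u, rfl⟩ := hsurj x
        obtain ⟨V, hV, huV, hVO⟩ := exists_isAffineOpen_mem_and_subset
          (U := (⟨Points.ofPt p ⁻¹' O, hO.preimage hcont⟩ : U.left.Opens)) hx
        refine ⟨_, ⟨V, hV, rfl⟩, ⟨u, huV, rfl⟩, ?_⟩
        rintro _ ⟨v, hv, rfl⟩
        exact hVO hv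
    · rintro _ ⟨V, hV, rfl⟩
      exact hV.isCompact.image hcont
  exact { toT0Space := ht0, toCompactSpace := hcompact, toQuasiSober := hqsob,
          toQuasiSeparatedSpace := hqsep, toPrespectralSpace := hpresp }

/-- Quasi-compact quasi-separated algebraic spaces over a quasi-separated base have spectral
spaces of points. -/
theorem spectralSpace_of_qcqs [QuasiSeparatedSpace ↥S] (X : AlgSp.Space S)
    (hqc : AlgSp.IsQuasiCompactSp X.obj) (hqs : AlgSp.IsQuasiSeparatedSp X.obj) :
    SpectralSpace (AlgSp.Points X.obj) := by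
  obtain ⟨U, p, hU, hpe, hps⟩ := (isQuasiCompactSp_iff_exists_affine_chart X.property).1 hqc
  have hUqc : QuasiCompact U.hom := inferInstance
  have hpq : AlgSp.RepWith @QuasiCompact p :=
    repWith_quasiCompact_of_isQuasiSeparatedSp hqs hUqc p hpe.1
  exact spectralSpace_of_qc_affine_chart p hpq hpe hps

end Groth.Agent.Lib.Helper51.Sober
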