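import Groth.Agent.Lib.Helper51.SchemeResTrdeg
import Groth.Agent.Lib.Helper51.AlgSpPoints
import Groth.Agent.Lib.Helper30.AlgSpDesc
import Groth.Prelude.Def_AlgSpDec

set_option autoImplicit false
universe u
open CategoryTheory CategoryTheory.Limits AlgebraicGeometry Topology TopologicalSpace
open AlgSp

namespace Groth.Agent.Lib.Helper51.TrdegCharts

open Groth.Agent.Lib.Helper52 Groth.Agent.Lib.Helper51 Groth.Agent.Lib.Helper51.ResTrdeg

variable {S : Scheme.{u}}

set_option backward.isDefEq.respectTransparency false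

/-- transcendence degrees at a point add up along a composition. -/
theorem hasAtMor_resTrdeg_comp {X Y Z : Sp S} (f : X ⟶ Y) (g : Y ⟶ Z) (x : Points X)
    (r₁ r₂ : Cardinal.{u})
    (h1 : HasAtMor (fun _ _ h u => Dual3.resTrdeg h u = r₁) f x)
    (h2 : HasAtMor (fun _ _ h u => Dual3.resTrdeg h u = r₂) g (Points.map f x)) :
    HasAtMor (fun _ _ h u => Dual3.resTrdeg h u = r₁ + r₂) (f ≫ g) x := by
  obtain ⟨U, V, a, b, h, u, ha, hb, hcomm, hxu, hr₁⟩ := h1
  obtain ⟨V', W, b', c, h', v', hb', hc, hcomm', hyv', hr₂⟩ := h2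
  obtain ⟨V'', φ, ψ, sq⟩ := exists_isPullback_of_representable hb.1 b'
  haveI hψ : Etale ψ.left := hb.2 b' _ ψ sq
  haveI hφ : Etale φ.left := hb'.2 b _ φ sq.flip
  have hpt : Points.ofPt b (h.left u) = Points.ofPt b' v' := by
    rw [← ofPt_yon_map_comp, ← hcomm, hyv', ← hxu]
    rfl
  obtain ⟨v'', hv''₁, hv''₂⟩ := exists_of_ofPt_eq_ofPt sq hpt
  obtain ⟨U'', β, α, sqO, sqL⟩ := Groth.Agent.Lib.Helper30.isPullback_over' h φ
  haveI hβ : Etale β.left := MorphismProperty.of_isPullback (P := @Etale) sqL.flip hφ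
  have hpt' : Points.ofPt ((yon S).map h) u = Points.ofPt ((yon S).map φ) v'' := by
    have e1 := ofPt_yon_map_comp h (𝟙 _) u
    have e2 := ofPt_yon_map_comp φ (𝟙 _) v''
    rw [Category.comp_id] at e1 e2
    rw [e1, e2, hv''₁]
  obtain ⟨u'', hu''₁, hu''₂⟩ := exists_of_ofPt_eq_ofPt (sqO.map (yon S)) hpt'
  refine ⟨U'', W, (yon S).map β ≫ a, c, α ≫ ψ ≫ h', u'', ?_, hc, ?_, ?_, ?_⟩
  · exact (RepWith (S := S) @Etale).comp_mem _ _ ((repWith_yon_map_iff @Etale β).2 hβ) ha
  · have e1 : (yon S).map β ≫ (yon S).map h = (yon S).map α ≫ (yon S).map φ := by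
      rw [← Functor.map_comp, ← Functor.map_comp, sqO.w]
    rw [Functor.map_comp, Functor.map_comp, Category.assoc, Category.assoc, Category.assoc,
      ← hcomm', ← Category.assoc ((yon S).map ψ), ← sq.w, Category.assoc,
      ← Category.assoc ((yon S).map α), ← e1, Category.assoc, ← Category.assoc ((yon S).map h),
      ← hcomm, Category.assoc]
  · rw [ofPt_yon_map_comp, hu''₁, hxu]
  · change Dual3.resTrdeg (α.left ≫ ψ.left ≫ h'.left) u'' = r₁ + r₂
    rw [resTrdeg_comp, resTrdeg_etale_comp, hu''₂, hv''₂, hr₂, add_comm]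
    congr 1
    have e2 : α.left ≫ φ.left = β.left ≫ h.left := sqL.w.symm
    have e3 := resTrdeg_comp_etale α.left φ.left u''
    rw [e2, resTrdeg_etale_comp, hu''₁, hr₁] at e3
    exact e3.symm

/-- for `f` locally quasi-finite, the transcendence degree of `x` over `Z` is that of `f x`. -/
theorem hasAtMor_resTrdeg_iff_of_locallyQuasiFinite {X Y Z : Sp S} (hX : IsAlgSpace X)
    (hY : IsAlgSpace Y) (f : X ⟶ Y) (g : Y ⟶ Z)
    (hf : LocP (@LocallyQuasiFinite ⊓ @LocallyOfFiniteType) f)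
    (x : Points X) (r : Cardinal.{u}) :
    HasAtMor (fun _ _ h u => Dual3.resTrdeg h u = r) (f ≫ g) x ↔
      HasAtMor (fun _ _ h u => Dual3.resTrdeg h u = r) g (Points.map f x) := by
  constructor
  · rintro ⟨U, W, a, c, k, u, ha, hc, hcomm, hxu, hr⟩
    obtain ⟨V, b, hb, hbs⟩ := hY.atlas
    obtain ⟨P, pV, pU, sqP⟩ := exists_isPullback_of_representable hb.1 (a ≫ f)
    haveI hpU : Etale pU.left := hb.2 (a ≫ f) _ pU sqP
    obtain ⟨v, hv⟩ := surjective_ofPt_of_repWith_surjective b hbs (Points.map f x)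
    have hpt : Points.ofPt b v = Points.ofPt (a ≫ f) u := by
      rw [hv, ← hxu]; rfl
    obtain ⟨p, hp₁, hp₂⟩ := exists_of_ofPt_eq_ofPt sqP hpt
    obtain ⟨V₁, h', prV, sqV⟩ := exists_isPullback_of_representable hc.1 (b ≫ g)
    haveI hprV : Etale prV.left := hc.2 (b ≫ g) _ prV sqV
    have hb₁ : RepWith @Etale ((yon S).map prV ≫ b) :=
      (RepWith (S := S) @Etale).comp_mem _ _ ((repWith_yon_map_iff @Etale prV).2 hprV) hb
    have hw : (yon S).map (pU ≫ k) ≫ c = (yon S).map pV ≫ b ≫ g := by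
      calc (yon S).map (pU ≫ k) ≫ c = (yon S).map pU ≫ ((yon S).map k ≫ c) := by
            rw [Functor.map_comp, Category.assoc]
        _ = ((yon S).map pU ≫ (a ≫ f)) ≫ g := by
            rw [← hcomm]; simp only [Category.assoc]
        _ = ((yon S).map pV ≫ b) ≫ g := by rw [sqP.w]
        _ = _ := Category.assoc _ _ _
    let m' : (yon S).obj P ⟶ (yon S).obj V₁ := sqV.lift ((yon S).map (pU ≫ k)) ((yon S).map pV) hw
    let m : P ⟶ V₁ := (yon S).preimage m'
    have hm : (yon S).map m = m' := (yon S).map_preimage m'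
    have hm₁ : m ≫ h' = pU ≫ k := (yon S).map_injective (by
      rw [Functor.map_comp, hm]; exact sqV.lift_fst _ _ _)
    have hm₂ : m ≫ prV = pV := (yon S).map_injective (by
      rw [Functor.map_comp, hm]; exact sqV.lift_snd _ _ _)
    have hpa : RepWith @Etale ((yon S).map pU ≫ a) :=
      (RepWith (S := S) @Etale).comp_mem _ _ ((repWith_yon_map_iff @Etale pU).2 hpU) ha
    have hmq : (@LocallyQuasiFinite ⊓ @LocallyOfFiniteType) m.left :=
      hf ((yon S).map pU ≫ a) ((yon S).map prV ≫ b) m hpa hb₁ (by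
        rw [← Category.assoc ((yon S).map m), ← Functor.map_comp, hm₂, Category.assoc]
        exact sqP.w.symm)
    haveI : LocallyQuasiFinite m.left := hmq.1
    refine ⟨V₁, W, (yon S).map prV ≫ b, c, h', m.left p, hb₁, hc, ?_, ?_, ?_⟩
    · rw [Category.assoc]; exact sqV.w.symm
    · rw [ofPt_yon_map_comp]
      have : prV.left (m.left p) = pV.left p := by
        rw [← hm₂]; rfl
      rw [this, hp₁, hv]
    · have e1 : m.left ≫ h'.left = pU.left ≫ k.left := congrArg CommaMorphism.left hm₁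
      have e2 := resTrdeg_comp m.left h'.left p
      rw [e1, resTrdeg_etale_comp, hp₂, hr, resTrdeg_eq_zero_of_locallyQuasiFinite m.left p,
        add_zero] at e2
      exact e2.symm
  · rintro ⟨V, W, b, c, h', v, hb, hc, hcomm, hyv, hr⟩
    obtain ⟨U, a, ha, has⟩ := hX.atlas
    obtain ⟨u, hu⟩ := surjective_ofPt_of_repWith_surjective a has x
    obtain ⟨P, pV, pU, sqP⟩ := exists_isPullback_of_representable hb.1 (a ≫ f)
    haveI hpU : Etale pU.left := hb.2 (a ≫ f) _ pU sqP
    have hpt : Points.ofPt b v = Points.ofPt (a ≫ f) u := by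
      rw [hyv, ← hu]; rfl
    obtain ⟨p, hp₁, hp₂⟩ := exists_of_ofPt_eq_ofPt sqP hpt
    have hpa : RepWith @Etale ((yon S).map pU ≫ a) :=
      (RepWith (S := S) @Etale).comp_mem _ _ ((repWith_yon_map_iff @Etale pU).2 hpU) ha
    have hmq : (@LocallyQuasiFinite ⊓ @LocallyOfFiniteType) pV.left :=
      hf ((yon S).map pU ≫ a) b pV hpa hb (by rw [Category.assoc]; exact sqP.w.symm)
    haveI : LocallyQuasiFinite pV.left := hmq.1
    refine ⟨P, W, (yon S).map pU ≫ a, c, pV ≫ h', p, hpa, hc, ?_, ?_, ?_⟩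
    · calc ((yon S).map pU ≫ a) ≫ f ≫ g = ((yon S).map pU ≫ (a ≫ f)) ≫ g := by
            simp only [Category.assoc]
        _ = ((yon S).map pV ≫ b) ≫ g := by rw [sqP.w]
        _ = (yon S).map pV ≫ ((yon S).map h' ≫ c) := by rw [Category.assoc, hcomm]
        _ = _ := by rw [Functor.map_comp, Category.assoc]
    · rw [ofPt_yon_map_comp, hp₂, hu]
    · change Dual3.resTrdeg (pV.left ≫ h'.left) p = r
      rw [resTrdeg_comp, resTrdeg_eq_zero_of_locallyQuasiFinite pV.left p, add_zero, hp₁, hr]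

end Groth.Agent.Lib.Helper51.TrdegCharts
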