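import Groth.Agent.Lib.Helper51.AlgSpPoints2
import Groth.Agent.Lib.Helper51.AlgSpPoints

/-!
# Closed maps on points: locality on the target and restriction along embeddings (helper51)
-/

set_option autoImplicit false
set_option linter.unusedSectionVars false
universe u

open CategoryTheory CategoryTheory.Limits AlgebraicGeometry AlgSp
open Groth.Agent.Lib.Helper52 Groth.Agent.Lib.Helper51

set_option backward.isDefEq.respectTransparency false

namespace Groth.Agent.Lib.Helper51.UCSp

variable {S : Scheme.{u}}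

/-- Closedness on points can be checked on a jointly surjective family of etale charts of the
target. -/
theorem isClosedMap_of_etale_charts {P Z : AlgSp.Sp S} (snd : P ⟶ Z)
    {κ : Type*} (N : κ → Over S) (c : ∀ k, (AlgSp.yon S).obj (N k) ⟶ Z)
    (hce : ∀ k, AlgSp.RepWith @Etale (c k))
    (hcov : ∀ z : Points Z, ∃ k n, Points.ofPt (c k) n = z)
    (h : ∀ k (PN : AlgSp.Sp S) (a : PN ⟶ P) (b : PN ⟶ (AlgSp.yon S).obj (N k)),
      IsPullback a b snd (c k) → IsClosedMap (Points.map b)) :
    IsClosedMap (Points.map snd) := by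
  intro T hT
  rw [← isOpen_compl_iff]
  have key : ∀ k, IsOpen ((Points.ofPt (c k)) ⁻¹' (Points.map snd '' T)ᶜ) := by
    intro k
    have sq := IsPullback.of_hasPullback snd (c k)
    have hcl : IsClosed (Points.map (pullback.snd snd (c k)) ''
        (Points.map (pullback.fst snd (c k)) ⁻¹' T)) :=
      h k _ _ _ sq _ (hT.preimage (Points.continuous_map _))
    have heq : (Points.ofPt (c k)) ⁻¹' (Points.map snd '' T)ᶜ =
        ((Points.schemeHomeo (N k)) ⁻¹' (Points.map (pullback.snd snd (c k)) ''
          (Points.map (pullback.fst snd (c k)) ⁻¹' T)))ᶜ := by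
      ext n
      simp only [Set.mem_preimage, Set.mem_compl_iff, not_iff_not]
      constructor
      · rintro ⟨τ, hτ, hτn⟩
        have h1 : Points.map snd τ = Points.map (c k) (Points.ofScheme (N k) n) := by
          rw [hτn, Points.ofPt_eq_map_ofScheme]
        obtain ⟨w, hw1, hw2⟩ := exists_point_of_isPullback sq τ _ h1
        exact ⟨w, by rw [Set.mem_preimage, hw1]; exact hτ, hw2⟩
      · rintro ⟨w, hw, hwn⟩
        refine ⟨Points.map (pullback.fst snd (c k)) w, hw, ?_⟩
        have hwn' : Points.map (pullback.snd snd (c k)) w = Points.ofScheme (N k) n := hwn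
        rw [← Points.map_comp, sq.w, Points.map_comp, hwn', ← Points.ofPt_eq_map_ofScheme]
    rw [heq]
    exact ((Points.schemeHomeo (N k)).isClosed_preimage.2 hcl).isOpen_compl
  have hU : (Points.map snd '' T)ᶜ =
      ⋃ k, Points.ofPt (c k) '' ((Points.ofPt (c k)) ⁻¹' (Points.map snd '' T)ᶜ) := by
    ext z
    constructor
    · intro hz
      obtain ⟨k, n, rfl⟩ := hcov z
      exact Set.mem_iUnion.mpr ⟨k, n, hz, rfl⟩
    · intro hz
      obtain ⟨k, n, hn, rfl⟩ := Set.mem_iUnion.mp hz
      exact hn
  rw [hU]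
  exact isOpen_iUnion fun k => isOpenMap_ofPt_of_etale (c k) (hce k) _ (key k)

/-- A closed map on points restricts to a closed map over a base change inducing a topological
embedding. -/
theorem isClosedMap_of_isPullback_of_isEmbedding {P₀ Pn Z₀ Zn : AlgSp.Sp S} {κ : P₀ ⟶ Pn}
    {snd₀ : P₀ ⟶ Z₀} {sndn : Pn ⟶ Zn} {m : Z₀ ⟶ Zn} (sq : IsPullback κ snd₀ sndn m)
    (hκ : Topology.IsEmbedding (Points.map κ)) (hn : IsClosedMap (Points.map sndn)) :
    IsClosedMap (Points.map snd₀) := by
  intro T hT
  have heq : Points.map snd₀ '' T =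
      (Points.map m) ⁻¹' (Points.map sndn '' closure (Points.map κ '' T)) := by
    ext z₀
    constructor
    · rintro ⟨τ, hτ, rfl⟩
      refine ⟨Points.map κ τ, subset_closure ⟨τ, hτ, rfl⟩, ?_⟩
      rw [← Points.map_comp, sq.w, Points.map_comp]
    · rintro ⟨x, hx, hxz⟩
      obtain ⟨p₀, hp1, hp2⟩ := exists_point_of_isPullback sq x z₀ hxz
      refine ⟨p₀, ?_, hp2⟩
      have h1 : p₀ ∈ closure T := by
        rw [hκ.closure_eq_preimage_closure_image, Set.mem_preimage, hp1]
        exact hx
      rwa [hT.closure_eq] at h1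
  rw [heq]
  exact (hn _ isClosed_closure).preimage (Points.continuous_map m)

end Groth.Agent.Lib.Helper51.UCSp
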