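import Groth.Agent.Lib.Helper51.AlgSpUCMain
import Groth.Agent.Lib.Helper51.AlgSpUCLocal
import Groth.Agent.Lib.Helper51.AlgSpSchDenseIff
import Groth.Agent.Lib.Helper78.AlgSpFibre
import Groth.Agent.Lib.Helper30.AlgSpMor
import Mathlib.AlgebraicGeometry.AffineSpace

/-!
# Universal closedness from closedness over affine spaces: the affine-local step (helper51)
-/

set_option autoImplicit false
set_option linter.unusedSectionVars false
universe u

open TensorProduct CategoryTheory CategoryTheory.Limits AlgebraicGeometry AlgSp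
open Groth.Agent.Lib.Helper52 Groth.Agent.Lib.Helper51 Groth.Agent.Lib.Helper39.UCFT

set_option backward.isDefEq.respectTransparency false

namespace Groth.Agent.Lib.Helper51.UCSp

section Affine

variable {A : Type u} [CommRing A] {V : Scheme.{u}} (α : Spec (.of A) ⟶ V) (n : ℕ)

/-- `Spec A[x₁,…,xₙ] ⟶ 𝔸ⁿ_V` for `α : Spec A ⟶ V`. -/
noncomputable def toAffineSpace :
    Spec (.of (MvPolynomial (Fin n) A)) ⟶ 𝔸(ULift.{u} (Fin n); V) :=
  Spec.map (CommRingCat.ofHom
    ((MvPolynomial.renameEquiv A (Equiv.ulift.{u} (α := Fin n))).toAlgHom :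
      MvPolynomial (ULift.{u} (Fin n)) A →+* MvPolynomial (Fin n) A)) ≫
    (AffineSpace.SpecIso (ULift.{u} (Fin n)) (.of A)).inv ≫ AffineSpace.map _ α

theorem toAffineSpace_over :
    toAffineSpace α n ≫ (𝔸(ULift.{u} (Fin n); V) ↘ V) =
      gmap A (MvPolynomial (Fin n) A) ≫ α := by
  unfold toAffineSpace
  rw [Category.assoc, Category.assoc, AffineSpace.map_over, ← Category.assoc _ _ α,
    AffineSpace.SpecIso_inv_over, ← Category.assoc, ← Spec.map_comp]
  congr 2
  ext a
  simp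

instance [IsOpenImmersion α] : IsOpenImmersion (toAffineSpace α n) := by
  have : IsOpenImmersion (AffineSpace.map (ULift.{u} (Fin n)) α) :=
    MorphismProperty.of_isPullback (AffineSpace.isPullback_map α).flip ‹_›
  have h1 : IsIso (CommRingCat.ofHom
      ((MvPolynomial.renameEquiv A (Equiv.ulift.{u} (α := Fin n))).toAlgHom :
        MvPolynomial (ULift.{u} (Fin n)) A →+* MvPolynomial (Fin n) A)) :=
    (inferInstance : IsIso (MvPolynomial.renameEquiv A
      (Equiv.ulift.{u} (α := Fin n))).toRingEquiv.toCommRingCatIso.hom)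
  unfold toAffineSpace
  infer_instance

end Affine

section Aff

variable {S : Scheme.{u}}

set_option maxHeartbeats 1600000 in
theorem isClosedMap_of_affine_chart {X Y : AlgSp.Sp S} (hX : AlgSp.IsAlgSpace X)
    (hY : AlgSp.IsAlgSpace Y) (f : X ⟶ Y) (hqc : AlgSp.IsQuasiCompactMor f)
    (V : Over S) (p : (AlgSp.yon S).obj V ⟶ Y)
    (Hn : ∀ (n : ℕ) (P : AlgSp.Sp S) (fst : P ⟶ X)
      (snd : P ⟶ (AlgSp.yon S).obj
        (Over.mk ((𝔸(ULift.{u} (Fin n); V.left) ↘ V.left) ≫ V.hom))),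
      IsPullback fst snd f ((AlgSp.yon S).map
        (Over.homMk (𝔸(ULift.{u} (Fin n); V.left) ↘ V.left)) ≫ p) →
        IsClosedMap (Points.map snd))
    {A : Type u} [CommRing A] (α : Spec (.of A) ⟶ V.left) [IsOpenImmersion α]
    (B : Type u) [CommRing B] [Algebra A B]
    {PN : AlgSp.Sp S} {a : PN ⟶ X} {b : PN ⟶ (AlgSp.yon S).obj (ov (α ≫ V.hom) B)}
    (hPN : IsPullback a b f ((AlgSp.yon S).map (str (α ≫ V.hom) B) ≫
      (AlgSp.yon S).map (Over.homMk α rfl : Over.mk (α ≫ V.hom) ⟶ V) ≫ p)) :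
    IsClosedMap (Points.map b) := by
  obtain ⟨σ, hσ⟩ : ∃ σ : Spec (.of A) ⟶ S, σ = α ≫ V.hom := ⟨_, rfl⟩
  subst hσ
  obtain ⟨α', hα'⟩ : ∃ α' : Over.mk (α ≫ V.hom) ⟶ V, α' = Over.homMk α rfl := ⟨_, rfl⟩
  rw [← hα'] at hPN
  have hα'l : α'.left = α := by rw [hα']; rfl
  -- the base change to Spec A
  have hsq₀ := IsPullback.of_hasPullback f ((AlgSp.yon S).map α' ≫ p)
  haveI : CompactSpace ↥(Over.mk (α ≫ V.hom)).left :=
    inferInstanceAs (CompactSpace ↥(Spec (.of A)))
  have hX₀ : AlgSp.IsQuasiCompactSp (pullback f ((AlgSp.yon S).map α' ≫ p)) :=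
    hqc (AlgSp.IsAlgSpace.yon_obj _)
      (Groth.Agent.Lib.Helper30.isQuasiCompactSp_yon_obj (Over.mk (α ≫ V.hom))) _ _ _ hsq₀
  obtain ⟨U, c, hce, hcs, hUc⟩ := hX₀
  haveI : CompactSpace ↥U.left := hUc
  -- affine charts of U
  let 𝒰 := U.left.affineCover.finiteSubcover
  have hfin : Finite 𝒰.I₀ := inferInstance
  have haff : ∀ j, IsAffine (𝒰.X j) := fun j => inferInstance
  let C : 𝒰.I₀ → Type u := fun j => Γ(𝒰.X j, ⊤)
  let h : ∀ j, Spec (.of (C j)) ⟶ U.left := fun j => (𝒰.X j).isoSpec.inv ≫ 𝒰.f j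
  have hopen : ∀ j, IsOpenImmersion (h j) := fun j => inferInstance
  let mU : U ⟶ Over.mk (α ≫ V.hom) :=
    (AlgSp.yon S).preimage (c ≫ pullback.snd f ((AlgSp.yon S).map α' ≫ p))
  have hmU : (AlgSp.yon S).map mU = c ≫ pullback.snd f ((AlgSp.yon S).map α' ≫ p) :=
    Functor.map_preimage _ _
  letI alg : ∀ j, Algebra A (C j) := fun j => (Spec.preimage (h j ≫ mU.left)).hom.toAlgebra
  have hg : ∀ j, gmap A (C j) = h j ≫ mU.left := fun j => by
    have : CommRingCat.ofHom (algebraMap A (C j)) = Spec.preimage (h j ≫ mU.left) := rfl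
    unfold gmap
    rw [this, Spec.map_preimage]
  have hwU : mU.left ≫ (α ≫ V.hom) = U.hom := Over.w mU
  let aj : ∀ j, ov (α ≫ V.hom) (C j) ⟶ U := fun j => Over.homMk (h j) (by
    show h j ≫ U.hom = gmap A (C j) ≫ α ≫ V.hom
    calc h j ≫ U.hom = h j ≫ (mU.left ≫ α ≫ V.hom) := by rw [hwU]
      _ = (h j ≫ mU.left) ≫ α ≫ V.hom := (Category.assoc _ _ _).symm
      _ = gmap A (C j) ≫ α ≫ V.hom := by rw [hg j])
  have haj : ∀ j, aj j ≫ mU = str (α ≫ V.hom) (C j) := fun j =>
    Over.OverMorphism.ext (hg j).symm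
  refine isClosedMap_snd_of_charts (α ≫ V.hom) (pullback.snd f ((AlgSp.yon S).map α' ≫ p)) C
    (fun j => (AlgSp.yon S).map (aj j) ≫ c) ?_ ?_ ?_ ?_ B
    (P := PN) (fst := pullback.lift a (b ≫ (AlgSp.yon S).map (str (α ≫ V.hom) B))
      (by rw [hPN.w, Category.assoc])) (snd := b) ?_
  · intro j
    rw [Category.assoc, ← hmU, ← Functor.map_comp, haj j]
  · intro j
    have he : Etale (aj j).left := by
      have := hopen j
      show Etale (h j)
      infer_instance
    exact repWith_etale_yon_map_comp (aj j) he c hce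
  · intro x
    obtain ⟨u, hu⟩ := surjective_ofPt_of_repWith_surjective c hcs x
    obtain ⟨y, hy⟩ := 𝒰.covers u
    refine ⟨𝒰.idx u, (𝒰.X (𝒰.idx u)).isoSpec.hom y, ?_⟩
    rw [ofPt_yon_map_comp, ← hu]
    congr 1
    show ((𝒰.X (𝒰.idx u)).isoSpec.inv ≫ 𝒰.f (𝒰.idx u)) _ = u
    rw [Scheme.Hom.comp_apply, ← Scheme.Hom.comp_apply (𝒰.X (𝒰.idx u)).isoSpec.hom,
      Iso.hom_inv_id]
    exact hy
  · -- closedness over polynomial rings
    intro n Pn fstn sndn hPn
    let mn : ov (α ≫ V.hom) (MvPolynomial (Fin n) A) ⟶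
        Over.mk ((𝔸(ULift.{u} (Fin n); V.left) ↘ V.left) ≫ V.hom) :=
      Over.homMk (toAffineSpace α n) (by
        show toAffineSpace α n ≫ (𝔸(ULift.{u} (Fin n); V.left) ↘ V.left) ≫ V.hom =
          gmap A (MvPolynomial (Fin n) A) ≫ α ≫ V.hom
        rw [← Category.assoc, toAffineSpace_over, Category.assoc])
    have hmn : mn ≫ (Over.homMk (𝔸(ULift.{u} (Fin n); V.left) ↘ V.left) :
        Over.mk ((𝔸(ULift.{u} (Fin n); V.left) ↘ V.left) ≫ V.hom) ⟶ V) =
        str (α ≫ V.hom) (MvPolynomial (Fin n) A) ≫ α' := by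
      apply Over.OverMorphism.ext
      show toAffineSpace α n ≫ (𝔸(ULift.{u} (Fin n); V.left) ↘ V.left) =
        gmap A (MvPolynomial (Fin n) A) ≫ α'.left
      rw [toAffineSpace_over, hα'l]
    obtain ⟨big, hbig⟩ : ∃ big : (AlgSp.yon S).obj
        (Over.mk ((𝔸(ULift.{u} (Fin n); V.left) ↘ V.left) ≫ V.hom)) ⟶ Y,
        big = (AlgSp.yon S).map (Over.homMk (𝔸(ULift.{u} (Fin n); V.left) ↘ V.left)) ≫ p :=
      ⟨_, rfl⟩
    have hcl : IsClosedMap (Points.map (pullback.snd f big)) := by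
      subst hbig
      exact Hn n _ _ _ (IsPullback.of_hasPullback f _)
    have hmnbig : (AlgSp.yon S).map mn ≫ big =
        (AlgSp.yon S).map (str (α ≫ V.hom) (MvPolynomial (Fin n) A)) ≫
          ((AlgSp.yon S).map α' ≫ p) := by
      rw [hbig, ← Category.assoc, ← Functor.map_comp, hmn, Functor.map_comp, Category.assoc]
    have hcomm : (fstn ≫ pullback.fst f ((AlgSp.yon S).map α' ≫ p)) ≫ f =
        (sndn ≫ (AlgSp.yon S).map mn) ≫ big := by
      rw [Category.assoc, pullback.condition, ← Category.assoc, hPn.w, Category.assoc,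
        Category.assoc, hmnbig]
    let κ : Pn ⟶ pullback f big := pullback.lift _ _ hcomm
    have hκ1 : κ ≫ pullback.fst f big = fstn ≫ pullback.fst f ((AlgSp.yon S).map α' ≫ p) :=
      pullback.lift_fst _ _ _
    have hκ2 : κ ≫ pullback.snd f big = sndn ≫ (AlgSp.yon S).map mn := pullback.lift_snd _ _ _
    have houter : IsPullback (fstn ≫ pullback.fst f ((AlgSp.yon S).map α' ≫ p)) sndn f
        ((AlgSp.yon S).map mn ≫ big) := by
      rw [hmnbig]
      exact (hPn.flip.paste_vert hsq₀.flip).flip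
    have sq : IsPullback κ sndn (pullback.snd f big) ((AlgSp.yon S).map mn) := by
      refine IsPullback.of_right ?_ hκ2 (IsPullback.of_hasPullback f big)
      rw [hκ1]
      exact houter
    have hmnopen : AlgSp.RepWith @IsOpenImmersion ((AlgSp.yon S).map mn) :=
      (AlgSp.repWith_yon_map_iff @IsOpenImmersion mn).2
        (inferInstanceAs (IsOpenImmersion (toAffineSpace α n)))
    have hκopen : AlgSp.RepWith @IsOpenImmersion κ :=
      MorphismProperty.of_isPullback sq.flip hmnopen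
    have hbigsp : AlgSp.IsAlgSpace (pullback f big) :=
      Groth.Agent.Lib.Helper78.AlgSpFibre.isAlgSpace_of_isPullback (IsPullback.of_hasPullback f big)
        hY.diag hX (AlgSp.IsAlgSpace.yon_obj _)
    obtain ⟨Ub, pb, hpbe, hpbs⟩ := hbigsp.atlas
    have hemb := (isEmbedding_map_of_immersion κ
      (Groth.Agent.Lib.Helper51.ClosedSub.repWith_isImmersion_of_isOpenImmersion κ hκopen) pb hpbe hpbs).1
    exact isClosedMap_of_isPullback_of_isEmbedding sq hemb hcl
  · -- the pullback square over Spec A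
    refine IsPullback.of_right ?_ (pullback.lift_snd _ _ _) hsq₀
    rw [pullback.lift_fst]
    exact hPN

end Aff

end Groth.Agent.Lib.Helper51.UCSp
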