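import Mathlib.RingTheory.TensorProduct.Maps
import Mathlib.RingTheory.Ideal.Prime
import Mathlib.RingTheory.Ideal.Maps
import Mathlib.RingTheory.Ideal.Operations
import Mathlib.Algebra.Algebra.Subalgebra.Basic
set_option autoImplicit false
universe u
open TensorProduct

namespace Groth.Agent.Lib.Helper51.UCAlg

variable {A C B : Type u} [CommRing A] [CommRing C] [CommRing B] [Algebra A C] [Algebra A B]

/-- The map `C ⊗ B₁ → C ⊗ B` induced by `φ : B₁ → B`. -/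
noncomputable abbrev tmap {B₁ : Type u} [CommRing B₁] [Algebra A B₁] (φ : B₁ →ₐ[A] B) :
    C ⊗[A] B₁ →ₐ[A] C ⊗[A] B :=
  Algebra.TensorProduct.map (AlgHom.id A C) φ

theorem exists_finset_mem_range (d : C ⊗[A] B) :
    ∃ s : Finset B, ∀ (B₁ : Type u) [CommRing B₁] [Algebra A B₁] (φ : B₁ →ₐ[A] B),
      (s : Set B) ⊆ Set.range φ → d ∈ Set.range (tmap (C := C) φ) := by
  classical
  induction d using TensorProduct.induction_on with
  | zero => exact ⟨∅, fun B₁ _ _ φ _ => ⟨0, map_zero _⟩⟩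
  | tmul c b =>
    refine ⟨{b}, fun B₁ _ _ φ h => ?_⟩
    obtain ⟨b₁, hb₁⟩ := h (by simp : b ∈ (({b} : Finset B) : Set B))
    exact ⟨c ⊗ₜ b₁, by simp [tmap, hb₁]⟩
  | add x y hx hy =>
    obtain ⟨s, hs⟩ := hx
    obtain ⟨t, ht⟩ := hy
    refine ⟨s ∪ t, fun B₁ _ _ φ h => ?_⟩
    obtain ⟨x', hx'⟩ := hs B₁ φ (fun b hb => h (by simp [Finset.mem_coe.mp hb]))
    obtain ⟨y', hy'⟩ := ht B₁ φ (fun b hb => h (by simp [Finset.mem_coe.mp hb]))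
    exact ⟨x' + y', by rw [map_add, hx', hy']⟩

theorem exists_finset_mem_map (𝔭 : Ideal B) (y : C ⊗[A] B)
    (hy : y ∈ Ideal.map (Algebra.TensorProduct.includeRight : B →ₐ[A] C ⊗[A] B) 𝔭) :
    ∃ s : Finset B, ∀ (B₁ : Type u) [CommRing B₁] [Algebra A B₁] (φ : B₁ →ₐ[A] B),
      (s : Set B) ⊆ Set.range φ →
      ∃ y₁ ∈ Ideal.map (Algebra.TensorProduct.includeRight : B₁ →ₐ[A] C ⊗[A] B₁)
        (𝔭.comap φ), tmap (C := C) φ y₁ = y := by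
  classical
  unfold Ideal.map at hy
  induction hy using Submodule.span_induction with
  | mem x hx =>
    obtain ⟨p, hp, rfl⟩ := hx
    refine ⟨{p}, fun B₁ _ _ φ h => ?_⟩
    obtain ⟨p₁, hp₁⟩ := h (by simp : p ∈ (({p} : Finset B) : Set B))
    refine ⟨Algebra.TensorProduct.includeRight p₁, ?_, ?_⟩
    · apply Ideal.mem_map_of_mem
      show φ p₁ ∈ 𝔭
      rw [hp₁]; exact hp
    · simp [tmap, hp₁]
  | zero => exact ⟨∅, fun B₁ _ _ φ _ => ⟨0, Ideal.zero_mem _, map_zero _⟩⟩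
  | add x y _ _ hx hy =>
    obtain ⟨s, hs⟩ := hx
    obtain ⟨t, ht⟩ := hy
    refine ⟨s ∪ t, fun B₁ _ _ φ h => ?_⟩
    obtain ⟨x', hx'm, hx'⟩ := hs B₁ φ (fun b hb => h (by simp [Finset.mem_coe.mp hb]))
    obtain ⟨y', hy'm, hy'⟩ := ht B₁ φ (fun b hb => h (by simp [Finset.mem_coe.mp hb]))
    exact ⟨x' + y', Ideal.add_mem _ hx'm hy'm, by rw [map_add, hx', hy']⟩
  | smul d y _ hy =>
    obtain ⟨s, hs⟩ := exists_finset_mem_range d
    obtain ⟨t, ht⟩ := hy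
    refine ⟨s ∪ t, fun B₁ _ _ φ h => ?_⟩
    obtain ⟨d', hd'⟩ := hs B₁ φ (fun b hb => h (by simp [Finset.mem_coe.mp hb]))
    obtain ⟨y', hy'm, hy'⟩ := ht B₁ φ (fun b hb => h (by simp [Finset.mem_coe.mp hb]))
    exact ⟨d' * y', Ideal.mul_mem_left _ _ hy'm, by rw [map_mul, hd', hy', smul_eq_mul]⟩

/-- Core lemma, for an arbitrary algebra map `φ : B₁ → B` whose range contains a suitable finite
set. -/
theorem core (I : Ideal (C ⊗[A] B)) (𝔭 : Ideal B) [𝔭.IsPrime]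
    (h : ∀ q : Ideal (C ⊗[A] B), q.IsPrime → I ≤ q →
      q.comap (Algebra.TensorProduct.includeRight : B →ₐ[A] C ⊗[A] B) ≠ 𝔭) :
    ∃ s : Finset B, ∀ (B₁ : Type u) [CommRing B₁] [Algebra A B₁] (φ : B₁ →ₐ[A] B),
      (s : Set B) ⊆ Set.range φ →
      ∃ z₁ : C ⊗[A] B₁, tmap (C := C) φ z₁ ∈ I ∧
        ∀ q₁ : Ideal (C ⊗[A] B₁), q₁.IsPrime → z₁ ∈ q₁ →
          q₁.comap (Algebra.TensorProduct.includeRight : B₁ →ₐ[A] C ⊗[A] B₁) ≠ 𝔭.comap φ := by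
  classical
  let ι : B →ₐ[A] C ⊗[A] B := Algebra.TensorProduct.includeRight
  let M : Submonoid (C ⊗[A] B) := 𝔭.primeCompl.map (ι : B →* C ⊗[A] B)
  let J : Ideal (C ⊗[A] B) := I ⊔ Ideal.map ι 𝔭
  have hnd : ¬ Disjoint (J : Set (C ⊗[A] B)) (M : Set (C ⊗[A] B)) := by
    intro hd
    obtain ⟨q, hq, hJq, hqM⟩ := Ideal.exists_le_prime_disjoint J M hd
    apply h q hq (le_sup_left.trans hJq)
    apply le_antisymm
    · intro b hb
      by_contra hb'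
      exact Set.disjoint_left.mp hqM hb ⟨b, hb', rfl⟩
    · rw [← Ideal.map_le_iff_le_comap]
      exact le_sup_right.trans hJq
  rw [Set.not_disjoint_iff] at hnd
  obtain ⟨_, hxJ, ⟨s₀, hs₀, rfl⟩⟩ := hnd
  obtain ⟨z, hz, y, hy, hzy⟩ := Submodule.mem_sup.mp hxJ
  obtain ⟨s, hs⟩ := exists_finset_mem_map 𝔭 y hy
  refine ⟨insert s₀ s, fun B₁ _ _ φ hφ => ?_⟩
  obtain ⟨s₁, hs₁⟩ := hφ (by simp : s₀ ∈ ((insert s₀ s : Finset B) : Set B))
  obtain ⟨y₁, hy₁m, hy₁⟩ := hs B₁ φ (fun b hb => hφ (by simp [Finset.mem_coe.mp hb]))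
  let ι₁ : B₁ →ₐ[A] C ⊗[A] B₁ := Algebra.TensorProduct.includeRight
  refine ⟨ι₁ s₁ - y₁, ?_, ?_⟩
  · have : tmap (C := C) φ (ι₁ s₁ - y₁) = z := by
      rw [map_sub, hy₁]
      have : tmap (C := C) φ (ι₁ s₁) = ι s₀ := by simp [tmap, ι₁, ι, hs₁]
      rw [this]
      have : ι s₀ = z + y := hzy.symm
      rw [this]; ring
    rw [this]; exact hz
  · intro q₁ hq₁ hzq₁ hcomap
    have h1 : y₁ ∈ q₁ := by
      have : Ideal.map ι₁ (𝔭.comap φ) ≤ q₁ := by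
        rw [Ideal.map_le_iff_le_comap, hcomap]
      exact this hy₁m
    have h2 : ι₁ s₁ ∈ q₁ := by
      have := Ideal.add_mem _ hzq₁ h1
      simpa using this
    have h3 : s₁ ∈ q₁.comap ι₁ := h2
    rw [hcomap] at h3
    have h4 : φ s₁ ∈ 𝔭 := h3
    rw [hs₁] at h4
    exact hs₀ h4

end Groth.Agent.Lib.Helper51.UCAlg
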