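import Groth.Agent.Lib.Helper51.AlgSpUCFinal
import Groth.Agent.Lib.Helper78.AlgSpLocP2
import Groth.Agent.Lib.Helper78.AlgSpMisc
import Groth.Agent.Lib.Helper78.AlgSpLocPLofp

/-!
# Characterisations of universally closed quasi-compact morphisms of algebraic spaces (helper51)
-/

set_option autoImplicit false
set_option linter.unusedSectionVars false
universe u

open CategoryTheory CategoryTheory.Limits AlgebraicGeometry AlgSp
open Groth.Agent.Lib.Helper52 Groth.Agent.Lib.Helper51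

set_option backward.isDefEq.respectTransparency false

namespace Groth.Agent.Lib.Helper51.UCSp

variable {S : Scheme.{u}}

theorem locP_lofp_affineSpace_comp {Y : AlgSp.Sp S} (hY : AlgSp.IsAlgSpace Y) (V : Over S)
    (p : (AlgSp.yon S).obj V ⟶ Y) (hpe : AlgSp.RepWith @Etale p) (n : ℕ) :
    AlgSp.LocP @LocallyOfFinitePresentation ((AlgSp.yon S).map
      (Over.homMk (𝔸(ULift.{u} (Fin n); V.left) ↘ V.left) :
        Over.mk ((𝔸(ULift.{u} (Fin n); V.left) ↘ V.left) ≫ V.hom) ⟶ V) ≫ p) := by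
  have hE := Groth.Agent.Lib.Helper78.AlgSpLocPLofp.etLocalST_lofp.{u}
  have hp : AlgSp.LocP @LocallyOfFinitePresentation p := by
    refine Groth.Agent.Lib.Helper78.AlgSpMisc.locP_of_repWith hE p hY.atlas ?_
    refine MorphismProperty.relative_monotone (fun A B k hk => ?_) _ hpe
    have : Etale k.left := hk
    change LocallyOfFinitePresentation k.left
    infer_instance
  refine Groth.Agent.Lib.Helper78.AlgSpLocP.locP_comp hE _ p
    ⟨V, 𝟙 _, AlgSp.repWith_id _ V, AlgSp.repWith_id _ V⟩ ?_ hp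
  rw [Groth.Agent.Lib.Helper78.AlgSpLocP.locP_yon_map_iff hE]
  show LocallyOfFinitePresentation (𝔸(ULift.{u} (Fin n); V.left) ↘ V.left)
  infer_instance

theorem isUnivClosedMor_iff {X Y : AlgSp.Sp S} (hX : AlgSp.IsAlgSpace X)
    (hY : AlgSp.IsAlgSpace Y) (f : X ⟶ Y) (hqc : AlgSp.IsQuasiCompactMor f) :
    (AlgSp.IsUnivClosedMor f ↔
      ∀ (Z : AlgSp.Space S) (g : Z.obj ⟶ Y), AlgSp.LocP @LocallyOfFinitePresentation g →
        ∀ (P : AlgSp.Sp S) (fst : P ⟶ X) (snd : P ⟶ Z.obj), IsPullback fst snd f g →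
          IsClosedMap (AlgSp.Points.map snd)) ∧
    (AlgSp.IsUnivClosedMor f ↔
      ∃ (V : Over S) (p : (AlgSp.yon S).obj V ⟶ Y), AlgSp.RepWith @Etale p ∧
        AlgSp.RepWith @Surjective p ∧
        ∀ (n : ℕ) (P : AlgSp.Sp S) (fst : P ⟶ X)
          (snd : P ⟶ (AlgSp.yon S).obj
            (Over.mk ((𝔸(ULift.{u} (Fin n); V.left) ↘ V.left) ≫ V.hom))),
          IsPullback fst snd f ((AlgSp.yon S).map
            (Over.homMk (𝔸(ULift.{u} (Fin n); V.left) ↘ V.left)) ≫ p) →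
            IsClosedMap (AlgSp.Points.map snd)) := by
  have h12 : AlgSp.IsUnivClosedMor f →
      ∀ (Z : AlgSp.Space S) (g : Z.obj ⟶ Y), AlgSp.LocP @LocallyOfFinitePresentation g →
        ∀ (P : AlgSp.Sp S) (fst : P ⟶ X) (snd : P ⟶ Z.obj), IsPullback fst snd f g →
          IsClosedMap (AlgSp.Points.map snd) :=
    fun h Z g _ P fst snd sq => h Z.property g fst snd sq
  have h23 : (∀ (Z : AlgSp.Space S) (g : Z.obj ⟶ Y), AlgSp.LocP @LocallyOfFinitePresentation g →
        ∀ (P : AlgSp.Sp S) (fst : P ⟶ X) (snd : P ⟶ Z.obj), IsPullback fst snd f g →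
          IsClosedMap (AlgSp.Points.map snd)) →
      ∃ (V : Over S) (p : (AlgSp.yon S).obj V ⟶ Y), AlgSp.RepWith @Etale p ∧
        AlgSp.RepWith @Surjective p ∧
        ∀ (n : ℕ) (P : AlgSp.Sp S) (fst : P ⟶ X)
          (snd : P ⟶ (AlgSp.yon S).obj
            (Over.mk ((𝔸(ULift.{u} (Fin n); V.left) ↘ V.left) ≫ V.hom))),
          IsPullback fst snd f ((AlgSp.yon S).map
            (Over.homMk (𝔸(ULift.{u} (Fin n); V.left) ↘ V.left)) ≫ p) →
            IsClosedMap (AlgSp.Points.map snd) := by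
    intro h
    obtain ⟨V, p, hpe, hps⟩ := hY.atlas
    refine ⟨V, p, hpe, hps, fun n P fst snd sq => ?_⟩
    exact h ⟨_, AlgSp.IsAlgSpace.yon_obj _⟩ _ (locP_lofp_affineSpace_comp hY V p hpe n) P fst snd sq
  have h31 : (∃ (V : Over S) (p : (AlgSp.yon S).obj V ⟶ Y), AlgSp.RepWith @Etale p ∧
        AlgSp.RepWith @Surjective p ∧
        ∀ (n : ℕ) (P : AlgSp.Sp S) (fst : P ⟶ X)
          (snd : P ⟶ (AlgSp.yon S).obj
            (Over.mk ((𝔸(ULift.{u} (Fin n); V.left) ↘ V.left) ≫ V.hom))),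
          IsPullback fst snd f ((AlgSp.yon S).map
            (Over.homMk (𝔸(ULift.{u} (Fin n); V.left) ↘ V.left)) ≫ p) →
            IsClosedMap (AlgSp.Points.map snd)) → AlgSp.IsUnivClosedMor f := by
    rintro ⟨V, p, hpe, hps, Hn⟩
    exact isUnivClosedMor_of_affineSpace hX hY f hqc V p hpe hps Hn
  exact ⟨⟨h12, fun h => h31 (h23 h)⟩, ⟨fun h => h23 (h12 h), h31⟩⟩

end Groth.Agent.Lib.Helper51.UCSp
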