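import Groth.Agent.Lib.Helper51.AlgSpUCExtAff
import Groth.Agent.Lib.Helper51.AlgSpUCIff

/-!
# Approximating closed subsets of base changes by ones over finitely presented affine schemes
(helper51)
-/

set_option autoImplicit false
set_option linter.unusedSectionVars false
universe u

open TensorProduct CategoryTheory CategoryTheory.Limits AlgebraicGeometry AlgSp
open Groth.Agent.Lib.Helper52 Groth.Agent.Lib.Helper51 Groth.Agent.Lib.Helper39.UCFT

set_option backward.isDefEq.respectTransparency false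

namespace Groth.Agent.Lib.Helper51.UCSp

variable {S : Scheme.{u}}

set_option maxHeartbeats 3200000 in
theorem exists_closed_approx_general {X Y Z : AlgSp.Sp S} (hY : AlgSp.IsAlgSpace Y)
    (hZ : AlgSp.IsAlgSpace Z) (f : X ⟶ Y) (g : Z ⟶ Y) (hf : AlgSp.IsQuasiCompactMor f)
    (P : AlgSp.Sp S) (p₁ : P ⟶ X) (p₂ : P ⟶ Z) (hP : IsPullback p₁ p₂ f g)
    (z : AlgSp.Points Z) (T : Set (AlgSp.Points P)) (hT : IsClosed T)
    (hz : z ∉ AlgSp.Points.map p₂ '' T) :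
    ∃ (V : Over S) (_ : IsAffine V.left) (e : (AlgSp.yon S).obj V ⟶ Z)
      (_ : AlgSp.RepWith @Etale e) (v : ↥V.left)
      (_ : AlgSp.Points.map e (AlgSp.Points.schemeEquiv V v) = z)
      (Z' : Over S) (_ : IsAffine Z'.left) (b : (AlgSp.yon S).obj Z' ⟶ Y)
      (_ : AlgSp.LocP @LocallyOfFinitePresentation b)
      (a : V ⟶ Z') (_ : (AlgSp.yon S).map a ≫ b = e ≫ g),
      ∀ (P' : AlgSp.Sp S) (q₁ : P' ⟶ X) (q₂ : P' ⟶ (AlgSp.yon S).obj Z'),
        IsPullback q₁ q₂ f b →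
        ∃ T' : Set (AlgSp.Points P'), IsClosed T' ∧
          AlgSp.Points.schemeEquiv Z' (a.left v) ∉ AlgSp.Points.map q₂ '' T' ∧
          ∀ (PV : AlgSp.Sp S) (r₁ : PV ⟶ X) (r₂ : PV ⟶ (AlgSp.yon S).obj V),
            IsPullback r₁ r₂ f (e ≫ g) →
            ∀ (κ₁ : PV ⟶ P) (κ₂ : PV ⟶ P'), κ₁ ≫ p₁ = r₁ → κ₁ ≫ p₂ = r₂ ≫ e → κ₂ ≫ q₁ = r₁ →
              κ₂ ≫ q₂ = r₂ ≫ (AlgSp.yon S).map a →
              ∀ w : AlgSp.Points PV, AlgSp.Points.map κ₁ w ∈ T → AlgSp.Points.map κ₂ w ∈ T' := by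
  obtain ⟨VY, pY, hpe, hps⟩ := hY.atlas
  obtain ⟨Z₁, c₁, hc₁e, hc₁s⟩ := hZ.atlas
  obtain ⟨z₁, hz₁⟩ := surjective_ofPt_of_repWith_surjective c₁ hc₁s z
  obtain ⟨Z₂, d, e₂, sq₂⟩ := exists_isPullback_of_representable hpe.1 (c₁ ≫ g)
  have hee : Etale e₂.left := hpe.2 _ _ e₂ sq₂
  have hes : Surjective e₂.left := hps.2 _ _ e₂ sq₂
  obtain ⟨z₂, hz₂⟩ := hes.surj z₁
  have hc₂ : ((AlgSp.yon S).map e₂ ≫ c₁) ≫ g = (AlgSp.yon S).map d ≫ pY := by
    rw [Category.assoc]; exact sq₂.w.symm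
  have hc₂e : AlgSp.RepWith @Etale ((AlgSp.yon S).map e₂ ≫ c₁) :=
    repWith_etale_yon_map_comp e₂ hee c₁ hc₁e
  obtain ⟨V₀, hV₀, hV₀mem, -⟩ := exists_isAffineOpen_mem_and_subset
    (TopologicalSpace.Opens.mem_top (d.left z₂))
  obtain ⟨N₀, hN₀, hN₀mem, hle⟩ := exists_isAffineOpen_mem_and_subset
    (x := z₂) (U := d.left ⁻¹ᵁ V₀) hV₀mem
  let A : Type u := Γ(VY.left, V₀)
  let B : Type u := Γ(Z₂.left, N₀)
  let α : Spec (.of A) ⟶ VY.left := hV₀.fromSpec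
  let β : Spec (.of B) ⟶ Z₂.left := hN₀.fromSpec
  haveI : IsOpenImmersion α := hV₀.isOpenImmersion_fromSpec
  haveI : IsOpenImmersion β := hN₀.isOpenImmersion_fromSpec
  have hα : Set.range α = (V₀ : Set VY.left) := hV₀.range_fromSpec
  have hβ : Set.range β = (N₀ : Set Z₂.left) := hN₀.range_fromSpec
  have hrange : Set.range (β ≫ d.left) ⊆ Set.range α := by
    rintro _ ⟨x, rfl⟩
    rw [hα]
    have hx : β x ∈ (N₀ : Set Z₂.left) := by
      rw [← hβ]; exact Set.mem_range_self x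
    have := hle hx
    rw [Scheme.Hom.comp_apply]
    exact this
  let l : Spec (.of B) ⟶ Spec (.of A) := IsOpenImmersion.lift α (β ≫ d.left) hrange
  have hl : l ≫ α = β ≫ d.left := IsOpenImmersion.lift_fac _ _ _
  letI : Algebra A B := (Spec.preimage l).hom.toAlgebra
  have hg : gmap A B = l := by
    have : CommRingCat.ofHom (algebraMap A B) = Spec.preimage l := rfl
    unfold gmap
    rw [this, Spec.map_preimage]
  have hwd : d.left ≫ VY.hom = Z₂.hom := Over.w d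
  let βO : ov (α ≫ VY.hom) B ⟶ Z₂ := Over.homMk β (by
    show β ≫ Z₂.hom = gmap A B ≫ α ≫ VY.hom
    calc β ≫ Z₂.hom = β ≫ (d.left ≫ VY.hom) := by rw [hwd]
      _ = (β ≫ d.left) ≫ VY.hom := (Category.assoc _ _ _).symm
      _ = (l ≫ α) ≫ VY.hom := by rw [hl]
      _ = gmap A B ≫ α ≫ VY.hom := by rw [Category.assoc, hg])
  have hβd : βO ≫ d = str (α ≫ VY.hom) B ≫
      (Over.homMk α rfl : Over.mk (α ≫ VY.hom) ⟶ VY) := by
    apply Over.OverMorphism.ext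
    show β ≫ d.left = gmap A B ≫ α
    rw [hg, hl]
  obtain ⟨v, hv⟩ : ∃ v : ↥(Spec (.of B)), β v = z₂ := by
    have : z₂ ∈ Set.range β := by rw [hβ]; exact hN₀mem
    exact this
  obtain ⟨e, hedef⟩ : ∃ e : (AlgSp.yon S).obj (ov (α ≫ VY.hom) B) ⟶ Z,
      e = (AlgSp.yon S).map βO ≫ (AlgSp.yon S).map e₂ ≫ c₁ := ⟨_, rfl⟩
  have hee' : AlgSp.RepWith @Etale e := by
    rw [hedef]
    have he : Etale βO.left := inferInstanceAs (Etale β)
    exact repWith_etale_yon_map_comp βO he _ hc₂e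
  have hev : AlgSp.Points.map e (AlgSp.Points.schemeEquiv (ov (α ≫ VY.hom) B) v) = z := by
    show AlgSp.Points.map e (AlgSp.Points.ofScheme _ v) = z
    rw [← Points.ofPt_eq_map_ofScheme, hedef, ofPt_yon_map_comp, ofPt_yon_map_comp]
    have : βO.left v = z₂ := hv
    rw [this, hz₂, hz₁]
  have heg : e ≫ g = (AlgSp.yon S).map (str (α ≫ VY.hom) B) ≫
      (AlgSp.yon S).map (Over.homMk α rfl : Over.mk (α ≫ VY.hom) ⟶ VY) ≫ pY := by
    rw [hedef, Category.assoc, hc₂, ← Category.assoc, ← Functor.map_comp, hβd, Functor.map_comp,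
      Category.assoc]
  -- the base change to the chart
  have hPN : IsPullback (pullback.fst f (e ≫ g)) (pullback.snd f (e ≫ g)) f
      ((AlgSp.yon S).map (str (α ≫ VY.hom) B) ≫
      (AlgSp.yon S).map (Over.homMk α rfl : Over.mk (α ≫ VY.hom) ⟶ VY) ≫ pY) := by
    rw [← heg]; exact IsPullback.of_hasPullback _ _
  let κ₀ : pullback f (e ≫ g) ⟶ P :=
    hP.lift (pullback.fst f (e ≫ g)) (pullback.snd f (e ≫ g) ≫ e)
      (by rw [pullback.condition, Category.assoc])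
  have hκ₀1 : κ₀ ≫ p₁ = pullback.fst f (e ≫ g) := hP.lift_fst _ _ _
  have hκ₀2 : κ₀ ≫ p₂ = pullback.snd f (e ≫ g) ≫ e := hP.lift_snd _ _ _
  have hTN : IsClosed ((Points.map κ₀) ⁻¹' T) := hT.preimage (Points.continuous_map κ₀)
  have ht : Points.ofScheme (ov (α ≫ VY.hom) B) v ∉
      Points.map (pullback.snd f (e ≫ g)) '' ((Points.map κ₀) ⁻¹' T) := by
    rintro ⟨τ, hτ, hτv⟩
    apply hz
    refine ⟨Points.map κ₀ τ, hτ, ?_⟩
    rw [← Points.map_comp, hκ₀2, Points.map_comp, hτv]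
    exact hev
  obtain ⟨n, φ, hnφ⟩ := exists_closed_approx_affine f hf VY pY α B hPN _ hTN v ht
  have hE := Groth.Agent.Lib.Helper78.AlgSpLocPLofp.etLocalST_lofp.{u}
  have hpY : AlgSp.LocP @LocallyOfFinitePresentation pY := by
    refine Groth.Agent.Lib.Helper78.AlgSpMisc.locP_of_repWith hE pY hY.atlas ?_
    refine MorphismProperty.relative_monotone (fun A B k hk => ?_) _ hpe
    have : Etale k.left := hk
    change LocallyOfFinitePresentation k.left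
    infer_instance
  have hb : AlgSp.LocP @LocallyOfFinitePresentation
      ((AlgSp.yon S).map (str (α ≫ VY.hom) (MvPolynomial (Fin n) A)) ≫
        (AlgSp.yon S).map (Over.homMk α rfl : Over.mk (α ≫ VY.hom) ⟶ VY) ≫ pY) := by
    rw [← Category.assoc, ← Functor.map_comp]
    refine Groth.Agent.Lib.Helper78.AlgSpLocP.locP_comp hE _ pY
      ⟨VY, 𝟙 _, AlgSp.repWith_id _ VY, AlgSp.repWith_id _ VY⟩ ?_ hpY
    rw [Groth.Agent.Lib.Helper78.AlgSpLocP.locP_yon_map_iff hE]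
    show LocallyOfFinitePresentation (gmap A (MvPolynomial (Fin n) A) ≫ α)
    have : LocallyOfFinitePresentation (gmap A (MvPolynomial (Fin n) A)) := by
      unfold gmap
      rw [HasRingHomProperty.Spec_iff (P := @LocallyOfFinitePresentation)]
      exact RingHom.finitePresentation_algebraMap.2
        (inferInstance : Algebra.FinitePresentation A (MvPolynomial (Fin n) A))
    infer_instance
  have ha : (AlgSp.yon S).map (ovMap (α ≫ VY.hom) φ) ≫
      ((AlgSp.yon S).map (str (α ≫ VY.hom) (MvPolynomial (Fin n) A)) ≫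
        (AlgSp.yon S).map (Over.homMk α rfl : Over.mk (α ≫ VY.hom) ⟶ VY) ≫ pY) = e ≫ g := by
    rw [heg, ← Category.assoc, ← Functor.map_comp, ovMap_str]
  refine ⟨ov (α ≫ VY.hom) B, inferInstanceAs (IsAffine (Spec (.of B))), e, hee', v, hev,
    ov (α ≫ VY.hom) (MvPolynomial (Fin n) A),
    inferInstanceAs (IsAffine (Spec (.of (MvPolynomial (Fin n) A)))), _, hb,
    ovMap (α ≫ VY.hom) φ, ha, ?_⟩
  intro P' q₁ q₂ hP'
  obtain ⟨T', hT'c, hT't, hT'T⟩ := hnφ P' q₁ q₂ hP'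
  refine ⟨T', hT'c, hT't, ?_⟩
  intro PV r₁ r₂ hPV κ₁ κ₂ h1 h2 h3 h4 w hw
  let ι : PV ⟶ pullback f (e ≫ g) := pullback.lift r₁ r₂ hPV.w
  have hι1 : ι ≫ pullback.fst f (e ≫ g) = r₁ := pullback.lift_fst _ _ _
  have hι2 : ι ≫ pullback.snd f (e ≫ g) = r₂ := pullback.lift_snd _ _ _
  have hκ₁ : κ₁ = ι ≫ κ₀ := by
    apply hP.hom_ext
    · rw [h1, Category.assoc, hκ₀1, hι1]
    · rw [h2, Category.assoc, hκ₀2, ← Category.assoc, hι2]
  have hτ : Points.map ι w ∈ (Points.map κ₀) ⁻¹' T := by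
    show Points.map κ₀ (Points.map ι w) ∈ T
    rw [← Points.map_comp, ← hκ₁]; exact hw
  have hcomm : pullback.fst f (e ≫ g) ≫ f = (pullback.snd f (e ≫ g) ≫
      (AlgSp.yon S).map (ovMap (α ≫ VY.hom) φ)) ≫
      ((AlgSp.yon S).map (str (α ≫ VY.hom) (MvPolynomial (Fin n) A)) ≫
        (AlgSp.yon S).map (Over.homMk α rfl : Over.mk (α ≫ VY.hom) ⟶ VY) ≫ pY) := by
    rw [Category.assoc, ha, pullback.condition]
  let πP : pullback f (e ≫ g) ⟶ P' := hP'.lift _ _ hcomm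
  have hπ1 : πP ≫ q₁ = pullback.fst f (e ≫ g) := hP'.lift_fst _ _ _
  have hπ2 : πP ≫ q₂ = pullback.snd f (e ≫ g) ≫ (AlgSp.yon S).map (ovMap (α ≫ VY.hom) φ) :=
    hP'.lift_snd _ _ _
  have hκ₂ : κ₂ = ι ≫ πP := by
    apply hP'.hom_ext
    · rw [h3, Category.assoc, hπ1, hι1]
    · rw [h4, Category.assoc, hπ2, ← Category.assoc, hι2]
  rw [hκ₂, Points.map_comp]
  exact hT'T πP hπ1 hπ2 _ hτ

end Groth.Agent.Lib.Helper51.UCSp
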