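import Groth.Agent.Lib.Helper51.AlgSpPoints2
import Groth.Agent.Lib.Helper51.AlgSpUCAlg
import Groth.Agent.Lib.Helper39.UCFT

/-!
# Affine charts of base changes of an algebraic space over an affine base (helper51)
-/

set_option autoImplicit false
set_option linter.unusedSectionVars false
universe u

open TensorProduct CategoryTheory CategoryTheory.Limits AlgebraicGeometry AlgSp
open Groth.Agent.Lib.Helper52 Groth.Agent.Lib.Helper51 Groth.Agent.Lib.Helper39.UCFT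

set_option backward.isDefEq.respectTransparency false

namespace Groth.Agent.Lib.Helper51.UCSp

variable {S : Scheme.{u}} {A : Type u} [CommRing A] (σ : Spec (.of A) ⟶ S)

/-- The spectrum of an `A`-algebra, over `S` through `σ : Spec A ⟶ S`. -/
noncomputable abbrev ov (B : Type u) [CommRing B] [Algebra A B] : Over S := Over.mk (gmap A B ≫ σ)

/-- The structure map `Spec B ⟶ Spec A` over `S`. -/
noncomputable abbrev str (B : Type u) [CommRing B] [Algebra A B] : ov σ B ⟶ Over.mk σ :=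
  Over.homMk (gmap A B) rfl

/-- The map `Spec B ⟶ Spec B₁` over `S` induced by an algebra map. -/
noncomputable def ovMap {B₁ B : Type u} [CommRing B₁] [Algebra A B₁] [CommRing B] [Algebra A B]
    (φ : B₁ →ₐ[A] B) : ov σ B ⟶ ov σ B₁ :=
  Over.homMk (piT φ) (by
    show piT φ ≫ gmap A B₁ ≫ σ = gmap A B ≫ σ
    rw [← Category.assoc, piT_gmap])

theorem ovMap_str {B₁ B : Type u} [CommRing B₁] [Algebra A B₁] [CommRing B] [Algebra A B]
    (φ : B₁ →ₐ[A] B) : ovMap σ φ ≫ str σ B₁ = str σ B :=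
  Over.OverMorphism.ext (piT_gmap φ)

theorem ovMap_comp {B₂ B₁ B : Type u} [CommRing B₂] [Algebra A B₂] [CommRing B₁] [Algebra A B₁]
    [CommRing B] [Algebra A B] (φ : B₁ →ₐ[A] B) (ψ : B₂ →ₐ[A] B₁) :
    ovMap σ φ ≫ ovMap σ ψ = ovMap σ (φ.comp ψ) := by
  apply Over.OverMorphism.ext
  show piT φ ≫ piT ψ = piT (φ.comp ψ)
  unfold piT
  rw [← Spec.map_comp]
  rfl

section Chart

variable (C : Type u) [CommRing C] [Algebra A C] (B : Type u) [CommRing B] [Algebra A B]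

/-- `Spec (C ⊗ B) ⟶ Spec C` over `S`. -/
noncomputable abbrev inlO : ov σ (C ⊗[A] B) ⟶ ov σ C :=
  ovMap σ (Algebra.TensorProduct.includeLeft : C →ₐ[A] C ⊗[A] B)

/-- `Spec (C ⊗ B) ⟶ Spec B` over `S`. -/
noncomputable abbrev inrO : ov σ (C ⊗[A] B) ⟶ ov σ B :=
  ovMap σ (Algebra.TensorProduct.includeRight : B →ₐ[A] C ⊗[A] B)

theorem isPullback_inlO_inrO : IsPullback (inlO σ C B) (inrO σ C B) (str σ C) (str σ B) :=
  IsPullback.of_map_of_faithful (Over.forget S) (isPullback_inl_inr A C B)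

variable {X₀ : AlgSp.Sp S} (h₀ : X₀ ⟶ (AlgSp.yon S).obj (Over.mk σ))
  (q : (AlgSp.yon S).obj (ov σ C) ⟶ X₀) (hq : q ≫ h₀ = (AlgSp.yon S).map (str σ C))
  {P : AlgSp.Sp S} {fst : P ⟶ X₀} {snd : P ⟶ (AlgSp.yon S).obj (ov σ B)}
  (hP : IsPullback fst snd h₀ ((AlgSp.yon S).map (str σ B)))

/-- The chart `Spec (C ⊗ B) ⟶ X₀ ×_{Spec A} Spec B`. -/
noncomputable def kP : (AlgSp.yon S).obj (ov σ (C ⊗[A] B)) ⟶ P :=
  hP.lift ((AlgSp.yon S).map (inlO σ C B) ≫ q) ((AlgSp.yon S).map (inrO σ C B)) (by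
    rw [Category.assoc, hq, ← Functor.map_comp, ← Functor.map_comp, (isPullback_inlO_inrO σ C B).w])

theorem kP_fst : kP σ C B h₀ q hq hP ≫ fst = (AlgSp.yon S).map (inlO σ C B) ≫ q :=
  hP.lift_fst _ _ _

theorem kP_snd : kP σ C B h₀ q hq hP ≫ snd = (AlgSp.yon S).map (inrO σ C B) :=
  hP.lift_snd _ _ _

theorem isPullback_kP :
    IsPullback (kP σ C B h₀ q hq hP) ((AlgSp.yon S).map (inlO σ C B)) fst q := by
  have big : IsPullback ((AlgSp.yon S).map (inrO σ C B)) ((AlgSp.yon S).map (inlO σ C B))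
      ((AlgSp.yon S).map (str σ B)) ((AlgSp.yon S).map (str σ C)) :=
    ((isPullback_inlO_inrO σ C B).map (AlgSp.yon S)).flip
  refine IsPullback.of_right ?_ (kP_fst σ C B h₀ q hq hP) hP.flip
  rw [kP_snd, hq]
  exact big

theorem repWith_etale_kP (hqe : AlgSp.RepWith @Etale q) :
    AlgSp.RepWith @Etale (kP σ C B h₀ q hq hP) :=
  MorphismProperty.of_isPullback (isPullback_kP σ C B h₀ q hq hP).flip hqe

end Chart

section Level

variable (C : Type u) [CommRing C] [Algebra A C] {B₁ B : Type u} [CommRing B₁] [Algebra A B₁]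
  [CommRing B] [Algebra A B] (φ : B₁ →ₐ[A] B)
  {X₀ : AlgSp.Sp S} (h₀ : X₀ ⟶ (AlgSp.yon S).obj (Over.mk σ))
  (q : (AlgSp.yon S).obj (ov σ C) ⟶ X₀) (hq : q ≫ h₀ = (AlgSp.yon S).map (str σ C))
  {P : AlgSp.Sp S} {fst : P ⟶ X₀} {snd : P ⟶ (AlgSp.yon S).obj (ov σ B)}
  (hP : IsPullback fst snd h₀ ((AlgSp.yon S).map (str σ B)))
  {P₁ : AlgSp.Sp S} {fst₁ : P₁ ⟶ X₀} {snd₁ : P₁ ⟶ (AlgSp.yon S).obj (ov σ B₁)}
  (hP₁ : IsPullback fst₁ snd₁ h₀ ((AlgSp.yon S).map (str σ B₁)))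

/-- `Spec (C ⊗ B) ⟶ Spec (C ⊗ B₁)` over `S`. -/
noncomputable abbrev piCO : ov σ (C ⊗[A] B) ⟶ ov σ (C ⊗[A] B₁) :=
  ovMap σ (Algebra.TensorProduct.map (AlgHom.id A C) φ)

theorem piCO_inlO : piCO σ C φ ≫ inlO σ C B₁ = inlO σ C B := by
  rw [ovMap_comp]
  congr 1
  ext c
  simp

theorem piCO_inrO : piCO σ C φ ≫ inrO σ C B₁ = inrO σ C B ≫ ovMap σ φ := by
  rw [ovMap_comp, ovMap_comp]
  congr 1

/-- The map `X₀ ×_{Spec A} Spec B ⟶ X₀ ×_{Spec A} Spec B₁`. -/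
noncomputable def piXO : P ⟶ P₁ :=
  hP₁.lift fst (snd ≫ (AlgSp.yon S).map (ovMap σ φ)) (by
    rw [hP.w, Category.assoc, ← Functor.map_comp, ovMap_str])

theorem piXO_fst : piXO σ φ h₀ hP hP₁ ≫ fst₁ = fst := hP₁.lift_fst _ _ _

theorem piXO_snd : piXO σ φ h₀ hP hP₁ ≫ snd₁ = snd ≫ (AlgSp.yon S).map (ovMap σ φ) :=
  hP₁.lift_snd _ _ _

theorem kP_piXO : kP σ C B h₀ q hq hP ≫ piXO σ φ h₀ hP hP₁ =
    (AlgSp.yon S).map (piCO σ C φ) ≫ kP σ C B₁ h₀ q hq hP₁ := by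
  apply hP₁.hom_ext
  · rw [Category.assoc, piXO_fst, kP_fst, Category.assoc, kP_fst, ← Category.assoc,
      ← Functor.map_comp, piCO_inlO]
  · rw [Category.assoc, piXO_snd, ← Category.assoc, kP_snd, Category.assoc, kP_snd,
      ← Functor.map_comp, ← Functor.map_comp, piCO_inrO]

theorem isPullback_kP_piXO :
    IsPullback (kP σ C B h₀ q hq hP) ((AlgSp.yon S).map (piCO σ C φ)) (piXO σ φ h₀ hP hP₁)
      (kP σ C B₁ h₀ q hq hP₁) := by
  refine IsPullback.of_bot ?_ (kP_piXO σ C φ h₀ q hq hP hP₁)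
    (isPullback_kP σ C B₁ h₀ q hq hP₁)
  rw [← Functor.map_comp, piCO_inlO, piXO_fst]
  exact isPullback_kP σ C B h₀ q hq hP

end Level

end Groth.Agent.Lib.Helper51.UCSp
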