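import Groth.Agent.Lib.Helper51.AlgSpUCMain

/-!
# Approximating a closed subset missing a fibre by one over a polynomial ring (helper51)
-/

set_option autoImplicit false
set_option linter.unusedSectionVars false
universe u

open TensorProduct CategoryTheory CategoryTheory.Limits AlgebraicGeometry AlgSp
open Groth.Agent.Lib.Helper52 Groth.Agent.Lib.Helper51 Groth.Agent.Lib.Helper39.UCFT

set_option backward.isDefEq.respectTransparency false

namespace Groth.Agent.Lib.Helper51.UCSp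

variable {S : Scheme.{u}} {A : Type u} [CommRing A] (σ : Spec (.of A) ⟶ S)

set_option maxHeartbeats 1600000 in
theorem exists_closed_approx
    {X₀ : AlgSp.Sp S} (h₀ : X₀ ⟶ (AlgSp.yon S).obj (Over.mk σ))
    {ι : Type*} [Finite ι] (C : ι → Type u) [∀ j, CommRing (C j)] [∀ j, Algebra A (C j)]
    (q : ∀ j, (AlgSp.yon S).obj (ov σ (C j)) ⟶ X₀)
    (hq : ∀ j, q j ≫ h₀ = (AlgSp.yon S).map (str σ (C j)))
    (hqe : ∀ j, AlgSp.RepWith @Etale (q j))
    (hcov : ∀ x : Points X₀, ∃ j u, Points.ofPt (q j) u = x)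
    (B : Type u) [CommRing B] [Algebra A B]
    {P : AlgSp.Sp S} {fst : P ⟶ X₀} {snd : P ⟶ (AlgSp.yon S).obj (ov σ B)}
    (hP : IsPullback fst snd h₀ ((AlgSp.yon S).map (str σ B)))
    (T : Set (Points P)) (hT : IsClosed T) (t : ↥(ov σ B).left)
    (ht' : Points.ofScheme (ov σ B) t ∉ Points.map snd '' T) :
    ∃ (n : ℕ) (φ : MvPolynomial (Fin n) A →ₐ[A] B),
      ∀ (P₁ : AlgSp.Sp S) (fst₁ : P₁ ⟶ X₀)
        (snd₁ : P₁ ⟶ (AlgSp.yon S).obj (ov σ (MvPolynomial (Fin n) A)))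
        (hP₁ : IsPullback fst₁ snd₁ h₀ ((AlgSp.yon S).map (str σ (MvPolynomial (Fin n) A)))),
        ∃ T₁ : Set (Points P₁), IsClosed T₁ ∧
          Points.ofScheme (ov σ (MvPolynomial (Fin n) A)) ((ovMap σ φ).left t) ∉
            Points.map snd₁ '' T₁ ∧
          ∀ τ ∈ T, Points.map (piXO σ φ h₀ hP hP₁) τ ∈ T₁ := by
  classical
  have := Fintype.ofFinite ι
  -- charts
  let K : ∀ j, (AlgSp.yon S).obj (ov σ (C j ⊗[A] B)) ⟶ P :=
    fun j => kP σ (C j) B h₀ (q j) (hq j) hP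
  let TK : ∀ j, Set (PrimeSpectrum (C j ⊗[A] B)) := fun j => (Points.ofPt (K j)) ⁻¹' T
  have hTK : ∀ j, IsClosed (TK j) := fun j => hT.preimage (Points.continuous_ofPt (K j))
  let I : ∀ j, Ideal (C j ⊗[A] B) := fun j => PrimeSpectrum.vanishingIdeal (TK j)
  haveI : t.asIdeal.IsPrime := t.2
  have hsnd : ∀ j (w : PrimeSpectrum (C j ⊗[A] B)), Points.map snd (Points.ofPt (K j) w) =
      Points.ofScheme (ov σ B) ((inrO σ (C j) B).left w) := by
    intro j w
    rw [Points.map_ofPt, kP_snd, ofPt_yon_map]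
  have hcore : ∀ j, ∀ qq : Ideal (C j ⊗[A] B), qq.IsPrime → I j ≤ qq →
      qq.comap (Algebra.TensorProduct.includeRight : B →ₐ[A] C j ⊗[A] B) ≠ t.asIdeal := by
    intro j qq hqq hIq hcomap
    apply ht'
    let w : PrimeSpectrum (C j ⊗[A] B) := ⟨qq, hqq⟩
    have h0 : w ∈ closure (TK j) := by
      rw [← PrimeSpectrum.zeroLocus_vanishingIdeal_eq_closure]
      exact hIq
    have h1 : w ∈ TK j := (hTK j).closure_subset h0
    refine ⟨Points.ofPt (K j) w, h1, ?_⟩
    rw [hsnd]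
    congr 1
    exact PrimeSpectrum.ext hcomap
  choose s hs using fun j => UCAlg.core (I j) t.asIdeal (hcore j)
  let sAll : Finset B := Finset.univ.biUnion s
  let n : ℕ := sAll.card
  let e : Fin n ≃ sAll := sAll.equivFin.symm
  let φ : MvPolynomial (Fin n) A →ₐ[A] B := MvPolynomial.aeval (fun i => ((e i : sAll) : B))
  have hsub : ∀ j, (s j : Set B) ⊆ Set.range φ := by
    intro j b hb
    have hb' : b ∈ sAll := Finset.mem_biUnion.mpr ⟨j, Finset.mem_univ j, Finset.mem_coe.mp hb⟩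
    refine ⟨MvPolynomial.X (e.symm ⟨b, hb'⟩), ?_⟩
    simp [φ]
  choose z hzI hzq using fun j => hs j (MvPolynomial (Fin n) A) φ (hsub j)
  refine ⟨n, φ, ?_⟩
  intro P₁ fst₁ snd₁ hP₁
  let K₁ : ∀ j, (AlgSp.yon S).obj (ov σ (C j ⊗[A] MvPolynomial (Fin n) A)) ⟶ P₁ :=
    fun j => kP σ (C j) (MvPolynomial (Fin n) A) h₀ (q j) (hq j) hP₁
  have hK₁open : ∀ j, IsOpenMap (Points.ofPt (K₁ j)) := fun j =>
    isOpenMap_ofPt_of_etale (K₁ j)
      (repWith_etale_kP σ (C j) (MvPolynomial (Fin n) A) h₀ (q j) (hq j) hP₁ (hqe j))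
  let O : Set (Points P₁) :=
    ⋃ j, Points.ofPt (K₁ j) ''
      (PrimeSpectrum.basicOpen (z j) : Set (PrimeSpectrum (C j ⊗[A] MvPolynomial (Fin n) A)))
  have hO : IsOpen O := isOpen_iUnion fun j =>
    hK₁open j _ (PrimeSpectrum.basicOpen (z j)).2
  let π : ov σ B ⟶ ov σ (MvPolynomial (Fin n) A) := ovMap σ φ
  let πX := piXO σ φ h₀ hP hP₁
  refine ⟨Oᶜ, hO.isClosed_compl, ?_, ?_⟩
  · -- the fibre over the image of t is missed
    rintro ⟨x₁, hx₁, hx₁t⟩
    obtain ⟨j, u₀, hu₀⟩ := hcov (Points.map fst₁ x₁)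
    have hsq := isPullback_kP σ (C j) (MvPolynomial (Fin n) A) h₀ (q j) (hq j) hP₁
    have hu₀' : Points.map fst₁ x₁ = Points.map (q j) (Points.ofScheme _ u₀) := by
      rw [← Points.ofPt_eq_map_ofScheme]; exact hu₀.symm
    obtain ⟨w', hw'1, -⟩ := exists_point_of_isPullback hsq x₁ (Points.ofScheme _ u₀) hu₀'
    obtain ⟨u, rfl⟩ := (Points.schemeEquiv _).surjective w'
    have hu1 : Points.ofPt (K₁ j) u = x₁ := by
      rw [Points.ofPt_eq_map_ofScheme]; exact hw'1
    have h2 : z j ∈ u.asIdeal := by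
      by_contra hnot
      exact hx₁ (Set.mem_iUnion.mpr ⟨j, u, hnot, hu1⟩)
    have h3 : Points.ofScheme (ov σ (MvPolynomial (Fin n) A))
        ((inrO σ (C j) (MvPolynomial (Fin n) A)).left u) =
        Points.ofScheme (ov σ (MvPolynomial (Fin n) A)) (π.left t) := by
      rw [← hx₁t, ← hu1, Points.map_ofPt, kP_snd, ofPt_yon_map]
    have h4 := ofScheme_injective _ h3
    have h5 := congr_arg PrimeSpectrum.asIdeal h4
    exact hzq j u.asIdeal u.2 h2 h5
  · -- T maps into the complement of O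
    intro zz hzz hmemO
    obtain ⟨j, u, hu, huz⟩ := Set.mem_iUnion.mp hmemO
    have hsq := isPullback_kP_piXO σ (C j) φ h₀ (q j) (hq j) hP hP₁
    have hu' : Points.map πX zz = Points.map (K₁ j) (Points.ofScheme _ u) := by
      rw [← Points.ofPt_eq_map_ofScheme]; exact huz.symm
    obtain ⟨w', hw'1, hw'2⟩ := exists_point_of_isPullback hsq zz (Points.ofScheme _ u) hu'
    obtain ⟨v, rfl⟩ := (Points.schemeEquiv _).surjective w'
    have hv1 : Points.ofPt (K j) v = zz := by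
      rw [Points.ofPt_eq_map_ofScheme]; exact hw'1
    have hvT : v ∈ TK j := by
      show Points.ofPt (K j) v ∈ T
      rw [hv1]; exact hzz
    have h6 : I j ≤ v.asIdeal := by
      intro d hd
      exact (PrimeSpectrum.mem_vanishingIdeal _ _).mp hd v hvT
    have h7 : z j ∈ ((piCO σ (C j) φ).left v).asIdeal := h6 (hzI j)
    have h8 : (piCO σ (C j) φ).left v = u := by
      have h9 : Points.map ((AlgSp.yon S).map (piCO σ (C j) φ)) (Points.ofScheme _ v) =
          Points.ofScheme _ u := hw'2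
      rw [map_yon_map_ofScheme] at h9
      exact ofScheme_injective _ h9
    rw [h8] at h7
    exact hu h7

end Groth.Agent.Lib.Helper51.UCSp
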