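import Groth.Agent.Lib.Helper51.AlgSpUCExt
import Groth.Agent.Lib.Helper51.AlgSpUCAff

/-!
# Approximating closed subsets of base changes: affine-local step (helper51)
-/

set_option autoImplicit false
set_option linter.unusedSectionVars false
universe u

open TensorProduct CategoryTheory CategoryTheory.Limits AlgebraicGeometry AlgSp
open Groth.Agent.Lib.Helper52 Groth.Agent.Lib.Helper51 Groth.Agent.Lib.Helper39.UCFT

set_option backward.isDefEq.respectTransparency false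

namespace Groth.Agent.Lib.Helper51.UCSp

variable {S : Scheme.{u}}

set_option maxHeartbeats 1600000 in
theorem exists_closed_approx_affine {X Y : AlgSp.Sp S}
    (f : X ⟶ Y) (hqc : AlgSp.IsQuasiCompactMor f)
    (V : Over S) (p : (AlgSp.yon S).obj V ⟶ Y)
    {A : Type u} [CommRing A] (α : Spec (.of A) ⟶ V.left) [IsOpenImmersion α]
    (B : Type u) [CommRing B] [Algebra A B]
    {PN : AlgSp.Sp S} {a : PN ⟶ X} {b : PN ⟶ (AlgSp.yon S).obj (ov (α ≫ V.hom) B)}
    (hPN : IsPullback a b f ((AlgSp.yon S).map (str (α ≫ V.hom) B) ≫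
      (AlgSp.yon S).map (Over.homMk α rfl : Over.mk (α ≫ V.hom) ⟶ V) ≫ p))
    (T : Set (Points PN)) (hT : IsClosed T) (t : ↥(ov (α ≫ V.hom) B).left)
    (ht : Points.ofScheme (ov (α ≫ V.hom) B) t ∉ Points.map b '' T) :
    ∃ (n : ℕ) (φ : MvPolynomial (Fin n) A →ₐ[A] B),
      ∀ (P' : AlgSp.Sp S) (q₁ : P' ⟶ X)
        (q₂ : P' ⟶ (AlgSp.yon S).obj (ov (α ≫ V.hom) (MvPolynomial (Fin n) A))),
        IsPullback q₁ q₂ f ((AlgSp.yon S).map (str (α ≫ V.hom) (MvPolynomial (Fin n) A)) ≫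
          (AlgSp.yon S).map (Over.homMk α rfl : Over.mk (α ≫ V.hom) ⟶ V) ≫ p) →
        ∃ T' : Set (Points P'), IsClosed T' ∧
          Points.ofScheme (ov (α ≫ V.hom) (MvPolynomial (Fin n) A))
            ((ovMap (α ≫ V.hom) φ).left t) ∉ Points.map q₂ '' T' ∧
          ∀ πP : PN ⟶ P', πP ≫ q₁ = a →
            πP ≫ q₂ = b ≫ (AlgSp.yon S).map (ovMap (α ≫ V.hom) φ) →
            ∀ τ ∈ T, Points.map πP τ ∈ T' := by
  obtain ⟨α', hα'⟩ : ∃ α' : Over.mk (α ≫ V.hom) ⟶ V, α' = Over.homMk α rfl := ⟨_, rfl⟩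
  rw [← hα'] at hPN
  simp only [← hα']
  -- the base change to Spec A
  have hsq₀ := IsPullback.of_hasPullback f ((AlgSp.yon S).map α' ≫ p)
  haveI : CompactSpace ↥(Over.mk (α ≫ V.hom)).left :=
    inferInstanceAs (CompactSpace ↥(Spec (.of A)))
  have hX₀ : AlgSp.IsQuasiCompactSp (pullback f ((AlgSp.yon S).map α' ≫ p)) :=
    hqc (AlgSp.IsAlgSpace.yon_obj _)
      (Groth.Agent.Lib.Helper30.isQuasiCompactSp_yon_obj (Over.mk (α ≫ V.hom))) _ _ _ hsq₀
  obtain ⟨U, c, hce, hcs, hUc⟩ := hX₀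
  haveI : CompactSpace ↥U.left := hUc
  -- affine charts of U
  let 𝒰 := U.left.affineCover.finiteSubcover
  have hfin : Finite 𝒰.I₀ := inferInstance
  have haff : ∀ j, IsAffine (𝒰.X j) := fun j => inferInstance
  let C : 𝒰.I₀ → Type u := fun j => Γ(𝒰.X j, ⊤)
  let h : ∀ j, Spec (.of (C j)) ⟶ U.left := fun j => (𝒰.X j).isoSpec.inv ≫ 𝒰.f j
  have hopen : ∀ j, IsOpenImmersion (h j) := fun j => inferInstance
  let mU : U ⟶ Over.mk (α ≫ V.hom) :=
    (AlgSp.yon S).preimage (c ≫ pullback.snd f ((AlgSp.yon S).map α' ≫ p))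
  have hmU : (AlgSp.yon S).map mU = c ≫ pullback.snd f ((AlgSp.yon S).map α' ≫ p) :=
    Functor.map_preimage _ _
  letI alg : ∀ j, Algebra A (C j) := fun j => (Spec.preimage (h j ≫ mU.left)).hom.toAlgebra
  have hg : ∀ j, gmap A (C j) = h j ≫ mU.left := fun j => by
    have : CommRingCat.ofHom (algebraMap A (C j)) = Spec.preimage (h j ≫ mU.left) := rfl
    unfold gmap
    rw [this, Spec.map_preimage]
  have hwU : mU.left ≫ (α ≫ V.hom) = U.hom := Over.w mU
  let aj : ∀ j, ov (α ≫ V.hom) (C j) ⟶ U := fun j => Over.homMk (h j) (by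
    show h j ≫ U.hom = gmap A (C j) ≫ α ≫ V.hom
    calc h j ≫ U.hom = h j ≫ (mU.left ≫ α ≫ V.hom) := by rw [hwU]
      _ = (h j ≫ mU.left) ≫ α ≫ V.hom := (Category.assoc _ _ _).symm
      _ = gmap A (C j) ≫ α ≫ V.hom := by rw [hg j])
  have haj : ∀ j, aj j ≫ mU = str (α ≫ V.hom) (C j) := fun j =>
    Over.OverMorphism.ext (hg j).symm
  have hq : ∀ j, ((AlgSp.yon S).map (aj j) ≫ c) ≫ pullback.snd f ((AlgSp.yon S).map α' ≫ p) =
      (AlgSp.yon S).map (str (α ≫ V.hom) (C j)) := by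
    intro j
    rw [Category.assoc, ← hmU, ← Functor.map_comp, haj j]
  have hqe : ∀ j, AlgSp.RepWith @Etale ((AlgSp.yon S).map (aj j) ≫ c) := by
    intro j
    have he : Etale (aj j).left := by
      have := hopen j
      show Etale (h j)
      infer_instance
    exact repWith_etale_yon_map_comp (aj j) he c hce
  have hcov : ∀ x : Points (pullback f ((AlgSp.yon S).map α' ≫ p)),
      ∃ j u, Points.ofPt ((AlgSp.yon S).map (aj j) ≫ c) u = x := by
    intro x
    obtain ⟨u, hu⟩ := surjective_ofPt_of_repWith_surjective c hcs x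
    obtain ⟨y, hy⟩ := 𝒰.covers u
    refine ⟨𝒰.idx u, (𝒰.X (𝒰.idx u)).isoSpec.hom y, ?_⟩
    rw [ofPt_yon_map_comp, ← hu]
    congr 1
    show ((𝒰.X (𝒰.idx u)).isoSpec.inv ≫ 𝒰.f (𝒰.idx u)) _ = u
    rw [Scheme.Hom.comp_apply, ← Scheme.Hom.comp_apply (𝒰.X (𝒰.idx u)).isoSpec.hom,
      Iso.hom_inv_id]
    exact hy
  -- the pullback square over Spec A
  have hP : IsPullback (pullback.lift a (b ≫ (AlgSp.yon S).map (str (α ≫ V.hom) B))
      (by rw [hPN.w, Category.assoc])) b (pullback.snd f ((AlgSp.yon S).map α' ≫ p))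
      ((AlgSp.yon S).map (str (α ≫ V.hom) B)) := by
    refine IsPullback.of_right ?_ (pullback.lift_snd _ _ _) hsq₀
    rw [pullback.lift_fst]
    exact hPN
  obtain ⟨n, φ, hnφ⟩ := exists_closed_approx (α ≫ V.hom)
    (pullback.snd f ((AlgSp.yon S).map α' ≫ p)) C
    (fun j => (AlgSp.yon S).map (aj j) ≫ c) hq hqe hcov B hP T hT t ht
  refine ⟨n, φ, ?_⟩
  intro P' q₁ q₂ hP'
  have hP₁ : IsPullback (pullback.lift q₁
      (q₂ ≫ (AlgSp.yon S).map (str (α ≫ V.hom) (MvPolynomial (Fin n) A)))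
      (by rw [hP'.w, Category.assoc])) q₂ (pullback.snd f ((AlgSp.yon S).map α' ≫ p))
      ((AlgSp.yon S).map (str (α ≫ V.hom) (MvPolynomial (Fin n) A))) := by
    refine IsPullback.of_right ?_ (pullback.lift_snd _ _ _) hsq₀
    rw [pullback.lift_fst]
    exact hP'
  obtain ⟨T', hT'c, hT't, hT'T⟩ := hnφ P' _ q₂ hP₁
  refine ⟨T', hT'c, hT't, ?_⟩
  intro πP hπ1 hπ2 τ hτ
  have hπ : πP = piXO (α ≫ V.hom) φ (pullback.snd f ((AlgSp.yon S).map α' ≫ p)) hP hP₁ := by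
    apply hP₁.hom_ext
    · rw [piXO_fst]
      apply pullback.hom_ext
      · rw [Category.assoc, pullback.lift_fst, pullback.lift_fst, hπ1]
      · rw [Category.assoc, pullback.lift_snd, pullback.lift_snd, ← Category.assoc, hπ2,
          Category.assoc, ← Functor.map_comp, ovMap_str]
    · rw [piXO_snd, hπ2]
  rw [hπ]
  exact hT'T τ hτ

end Groth.Agent.Lib.Helper51.UCSp
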