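import Groth.Agent.Lib.Helper51.AlgSpUCAff

/-!
# Universal closedness of quasi-compact morphisms from closedness over affine spaces (helper51)
-/

set_option autoImplicit false
set_option linter.unusedSectionVars false
universe u

open TensorProduct CategoryTheory CategoryTheory.Limits AlgebraicGeometry AlgSp
open Groth.Agent.Lib.Helper52 Groth.Agent.Lib.Helper51 Groth.Agent.Lib.Helper39.UCFT

set_option backward.isDefEq.respectTransparency false

namespace Groth.Agent.Lib.Helper51.UCSp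

variable {S : Scheme.{u}}

set_option maxHeartbeats 1600000 in
theorem closed_over_chart {X Y : AlgSp.Sp S} (hX : AlgSp.IsAlgSpace X)
    (hY : AlgSp.IsAlgSpace Y) (f : X ⟶ Y) (hqc : AlgSp.IsQuasiCompactMor f)
    (V : Over S) (p : (AlgSp.yon S).obj V ⟶ Y)
    (Hn : ∀ (n : ℕ) (P : AlgSp.Sp S) (fst : P ⟶ X)
      (snd : P ⟶ (AlgSp.yon S).obj
        (Over.mk ((𝔸(ULift.{u} (Fin n); V.left) ↘ V.left) ≫ V.hom))),
      IsPullback fst snd f ((AlgSp.yon S).map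
        (Over.homMk (𝔸(ULift.{u} (Fin n); V.left) ↘ V.left)) ≫ p) →
        IsClosedMap (Points.map snd))
    {Z Z' : AlgSp.Sp S} {g : Z ⟶ Y} {fst : Z' ⟶ X} {snd : Z' ⟶ Z} (hsq : IsPullback fst snd f g)
    {Z₂ : Over S} (d : Z₂ ⟶ V) (c₂ : (AlgSp.yon S).obj Z₂ ⟶ Z)
    (hc₂ : c₂ ≫ g = (AlgSp.yon S).map d ≫ p)
    (V₀ : V.left.Opens) (hV₀ : IsAffineOpen V₀) (N₀ : Z₂.left.Opens) (hN₀ : IsAffineOpen N₀)
    (hle : N₀ ≤ d.left ⁻¹ᵁ V₀) :
    ∃ (N : Over S) (βO : N ⟶ Z₂), IsOpenImmersion βO.left ∧ Set.range βO.left = N₀ ∧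
      ∀ (PN : AlgSp.Sp S) (a : PN ⟶ Z') (b : PN ⟶ (AlgSp.yon S).obj N),
        IsPullback a b snd ((AlgSp.yon S).map βO ≫ c₂) → IsClosedMap (Points.map b) := by
  let A : Type u := Γ(V.left, V₀)
  let B : Type u := Γ(Z₂.left, N₀)
  let α : Spec (.of A) ⟶ V.left := hV₀.fromSpec
  let β : Spec (.of B) ⟶ Z₂.left := hN₀.fromSpec
  haveI : IsOpenImmersion α := hV₀.isOpenImmersion_fromSpec
  haveI : IsOpenImmersion β := hN₀.isOpenImmersion_fromSpec
  have hrange : Set.range (β ≫ d.left) ⊆ Set.range α := by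
    rintro _ ⟨x, rfl⟩
    have hα : Set.range α = (V₀ : Set V.left) := hV₀.range_fromSpec
    have hβ : Set.range β = (N₀ : Set Z₂.left) := hN₀.range_fromSpec
    rw [hα]
    have hx : β x ∈ (N₀ : Set Z₂.left) := by
      rw [← hβ]; exact Set.mem_range_self x
    have := hle hx
    rw [Scheme.Hom.comp_apply]
    exact this
  let l : Spec (.of B) ⟶ Spec (.of A) := IsOpenImmersion.lift α (β ≫ d.left) hrange
  have hl : l ≫ α = β ≫ d.left := IsOpenImmersion.lift_fac _ _ _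
  letI : Algebra A B := (Spec.preimage l).hom.toAlgebra
  have hg : gmap A B = l := by
    have : CommRingCat.ofHom (algebraMap A B) = Spec.preimage l := rfl
    unfold gmap
    rw [this, Spec.map_preimage]
  have hwd : d.left ≫ V.hom = Z₂.hom := Over.w d
  let βO : ov (α ≫ V.hom) B ⟶ Z₂ := Over.homMk β (by
    show β ≫ Z₂.hom = gmap A B ≫ α ≫ V.hom
    calc β ≫ Z₂.hom = β ≫ (d.left ≫ V.hom) := by rw [hwd]
      _ = (β ≫ d.left) ≫ V.hom := (Category.assoc _ _ _).symm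
      _ = (l ≫ α) ≫ V.hom := by rw [hl]
      _ = gmap A B ≫ α ≫ V.hom := by rw [Category.assoc, hg])
  refine ⟨ov (α ≫ V.hom) B, βO, inferInstanceAs (IsOpenImmersion β), hN₀.range_fromSpec, ?_⟩
  intro PN a b hPN
  have hβd : βO ≫ d = str (α ≫ V.hom) B ≫ (Over.homMk α rfl : Over.mk (α ≫ V.hom) ⟶ V) := by
    apply Over.OverMorphism.ext
    show β ≫ d.left = gmap A B ≫ α
    rw [hg, hl]
  have hbig := hPN.paste_horiz hsq
  have heq : ((AlgSp.yon S).map βO ≫ c₂) ≫ g = (AlgSp.yon S).map (str (α ≫ V.hom) B) ≫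
      (AlgSp.yon S).map (Over.homMk α rfl : Over.mk (α ≫ V.hom) ⟶ V) ≫ p := by
    rw [Category.assoc, hc₂, ← Category.assoc, ← Functor.map_comp, hβd, Functor.map_comp,
      Category.assoc]
  rw [heq] at hbig
  exact isClosedMap_of_affine_chart hX hY f hqc V p Hn α B hbig

set_option maxHeartbeats 1600000 in
/-- A quasi-compact morphism of algebraic spaces whose base changes to the affine spaces over one
etale atlas of the target are closed is universally closed. -/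
theorem isUnivClosedMor_of_affineSpace {X Y : AlgSp.Sp S} (hX : AlgSp.IsAlgSpace X)
    (hY : AlgSp.IsAlgSpace Y) (f : X ⟶ Y) (hqc : AlgSp.IsQuasiCompactMor f)
    (V : Over S) (p : (AlgSp.yon S).obj V ⟶ Y) (hpe : AlgSp.RepWith @Etale p)
    (hps : AlgSp.RepWith @Surjective p)
    (Hn : ∀ (n : ℕ) (P : AlgSp.Sp S) (fst : P ⟶ X)
      (snd : P ⟶ (AlgSp.yon S).obj
        (Over.mk ((𝔸(ULift.{u} (Fin n); V.left) ↘ V.left) ≫ V.hom))),
      IsPullback fst snd f ((AlgSp.yon S).map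
        (Over.homMk (𝔸(ULift.{u} (Fin n); V.left) ↘ V.left)) ≫ p) →
        IsClosedMap (Points.map snd)) :
    AlgSp.IsUnivClosedMor f := by
  intro Z Z' hZ g fst snd hsq
  show IsClosedMap (Points.map snd)
  obtain ⟨Z₁, c₁, hc₁e, hc₁s⟩ := hZ.atlas
  obtain ⟨Z₂, d, e, sq₂⟩ := exists_isPullback_of_representable hpe.1 (c₁ ≫ g)
  have hee : Etale e.left := hpe.2 _ _ e sq₂
  have hes : Surjective e.left := hps.2 _ _ e sq₂
  have hc₂ : ((AlgSp.yon S).map e ≫ c₁) ≫ g = (AlgSp.yon S).map d ≫ p := by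
    rw [Category.assoc]; exact sq₂.w.symm
  have hc₂e : AlgSp.RepWith @Etale ((AlgSp.yon S).map e ≫ c₁) :=
    repWith_etale_yon_map_comp e hee c₁ hc₁e
  -- choose affine opens
  have hVch : ∀ z₂ : ↥Z₂.left, ∃ V₀ : V.left.Opens, IsAffineOpen V₀ ∧ d.left z₂ ∈ V₀ := by
    intro z₂
    obtain ⟨V₀, hV₀, hm, -⟩ := exists_isAffineOpen_mem_and_subset
      (TopologicalSpace.Opens.mem_top (d.left z₂))
    exact ⟨V₀, hV₀, hm⟩
  choose V₀ hV₀aff hV₀mem using hVch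
  have hNch : ∀ z₂ : ↥Z₂.left, ∃ N₀ : Z₂.left.Opens, IsAffineOpen N₀ ∧ z₂ ∈ N₀ ∧
      N₀ ≤ d.left ⁻¹ᵁ (V₀ z₂) := by
    intro z₂
    obtain ⟨N₀, hN₀, hm, hle⟩ := exists_isAffineOpen_mem_and_subset
      (x := z₂) (U := d.left ⁻¹ᵁ (V₀ z₂)) (hV₀mem z₂)
    exact ⟨N₀, hN₀, hm, hle⟩
  choose N₀ hN₀aff hN₀mem hN₀le using hNch
  choose N βO hβopen hβrange hβclosed using fun z₂ : ↥Z₂.left =>
    closed_over_chart hX hY f hqc V p Hn hsq d ((AlgSp.yon S).map e ≫ c₁) hc₂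
      (V₀ z₂) (hV₀aff z₂) (N₀ z₂) (hN₀aff z₂) (hN₀le z₂)
  refine isClosedMap_of_etale_charts snd N
    (fun z₂ => (AlgSp.yon S).map (βO z₂) ≫ (AlgSp.yon S).map e ≫ c₁) ?_ ?_ ?_
  · intro z₂
    have he : Etale (βO z₂).left := by
      have := hβopen z₂
      infer_instance
    exact repWith_etale_yon_map_comp (βO z₂) he _ hc₂e
  · intro z
    obtain ⟨z₁, hz₁⟩ := surjective_ofPt_of_repWith_surjective c₁ hc₁s z
    obtain ⟨z₂, hz₂⟩ := hes.surj z₁
    have hmem : z₂ ∈ Set.range (βO z₂).left := by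
      rw [hβrange z₂]; exact hN₀mem z₂
    obtain ⟨n, hn⟩ := hmem
    refine ⟨z₂, n, ?_⟩
    rw [ofPt_yon_map_comp, ofPt_yon_map_comp, hn, hz₂, hz₁]
  · intro z₂ PN a b hPN
    exact hβclosed z₂ PN a b hPN

end Groth.Agent.Lib.Helper51.UCSp
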