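import Groth.Agent.Lib.Helper51.AlgSpFamDescent

set_option autoImplicit false
set_option linter.unusedSectionVars false
universe u
open CategoryTheory CategoryTheory.Limits AlgebraicGeometry Opposite

set_option backward.isDefEq.respectTransparency false

namespace Groth.Agent.Lib.Helper51.KerAt

open AlgSp Groth.Agent.Lib.Helper52 Groth.Agent.Lib.Helper51 Groth.Agent.Lib.Helper51.ClosedSub
  Groth.Agent.Lib.Helper51.RedInd

variable {S : Scheme.{u}}

/-- a finite union of closed subspaces proper over `Y` underlies a closed subspace proper over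
`Y`. -/
theorem exists_closedSubspace_iUnion_isProperMor {ι : Type*} [Finite ι] {X Y : AlgSp.Sp S}
    (hX : AlgSp.IsAlgSpace X) (hY : AlgSp.IsAlgSpace Y) (f : X ⟶ Y)
    (hf : AlgSp.LocP @LocallyOfFiniteType f) (Z : ι → AlgSp.Sp S)
    (hZa : ∀ k, AlgSp.IsAlgSpace (Z k)) (i : ∀ k, Z k ⟶ X)
    (hi : ∀ k, AlgSp.RepWith @IsClosedImmersion (i k)) (hZ : ∀ k, AlgSp.IsProperMor (i k ≫ f)) :
    ∃ (W : AlgSp.Sp S) (_ : AlgSp.IsAlgSpace W) (j : W ⟶ X),
      AlgSp.RepWith @IsClosedImmersion j ∧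
        Set.range (Points.map j) = ⋃ k, Set.range (Points.map (i k)) ∧
          AlgSp.IsProperMor (j ≫ f) := by
  have hT : IsClosed (⋃ k, Set.range (Points.map (i k))) :=
    isClosed_iUnion_of_finite fun k => isClosed_range_map_of_isClosedImmersion hX (i k) (hi k)
  obtain ⟨W, hW, j, hj, hjr, hWred⟩ := exists_isRedInduced hX _ hT
  have hred : ∀ k, ∃ (Wk : AlgSp.Sp S) (_ : AlgSp.IsAlgSpace Wk) (r : Wk ⟶ Z k),
      AlgSp.IsRedInduced Set.univ r := fun k => exists_isRedInduced (hZa k) Set.univ isClosed_univ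
  choose Wk hWk r hr using hred
  haveI : Mono j := mono_of_repWith_isClosedImmersion j hj
  haveI : ∀ k, Mono (r k) := fun k => mono_of_repWith_isClosedImmersion (r k) (hr k).1
  have hfac : ∀ k, ∃ l : Wk k ⟶ W, l ≫ j = r k ≫ i k := fun k => by
    refine exists_factor_of_isReducedSp j hj (hr k).2.2 (r k ≫ i k) ?_
    rw [hjr]
    rintro _ ⟨x, rfl⟩
    exact Set.mem_iUnion.2 ⟨k, Points.map (r k) x, (Points.map_comp _ _ x).symm⟩
  choose l hl using hfac
  have hls : ∀ z : Points W, ∃ k x, Points.map (l k) x = z := by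
    intro z
    have hz : Points.map j z ∈ ⋃ k, Set.range (Points.map (i k)) := by
      rw [← hjr]; exact ⟨z, rfl⟩
    obtain ⟨k, x, hx⟩ := Set.mem_iUnion.1 hz
    have hsur : x ∈ Set.range (Points.map (r k)) := by rw [(hr k).2.1]; trivial
    obtain ⟨y, rfl⟩ := hsur
    refine ⟨k, y, injective_map_of_mono j ?_⟩
    rw [← Points.map_comp, hl, Points.map_comp, hx]
  have hruc : ∀ k, AlgSp.IsUnivClosedMor (r k) := fun k =>
    Groth.Agent.Lib.Helper30.isUnivClosedMor_of_repWith_isClosedImmersion (hr k).1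
  have hluc : ∀ k, AlgSp.IsUnivClosedMor (l k) := fun k => by
    refine Groth.Agent.Lib.Helper30.isUnivClosedMor_of_comp_of_isSeparatedMor (hWk k) hW hX (l k) j
      (isSeparatedMor_of_mono j) ?_
    rw [hl]
    exact Groth.Agent.Lib.Helper30.isUnivClosedMor_comp (hZa k) hX (hruc k)
      (Groth.Agent.Lib.Helper30.isUnivClosedMor_of_repWith_isClosedImmersion (hi k))
  have hlq : ∀ k, l k ≫ j ≫ f = r k ≫ i k ≫ f := fun k => by
    rw [← Category.assoc, hl, Category.assoc]
  refine ⟨W, hW, j, hj, hjr, ⟨?_, ⟨?_, ?_⟩, ?_⟩⟩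
  · refine isSeparatedMor_of_jointly_surjective_univClosed_comp Wk hWk hW hY l (j ≫ f) hls hluc ?_
    intro k
    rw [hlq]
    exact isSeparatedMor_comp (r k) (i k ≫ f) (isSeparatedMor_of_mono (r k)) (hZ k).1
  · refine Groth.Agent.Lib.Helper78.AlgSpLocP.locP_comp
      Groth.Agent.Lib.Helper78.AlgSpLocPLoft.etLocalST_loft j f hX.atlas ?_ hf
    refine Groth.Agent.Lib.Helper78.AlgSpMisc.locP_of_repWith
      Groth.Agent.Lib.Helper78.AlgSpLocPLoft.etLocalST_loft j hX.atlas ?_
    refine MorphismProperty.relative_monotone ?_ _ hj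
    intro A B' k hk
    have : IsClosedImmersion k.left := hk
    change LocallyOfFiniteType k.left
    infer_instance
  · refine isQuasiCompactMor_of_jointly_surjective_comp Wk hW hY l (j ≫ f) hls ?_
    intro k
    rw [hlq]
    exact Groth.Agent.Lib.Helper30.isQuasiCompactMor_comp (hZa k) hY
      (Groth.Agent.Lib.Helper30.isQuasiCompactMor_of_isUnivClosedMor (hWk k) (hZa k) (r k) (hruc k))
      (hZ k).2.1.2
  · refine isUnivClosedMor_of_jointly_surjective_comp Wk l (j ≫ f) hls ?_
    intro k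
    rw [hlq]
    exact Groth.Agent.Lib.Helper30.isUnivClosedMor_comp (hZa k) hY (hruc k) (hZ k).2.2

end Groth.Agent.Lib.Helper51.KerAt
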