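import Groth.Agent.Lib.Helper51.AlgSpValSchIm
import Groth.Prelude.Def_AlgSpMor5
import Groth.Agent.Lib.Helper30.AlgSpQC
import Groth.Agent.Lib.Helper30.AlgSpProper

set_option autoImplicit false
set_option linter.unusedSectionVars false
universe u
open CategoryTheory CategoryTheory.Limits AlgebraicGeometry Opposite

set_option backward.isDefEq.respectTransparency false

namespace Groth.Agent.Lib.Helper51.VCrit

open AlgSp Groth.Agent.Lib.Helper52 Groth.Agent.Lib.Helper51 IsLocalRing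

variable {S : Scheme.{u}}

/-- a valuative square has a lift after an extension as soon as, on some etale chart of the base
change to `Spec A`, the image of `Spec K` has a point specializing to a point over the closed
point. -/
theorem hasLiftExt_of_chart {X Y : AlgSp.Sp S} (f : X ⟶ Y) (sq : AlgSp.ValSq f) {P : AlgSp.Sp S}
    (p₁ : P ⟶ X) (p₂ : P ⟶ (AlgSp.yon S).obj sq.ptA) (hP : p₁ ≫ f = p₂ ≫ sq.bot)
    (ξ : (AlgSp.yon S).obj sq.ptK ⟶ P) (hξ₁ : ξ ≫ p₁ = sq.top)
    (hξ₂ : ξ ≫ p₂ = (AlgSp.yon S).map sq.j)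
    {U : Over S} (a : (AlgSp.yon S).obj U ⟶ P) (ha : AlgSp.RepWith @Etale a) (c : U ⟶ sq.ptA)
    (hc : (AlgSp.yon S).map c = a ≫ p₂) (u u' : ↥U.left) (huu' : u ⤳ u')
    (hu : Points.ofPt a u = Points.ofPt ξ (closedPoint sq.K))
    (hu' : c.left u' = closedPoint sq.A) : sq.HasLiftExt := by
  obtain ⟨W, φ, ψ, sqW⟩ := exists_isPullback_of_representable ha.1 ξ
  -- a point of `W` over `u`
  obtain ⟨w₀, -, hw₀⟩ := KerAt.exists_scheme_point_of_isPullback sqW (Points.ofScheme U u)
    (closedPoint sq.K) (by rw [← Points.ofPt_eq_map_ofScheme, hu])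
  have hw₀φ : φ.left w₀ = u := by
    have h1 := ofPt_yon_map_comp φ (𝟙 _) w₀
    rw [Category.comp_id, hw₀] at h1
    exact ((Points.schemeEquiv U).injective h1).symm
  obtain ⟨A', iA, iD, iV, ι, ξ', hι, hξ'⟩ :=
    ValRing.exists_valuationRing_of_specializes_map φ.left w₀ (hw₀φ ▸ huu')
  -- the comparison of the two maps to `Spec A`
  have hφc : φ ≫ c = ψ ≫ sq.j := (AlgSp.yon S).map_injective (by
    rw [Functor.map_comp, Functor.map_comp, hc, ← hξ₂, ← Category.assoc, ← Category.assoc, sqW.w])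
  have hφc' : φ.left ≫ c.left = ψ.left ≫ sq.j.left := congrArg CommaMorphism.left hφc
  -- the ring maps
  let φr : CommRingCat.of sq.A ⟶ CommRingCat.of A' := Spec.preimage (ι ≫ c.left)
  have hφr : Spec.map φr = ι ≫ c.left := Spec.map_preimage _
  let ψr : CommRingCat.of sq.K ⟶ CommRingCat.of (FractionRing A') := Spec.preimage (ξ' ≫ ψ.left)
  have hψr : Spec.map ψr = ξ' ≫ ψ.left := Spec.map_preimage _
  have hcomm : (algebraMap A' (FractionRing A')).comp φr.hom =
      ψr.hom.comp (algebraMap sq.A sq.K) := by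
    have h2 : φr ≫ CommRingCat.ofHom (algebraMap A' (FractionRing A')) =
        CommRingCat.ofHom (algebraMap sq.A sq.K) ≫ ψr := by
      apply Spec.map_injective
      rw [Spec.map_comp, Spec.map_comp, hφr, hψr, ← Category.assoc, ← hξ', Category.assoc,
        hφc', Category.assoc]
      rfl
    exact congrArg CommRingCat.Hom.hom h2
  have hloc : IsLocalHom φr.hom := by
    rw [isLocalHom_iff_comap_closedPoint]
    have h3 : (Spec.map φr) (closedPoint A') = closedPoint sq.A := by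
      rw [hφr]
      exact (congrArg c.left hι).trans hu'
    exact h3
  let e : sq.DomExt :=
    { A' := A'
      K' := FractionRing A'
      φ := φr.hom
      ψ := ψr.hom
      comm := hcomm
      isLocalHom := hloc }
  have hιw : ι ≫ U.hom = Spec.map (CommRingCat.ofHom e.φ) ≫ sq.str := by
    change ι ≫ U.hom = Spec.map (CommRingCat.ofHom φr.hom) ≫ sq.str
    rw [CommRingCat.ofHom_hom, hφr, Category.assoc]
    congr 1
    exact (Over.w c).symm
  let ι' : e.ptA' ⟶ U := Over.homMk ι hιw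
  refine ⟨e, (AlgSp.yon S).map ι' ≫ a ≫ p₁, ?_, ?_⟩
  · -- compatibility with the top arrow
    have hξ'w : ξ' ≫ W.hom = e.ptK'.hom := by
      change ξ' ≫ W.hom = Spec.map _ ≫ Spec.map (CommRingCat.ofHom φr.hom) ≫ sq.str
      rw [CommRingCat.ofHom_hom, hφr, ← Over.w φ, ← Category.assoc, hξ', Category.assoc,
        Category.assoc]
      congr 2
      exact (Over.w c).symm
    let ξ'' : e.ptK' ⟶ W := Over.homMk ξ' hξ'w
    have hO1 : (Over.homMk (Spec.map (CommRingCat.ofHom (algebraMap e.A' e.K'))) rfl :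
        e.ptK' ⟶ e.ptA') ≫ ι' = ξ'' ≫ φ := by
      apply Over.OverMorphism.ext
      exact hξ'.symm
    have hO2 : ∀ (hh : Spec.map (CommRingCat.ofHom e.ψ) ≫ sq.ptK.hom = e.ptK'.hom),
        (Over.homMk (Spec.map (CommRingCat.ofHom e.ψ)) hh : e.ptK' ⟶ sq.ptK) = ξ'' ≫ ψ := by
      intro hh
      apply Over.OverMorphism.ext
      change Spec.map (CommRingCat.ofHom ψr.hom) = ξ' ≫ ψ.left
      rw [CommRingCat.ofHom_hom, hψr]
    rw [← Category.assoc, ← Functor.map_comp, hO1, hO2, Functor.map_comp, Functor.map_comp,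
      Category.assoc, Category.assoc, ← hξ₁, ← Category.assoc ((AlgSp.yon S).map φ),
      sqW.w, Category.assoc]
  · have hO3 : ι' ≫ c = (Over.homMk (Spec.map (CommRingCat.ofHom e.φ)) rfl :
        e.ptA' ⟶ sq.ptA) := by
      apply Over.OverMorphism.ext
      change ι ≫ c.left = Spec.map (CommRingCat.ofHom φr.hom)
      rw [CommRingCat.ofHom_hom, hφr]
    rw [Category.assoc, Category.assoc, hP, ← Category.assoc a, ← hc, ← Category.assoc,
      ← Functor.map_comp, hO3]

/-- a valuative square has a lift after an extension if the base change to `Spec A` is closed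
on points and the image point of `Spec K` has a representative that is quasi-compact over
affine etale charts. -/
theorem hasLiftExt_of_qc_rep {X Y : AlgSp.Sp S} (f : X ⟶ Y) (sq : AlgSp.ValSq f) {P : AlgSp.Sp S}
    (hPalg : AlgSp.IsAlgSpace P)
    (p₁ : P ⟶ X) (p₂ : P ⟶ (AlgSp.yon S).obj sq.ptA) (hP : p₁ ≫ f = p₂ ≫ sq.bot)
    (ξ : (AlgSp.yon S).obj sq.ptK ⟶ P) (hξ₁ : ξ ≫ p₁ = sq.top)
    (hξ₂ : ξ ≫ p₂ = (AlgSp.yon S).map sq.j) (hcl : IsClosedMap (Points.map p₂))
    {T : Over S} (hT : Nonempty ↥T.left) (τ : (AlgSp.yon S).obj T ⟶ P)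
    (hτx : ∀ t : ↥T.left, Points.ofPt τ t = Points.ofPt ξ (closedPoint sq.K))
    (hτ : ∀ {U : Over S} (_ : IsAffine U.left) (a : (AlgSp.yon S).obj U ⟶ P)
      (_ : AlgSp.RepWith @Etale a) {W : Over S} (φ : W ⟶ U) (ψ : W ⟶ T),
      IsPullback ((AlgSp.yon S).map φ) ((AlgSp.yon S).map ψ) a τ → QuasiCompact φ.left) :
    sq.HasLiftExt := by
  set x := Points.ofPt ξ (closedPoint sq.K) with hx
  -- a point over the closed point in the closure of `x`
  have hmem : Points.ofScheme sq.ptA (closedPoint sq.A) ∈ Points.map p₂ '' closure {x} := by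
    have hcl' : IsClosed (Points.map p₂ '' closure {x}) := hcl _ isClosed_closure
    have hgen : Points.ofScheme sq.ptA (sq.j.left (closedPoint sq.K)) ∈
        Points.map p₂ '' closure {x} := by
      refine ⟨x, subset_closure rfl, ?_⟩
      rw [hx, Points.map_ofPt, hξ₂]
      have := ofPt_yon_map_comp sq.j (𝟙 _) (closedPoint sq.K)
      rw [Category.comp_id] at this
      exact this
    have hspec : sq.j.left (closedPoint sq.K) ⤳ (closedPoint sq.A : ↥sq.ptA.left) :=
      IsLocalRing.specializes_closedPoint _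
    exact hcl'.stableUnderSpecialization
      (hspec.map (Points.schemeHomeo sq.ptA).continuous) hgen
  obtain ⟨x', hx'cl, hx'⟩ := hmem
  obtain ⟨U, a, u', hU, ha, hau'⟩ := exists_affine_etale_chart_at hPalg x'
  let c : U ⟶ sq.ptA := (AlgSp.yon S).preimage (a ≫ p₂)
  have hc : (AlgSp.yon S).map c = a ≫ p₂ := Functor.map_preimage _ _
  have hcu' : c.left u' = closedPoint sq.A := by
    have h1 := ofPt_yon_map_comp c (𝟙 _) u'
    rw [Category.comp_id, hc, ← Points.map_ofPt, hau', hx'] at h1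
    exact ((Points.schemeEquiv sq.ptA).injective h1).symm
  obtain ⟨W, φ, ψ, sqW⟩ := exists_isPullback_of_representable ha.1 τ
  haveI : QuasiCompact φ.left := hτ hU a ha φ ψ sqW
  haveI : IsAffine U.left := hU
  have h1 : u' ∈ closure (Set.range φ.left) := by
    rw [mem_closure_iff]
    intro N hN hu'N
    have hopen : IsOpen (Points.ofPt a '' N) := isOpenMap_ofPt_of_etale a ha N hN
    obtain ⟨y, hy1, hy2⟩ := mem_closure_iff.1 hx'cl _ hopen ⟨u', hu'N, hau'⟩
    rw [Set.mem_singleton_iff] at hy2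
    subst hy2
    obtain ⟨n, hnN, hn⟩ := hy1
    obtain ⟨t⟩ := hT
    obtain ⟨w, -, hw⟩ := KerAt.exists_scheme_point_of_isPullback sqW (Points.ofScheme U n) t
      (by rw [← Points.ofPt_eq_map_ofScheme, hn, hτx])
    refine ⟨n, hnN, w, ?_⟩
    have h2 := ofPt_yon_map_comp φ (𝟙 _) w
    rw [Category.comp_id, hw] at h2
    exact ((Points.schemeEquiv U).injective h2).symm
  obtain ⟨w₀, hw₀⟩ := ValRing.exists_specializes_of_mem_closure_range φ.left u' h1
  have hu : Points.ofPt a (φ.left w₀) = Points.ofPt ξ (closedPoint sq.K) := by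
    rw [← ofPt_yon_map_comp, sqW.w, ofPt_yon_map_comp, hτx]
  exact hasLiftExt_of_chart f sq p₁ p₂ hP ξ hξ₁ hξ₂ a ha c hc (φ.left w₀) u' hw₀ hu hcu'

/-- a quasi-separated universally closed morphism satisfies the existence part of the valuative
criterion. -/
theorem existVC_of_quasiSeparated_univClosed {X Y : AlgSp.Sp S} (hX : AlgSp.IsAlgSpace X)
    (hY : AlgSp.IsAlgSpace Y) (f : X ⟶ Y) (hqs : AlgSp.IsQuasiSeparatedMor f)
    (hc : AlgSp.IsUnivClosedMor f) : AlgSp.ExistVC f := by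
  intro sq
  have sqP := IsPullback.of_hasPullback f sq.bot
  have hPalg : AlgSp.IsAlgSpace (pullback f sq.bot) :=
    Groth.Agent.Lib.Helper30.isAlgSpace_of_isPullback hY.diag hX (AlgSp.IsAlgSpace.yon_obj _) sqP
  let ξ : (AlgSp.yon S).obj sq.ptK ⟶ pullback f sq.bot :=
    pullback.lift sq.top ((AlgSp.yon S).map sq.j) sq.comm
  have hξ₁ : ξ ≫ pullback.fst f sq.bot = sq.top := pullback.lift_fst _ _ _
  have hξ₂ : ξ ≫ pullback.snd f sq.bot = (AlgSp.yon S).map sq.j := pullback.lift_snd _ _ _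
  have hcl : IsClosedMap (Points.map (pullback.snd f sq.bot)) :=
    hc (AlgSp.IsAlgSpace.yon_obj sq.ptA) sq.bot _ _ sqP
  have hp₂qs : AlgSp.IsQuasiSeparatedMor (pullback.snd f sq.bot) :=
    MorphismProperty.of_isPullback (P := (AlgSp.RepWith (S := S) @QuasiCompact).diagonal) sqP hqs
  have hjq : AlgSp.IsQuasiCompactMor ((AlgSp.yon S).map sq.j) :=
    Groth.Agent.Lib.Helper30.isQuasiCompactMor_of_repWith
      ((AlgSp.repWith_yon_map_iff @QuasiCompact _).2 (by
        change QuasiCompact (Spec.map _)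
        infer_instance))
  have hξq : AlgSp.IsQuasiCompactMor ξ :=
    Groth.Agent.Lib.Helper30.isQuasiCompactMor_of_comp_of_isQuasiSeparatedMor
      (AlgSp.IsAlgSpace.yon_obj _) hPalg (AlgSp.IsAlgSpace.yon_obj _) ξ _ (hξ₂ ▸ hjq) hp₂qs
  haveI : Subsingleton ↥sq.ptK.left :=
    inferInstanceAs (Subsingleton (PrimeSpectrum sq.K))
  refine hasLiftExt_of_qc_rep f sq hPalg _ _ sqP.w ξ hξ₁ hξ₂ hcl ⟨closedPoint sq.K⟩ ξ
    (fun t => congrArg _ (Subsingleton.elim _ _)) ?_
  intro U hU a ha W φ ψ sqW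
  exact Groth.Agent.Lib.Helper30.quasiCompact_of_isQuasiCompactMor hξq a
    ((AlgSp.yon S).map ψ) φ sqW.flip

/-- a decent universally closed morphism satisfies the existence part of the valuative
criterion. -/
theorem existVC_of_isDecentMor_univClosed {X Y : AlgSp.Sp S} (hX : AlgSp.IsAlgSpace X)
    (hY : AlgSp.IsAlgSpace Y) (f : X ⟶ Y) (hd : AlgSp.IsDecentMor f)
    (hc : AlgSp.IsUnivClosedMor f) : AlgSp.ExistVC f := by
  intro sq
  have sqP := IsPullback.of_hasPullback f sq.bot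
  have hPalg : AlgSp.IsAlgSpace (pullback f sq.bot) :=
    Groth.Agent.Lib.Helper30.isAlgSpace_of_isPullback hY.diag hX (AlgSp.IsAlgSpace.yon_obj _) sqP
  let ξ : (AlgSp.yon S).obj sq.ptK ⟶ pullback f sq.bot :=
    pullback.lift sq.top ((AlgSp.yon S).map sq.j) sq.comm
  have hξ₁ : ξ ≫ pullback.fst f sq.bot = sq.top := pullback.lift_fst _ _ _
  have hξ₂ : ξ ≫ pullback.snd f sq.bot = (AlgSp.yon S).map sq.j := pullback.lift_snd _ _ _
  have hcl : IsClosedMap (Points.map (pullback.snd f sq.bot)) :=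
    hc (AlgSp.IsAlgSpace.yon_obj sq.ptA) sq.bot _ _ sqP
  have hPd : AlgSp.IsDecent (pullback f sq.bot) := hd sq.bot _ _ sqP
  obtain ⟨p, hp, -, hq⟩ := hPd (Points.ofPt ξ (closedPoint sq.K))
  refine hasLiftExt_of_qc_rep f sq hPalg _ _ sqP.w ξ hξ₁ hξ₂ hcl (T := p.pt)
    ⟨closedPoint p.K⟩ p.toHom (fun t => by rw [Points.ofPt_toHom, hp]) ?_
  intro U hU a ha W φ ψ sqW
  exact hq.2 a _ _ sqW.flip

end Groth.Agent.Lib.Helper51.VCrit
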