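import Groth.Agent.Lib.Helper51.AlgSpVCrit
import Groth.Agent.Lib.Helper78.AlgSpFibre

set_option autoImplicit false
set_option linter.unusedSectionVars false
universe u
open CategoryTheory CategoryTheory.Limits AlgebraicGeometry Opposite

set_option backward.isDefEq.respectTransparency false

namespace Groth.Agent.Lib.Helper51.VCrit

open AlgSp Groth.Agent.Lib.Helper52 Groth.Agent.Lib.Helper51 IsLocalRing

variable {S : Scheme.{u}}

theorem quasiCompact_fromSpecResidueField (T : Scheme.{u}) (t : T) :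
    QuasiCompact (T.fromSpecResidueField t) := by
  constructor
  intro U _ _
  haveI : Finite ↥(Spec (T.residueField t)) :=
    inferInstanceAs (Finite (PrimeSpectrum (T.residueField t)))
  exact (Set.toFinite _).isCompact

/-- a universally closed morphism from a decent space satisfies the existence part of the
valuative criterion. -/
theorem existVC_of_isDecent_univClosed {X Y : AlgSp.Sp S} (hX : AlgSp.IsAlgSpace X)
    (hY : AlgSp.IsAlgSpace Y) (f : X ⟶ Y) (hXd : AlgSp.IsDecent X)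
    (hc : AlgSp.IsUnivClosedMor f) : AlgSp.ExistVC f := by
  intro sq
  have sqP := IsPullback.of_hasPullback f sq.bot
  have hPalg : AlgSp.IsAlgSpace (pullback f sq.bot) :=
    Groth.Agent.Lib.Helper30.isAlgSpace_of_isPullback hY.diag hX (AlgSp.IsAlgSpace.yon_obj _) sqP
  let ξ : (AlgSp.yon S).obj sq.ptK ⟶ pullback f sq.bot :=
    pullback.lift sq.top ((AlgSp.yon S).map sq.j) sq.comm
  have hξ₁ : ξ ≫ pullback.fst f sq.bot = sq.top := pullback.lift_fst _ _ _
  have hξ₂ : ξ ≫ pullback.snd f sq.bot = (AlgSp.yon S).map sq.j := pullback.lift_snd _ _ _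
  have hcl : IsClosedMap (Points.map (pullback.snd f sq.bot)) :=
    hc (AlgSp.IsAlgSpace.yon_obj sq.ptA) sq.bot _ _ sqP
  set x := Points.ofPt ξ (closedPoint sq.K) with hx
  obtain ⟨p, hp, -, hq⟩ := hXd (Points.map (pullback.fst f sq.bot) x)
  have hrep : AlgSp.Representable sq.bot :=
    Groth.Agent.Lib.Helper78.AlgSpFibre.repAll_of_isAlgSpace hY sq.bot
  obtain ⟨T₀, α, β, sqT⟩ := exists_isPullback_of_representable hrep (p.toHom ≫ f)
  have hw : ((AlgSp.yon S).map β ≫ p.toHom) ≫ f = (AlgSp.yon S).map α ≫ sq.bot := by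
    rw [Category.assoc]; exact sqT.w.symm
  let τ₀ : (AlgSp.yon S).obj T₀ ⟶ pullback f sq.bot := pullback.lift _ _ hw
  have hτ₀₁ : τ₀ ≫ pullback.fst f sq.bot = (AlgSp.yon S).map β ≫ p.toHom :=
    pullback.lift_fst _ _ _
  have hτ₀₂ : τ₀ ≫ pullback.snd f sq.bot = (AlgSp.yon S).map α := pullback.lift_snd _ _ _
  have sqL : IsPullback τ₀ ((AlgSp.yon S).map β) (pullback.fst f sq.bot) p.toHom := by
    refine IsPullback.of_right ?_ hτ₀₁ sqP.flip
    rw [hτ₀₂]
    exact sqT
  have hτ₀q : AlgSp.RepWith @QuasiCompact τ₀ := MorphismProperty.of_isPullback sqL.flip hq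
  obtain ⟨t₀, -, ht₀⟩ := KerAt.exists_scheme_point_of_isPullback sqL x (closedPoint p.K)
    (by rw [Points.ofPt_toHom, hp])
  let T : Over S := Over.mk (T₀.left.fromSpecResidueField t₀ ≫ T₀.hom)
  let ιt : T ⟶ T₀ := Over.homMk (T₀.left.fromSpecResidueField t₀) rfl
  have hιq : AlgSp.RepWith @QuasiCompact ((AlgSp.yon S).map ιt) :=
    (AlgSp.repWith_yon_map_iff @QuasiCompact _).2 (quasiCompact_fromSpecResidueField _ _)
  have hτq : AlgSp.RepWith @QuasiCompact ((AlgSp.yon S).map ιt ≫ τ₀) :=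
    (AlgSp.RepWith @QuasiCompact).comp_mem _ _ hιq hτ₀q
  refine hasLiftExt_of_qc_rep f sq hPalg _ _ sqP.w ξ hξ₁ hξ₂ hcl (T := T)
    ⟨closedPoint (T₀.left.residueField t₀)⟩ ((AlgSp.yon S).map ιt ≫ τ₀) (fun s => ?_) ?_
  · rw [ofPt_yon_map_comp]
    change Points.ofPt τ₀ ((T₀.left.fromSpecResidueField t₀) s) = x
    rw [Scheme.fromSpecResidueField_apply, ht₀]
  · intro U hU a ha W φ ψ sqW
    exact hτq.2 a _ _ sqW.flip

end Groth.Agent.Lib.Helper51.VCrit
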