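import Groth.Agent.Lib.Helper21.ResFieldEFT
import Mathlib.AlgebraicGeometry.Morphisms.Etale
import Mathlib.AlgebraicGeometry.Morphisms.FormallyUnramified
import Groth.Agent.Lib.Helper51.SchemeValRing

set_option autoImplicit false
universe u

open CategoryTheory CategoryTheory.Limits AlgebraicGeometry

namespace Groth.Agent.Lib.Helper51.ValRing

/-- the residue field of a point of a scheme etale over a field is a finite separable
extension. -/
theorem finite_separable_residueField_of_etale {k : Type u} [Field k] {X : Scheme.{u}}
    (f : X ⟶ Spec (CommRingCat.of k)) [Etale f] (x : X) (φ : k →+* X.residueField x)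
    (hφ : Spec.map (CommRingCat.ofHom φ) = X.fromSpecResidueField x ≫ f) :
    letI := φ.toAlgebra
    Module.Finite k (X.residueField x) ∧ Algebra.IsSeparable k (X.residueField x) := by
  letI := φ.toAlgebra
  have hess : Algebra.EssFiniteType k (X.residueField x) := by
    rw [← RingHom.essFiniteType_algebraMap]
    exact Groth.Agent.Lib.Helper21.essFiniteType_residueField f x φ hφ
  -- separability
  let y : Spec (CommRingCat.of k) := f x
  have hyp : y.asIdeal.IsPrime := PrimeSpectrum.isPrime y
  let ψ : CommRingCat.of k ⟶ (Spec (CommRingCat.of k)).residueField y :=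
    CommRingCat.ofHom (algebraMap k y.asIdeal.ResidueField) ≫
      (Scheme.Spec.residueFieldIso (CommRingCat.of k) y).inv
  have hψ : Spec.map ψ = (Spec (CommRingCat.of k)).fromSpecResidueField y := by
    rw [Spec.map_comp]
    exact Scheme.Spec.map_residueFieldIso_inv_eq_fromSpecResidueField (CommRingCat.of k) y
  have hcomp : CommRingCat.ofHom φ = ψ ≫ f.residueFieldMap x := by
    apply Spec.map_injective
    rw [hφ, Spec.map_comp, hψ, Scheme.Hom.SpecMap_residueFieldMap_fromSpecResidueField]
  have hs' : Function.Surjective ψ.hom := by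
    have hs : Function.Surjective (algebraMap k y.asIdeal.ResidueField) := by
      have : y.asIdeal.IsMaximal := inferInstance
      exact Ideal.algebraMap_residueField_surjective y.asIdeal
    intro b
    obtain ⟨a, ha⟩ := hs ((Scheme.Spec.residueFieldIso (CommRingCat.of k) y).hom b)
    refine ⟨a, ?_⟩
    change (Scheme.Spec.residueFieldIso (CommRingCat.of k) y).inv
      (algebraMap k y.asIdeal.ResidueField a) = b
    rw [ha]
    exact congrArg (fun g => g.hom b) (Scheme.Spec.residueFieldIso (CommRingCat.of k) y).hom_inv_id
  letI a1 : Algebra k ((Spec (CommRingCat.of k)).residueField y) := ψ.hom.toAlgebra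
  letI a2 : Algebra ((Spec (CommRingCat.of k)).residueField y) (X.residueField x) :=
    (f.residueFieldMap x).hom.toAlgebra
  haveI : IsScalarTower k ((Spec (CommRingCat.of k)).residueField y) (X.residueField x) :=
    IsScalarTower.of_algebraMap_eq (fun a => by
      have := congrArg (fun g => g.hom a) hcomp
      exact this)
  haveI h1 : Algebra.IsSeparable k ((Spec (CommRingCat.of k)).residueField y) :=
    ⟨fun b => by
      obtain ⟨a, rfl⟩ := hs' b
      exact isSeparable_algebraMap a⟩
  haveI h2 : Algebra.IsSeparable ((Spec (CommRingCat.of k)).residueField y) (X.residueField x) :=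
    inferInstance
  have hsep : Algebra.IsSeparable k (X.residueField x) :=
    Algebra.IsSeparable.trans k ((Spec (CommRingCat.of k)).residueField y) (X.residueField x)
  refine ⟨?_, hsep⟩
  have hfin := Groth.Agent.Lib.Helper21.finiteDimensional_separableClosure_of_essFiniteType
    (k := k) (K := X.residueField x)
  rw [(separableClosure.eq_top_iff k (X.residueField x)).2 hsep] at hfin
  exact Module.Finite.equiv (IntermediateField.topEquiv (F := k) (E := X.residueField x)).toLinearEquiv

open IsLocalRing in
/-- a specialization `g q₀ ⤳ p` is realised by a valuation ring of the residue field of `q₀`. -/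
theorem exists_valuationRing_of_specializes_map' {Q P : Scheme.{u}} (g : Q ⟶ P) (q₀ : Q) {p : P}
    (h : g q₀ ⤳ p) :
    ∃ (A : Type u) (_ : CommRing A) (_ : IsDomain A) (_ : ValuationRing A)
      (ι : Spec (CommRingCat.of A) ⟶ P)
      (ρ : Q.residueField q₀ ⟶ CommRingCat.of (FractionRing A)),
      Function.Bijective ρ.hom ∧ ι (closedPoint A) = p ∧
        (Spec.map ρ ≫ Q.fromSpecResidueField q₀) ≫ g =
          Spec.map (CommRingCat.ofHom (algebraMap A (FractionRing A))) ≫ ι := by
  let K := Q.residueField q₀
  let stp : P.presheaf.stalk p ⟶ K :=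
    P.presheaf.stalkSpecializes h ≫ g.stalkMap q₀ ≫ Q.residue q₀
  obtain ⟨A, hA, hA_local⟩ := exists_factor_valuationRing stp.hom
  let stA : P.presheaf.stalk p ⟶ .of A :=
    CommRingCat.ofHom (stp.hom.codRestrict _ hA)
  let e : FractionRing A ≃ₐ[A] K := FractionRing.algEquiv A K
  refine ⟨A, inferInstance, inferInstance, inferInstance,
    Spec.map stA ≫ P.fromSpecStalk p,
    CommRingCat.ofHom (e.symm : K →+* FractionRing A), e.symm.bijective, ?_, ?_⟩
  · have : Spec.map stA (closedPoint A) = closedPoint (P.presheaf.stalk p) :=
      comap_closedPoint (S := A) (stp.hom.codRestrict A.toSubring hA)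
    exact Eq.trans (congrArg (P.fromSpecStalk p) this) P.fromSpecStalk_closedPoint
  · have hring : stp ≫ CommRingCat.ofHom (e.symm : K →+* FractionRing A) =
        stA ≫ CommRingCat.ofHom (algebraMap A (FractionRing A)) := by
      ext x
      change e.symm (stp.hom x) = algebraMap A (FractionRing A) ⟨stp.hom x, hA x⟩
      rw [← e.symm.commutes]
      rfl
    have hstp : Spec.map stp ≫ P.fromSpecStalk p = Q.fromSpecResidueField q₀ ≫ g := by
      rw [Scheme.fromSpecResidueField, Category.assoc, ← Scheme.SpecMap_stalkMap_fromSpecStalk,
        ← Scheme.SpecMap_stalkSpecializes_fromSpecStalk h]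
      simp only [stp, Spec.map_comp, Category.assoc]
    have h4 : Spec.map (CommRingCat.ofHom (e.symm : K →+* FractionRing A)) ≫ Spec.map stp =
        Spec.map (CommRingCat.ofHom (algebraMap A (FractionRing A))) ≫ Spec.map stA := by
      exact (Spec.map_comp _ _).symm.trans ((congrArg Spec.map hring).trans (Spec.map_comp _ _))
    exact (Category.assoc _ _ _).trans ((congrArg (Spec.map _ ≫ ·) hstp.symm).trans
      ((Category.assoc _ _ _).symm.trans
        ((congrArg (· ≫ P.fromSpecStalk p) h4).trans (Category.assoc _ _ _))))

end Groth.Agent.Lib.Helper51.ValRing
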