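import Groth.Agent.Lib.Helper51.AlgSpVCrit
import Groth.Agent.Lib.Helper51.SchemeEtResField
import Mathlib.AlgebraicGeometry.Morphisms.UniversallyOpen

set_option autoImplicit false
set_option linter.unusedSectionVars false
universe u
open CategoryTheory CategoryTheory.Limits AlgebraicGeometry Opposite

set_option backward.isDefEq.respectTransparency false

namespace Groth.Agent.Lib.Helper51.VCrit

open AlgSp Groth.Agent.Lib.Helper52 Groth.Agent.Lib.Helper51 IsLocalRing

variable {S : Scheme.{u}}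

/-- the finite separable refinement of `hasLiftExt_of_chart`. -/
theorem hasLiftExt_finite_separable_of_chart {X Y : AlgSp.Sp S} (f : X ⟶ Y) (sq : AlgSp.ValSq f)
    {P : AlgSp.Sp S}
    (p₁ : P ⟶ X) (p₂ : P ⟶ (AlgSp.yon S).obj sq.ptA) (hP : p₁ ≫ f = p₂ ≫ sq.bot)
    (ξ : (AlgSp.yon S).obj sq.ptK ⟶ P) (hξ₁ : ξ ≫ p₁ = sq.top)
    (hξ₂ : ξ ≫ p₂ = (AlgSp.yon S).map sq.j)
    {U : Over S} (a : (AlgSp.yon S).obj U ⟶ P) (ha : AlgSp.RepWith @Etale a) (c : U ⟶ sq.ptA)
    (hc : (AlgSp.yon S).map c = a ≫ p₂) (u u' : ↥U.left) (huu' : u ⤳ u')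
    (hu : Points.ofPt a u = Points.ofPt ξ (closedPoint sq.K))
    (hu' : c.left u' = closedPoint sq.A) :
    ∃ e : sq.DomExt, (letI := e.ψ.toAlgebra; Module.Finite sq.K e.K' ∧
      Algebra.IsSeparable sq.K e.K') ∧ e.HasLift := by
  obtain ⟨W, φ, ψ, sqW⟩ := exists_isPullback_of_representable ha.1 ξ
  haveI hψe : Etale ψ.left := ha.2 ξ _ ψ sqW
  -- a point of `W` over `u`
  obtain ⟨w₀, -, hw₀⟩ := KerAt.exists_scheme_point_of_isPullback sqW (Points.ofScheme U u)
    (closedPoint sq.K) (by rw [← Points.ofPt_eq_map_ofScheme, hu])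
  have hw₀φ : φ.left w₀ = u := by
    have h1 := ofPt_yon_map_comp φ (𝟙 _) w₀
    rw [Category.comp_id, hw₀] at h1
    exact ((Points.schemeEquiv U).injective h1).symm
  obtain ⟨A', iA, iD, iV, ι, ρ, hρ, hι, hξ'⟩ :=
    ValRing.exists_valuationRing_of_specializes_map' φ.left w₀ (hw₀φ ▸ huu')
  set ξ' : Spec (CommRingCat.of (FractionRing A')) ⟶ W.left :=
    Spec.map ρ ≫ W.left.fromSpecResidueField w₀ with hξ'_def
  -- the residue field of `w₀` is finite separable over `K`
  let φ₀ : CommRingCat.of sq.K ⟶ W.left.residueField w₀ :=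
    Spec.preimage (W.left.fromSpecResidueField w₀ ≫ ψ.left)
  have hφ₀ : Spec.map φ₀ = W.left.fromSpecResidueField w₀ ≫ ψ.left := Spec.map_preimage _
  have hfs := ValRing.finite_separable_residueField_of_etale (k := sq.K) ψ.left w₀ φ₀.hom
    (by rw [CommRingCat.ofHom_hom]; exact hφ₀)
  -- the comparison of the two maps to `Spec A`
  have hφc : φ ≫ c = ψ ≫ sq.j := (AlgSp.yon S).map_injective (by
    rw [Functor.map_comp, Functor.map_comp, hc, ← hξ₂, ← Category.assoc, ← Category.assoc, sqW.w])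
  have hφc' : φ.left ≫ c.left = ψ.left ≫ sq.j.left := congrArg CommaMorphism.left hφc
  -- the ring maps
  let φr : CommRingCat.of sq.A ⟶ CommRingCat.of A' := Spec.preimage (ι ≫ c.left)
  have hφr : Spec.map φr = ι ≫ c.left := Spec.map_preimage _
  let ψr : CommRingCat.of sq.K ⟶ CommRingCat.of (FractionRing A') := φ₀ ≫ ρ
  have hψr : Spec.map ψr = ξ' ≫ ψ.left := by
    rw [Spec.map_comp, hφ₀, hξ'_def, Category.assoc]
  have hcomm : (algebraMap A' (FractionRing A')).comp φr.hom =
      ψr.hom.comp (algebraMap sq.A sq.K) := by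
    have h2 : φr ≫ CommRingCat.ofHom (algebraMap A' (FractionRing A')) =
        CommRingCat.ofHom (algebraMap sq.A sq.K) ≫ ψr := by
      apply Spec.map_injective
      rw [Spec.map_comp, Spec.map_comp, hφr, hψr, ← Category.assoc, ← hξ', Category.assoc,
        hφc', Category.assoc]
      rfl
    exact congrArg CommRingCat.Hom.hom h2
  have hloc : IsLocalHom φr.hom := by
    rw [isLocalHom_iff_comap_closedPoint]
    have h3 : (Spec.map φr) (closedPoint A') = closedPoint sq.A := by
      rw [hφr]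
      exact (congrArg c.left hι).trans hu'
    exact h3
  let e : sq.DomExt :=
    { A' := A'
      K' := FractionRing A'
      φ := φr.hom
      ψ := ψr.hom
      comm := hcomm
      isLocalHom := hloc }
  have hιw : ι ≫ U.hom = Spec.map (CommRingCat.ofHom e.φ) ≫ sq.str := by
    change ι ≫ U.hom = Spec.map (CommRingCat.ofHom φr.hom) ≫ sq.str
    rw [CommRingCat.ofHom_hom, hφr, Category.assoc]
    congr 1
    exact (Over.w c).symm
  let ι' : e.ptA' ⟶ U := Over.homMk ι hιw
  refine ⟨e, ?_, (AlgSp.yon S).map ι' ≫ a ≫ p₁, ?_, ?_⟩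
  · -- finite separable
    letI alg1 : Algebra sq.K (W.left.residueField w₀) := φ₀.hom.toAlgebra
    letI alg2 : Algebra sq.K (FractionRing A') := ψr.hom.toAlgebra
    let ρ' : (W.left.residueField w₀) ≃ₐ[sq.K] FractionRing A' :=
      AlgEquiv.ofRingEquiv (f := RingEquiv.ofBijective ρ.hom hρ) (fun x => rfl)
    haveI := hfs.1
    haveI := hfs.2
    exact ⟨Module.Finite.equiv ρ'.toLinearEquiv, AlgEquiv.Algebra.isSeparable ρ'⟩
  · -- compatibility with the top arrow
    have hξ'w : ξ' ≫ W.hom = e.ptK'.hom := by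
      change ξ' ≫ W.hom = Spec.map _ ≫ Spec.map (CommRingCat.ofHom φr.hom) ≫ sq.str
      rw [CommRingCat.ofHom_hom, hφr, ← Over.w φ, ← Category.assoc, hξ', Category.assoc,
        Category.assoc]
      congr 2
      exact (Over.w c).symm
    let ξ'' : e.ptK' ⟶ W := Over.homMk ξ' hξ'w
    have hO1 : (Over.homMk (Spec.map (CommRingCat.ofHom (algebraMap e.A' e.K'))) rfl :
        e.ptK' ⟶ e.ptA') ≫ ι' = ξ'' ≫ φ := by
      apply Over.OverMorphism.ext
      exact hξ'.symm
    have hO2 : ∀ (hh : Spec.map (CommRingCat.ofHom e.ψ) ≫ sq.ptK.hom = e.ptK'.hom),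
        (Over.homMk (Spec.map (CommRingCat.ofHom e.ψ)) hh : e.ptK' ⟶ sq.ptK) = ξ'' ≫ ψ := by
      intro hh
      apply Over.OverMorphism.ext
      change Spec.map (CommRingCat.ofHom ψr.hom) = ξ' ≫ ψ.left
      rw [CommRingCat.ofHom_hom, hψr]
    rw [← Category.assoc, ← Functor.map_comp, hO1, hO2, Functor.map_comp, Functor.map_comp,
      Category.assoc, Category.assoc, ← hξ₁, ← Category.assoc ((AlgSp.yon S).map φ),
      sqW.w, Category.assoc]
  · have hO3 : ι' ≫ c = (Over.homMk (Spec.map (CommRingCat.ofHom e.φ)) rfl :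
        e.ptA' ⟶ sq.ptA) := by
      apply Over.OverMorphism.ext
      change ι ≫ c.left = Spec.map (CommRingCat.ofHom φr.hom)
      rw [CommRingCat.ofHom_hom, hφr]
    rw [Category.assoc, Category.assoc, hP, ← Category.assoc a, ← hc, ← Category.assoc,
      ← Functor.map_comp, hO3]

/-- in the existence part of the valuative criterion one may restrict to finite separable
extensions of the fraction field. -/
theorem existVC_finite_separable {X Y : AlgSp.Sp S} (hX : AlgSp.IsAlgSpace X)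
    (hY : AlgSp.IsAlgSpace Y) (f : X ⟶ Y) (hf : AlgSp.ExistVC f) (sq : AlgSp.ValSq f) :
    ∃ e : sq.DomExt, (letI := e.ψ.toAlgebra; Module.Finite sq.K e.K' ∧
      Algebra.IsSeparable sq.K e.K') ∧ e.HasLift := by
  obtain ⟨e₀, l₀, h1, h2⟩ := hf sq
  have sqP := IsPullback.of_hasPullback f sq.bot
  have hPalg : AlgSp.IsAlgSpace (pullback f sq.bot) :=
    Groth.Agent.Lib.Helper30.isAlgSpace_of_isPullback hY.diag hX (AlgSp.IsAlgSpace.yon_obj _) sqP
  let ξ : (AlgSp.yon S).obj sq.ptK ⟶ pullback f sq.bot :=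
    pullback.lift sq.top ((AlgSp.yon S).map sq.j) sq.comm
  have hξ₁ : ξ ≫ pullback.fst f sq.bot = sq.top := pullback.lift_fst _ _ _
  have hξ₂ : ξ ≫ pullback.snd f sq.bot = (AlgSp.yon S).map sq.j := pullback.lift_snd _ _ _
  -- the lift as a morphism to the base change
  let φO : e₀.ptA' ⟶ sq.ptA := Over.homMk (Spec.map (CommRingCat.ofHom e₀.φ)) rfl
  let lam : (AlgSp.yon S).obj e₀.ptA' ⟶ pullback f sq.bot :=
    pullback.lift l₀ ((AlgSp.yon S).map φO) h2
  have hlam₁ : lam ≫ pullback.fst f sq.bot = l₀ := pullback.lift_fst _ _ _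
  have hlam₂ : lam ≫ pullback.snd f sq.bot = (AlgSp.yon S).map φO := pullback.lift_snd _ _ _
  set x' := Points.ofPt lam (closedPoint e₀.A') with hx'
  obtain ⟨U, a, u', hU, ha, hau'⟩ := exists_affine_etale_chart_at hPalg x'
  let c : U ⟶ sq.ptA := (AlgSp.yon S).preimage (a ≫ pullback.snd f sq.bot)
  have hc : (AlgSp.yon S).map c = a ≫ pullback.snd f sq.bot := Functor.map_preimage _ _
  haveI := e₀.isLocalHom
  have hcu' : c.left u' = closedPoint sq.A := by
    have h3 := ofPt_yon_map_comp c (𝟙 _) u'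
    rw [Category.comp_id, hc, ← Points.map_ofPt, hau', hx', Points.map_ofPt, hlam₂] at h3
    have h4 := ofPt_yon_map_comp φO (𝟙 _) (closedPoint e₀.A')
    rw [Category.comp_id] at h4
    rw [h4] at h3
    have h5 : φO.left (closedPoint e₀.A') = closedPoint sq.A :=
      comap_closedPoint e₀.φ
    rw [h5] at h3
    exact ((Points.schemeEquiv sq.ptA).injective h3).symm
  -- the chart pulled back to `Spec A'`
  obtain ⟨V, φV, ψV, sqV⟩ := exists_isPullback_of_representable ha.1 lam
  haveI hψVe : Etale ψV.left := ha.2 lam _ ψV sqV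
  obtain ⟨v', hv'₁, hv'₂⟩ := KerAt.exists_scheme_point_of_isPullback sqV (Points.ofScheme U u')
    (closedPoint e₀.A') (by rw [← Points.ofPt_eq_map_ofScheme, hau'])
  have hv'φ : φV.left v' = u' := by
    have h3 := ofPt_yon_map_comp φV (𝟙 _) v'
    rw [Category.comp_id, hv'₂] at h3
    exact ((Points.schemeEquiv U).injective h3).symm
  -- lift the generic point
  let jO : e₀.ptK' ⟶ e₀.ptA' :=
    Over.homMk (Spec.map (CommRingCat.ofHom (algebraMap e₀.A' e₀.K'))) rfl
  let η : ↥e₀.ptA'.left := jO.left (closedPoint e₀.K')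
  have hηspec : η ⤳ ψV.left v' := by
    rw [hv'₁]
    exact IsLocalRing.specializes_closedPoint _
  obtain ⟨v, hvv', hvη⟩ := (Flat.generalizingMap ψV.left) hηspec
  have huu' : φV.left v ⤳ u' := hv'φ ▸ hvv'.map φV.left.continuous
  have hlamξ : (AlgSp.yon S).map jO ≫ lam = (AlgSp.yon S).map (Over.homMk
      (Spec.map (CommRingCat.ofHom e₀.ψ)) (by
        change Spec.map _ ≫ Spec.map _ ≫ _ = Spec.map _ ≫ Spec.map _ ≫ _
        rw [← Spec.map_comp_assoc, ← Spec.map_comp_assoc, ← CommRingCat.ofHom_comp,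
          ← CommRingCat.ofHom_comp, e₀.comm]) : e₀.ptK' ⟶ sq.ptK) ≫ ξ := by
    apply pullback.hom_ext
    · rw [Category.assoc, hlam₁, Category.assoc, hξ₁]
      exact h1
    · rw [Category.assoc, hlam₂, Category.assoc, hξ₂, ← Functor.map_comp, ← Functor.map_comp]
      congr 1
      apply Over.OverMorphism.ext
      change Spec.map _ ≫ Spec.map _ = Spec.map _ ≫ Spec.map _
      rw [← Spec.map_comp, ← Spec.map_comp, ← CommRingCat.ofHom_comp,
        ← CommRingCat.ofHom_comp, e₀.comm]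
  haveI : Subsingleton ↥sq.ptK.left :=
    inferInstanceAs (Subsingleton (PrimeSpectrum sq.K))
  have hu : Points.ofPt a (φV.left v) = Points.ofPt ξ (closedPoint sq.K) := by
    rw [← ofPt_yon_map_comp, sqV.w, ofPt_yon_map_comp, hvη]
    change Points.ofPt lam (jO.left (closedPoint e₀.K')) = _
    rw [← ofPt_yon_map_comp, hlamξ, ofPt_yon_map_comp]
    exact congrArg _ (Subsingleton.elim _ _)
  exact hasLiftExt_finite_separable_of_chart f sq _ _ sqP.w ξ hξ₁ hξ₂ a ha c hc (φV.left v) u'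
    huu' hu hcu'

end Groth.Agent.Lib.Helper51.VCrit
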