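import Groth.Agent.Lib.Helper51.AlgSpSchImBC
import Groth.Agent.Lib.Helper51.SchemeValRing

set_option autoImplicit false
set_option linter.unusedSectionVars false
universe u
open CategoryTheory CategoryTheory.Limits AlgebraicGeometry Opposite

set_option backward.isDefEq.respectTransparency false

namespace Groth.Agent.Lib.Helper51.KerAt

open AlgSp Groth.Agent.Lib.Helper52 Groth.Agent.Lib.Helper51

variable {S : Scheme.{u}}

/-- a point of a fibre product of a sheaf with a scheme over given points. -/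
theorem exists_scheme_point_of_isPullback {F G : AlgSp.Sp S} {T P : Over S} {f : F ⟶ G}
    {g : (AlgSp.yon S).obj T ⟶ G} {fst : (AlgSp.yon S).obj P ⟶ F} {snd : P ⟶ T}
    (sq : IsPullback fst ((AlgSp.yon S).map snd) f g) (z : Points F) (t : ↥T.left)
    (h : Points.map f z = Points.ofPt g t) :
    ∃ p : ↥P.left, snd.left p = t ∧ Points.ofPt fst p = z := by
  rw [Points.ofPt_eq_map_ofScheme] at h
  obtain ⟨ω, hω₁, hω₂⟩ := exists_point_of_isPullback sq z (Points.ofScheme T t) h
  refine ⟨Points.toScheme P ω, ?_, ?_⟩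
  · have h1 := Points.map_yon_map_apply snd (Points.toScheme P ω)
    change Points.map ((AlgSp.yon S).map snd) (Points.ofScheme P (Points.toScheme P ω)) =
      Points.ofScheme T _ at h1
    rw [Points.ofScheme_toScheme, hω₂] at h1
    exact ((Points.schemeEquiv T).injective h1).symm
  · rw [Points.ofPt_eq_map_ofScheme, Points.ofScheme_toScheme, hω₁]

/-- every point of the scheme theoretic image of a quasi-compact morphism is reached by a
valuation ring whose generic point lifts to the source. -/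
theorem exists_valuationRing_to_schImage {X Y Z : AlgSp.Sp S} (hX : AlgSp.IsAlgSpace X)
    (hY : AlgSp.IsAlgSpace Y) (hZ : AlgSp.IsAlgSpace Z) (f : X ⟶ Y) (i : Z ⟶ Y)
    (hq : AlgSp.IsQuasiCompactMor f) (hZi : AlgSp.IsSchImage f i) (z : AlgSp.Points Z) :
    ∃ (A : Type u) (_ : CommRing A) (_ : IsDomain A) (_ : ValuationRing A)
      (str : Spec (CommRingCat.of A) ⟶ S) (a : (AlgSp.yon S).obj (Over.mk str) ⟶ Z)
      (x : (AlgSp.yon S).obj (Over.mk (Spec.map (CommRingCat.ofHom
        (algebraMap A (FractionRing A))) ≫ str)) ⟶ X),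
      AlgSp.Points.ofPt a (IsLocalRing.closedPoint A) = z ∧
      x ≫ f = (AlgSp.yon S).map (Over.homMk (Spec.map (CommRingCat.ofHom
        (algebraMap A (FractionRing A)))) rfl) ≫ a ≫ i := by
  obtain ⟨U, φ, u, hU, hφ, hu⟩ := exists_affine_etale_chart_at hY (Points.map i z)
  let E : AlgSp.EtOver Y := AlgSp.EtOver.mk φ hφ
  have sqE := AlgSp.EtOver.isPullback_bcObj hZi.1.1 E
  have hE' : IsAffine E.obj.left.left := hU
  obtain ⟨Q, q, w, hqe, hqs, hw, hwq, hker⟩ := exists_qc_chart hX hY f hq φ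
  have hkeq : (AlgSp.EtOver.bcπ hZi.1.1 E).left.ker = w.left.ker := by
    have h0 := idealOfRep_eq_kerAt_of_isSchImage hX hY hZ f hq i hZi E hU
    rw [← idealOfRep_ideal_eq_kerAt hZ hY i hZi.1.1 E hU] at h0
    change _ = kerAt hX hY f φ at h0
    rw [hker] at h0
    rw [Scheme.ker_of_isAffine, Scheme.ker_of_isAffine]
    exact congrArg _ h0
  obtain ⟨z', hz'₁, hz'₂⟩ := exists_scheme_point_of_isPullback sqE z u hu.symm
  have h1 : u ∈ closure (Set.range w.left) := by
    have h1' : u ∈ (w.left.ker.support : Set ↥U.left) := by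
      rw [← hkeq]; exact Scheme.Hom.range_subset_ker_support _ ⟨z', hz'₁⟩
    rwa [Scheme.Hom.support_ker] at h1'
  haveI : QuasiCompact w.left := hwq
  haveI : IsAffine U.left := hU
  obtain ⟨q₀, hq₀⟩ := ValRing.exists_specializes_of_mem_closure_range w.left u h1
  -- the factorisation through the closed subscheme of the chart
  obtain ⟨f', hf'⟩ := hZi.2.1
  have hcomm : (pullback.fst f φ ≫ f') ≫ i = pullback.snd f φ ≫ E.obj.hom := by
    rw [Category.assoc, hf']; exact pullback.condition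
  let l := sqE.lift _ _ hcomm
  have hl₂ : l ≫ (AlgSp.yon S).map (AlgSp.EtOver.bcπ hZi.1.1 E) = pullback.snd f φ :=
    sqE.lift_snd _ _ _
  let w' : Q ⟶ (AlgSp.EtOver.bcObj hZi.1.1 E).obj.left := (AlgSp.yon S).preimage (q ≫ l)
  have hw' : (AlgSp.yon S).map w' = q ≫ l := Functor.map_preimage _ _
  have hw'π : w' ≫ AlgSp.EtOver.bcπ hZi.1.1 E = w := (AlgSp.yon S).map_injective (by
    rw [Functor.map_comp, hw', Category.assoc, hl₂, hw])
  have hw'π' : w'.left ≫ (AlgSp.EtOver.bcπ hZi.1.1 E).left = w.left :=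
    congrArg CommaMorphism.left hw'π
  have hcl : IsClosedImmersion (AlgSp.EtOver.bcπ hZi.1.1 E).left :=
    hZi.1.2 E.obj.hom _ _ sqE
  have hspec : w'.left q₀ ⤳ z' := by
    have hind : Topology.IsInducing (AlgSp.EtOver.bcπ hZi.1.1 E).left :=
      (Scheme.Hom.isClosedEmbedding _).isInducing
    rw [← hind.specializes_iff, hz'₁, ← Scheme.Hom.comp_apply, hw'π']
    exact hq₀
  obtain ⟨A, iA, iD, iV, ι, ξ, hι, hξ⟩ :=
    ValRing.exists_valuationRing_of_specializes_map w'.left q₀ hspec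
  have hξ' : ξ ≫ Q.hom = Spec.map (CommRingCat.ofHom (algebraMap A (FractionRing A))) ≫
      ι ≫ (AlgSp.EtOver.bcObj hZi.1.1 E).obj.left.hom := by
    rw [← Over.w w', ← Category.assoc, hξ, Category.assoc]
  let ι' : Over.mk (ι ≫ (AlgSp.EtOver.bcObj hZi.1.1 E).obj.left.hom) ⟶
      (AlgSp.EtOver.bcObj hZi.1.1 E).obj.left := Over.homMk ι rfl
  let ξ' : Over.mk (Spec.map (CommRingCat.ofHom (algebraMap A (FractionRing A))) ≫
      ι ≫ (AlgSp.EtOver.bcObj hZi.1.1 E).obj.left.hom) ⟶ Q := Over.homMk ξ hξ'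
  refine ⟨A, iA, iD, iV, ι ≫ (AlgSp.EtOver.bcObj hZi.1.1 E).obj.left.hom,
    (AlgSp.yon S).map ι' ≫ (AlgSp.EtOver.bcObj hZi.1.1 E).obj.hom,
    (AlgSp.yon S).map ξ' ≫ q ≫ pullback.fst f φ, ?_, ?_⟩
  · rw [ofPt_yon_map_comp]
    change Points.ofPt _ (ι (IsLocalRing.closedPoint A)) = z
    rw [hι, hz'₂]
  · have hOver : ξ' ≫ w = (Over.homMk (Spec.map (CommRingCat.ofHom
        (algebraMap A (FractionRing A)))) rfl : Over.mk (Spec.map (CommRingCat.ofHom
        (algebraMap A (FractionRing A))) ≫ ι ≫ (AlgSp.EtOver.bcObj hZi.1.1 E).obj.left.hom) ⟶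
        Over.mk (ι ≫ (AlgSp.EtOver.bcObj hZi.1.1 E).obj.left.hom)) ≫ ι' ≫
          AlgSp.EtOver.bcπ hZi.1.1 E := by
      apply Over.OverMorphism.ext
      change ξ ≫ w.left = Spec.map _ ≫ ι ≫ (AlgSp.EtOver.bcπ hZi.1.1 E).left
      rw [← hw'π', ← Category.assoc, hξ, Category.assoc]
    have hyon := congrArg (fun k => (AlgSp.yon S).map k ≫ φ) hOver
    simp only [Functor.map_comp, Category.assoc] at hyon
    calc ((AlgSp.yon S).map ξ' ≫ q ≫ pullback.fst f φ) ≫ f
        = (AlgSp.yon S).map ξ' ≫ (AlgSp.yon S).map w ≫ φ := by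
          rw [hw]; simp only [Category.assoc]; rw [pullback.condition]
      _ = _ := hyon
      _ = _ := by
          simp only [Category.assoc]
          congr 2
          exact sqE.w.symm

end Groth.Agent.Lib.Helper51.KerAt
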