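import Groth.Agent.Lib.Helper51.Taut2
import Mathlib.Topology.Algebra.UniformRing

/-!
Completion of a linearly topologized ring (helper51).
-/

set_option autoImplicit false
set_option linter.unusedSectionVars false
universe u v w

open Topology Filter UniformSpace

namespace Groth.Agent.Lib.Helper51

section

variable {A : Type u} [CommRing A] [UniformSpace A] [IsUniformAddGroup A] [IsTopologicalRing A]

/-- The closure in the completion of the image of an ideal, as an ideal. -/
def complIdeal (I : Ideal A) : Ideal (Completion A) where
  carrier := closure ((↑) '' (I : Set A))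
  add_mem' := by
    intro a b ha hb
    have hc : Continuous (fun p : Completion A × Completion A => p.1 + p.2) := continuous_add
    have hmem : (a, b) ∈ closure ((((↑) : A → Completion A) '' (I : Set A)) ×ˢ
        (((↑) : A → Completion A) '' (I : Set A))) := by
      rw [closure_prod_eq]; exact ⟨ha, hb⟩
    have key := map_mem_closure hc hmem (t := ((↑) : A → Completion A) '' (I : Set A)) (by
      rintro ⟨_, _⟩ ⟨⟨x, hx, rfl⟩, ⟨y, hy, rfl⟩⟩
      exact ⟨x + y, I.add_mem hx hy, Completion.coe_add x y⟩)
    exact key
  zero_mem' := subset_closure ⟨0, I.zero_mem, Completion.coe_zero⟩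
  smul_mem' := by
    intro c x hx
    have hc : Continuous (fun p : Completion A × Completion A => p.1 * p.2) := continuous_mul
    have hmem : (c, x) ∈ closure ((Set.range ((↑) : A → Completion A)) ×ˢ
        (((↑) : A → Completion A) '' (I : Set A))) := by
      rw [closure_prod_eq]
      refine ⟨?_, hx⟩
      have hd : DenseRange ((↑) : A → Completion A) := Completion.denseRange_coe
      rw [hd.closure_range]
      exact Set.mem_univ c
    have key := map_mem_closure hc hmem (t := ((↑) : A → Completion A) '' (I : Set A)) (by
      rintro ⟨_, _⟩ ⟨⟨a, rfl⟩, ⟨y, hy, rfl⟩⟩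
      exact ⟨a * y, I.mul_mem_left a hy, Completion.coe_mul a y⟩)
    exact key

theorem coe_complIdeal (I : Ideal A) :
    (complIdeal I : Set (Completion A)) = closure ((↑) '' (I : Set A)) := rfl

theorem map_coe_le_complIdeal (I : Ideal A) :
    I.map (Completion.coeRingHom : A →+* Completion A) ≤ complIdeal I := by
  rw [Ideal.map_le_iff_le_comap]
  intro x hx
  exact subset_closure ⟨x, hx, rfl⟩

/-- The closure of the extension of `I` to the completion is the closure of the image of `I`. -/
theorem closure_map_coe_eq (I : Ideal A) :
    closure ((I.map (Completion.coeRingHom : A →+* Completion A) : Ideal (Completion A)) :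
      Set (Completion A)) = closure ((↑) '' (I : Set A)) := by
  apply subset_antisymm
  · have h := closure_mono (map_coe_le_complIdeal I)
    rwa [coe_complIdeal, closure_closure] at h
  · apply closure_mono
    rintro _ ⟨x, hx, rfl⟩
    exact Ideal.mem_map_of_mem _ hx

/-- The closure of the image of a neighbourhood of zero is a neighbourhood of zero. -/
theorem complIdeal_mem_nhds {I : Ideal A} (hI : (I : Set A) ∈ 𝓝 (0 : A)) :
    (complIdeal I : Set (Completion A)) ∈ 𝓝 (0 : Completion A) := by
  have h := Completion.isDenseInducing_coe.closure_image_mem_nhds hI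
  rwa [Completion.coe_zero] at h

/-- Every neighbourhood of zero in the completion contains `complIdeal I` for some open `I`. -/
theorem exists_complIdeal_subset [IsLinearTopology A A] {U : Set (Completion A)}
    (hU : U ∈ 𝓝 (0 : Completion A)) :
    ∃ I : Ideal A, IsOpen (I : Set A) ∧ (complIdeal I : Set (Completion A)) ⊆ U := by
  obtain ⟨V, ⟨hV, hVc⟩, hVU⟩ := (closed_nhds_basis (0 : Completion A)).mem_iff.1 hU
  have hpre : ((↑) : A → Completion A) ⁻¹' V ∈ 𝓝 (0 : A) := by
    apply (Completion.continuous_coe A).continuousAt.preimage_mem_nhds
    rwa [Completion.coe_zero]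
  obtain ⟨I, hI, hIV⟩ := IsLinearTopology.hasBasis_open_ideal.mem_iff.1 hpre
  refine ⟨I, hI, (closure_minimal ?_ hVc).trans hVU⟩
  rintro _ ⟨x, hx, rfl⟩
  exact hIV hx

/-- The completion of a linearly topologized ring is linearly topologized. -/
theorem isLinearTopology_completion [IsLinearTopology A A] :
    IsLinearTopology (Completion A) (Completion A) := by
  have hB : (𝓝 (0 : Completion A)).HasBasis (fun I : Ideal A => IsOpen (I : Set A))
      (fun I => (complIdeal I : Set (Completion A))) := by
    constructor
    intro U
    constructor
    · intro hU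
      exact exists_complIdeal_subset hU
    · rintro ⟨I, hI, hIU⟩
      exact Filter.mem_of_superset (complIdeal_mem_nhds (hI.mem_nhds I.zero_mem)) hIU
  exact IsLinearTopology.mk_of_hasBasis _ hB

/-- The canonical map to the completion is taut. -/
theorem isTaut_coeRingHom [IsLinearTopology A A] :
    LinTop.IsTaut (Completion.coeRingHom : A →+* Completion A) := by
  refine ⟨Completion.continuous_coeRingHom, fun I hI => ?_, fun U hU => ?_⟩
  · rw [closure_map_coe_eq, ← coe_complIdeal]
    exact ideal_isOpen_of_mem_nhds (complIdeal_mem_nhds (hI.mem_nhds I.zero_mem))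
  · obtain ⟨I, hI, hIU⟩ := exists_complIdeal_subset hU
    exact ⟨I, hI, by rw [closure_map_coe_eq, ← coe_complIdeal]; exact hIU⟩

end

end Groth.Agent.Lib.Helper51
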