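import Mathlib.Topology.Algebra.IsUniformGroup.Basic
import Mathlib.Topology.Algebra.Group.Basic
import Mathlib.Algebra.BigOperators.Group.Finset.Basic
import Mathlib.Topology.UniformSpace.Cauchy

/-!
Successive approximation in complete topological groups filtered by subgroups (helper51).
-/

set_option autoImplicit false
set_option linter.unusedSectionVars false
universe u v w

open Topology Filter

namespace Groth.Agent.Lib.Helper51

section Algebraic

variable {G : Type u} {H : Type v} [AddCommGroup G] [AddCommGroup H]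

/-- The algebraic part of successive approximation: build the sequence of corrections. -/
theorem exists_seq_of_step (φ : G →+ H) (P : ℕ → AddSubgroup G) (Q : ℕ → AddSubgroup H)
    (hstep : ∀ k, ∀ y ∈ Q k, ∃ g ∈ P k, y - φ g ∈ Q (k + 1)) {y : H} (hy : y ∈ Q 0) :
    ∃ g : ℕ → G, (∀ k, g k ∈ P k) ∧
      ∀ K, y - φ (∑ k ∈ Finset.range K, g k) ∈ Q K := by
  classical
  choose c hcP hcQ using hstep
  -- total version of the choice function
  let c' : ℕ → H → G := fun k z => if h : z ∈ Q k then c k z h else 0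
  -- the remainders
  let r : ℕ → H := fun k => Nat.rec y (fun k z => z - φ (c' k z)) k
  have hr0 : r 0 = y := rfl
  have hrs : ∀ k, r (k + 1) = r k - φ (c' k (r k)) := fun k => rfl
  have hrQ : ∀ k, r k ∈ Q k := by
    intro k
    induction k with
    | zero => exact hy
    | succ k ih =>
      rw [hrs]
      have : c' k (r k) = c k (r k) ih := dif_pos ih
      rw [this]
      exact hcQ k (r k) ih
  refine ⟨fun k => c' k (r k), fun k => ?_, fun K => ?_⟩
  · have : c' k (r k) = c k (r k) (hrQ k) := dif_pos (hrQ k)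
    change c' k (r k) ∈ P k
    rw [this]
    exact hcP k (r k) (hrQ k)
  · have hK : y - φ (∑ k ∈ Finset.range K, c' k (r k)) = r K := by
      induction K with
      | zero => simp [hr0]
      | succ K ih =>
        rw [Finset.sum_range_succ, map_add, hrs, ← ih]
        abel
    rw [hK]
    exact hrQ K

end Algebraic

section Cauchy

variable {G : Type u} [AddCommGroup G] [UniformSpace G] [IsUniformAddGroup G]

/-- A sequence whose successive differences lie in a decreasing sequence of subgroups tending to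
zero is Cauchy. -/
theorem cauchySeq_of_sub_mem {f : ℕ → G} (P : ℕ → AddSubgroup G) (hPanti : Antitone P)
    (hP0 : ∀ U ∈ 𝓝 (0 : G), ∃ k, (P k : Set G) ⊆ U) (hf : ∀ n, f (n + 1) - f n ∈ P n) :
    CauchySeq f := by
  suffices Tendsto (fun p : ℕ × ℕ ↦ f p.2 - f p.1) atTop (𝓝 0) by
    simpa [CauchySeq, cauchy_map_iff, prod_atTop_atTop_eq, uniformity_eq_comap_nhds_zero G,
      atTop_neBot]
  rw [tendsto_atTop']
  intro s hs
  obtain ⟨N, hN⟩ := hP0 s hs
  refine ⟨(N, N), ?_⟩
  rintro ⟨M, M'⟩ ⟨(hMN : N ≤ M), (hMN' : N ≤ M')⟩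
  apply hN
  -- general claim: for `N ≤ M ≤ M'`, `f M' - f M ∈ P N`
  have key : ∀ M k : ℕ, N ≤ M → f (M + k) - f M ∈ P N := by
    intro M k hM
    induction k with
    | zero => simp
    | succ k ih =>
      have h1 : f (M + (k + 1)) - f (M + k) ∈ P N :=
        hPanti (show N ≤ M + k by omega) (hf (M + k))
      have : f (M + (k + 1)) - f M = (f (M + (k + 1)) - f (M + k)) + (f (M + k) - f M) := by abel
      rw [this]
      exact (P N).add_mem h1 ih
  rcases le_total M M' with h | h
  · obtain ⟨k, rfl⟩ := Nat.exists_eq_add_of_le h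
    exact key M k hMN
  · obtain ⟨k, rfl⟩ := Nat.exists_eq_add_of_le h
    have := (P N).neg_mem (key M' k hMN')
    simpa using this

end Cauchy

end Groth.Agent.Lib.Helper51

namespace Groth.Agent.Lib.Helper51

section Main

variable {G : Type u} {H : Type v} [AddCommGroup G] [UniformSpace G] [IsUniformAddGroup G]
  [CompleteSpace G] [AddCommGroup H] [TopologicalSpace H] [IsTopologicalAddGroup H] [T2Space H]

/-- Successive approximation: if `Q k ⊆ φ (P k) + Q (k+1)` for all `k`, then `Q 0 ⊆ φ (P 0)`. -/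
theorem exists_preimage_of_step (φ : G →+ H) (hφ : Continuous φ) (P : ℕ → AddSubgroup G)
    (Q : ℕ → AddSubgroup H) (hPanti : Antitone P) (hPcl : IsClosed (P 0 : Set G))
    (hP0 : ∀ U ∈ 𝓝 (0 : G), ∃ k, (P k : Set G) ⊆ U)
    (hQ0 : ∀ U ∈ 𝓝 (0 : H), ∃ k, ∀ m, k ≤ m → (Q m : Set H) ⊆ U)
    (hstep : ∀ k, ∀ y ∈ Q k, ∃ g ∈ P k, y - φ g ∈ Q (k + 1)) {y : H} (hy : y ∈ Q 0) :
    ∃ g ∈ P 0, φ g = y := by
  obtain ⟨g, hgP, hgQ⟩ := exists_seq_of_step φ P Q hstep hy
  set s : ℕ → G := fun K => ∑ k ∈ Finset.range K, g k with hs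
  have hdiff : ∀ n, s (n + 1) - s n ∈ P n := by
    intro n
    have : s (n + 1) - s n = g n := by
      simp only [hs, Finset.sum_range_succ]; abel
    rw [this]; exact hgP n
  have hc : CauchySeq s := cauchySeq_of_sub_mem P hPanti hP0 hdiff
  obtain ⟨a, ha⟩ := cauchySeq_tendsto_of_complete hc
  have hsP : ∀ K, s K ∈ P 0 := fun K =>
    (P 0).sum_mem (fun k _ => hPanti (Nat.zero_le k) (hgP k))
  have haP : a ∈ P 0 := hPcl.mem_of_tendsto ha (Filter.Eventually.of_forall hsP)
  refine ⟨a, haP, ?_⟩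
  have h1 : Tendsto (fun K => φ (s K)) atTop (𝓝 (φ a)) := (hφ.tendsto a).comp ha
  have h2 : Tendsto (fun K => y - φ (s K)) atTop (𝓝 0) := by
    rw [tendsto_atTop']
    intro U hU
    obtain ⟨k, hk⟩ := hQ0 U hU
    exact ⟨k, fun m hm => hk m hm (hgQ m)⟩
  have h3 : Tendsto (fun K => φ (s K)) atTop (𝓝 y) := by
    have h4 : Tendsto (fun K => y - (y - φ (s K))) atTop (𝓝 (y - 0)) :=
      tendsto_const_nhds.sub h2
    simpa using h4
  exact tendsto_nhds_unique h1 h3

end Main

end Groth.Agent.Lib.Helper51
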