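import Groth.Agent.Lib.Helper51.ComplGroup
import Groth.Agent.Lib.Helper51.SuccApprox
import Mathlib.RingTheory.Ideal.Operations
import Mathlib.RingTheory.Finiteness.Basic
import Mathlib.RingTheory.Finiteness.Ideal
import Mathlib.Topology.Algebra.Module.Basic

/-!
Completion of a topological module with an open submodule carrying the `I`-adic topology,
`I` finitely generated (helper51).
-/

set_option autoImplicit false
set_option linter.unusedSectionVars false
universe u v w

open Topology Filter UniformSpace

namespace Groth.Agent.Lib.Helper51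

section Alg

variable {R : Type u} [CommRing R] {M : Type v} [AddCommGroup M] [Module R M]

/-- Elements of `span s • N'` are combinations of elements of `s` with coefficients in `N'`. -/
theorem exists_sum_of_mem_span_smul (s : Finset R) (N' : Submodule R M) {x : M}
    (hx : x ∈ Ideal.span (s : Set R) • N') :
    ∃ a : s → M, (∀ i, a i ∈ N') ∧ x = ∑ i : s, (i : R) • a i := by
  refine Submodule.smul_induction_on
    (p := fun x => ∃ a : s → M, (∀ i, a i ∈ N') ∧ x = ∑ i : s, (i : R) • a i) hx ?_ ?_
  · intro r hr n hn
    obtain ⟨f, -, hf⟩ := Submodule.mem_span_finset.1 hr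
    refine ⟨fun i => f i • n, fun i => N'.smul_mem _ hn, ?_⟩
    rw [← hf, Finset.sum_smul, ← Finset.sum_coe_sort s]
    refine Finset.sum_congr rfl (fun i _ => ?_)
    rw [smul_eq_mul, mul_comm, mul_smul]
  · rintro x y ⟨a, ha, rfl⟩ ⟨b, hb, rfl⟩
    refine ⟨fun i => a i + b i, fun i => N'.add_mem (ha i) (hb i), ?_⟩
    rw [← Finset.sum_add_distrib]
    exact Finset.sum_congr rfl (fun i _ => (smul_add _ _ _).symm)

end Alg

section Top

variable {R : Type u} [CommRing R] {M : Type v} [AddCommGroup M] [Module R M] [UniformSpace M]
  [IsUniformAddGroup M] [UniformContinuousConstSMul R M]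

/-- The closure in the completion of the image of a submodule, as a submodule. -/
noncomputable def complSubmodule (N : Submodule R M) : Submodule R (Completion M) where
  carrier := (complSubgroup N.toAddSubgroup : Set (Completion M))
  add_mem' := fun ha hb => (complSubgroup N.toAddSubgroup).add_mem ha hb
  zero_mem' := (complSubgroup N.toAddSubgroup).zero_mem
  smul_mem' := by
    intro c x hx
    have hx' : x ∈ closure (((↑) : M → Completion M) '' (N : Set M)) := by
      have := coe_complSubgroup N.toAddSubgroup
      have hx2 : x ∈ (complSubgroup N.toAddSubgroup : Set (Completion M)) := hx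
      rw [this] at hx2; exact hx2
    have hc : Continuous (fun z : Completion M => c • z) := continuous_const_smul c
    have key := map_mem_closure hc hx' (t := ((↑) : M → Completion M) '' (N : Set M)) (by
      rintro _ ⟨m, hm, rfl⟩
      exact ⟨c • m, N.smul_mem c hm, Completion.coe_smul c m⟩)
    change c • x ∈ (complSubgroup N.toAddSubgroup : Set (Completion M))
    rw [coe_complSubgroup]
    exact key

theorem mem_complSubmodule_iff (N : Submodule R M) {x : Completion M} :
    x ∈ complSubmodule N ↔ x ∈ complSubgroup N.toAddSubgroup := Iff.rfl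

theorem coe_complSubmodule (N : Submodule R M) :
    (complSubmodule N : Set (Completion M)) = closure (((↑) : M → Completion M) '' (N : Set M)) :=
  coe_complSubgroup N.toAddSubgroup

/-- `I ^ n • closure (ι M') ≤ closure (ι (I ^ n • M'))`. -/
theorem smul_complSubmodule_le (J : Ideal R) (N : Submodule R M) :
    J • complSubmodule N ≤ complSubmodule (J • N) := by
  rw [Submodule.smul_le]
  intro r hr x hx
  have hx' : x ∈ closure (((↑) : M → Completion M) '' (N : Set M)) := by
    rw [← coe_complSubmodule]; exact hx
  have hc : Continuous (fun z : Completion M => r • z) := continuous_const_smul r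
  have key := map_mem_closure hc hx' (t := ((↑) : M → Completion M) '' ((J • N : Submodule R M) : Set M))
    (by
      rintro _ ⟨m, hm, rfl⟩
      exact ⟨r • m, Submodule.smul_mem_smul hr hm, Completion.coe_smul r m⟩)
  change r • x ∈ (complSubmodule (J • N) : Set (Completion M))
  rw [coe_complSubmodule]
  exact key

end Top

end Groth.Agent.Lib.Helper51

namespace Groth.Agent.Lib.Helper51

section Main

variable {R : Type u} [CommRing R] {M : Type v} [AddCommGroup M] [Module R M] [UniformSpace M]
  [IsUniformAddGroup M] [UniformContinuousConstSMul R M]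

/-- Key inclusion: `closure (ι (J • N₀)) ≤ J • closure (ι M')` when `J = span s` and the
submodules `I ^ k • M'` are open and form a basis (`N₀ = M'`). -/
theorem complSubmodule_smul_le (I : Ideal R) (M' : Submodule R M)
    (hopen : ∀ n : ℕ, IsOpen ((I ^ n • M' : Submodule R M) : Set M))
    (hbasis : ∀ U ∈ 𝓝 (0 : M), ∃ n : ℕ, ((I ^ n • M' : Submodule R M) : Set M) ⊆ U)
    (n : ℕ) (s : Finset R) (hs : Ideal.span (s : Set R) = I ^ n) :
    complSubmodule (I ^ n • M') ≤ (I ^ n) • complSubmodule M' := by
  intro y hy
  have hgroup : ∀ W ∈ 𝓝 (0 : M), ∃ U : AddSubgroup M, IsOpen (U : Set M) ∧ (U : Set M) ⊆ W := by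
    intro W hW
    obtain ⟨k, hk⟩ := hbasis W hW
    exact ⟨(I ^ k • M').toAddSubgroup, hopen k, hk⟩
  have hmono : ∀ {a b : ℕ}, a ≤ b → (I ^ b • M' : Submodule R M) ≤ I ^ a • M' :=
    fun h => Submodule.smul_mono_left (Ideal.pow_le_pow_right h)
  let φ : (s → Completion M) →+ Completion M :=
    ∑ i : s, (DistribSMul.toAddMonoidHom (Completion M) (i : R)).comp
      (Pi.evalAddMonoidHom (fun _ : s => Completion M) i)
  have hφ_apply : ∀ a : s → Completion M, φ a = ∑ i : s, (i : R) • a i := by
    intro a
    simp [φ]
  have hφc : Continuous φ := by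
    have : (φ : (s → Completion M) → Completion M) = fun a => ∑ i : s, (i : R) • a i :=
      funext hφ_apply
    rw [this]
    exact continuous_finsetSum _ (fun i _ => (continuous_apply i).const_smul (i : R))
  let P : ℕ → AddSubgroup (s → Completion M) := fun k =>
    AddSubgroup.pi Set.univ (fun _ : s => complSubgroup (I ^ k • M').toAddSubgroup)
  let Q : ℕ → AddSubgroup (Completion M) := fun k => complSubgroup (I ^ (n + k) • M').toAddSubgroup
  have hPanti : Antitone P := by
    intro k k' hkk' a ha i hi
    exact complSubgroup_mono (show (I ^ k' • M').toAddSubgroup ≤ (I ^ k • M').toAddSubgroup from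
      hmono hkk') (ha i hi)
  have hPcl : IsClosed (P 0 : Set (s → Completion M)) := by
    have : (P 0 : Set (s → Completion M)) = Set.pi Set.univ
        (fun _ : s => (complSubgroup (I ^ 0 • M').toAddSubgroup : Set (Completion M))) := by
      ext a
      simp only [P, AddSubgroup.coe_pi, Set.mem_pi, Set.mem_univ, true_implies]
    rw [this]
    exact isClosed_set_pi (fun _ _ => AddSubgroup.isClosed_topologicalClosure _)
  have hP0 : ∀ U ∈ 𝓝 (0 : s → Completion M), ∃ k, (P k : Set (s → Completion M)) ⊆ U := by
    intro U hU
    rw [nhds_pi, Filter.mem_pi] at hU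
    obtain ⟨T, -, t, ht, htU⟩ := hU
    have hch : ∀ i : s, ∃ m : ℕ,
        (complSubgroup (I ^ m • M').toAddSubgroup : Set (Completion M)) ⊆ t i := by
      intro i
      obtain ⟨V, hV, hVt⟩ := exists_complSubgroup_subset hgroup (ht i)
      obtain ⟨m, hm⟩ := hbasis _ (hV.mem_nhds V.zero_mem)
      exact ⟨m, fun z hz => hVt (complSubgroup_mono (show (I ^ m • M').toAddSubgroup ≤ V from hm) hz)⟩
    choose m hm using hch
    refine ⟨Finset.univ.sup m, fun a ha => htU ?_⟩
    intro i _
    apply hm i
    have h1 : a i ∈ complSubgroup (I ^ (Finset.univ.sup m) • M').toAddSubgroup :=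
      ha i (Set.mem_univ i)
    exact complSubgroup_mono (show (I ^ (Finset.univ.sup m) • M').toAddSubgroup ≤
      (I ^ (m i) • M').toAddSubgroup from hmono (Finset.le_sup (f := m) (Finset.mem_univ i))) h1
  have hQ0 : ∀ U ∈ 𝓝 (0 : Completion M), ∃ k, ∀ m, k ≤ m → (Q m : Set (Completion M)) ⊆ U := by
    intro U hU
    obtain ⟨V, hV, hVU⟩ := exists_complSubgroup_subset hgroup hU
    obtain ⟨k, hk⟩ := hbasis _ (hV.mem_nhds V.zero_mem)
    refine ⟨k, fun m hm z hz => hVU (complSubgroup_mono ?_ hz)⟩
    exact fun w hw => hk (hmono (show k ≤ n + m by omega) hw)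
  have hstep : ∀ k, ∀ y ∈ Q k, ∃ g ∈ P k, y - φ g ∈ Q (k + 1) := by
    intro k y hy
    have hy' : y ∈ closure (((↑) : M → Completion M) ''
        (((I ^ (n + k) • M').toAddSubgroup : AddSubgroup M) : Set M)) := by
      rw [← coe_complSubgroup]; exact hy
    have hQopen : IsOpen (Q (k + 1) : Set (Completion M)) :=
      complSubgroup_isOpen ((hopen _).mem_nhds (Submodule.zero_mem _))
    have hnb : (fun w => y - w) ⁻¹' (Q (k + 1) : Set (Completion M)) ∈ 𝓝 y := by
      have hcont : Continuous (fun w : Completion M => y - w) := continuous_const.sub continuous_id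
      apply hcont.continuousAt.preimage_mem_nhds
      simp only [sub_self]
      exact hQopen.mem_nhds (AddSubgroup.zero_mem _)
    obtain ⟨w, hw1, hw2⟩ := mem_closure_iff_nhds.1 hy' _ hnb
    obtain ⟨x, hx, rfl⟩ := hw2
    have hx' : x ∈ Ideal.span (s : Set R) • (I ^ k • M' : Submodule R M) := by
      rw [hs, ← mul_smul, ← pow_add]; exact hx
    obtain ⟨a, ha, hxa⟩ := exists_sum_of_mem_span_smul s _ hx'
    refine ⟨fun i => ((a i : M) : Completion M), fun i _ => coe_mem_complSubgroup (ha i), ?_⟩
    have : φ (fun i => ((a i : M) : Completion M)) = ((x : M) : Completion M) := by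
      rw [hφ_apply, hxa]
      have h1 : ∀ i : s, (i : R) • ((a i : M) : Completion M) = (((i : R) • a i : M) : Completion M) :=
        fun i => (Completion.coe_smul (i : R) (a i)).symm
      simp only [h1]
      have h2 : ∀ (t : Finset s) (f : s → M),
          ((∑ i ∈ t, f i : M) : Completion M) = ∑ i ∈ t, ((f i : M) : Completion M) := by
        intro t f
        exact map_sum (Completion.toCompl : M →+ Completion M) f t
      rw [h2]
    rw [this]
    exact hw1
  have hy0 : y ∈ Q 0 := hy
  obtain ⟨a, haP, hay⟩ := exists_preimage_of_step φ hφc P Q hPanti hPcl hP0 hQ0 hstep hy0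
  rw [← hay, hφ_apply]
  refine Submodule.sum_mem _ (fun i _ => Submodule.smul_mem_smul ?_ ?_)
  · rw [← hs]; exact Ideal.subset_span i.2
  · have h3 := haP i (Set.mem_univ i)
    have h4 : (I ^ 0 • M' : Submodule R M) = M' := by simp
    rw [mem_complSubmodule_iff]
    rw [h4] at h3
    exact h3

end Main

end Groth.Agent.Lib.Helper51

namespace Groth.Agent.Lib.Helper51

section Final

variable {R : Type u} [CommRing R] {M : Type v} [AddCommGroup M] [Module R M] [UniformSpace M]
  [IsUniformAddGroup M] [UniformContinuousConstSMul R M]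

/-- `I ^ n • closure (ι M') = closure (ι (I ^ n • M'))`. -/
theorem smul_complSubmodule_eq (I : Ideal R) (hI : I.FG) (M' : Submodule R M)
    (hopen : ∀ n : ℕ, IsOpen ((I ^ n • M' : Submodule R M) : Set M))
    (hbasis : ∀ U ∈ 𝓝 (0 : M), ∃ n : ℕ, ((I ^ n • M' : Submodule R M) : Set M) ⊆ U) (n : ℕ) :
    (I ^ n) • complSubmodule M' = complSubmodule (I ^ n • M') := by
  obtain ⟨s, hs⟩ := Ideal.FG.pow hI (n := n)
  exact le_antisymm (smul_complSubmodule_le _ _)
    (complSubmodule_smul_le I M' hopen hbasis n s hs)

/-- The linear map `M → M^`. -/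
noncomputable def toComplₗ : M →ₗ[R] Completion M where
  toFun := fun m => (m : Completion M)
  map_add' := Completion.coe_add
  map_smul' := fun c m => Completion.coe_smul c m

theorem complAdic_main (I : Ideal R) (hI : I.FG) (M' : Submodule R M)
    (hopen : ∀ n : ℕ, IsOpen ((I ^ n • M' : Submodule R M) : Set M))
    (hbasis : ∀ U ∈ 𝓝 (0 : M), ∃ n : ℕ, ((I ^ n • M' : Submodule R M) : Set M) ⊆ U) :
    (∃ M'' : Submodule R (Completion M),
        (∀ n : ℕ, IsOpen ((I ^ n • M'' : Submodule R (Completion M)) : Set (Completion M))) ∧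
        ∀ U ∈ 𝓝 (0 : Completion M), ∃ n : ℕ,
          ((I ^ n • M'' : Submodule R (Completion M)) : Set (Completion M)) ⊆ U) ∧
      ∀ n : ℕ, 0 < n →
        Function.Surjective ((QuotientAddGroup.mk'
            (I ^ n • ⊤ : Submodule R (Completion M)).toAddSubgroup).comp
          (Completion.toCompl : M →+ Completion M)) ∧
        ((QuotientAddGroup.mk' (I ^ n • ⊤ : Submodule R (Completion M)).toAddSubgroup).comp
          (Completion.toCompl : M →+ Completion M)).ker =
            (I ^ n • ⊤ : Submodule R M).toAddSubgroup := by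
  have hgroup : ∀ W ∈ 𝓝 (0 : M), ∃ U : AddSubgroup M, IsOpen (U : Set M) ∧ (U : Set M) ⊆ W := by
    intro W hW
    obtain ⟨k, hk⟩ := hbasis W hW
    exact ⟨(I ^ k • M').toAddSubgroup, hopen k, hk⟩
  have heq := smul_complSubmodule_eq I hI M' hopen hbasis
  have hopen' : ∀ n : ℕ,
      IsOpen ((I ^ n • complSubmodule M' : Submodule R (Completion M)) : Set (Completion M)) := by
    intro n
    rw [heq n]
    exact complSubgroup_isOpen ((hopen n).mem_nhds (Submodule.zero_mem _))
  refine ⟨⟨complSubmodule M', hopen', ?_⟩, ?_⟩
  · intro U hU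
    obtain ⟨V, hV, hVU⟩ := exists_complSubgroup_subset hgroup hU
    obtain ⟨n, hn⟩ := hbasis _ (hV.mem_nhds V.zero_mem)
    refine ⟨n, ?_⟩
    rw [heq n]
    exact fun z hz => hVU (complSubgroup_mono (show (I ^ n • M').toAddSubgroup ≤ V from hn) hz)
  · intro n _
    -- every element of the completion is `ι m` modulo `I ^ n • M''`
    have hdense : ∀ z : Completion M, ∃ m : M,
        z - (m : Completion M) ∈ (I ^ n • complSubmodule M' : Submodule R (Completion M)) := by
      intro z
      have hnb : (fun w => z - w) ⁻¹'
          ((I ^ n • complSubmodule M' : Submodule R (Completion M)) : Set (Completion M)) ∈ 𝓝 z := by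
        have hcont : Continuous (fun w : Completion M => z - w) := continuous_const.sub continuous_id
        apply hcont.continuousAt.preimage_mem_nhds
        simp only [sub_self]
        exact (hopen' n).mem_nhds (Submodule.zero_mem _)
      obtain ⟨w, hw⟩ := Completion.denseRange_coe.inter_nhds_nonempty hnb
      obtain ⟨m, hm⟩ : w ∈ Set.range ((↑) : M → Completion M) := hw.1
      exact ⟨m, by rw [hm]; exact hw.2⟩
    constructor
    · -- surjectivity
      intro q
      obtain ⟨z, rfl⟩ := QuotientAddGroup.mk'_surjective _ q
      obtain ⟨m, hm⟩ := hdense z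
      refine ⟨m, ?_⟩
      simp only [AddMonoidHom.coe_comp, Function.comp_apply, QuotientAddGroup.mk'_apply]
      rw [QuotientAddGroup.eq]
      have h1 : (I ^ n • complSubmodule M' : Submodule R (Completion M)) ≤ I ^ n • ⊤ :=
        Submodule.smul_mono le_rfl le_top
      have h2 : -(Completion.toCompl m) + z ∈ (I ^ n • ⊤ : Submodule R (Completion M)) := by
        have : -(Completion.toCompl m) + z = z - (m : Completion M) := by
          rw [neg_add_eq_sub]; rfl
        rw [this]; exact h1 hm
      exact h2
    · -- kernel
      ext m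
      simp only [AddMonoidHom.mem_ker, AddMonoidHom.coe_comp, Function.comp_apply,
        QuotientAddGroup.mk'_apply, QuotientAddGroup.eq_zero_iff]
      change (m : Completion M) ∈ (I ^ n • ⊤ : Submodule R (Completion M)) ↔
        m ∈ (I ^ n • ⊤ : Submodule R M)
      constructor
      · intro hm
        -- `⊤ = range ι ⊔ M''`
        have htop : (⊤ : Submodule R (Completion M)) ≤
            LinearMap.range (toComplₗ (R := R) (M := M)) ⊔ complSubmodule M' := by
          intro z _
          have hnb : (fun w => z - w) ⁻¹' ((complSubmodule M' : Submodule R (Completion M)) :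
              Set (Completion M)) ∈ 𝓝 z := by
            have hcont : Continuous (fun w : Completion M => z - w) :=
              continuous_const.sub continuous_id
            apply hcont.continuousAt.preimage_mem_nhds
            simp only [sub_self]
            have h0 := hopen' 0
            simp only [pow_zero, Ideal.one_eq_top, Submodule.top_smul] at h0
            exact h0.mem_nhds (Submodule.zero_mem _)
          obtain ⟨w, hw⟩ := Completion.denseRange_coe.inter_nhds_nonempty hnb
          obtain ⟨m', hm'⟩ : w ∈ Set.range ((↑) : M → Completion M) := hw.1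
          have hz : z = (m' : Completion M) + (z - (m' : Completion M)) := by abel
          rw [hz]
          refine Submodule.add_mem_sup ⟨m', rfl⟩ ?_
          rw [hm']; exact hw.2
        have h1 : (I ^ n • ⊤ : Submodule R (Completion M)) ≤
            (I ^ n • ⊤ : Submodule R M).map (toComplₗ (R := R) (M := M)) ⊔
              I ^ n • complSubmodule M' := by
          refine (Submodule.smul_mono le_rfl htop).trans ?_
          rw [Submodule.smul_sup, LinearMap.range_eq_map, ← Submodule.map_smul'']
        obtain ⟨z₁, hz₁, z₂, hz₂, hz⟩ := Submodule.mem_sup.1 (h1 hm)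
        obtain ⟨m₁, hm₁, rfl⟩ := hz₁
        rw [heq n] at hz₂
        have h2 : ((m - m₁ : M) : Completion M) = z₂ := by
          rw [Completion.coe_sub, ← hz]
          have : toComplₗ (R := R) (M := M) m₁ = (m₁ : Completion M) := rfl
          rw [this]; abel
        have h3 : m - m₁ ∈ (I ^ n • M').toAddSubgroup := by
          rw [← coe_mem_complSubgroup_iff (hopen n), h2]
          exact hz₂
        have h4 : m - m₁ ∈ (I ^ n • ⊤ : Submodule R M) :=
          Submodule.smul_mono le_rfl le_top h3
        have : m = (m - m₁) + m₁ := by abel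
        rw [this]
        exact Submodule.add_mem _ h4 hm₁
      · intro hm
        have h1 : (I ^ n • ⊤ : Submodule R M).map (toComplₗ (R := R) (M := M)) ≤ I ^ n • ⊤ := by
          rw [Submodule.map_smul'']
          exact Submodule.smul_mono le_rfl le_top
        exact h1 ⟨m, hm, rfl⟩

end Final

end Groth.Agent.Lib.Helper51
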