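import Mathlib.Topology.Algebra.GroupCompletion
import Mathlib.Topology.Algebra.IsUniformGroup.Basic
import Mathlib.Topology.Algebra.Group.Quotient
import Mathlib.Topology.Algebra.OpenSubgroup

/-!
Completions of topological abelian groups with a basis of open subgroups, and quotients
(helper51).
-/

set_option autoImplicit false
set_option linter.unusedSectionVars false
universe u v w

open Topology Filter UniformSpace

namespace Groth.Agent.Lib.Helper51

section

variable {M : Type v} [AddCommGroup M] [UniformSpace M] [IsUniformAddGroup M]

/-- The closure in the completion of the image of a subgroup. -/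
noncomputable def complSubgroup (U : AddSubgroup M) : AddSubgroup (Completion M) :=
  (U.map (Completion.toCompl : M →+ Completion M)).topologicalClosure

theorem coe_complSubgroup (U : AddSubgroup M) :
    (complSubgroup U : Set (Completion M)) = closure ((↑) '' (U : Set M)) := by
  simp only [complSubgroup, AddSubgroup.topologicalClosure_coe, AddSubgroup.coe_map]
  rfl

theorem coe_mem_complSubgroup {U : AddSubgroup M} {m : M} (hm : m ∈ U) :
    (m : Completion M) ∈ complSubgroup U := by
  change (m : Completion M) ∈ (complSubgroup U : Set (Completion M))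
  rw [coe_complSubgroup]
  exact subset_closure ⟨m, hm, rfl⟩

theorem complSubgroup_mem_nhds {U : AddSubgroup M} (hU : (U : Set M) ∈ 𝓝 (0 : M)) :
    (complSubgroup U : Set (Completion M)) ∈ 𝓝 (0 : Completion M) := by
  rw [coe_complSubgroup]
  have h := Completion.isDenseInducing_coe.closure_image_mem_nhds hU
  rwa [Completion.coe_zero] at h

theorem complSubgroup_isOpen {U : AddSubgroup M} (hU : (U : Set M) ∈ 𝓝 (0 : M)) :
    IsOpen (complSubgroup U : Set (Completion M)) :=
  (complSubgroup U).isOpen_of_mem_nhds (complSubgroup_mem_nhds hU)

theorem complSubgroup_mono {U V : AddSubgroup M} (h : U ≤ V) : complSubgroup U ≤ complSubgroup V := by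
  intro x hx
  change x ∈ (complSubgroup V : Set (Completion M))
  rw [coe_complSubgroup]
  have hx' : x ∈ (complSubgroup U : Set (Completion M)) := hx
  rw [coe_complSubgroup] at hx'
  exact closure_mono (Set.image_mono h) hx'

/-- Every neighbourhood of zero in the completion contains `complSubgroup U` for a basic `U`. -/
theorem exists_complSubgroup_subset
    (hbasis : ∀ W ∈ 𝓝 (0 : M), ∃ U : AddSubgroup M, IsOpen (U : Set M) ∧ (U : Set M) ⊆ W)
    {W : Set (Completion M)} (hW : W ∈ 𝓝 (0 : Completion M)) :
    ∃ U : AddSubgroup M, IsOpen (U : Set M) ∧ (complSubgroup U : Set (Completion M)) ⊆ W := by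
  obtain ⟨V, ⟨hV, hVc⟩, hVW⟩ := (closed_nhds_basis (0 : Completion M)).mem_iff.1 hW
  have hpre : ((↑) : M → Completion M) ⁻¹' V ∈ 𝓝 (0 : M) := by
    apply (Completion.continuous_coe M).continuousAt.preimage_mem_nhds
    rwa [Completion.coe_zero]
  obtain ⟨U, hU, hUV⟩ := hbasis _ hpre
  refine ⟨U, hU, ?_⟩
  rw [coe_complSubgroup]
  refine (closure_minimal ?_ hVc).trans hVW
  rintro _ ⟨x, hx, rfl⟩
  exact hUV hx

/-- For an open subgroup `U`, the preimage of `complSubgroup U` in `M` is `U`. -/
theorem coe_mem_complSubgroup_iff {U : AddSubgroup M} (hU : IsOpen (U : Set M)) {m : M} :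
    (m : Completion M) ∈ complSubgroup U ↔ m ∈ U := by
  constructor
  · intro hm
    have hm' : (m : Completion M) ∈ closure (((↑) : M → Completion M) '' (U : Set M)) := by
      rw [← coe_complSubgroup]; exact hm
    have hind : IsInducing ((↑) : M → Completion M) := Completion.isDenseInducing_coe.isInducing
    have h1 : m ∈ closure (U : Set M) := by
      rw [hind.closure_eq_preimage_closure_image]; exact hm'
    rwa [(U.isClosed_of_isOpen hU).closure_eq] at h1
  · exact coe_mem_complSubgroup

end

end Groth.Agent.Lib.Helper51
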