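import Groth.Agent.Lib.Helper51.ComplGroup

/-!
Completion of a quotient of a topological abelian group with a basis of open subgroups (helper51).
-/

set_option autoImplicit false
set_option linter.unusedSectionVars false
universe u v w

open Topology Filter UniformSpace

namespace Groth.Agent.Lib.Helper51

section

variable {M : Type v} [AddCommGroup M] [UniformSpace M] [IsUniformAddGroup M]

/-- The kernel of `M^ → (M/N)^` is the closure of the image of `N`. -/
theorem ker_completion_map_mk
    (hbasis : ∀ W ∈ 𝓝 (0 : M), ∃ U : AddSubgroup M, IsOpen (U : Set M) ∧ (U : Set M) ⊆ W)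
    (N : AddSubgroup M) :
    (@Completion.map M _ (M ⧸ N) (IsTopologicalAddGroup.rightUniformSpace (M ⧸ N))
        (QuotientAddGroup.mk' N)) ⁻¹' {0} =
      closure (Set.range (fun n : N => ((n : M) : Completion M))) := by
  let uQ : UniformSpace (M ⧸ N) := IsTopologicalAddGroup.rightUniformSpace (M ⧸ N)
  have : IsUniformAddGroup (M ⧸ N) := isUniformAddGroup_of_addCommGroup
  set π : M →+ M ⧸ N := QuotientAddGroup.mk' N with hπ
  have hπc : Continuous π := QuotientAddGroup.continuous_mk
  have hπu : UniformContinuous π := uniformContinuous_addMonoidHom_of_continuous hπc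
  set πc : Completion M →+ Completion (M ⧸ N) := π.completion hπc with hπc'
  have hmap : (Completion.map π : Completion M → Completion (M ⧸ N)) = πc := rfl
  have hπcc : Continuous πc := π.continuous_completion hπc
  rw [hmap]
  apply Set.Subset.antisymm
  · -- kernel ⊆ closure
    intro x hx
    have hx0 : πc x = 0 := hx
    rw [mem_closure_iff_nhds]
    intro t ht
    have hcont : Continuous (fun z : Completion M => x + z) := continuous_const.add continuous_id
    have h0 : (fun z : Completion M => x + z) ⁻¹' t ∈ 𝓝 (0 : Completion M) := by
      apply hcont.continuousAt.preimage_mem_nhds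
      simpa using ht
    obtain ⟨U, hU, hUt⟩ := exists_complSubgroup_subset hbasis h0
    have hUnhds : (U : Set M) ∈ 𝓝 (0 : M) := hU.mem_nhds U.zero_mem
    -- density: some `ι m ∈ x + Û`
    have hnb : (fun w => w - x) ⁻¹' (complSubgroup U : Set (Completion M)) ∈ 𝓝 x := by
      have hc' : Continuous (fun w : Completion M => w - x) := continuous_id.sub continuous_const
      apply hc'.continuousAt.preimage_mem_nhds
      simp only [sub_self]
      exact complSubgroup_mem_nhds hUnhds
    obtain ⟨w, hw⟩ := Completion.denseRange_coe.inter_nhds_nonempty hnb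
    obtain ⟨m, hm⟩ : w ∈ Set.range ((↑) : M → Completion M) := hw.1
    have hmU : (m : Completion M) - x ∈ complSubgroup U := by rw [hm]; exact hw.2
    -- apply `πc`
    have h1 : πc ((m : Completion M) - x) = ((π m : M ⧸ N) : Completion (M ⧸ N)) := by
      rw [map_sub, hx0, sub_zero]
      exact π.completion_coe hπc m
    have h2 : πc ((m : Completion M) - x) ∈
        closure (((↑) : M ⧸ N → Completion (M ⧸ N)) '' (π '' (U : Set M))) := by
      have hmU' : (m : Completion M) - x ∈ closure (((↑) : M → Completion M) '' (U : Set M)) := by
        rw [← coe_complSubgroup]; exact hmU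
      have h3 := image_closure_subset_closure_image hπcc ⟨_, hmU', rfl⟩
      refine closure_mono ?_ h3
      rintro _ ⟨_, ⟨u, hu, rfl⟩, rfl⟩
      exact ⟨π u, ⟨u, hu, rfl⟩, (π.completion_coe hπc u).symm⟩
    rw [h1] at h2
    have hind : IsInducing ((↑) : M ⧸ N → Completion (M ⧸ N)) :=
      Completion.isDenseInducing_coe.isInducing
    have h4 : π m ∈ closure (π '' (U : Set M)) := by
      rw [hind.closure_eq_preimage_closure_image]; exact h2
    -- `π '' U` is an open subgroup, hence closed
    have hopen : IsOpen (π '' (U : Set M)) := QuotientAddGroup.isOpenMap_coe _ hU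
    have hclosed : IsClosed (π '' (U : Set M)) := by
      have : (π '' (U : Set M)) = ((U.map π : AddSubgroup (M ⧸ N)) : Set (M ⧸ N)) := by
        simp [AddSubgroup.coe_map]
      rw [this] at hopen ⊢
      exact (U.map π).isClosed_of_isOpen hopen
    rw [hclosed.closure_eq] at h4
    obtain ⟨u, hu, hum⟩ := h4
    have hn : m - u ∈ N := by
      have : π (m - u) = 0 := by rw [map_sub, hum, sub_self]
      exact (QuotientAddGroup.eq_zero_iff (m - u)).1 this
    refine ⟨((m - u : M) : Completion M), ?_, ⟨⟨m - u, hn⟩, rfl⟩⟩
    have h5 : ((m - u : M) : Completion M) - x ∈ complSubgroup U := by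
      have : ((m - u : M) : Completion M) - x = ((m : Completion M) - x) - (u : Completion M) := by
        rw [Completion.coe_sub]; abel
      rw [this]
      exact (complSubgroup U).sub_mem hmU (coe_mem_complSubgroup hu)
    have h6 : x + (((m - u : M) : Completion M) - x) ∈ t := hUt h5
    simpa using h6
  · -- closure ⊆ kernel
    have hclosed : IsClosed (πc ⁻¹' {0}) := isClosed_singleton.preimage hπcc
    refine closure_minimal ?_ hclosed
    rintro _ ⟨n, rfl⟩
    change πc ((n : M) : Completion M) = 0
    rw [π.completion_coe hπc]
    have : π (n : M) = 0 := (QuotientAddGroup.eq_zero_iff (n : M)).2 n.2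
    rw [this, Completion.coe_zero]

end

end Groth.Agent.Lib.Helper51
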