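import Groth.Agent.Lib.Helper51.SuccApprox

/-!
Openness and surjectivity of additive maps from subgroup filtrations (helper51).
-/

set_option autoImplicit false
set_option linter.unusedSectionVars false
universe u v w

open Topology Filter

namespace Groth.Agent.Lib.Helper51

section

variable {G : Type u} {H : Type v} [AddCommGroup G] [TopologicalSpace G] [IsTopologicalAddGroup G]
  [AddCommGroup H] [TopologicalSpace H] [IsTopologicalAddGroup H]

/-- If the subgroups `P k` form a basis of neighbourhoods of zero in `G` and each `φ (P k)` contains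
an open subgroup `Q k`, then `φ` is an open map. -/
theorem isOpenMap_of_subgroups (φ : G →+ H) (P : ℕ → AddSubgroup G) (Q : ℕ → AddSubgroup H)
    (hP0 : ∀ U ∈ 𝓝 (0 : G), ∃ k, (P k : Set G) ⊆ U)
    (hQo : ∀ k, IsOpen (Q k : Set H))
    (hQP : ∀ k, ∀ y ∈ Q k, ∃ g ∈ P k, φ g = y) : IsOpenMap φ := by
  rw [isOpenMap_iff_nhds_le]
  intro a S hS
  have hS' : φ ⁻¹' S ∈ 𝓝 a := hS
  have hcont : Continuous (fun z : G => a + z) := continuous_const.add continuous_id
  have h0 : (fun z : G => a + z) ⁻¹' (φ ⁻¹' S) ∈ 𝓝 (0 : G) := by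
    apply hcont.continuousAt.preimage_mem_nhds
    simpa using hS'
  obtain ⟨k, hk⟩ := hP0 _ h0
  have hnb : (fun w => w - φ a) ⁻¹' (Q k : Set H) ∈ 𝓝 (φ a) := by
    have hcont' : Continuous (fun w : H => w - φ a) := continuous_id.sub continuous_const
    apply hcont'.continuousAt.preimage_mem_nhds
    simp only [sub_self]
    exact (hQo k).mem_nhds (Q k).zero_mem
  refine Filter.mem_of_superset hnb ?_
  intro w hw
  obtain ⟨t, ht, htw⟩ := hQP k (w - φ a) hw
  have h5 : a + t ∈ φ ⁻¹' S := hk ht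
  have h6 : φ (a + t) = w := by rw [map_add, htw]; abel
  rw [← h6]; exact h5

/-- If moreover `φ` has dense range, it is surjective. -/
theorem surjective_of_subgroups (φ : G →+ H) (P₀ : AddSubgroup G) (Q₀ : AddSubgroup H)
    (hQo : IsOpen (Q₀ : Set H)) (hQP : ∀ y ∈ Q₀, ∃ g ∈ P₀, φ g = y) (hd : DenseRange φ) :
    Function.Surjective φ := by
  intro b
  have hnb : (fun w => b - w) ⁻¹' (Q₀ : Set H) ∈ 𝓝 b := by
    have hcont : Continuous (fun w : H => b - w) := continuous_const.sub continuous_id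
    apply hcont.continuousAt.preimage_mem_nhds
    simp only [sub_self]
    exact hQo.mem_nhds Q₀.zero_mem
  obtain ⟨w, hw⟩ := hd.inter_nhds_nonempty hnb
  obtain ⟨c, hcw⟩ : w ∈ Set.range φ := hw.1
  have hw' : b - φ c ∈ Q₀ := by rw [hcw]; exact hw.2
  obtain ⟨a, -, ha⟩ := hQP _ hw'
  exact ⟨c + a, by rw [map_add, ha]; abel⟩

end

end Groth.Agent.Lib.Helper51
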