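import Groth.Agent.Lib.Helper51.ComplQuot
import Groth.Agent.Lib.Helper51.OpenMap

/-!
Surjectivity and openness of `M^ → (M/N)^` for first countable `M` (helper51).
-/

set_option autoImplicit false
set_option linter.unusedSectionVars false
universe u v w

open Topology Filter UniformSpace

namespace Groth.Agent.Lib.Helper51

section

variable {M : Type v} [AddCommGroup M] [UniformSpace M] [IsUniformAddGroup M]

theorem completion_map_mk_surjective_isOpenMap (hcg : (𝓝 (0 : M)).IsCountablyGenerated)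
    (hbasis : ∀ W ∈ 𝓝 (0 : M), ∃ U : AddSubgroup M, IsOpen (U : Set M) ∧ (U : Set M) ⊆ W)
    (N : AddSubgroup M) :
    Function.Surjective (@Completion.map M _ (M ⧸ N)
        (IsTopologicalAddGroup.rightUniformSpace (M ⧸ N)) (QuotientAddGroup.mk' N)) ∧
      IsOpenMap (@Completion.map M _ (M ⧸ N)
        (IsTopologicalAddGroup.rightUniformSpace (M ⧸ N)) (QuotientAddGroup.mk' N)) := by
  let uQ : UniformSpace (M ⧸ N) := IsTopologicalAddGroup.rightUniformSpace (M ⧸ N)
  have : IsUniformAddGroup (M ⧸ N) := isUniformAddGroup_of_addCommGroup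
  set π : M →+ M ⧸ N := QuotientAddGroup.mk' N with hπ
  have hπc : Continuous π := QuotientAddGroup.continuous_mk
  have hπsurj : Function.Surjective π := QuotientAddGroup.mk'_surjective N
  set πc : Completion M →+ Completion (M ⧸ N) := π.completion hπc with hπc'
  have hmap : (Completion.map π : Completion M → Completion (M ⧸ N)) = πc := rfl
  have hπcc : Continuous πc := π.continuous_completion hπc
  rw [hmap]
  -- antitone basis of open subgroups
  have hB : (𝓝 (0 : M)).HasBasis (fun U : AddSubgroup M => IsOpen (U : Set M))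
      (fun U => (U : Set M)) := by
    constructor
    intro W
    constructor
    · intro hW
      obtain ⟨U, hU, hUW⟩ := hbasis W hW
      exact ⟨U, hU, hUW⟩
    · rintro ⟨U, hU, hUW⟩
      exact Filter.mem_of_superset (hU.mem_nhds U.zero_mem) hUW
  obtain ⟨x, hxo, hxb⟩ := hB.exists_antitone_subbasis
  have hanti : ∀ {k k' : ℕ}, k ≤ k' → x k' ≤ x k := fun h => hxb.antitone h
  -- images in the quotient
  have hπopen : ∀ U : AddSubgroup M, IsOpen (U : Set M) →
      IsOpen ((U.map π : AddSubgroup (M ⧸ N)) : Set (M ⧸ N)) := by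
    intro U hU
    have : ((U.map π : AddSubgroup (M ⧸ N)) : Set (M ⧸ N)) = π '' (U : Set M) := by
      simp [AddSubgroup.coe_map]
    rw [this]
    exact QuotientAddGroup.isOpenMap_coe _ hU
  have hbasisQ : ∀ W ∈ 𝓝 (0 : M ⧸ N), ∃ V : AddSubgroup (M ⧸ N), IsOpen (V : Set (M ⧸ N)) ∧
      (V : Set (M ⧸ N)) ⊆ W := by
    intro W hW
    have hpre : π ⁻¹' W ∈ 𝓝 (0 : M) := by
      apply hπc.continuousAt.preimage_mem_nhds
      simpa using hW
    obtain ⟨U, hU, hUW⟩ := hbasis _ hpre
    refine ⟨U.map π, hπopen U hU, ?_⟩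
    rintro _ ⟨u, hu, rfl⟩
    exact hUW hu
  let P : ℕ → AddSubgroup (Completion M) := fun k => complSubgroup (x k)
  let Q : ℕ → AddSubgroup (Completion (M ⧸ N)) := fun k => complSubgroup ((x k).map π)
  have hQo : ∀ k, IsOpen (Q k : Set (Completion (M ⧸ N))) := fun k =>
    complSubgroup_isOpen ((hπopen _ (hxo k)).mem_nhds (AddSubgroup.zero_mem _))
  have hP0 : ∀ k₀ : ℕ, ∀ U ∈ 𝓝 (0 : Completion M), ∃ k, (P (k₀ + k) : Set (Completion M)) ⊆ U := by
    intro k₀ W hW
    obtain ⟨U, hU, hUW⟩ := exists_complSubgroup_subset hbasis hW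
    obtain ⟨k, -, hk⟩ := hxb.toHasBasis.mem_iff.1 (hU.mem_nhds U.zero_mem)
    refine ⟨k, fun z hz => hUW (complSubgroup_mono ?_ hz)⟩
    exact fun w hw => hk (hanti (Nat.le_add_left k k₀) hw)
  have key : ∀ k₀ : ℕ, ∀ y ∈ Q k₀, ∃ g ∈ P k₀, πc g = y := by
    intro k₀ y hy
    refine exists_preimage_of_step πc hπcc (fun k => P (k₀ + k)) (fun k => Q (k₀ + k))
      (fun k k' hkk' => complSubgroup_mono (hanti (Nat.add_le_add_left hkk' k₀)))
      (AddSubgroup.isClosed_topologicalClosure _) (hP0 k₀) ?_ ?_ hy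
    · intro W hW
      obtain ⟨V, hV, hVW⟩ := exists_complSubgroup_subset hbasisQ hW
      have hpre : π ⁻¹' (V : Set (M ⧸ N)) ∈ 𝓝 (0 : M) := by
        apply hπc.continuousAt.preimage_mem_nhds
        simpa using hV.mem_nhds V.zero_mem
      obtain ⟨k, -, hk⟩ := hxb.toHasBasis.mem_iff.1 hpre
      refine ⟨k, fun m hm z hz => hVW (complSubgroup_mono ?_ hz)⟩
      rintro _ ⟨u, hu, rfl⟩
      exact hk (hanti (show k ≤ k₀ + m by omega) hu)
    · intro k y hy
      -- `y ∈ closure (ι' (π (x (k₀+k))))` and `Q (k₀ + (k+1))` is an open subgroup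
      have hy' : y ∈ closure (((↑) : M ⧸ N → Completion (M ⧸ N)) ''
          (((x (k₀ + k)).map π : AddSubgroup (M ⧸ N)) : Set (M ⧸ N))) := by
        rw [← coe_complSubgroup]; exact hy
      have hnb : (fun w => y - w) ⁻¹' (Q (k₀ + (k + 1)) : Set (Completion (M ⧸ N))) ∈ 𝓝 y := by
        have hcont : Continuous (fun w : Completion (M ⧸ N) => y - w) :=
          continuous_const.sub continuous_id
        apply hcont.continuousAt.preimage_mem_nhds
        simp only [sub_self]
        exact (hQo _).mem_nhds (AddSubgroup.zero_mem _)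
      obtain ⟨w, hw1, hw2⟩ := mem_closure_iff_nhds.1 hy' _ hnb
      obtain ⟨_, ⟨u, hu, rfl⟩, rfl⟩ := hw2
      refine ⟨(u : Completion M), coe_mem_complSubgroup hu, ?_⟩
      have : πc (u : Completion M) = ((π u : M ⧸ N) : Completion (M ⧸ N)) :=
        π.completion_coe hπc u
      rw [this]
      exact hw1
  constructor
  · -- surjective
    apply surjective_of_subgroups πc (P 0) (Q 0) (hQo 0) (key 0)
    -- dense range
    have h1 : DenseRange ((↑) : M ⧸ N → Completion (M ⧸ N)) := Completion.denseRange_coe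
    have h2 : DenseRange (fun m : M => ((π m : M ⧸ N) : Completion (M ⧸ N))) :=
      h1.comp hπsurj.denseRange (Completion.continuous_coe _)
    refine h2.mono ?_
    rintro _ ⟨m, rfl⟩
    exact ⟨(m : Completion M), π.completion_coe hπc m⟩
  · apply isOpenMap_of_subgroups πc P Q ?_ hQo key
    intro U hU
    obtain ⟨k, hk⟩ := hP0 0 U hU
    exact ⟨0 + k, hk⟩

end

end Groth.Agent.Lib.Helper51
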