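import Groth.Agent.Lib.Helper61.GenFinMain

/-!
A separated etale morphism with finite fibres to a Noetherian scheme has quasi-compact source
(helper51).
-/

set_option autoImplicit false
universe u
open CategoryTheory CategoryTheory.Limits AlgebraicGeometry Opposite Topology TopologicalSpace

set_option backward.isDefEq.respectTransparency false

namespace Groth.Agent.Lib.Helper51.EtSepQC

/-- If a quasi-compact open `W'` of the source of a separated etale morphism to an irreducible
scheme contains the generic fibre and is finite over the open `V` of the target, then it contains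
the whole preimage of `V`. -/
theorem preimage_subset_of_isFinite {WZ Zs : Scheme.{u}} (fZ : WZ ⟶ Zs) [Etale fZ] [IsSeparated fZ]
    (W' : WZ.Opens) (V : Zs.Opens) (hfin : IsFinite ((W'.ι ≫ fZ) ∣_ V))
    (ξ : ↥Zs) (hξ : IsGenericPoint ξ (Set.univ : Set ↥Zs))
    (hF : ∀ c : ↥WZ, fZ c = ξ → c ∈ W') : ∀ c : ↥WZ, fZ c ∈ V → c ∈ W' := by
  have hfin' : IsFinite (pullback.snd (W'.ι ≫ fZ) V.ι) := by
    rw [← pullbackRestrictIsoRestrict_hom_morphismRestrict]
    infer_instance
  let h : pullback (W'.ι ≫ fZ) V.ι ⟶ pullback fZ V.ι :=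
    pullback.map (W'.ι ≫ fZ) V.ι fZ V.ι W'.ι (𝟙 _) (𝟙 _) (by simp) (by simp)
  have hh : h ≫ pullback.snd fZ V.ι = pullback.snd (W'.ι ≫ fZ) V.ι := by
    simp [h]
  have hh1 : h ≫ pullback.fst fZ V.ι = pullback.fst (W'.ι ≫ fZ) V.ι ≫ W'.ι := by
    simp [h]
  haveI : UniversallyClosed (h ≫ pullback.snd fZ V.ι) := by
    rw [hh]; infer_instance
  have huc : UniversallyClosed h := UniversallyClosed.of_comp_of_isSeparated h (pullback.snd fZ V.ι)
  have hcl : IsClosed (Set.range h) := h.isClosedMap.isClosed_range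
  have hinj : Function.Injective (pullback.fst fZ V.ι) :=
    (pullback.fst fZ V.ι).isOpenEmbedding.injective
  have hkey : ∀ a : ↥(pullback fZ V.ι), pullback.fst fZ V.ι a ∈ W' → a ∈ Set.range h := by
    intro a ha
    have hcond : (W'.ι ≫ fZ) (⟨pullback.fst fZ V.ι a, ha⟩ : ↥(W' : Scheme.{u})) =
        V.ι (pullback.snd fZ V.ι a) := by
      rw [Scheme.Hom.comp_apply, ← Scheme.Hom.comp_apply, ← Scheme.Hom.comp_apply (pullback.snd fZ V.ι),
        ← pullback.condition]
      rfl
    obtain ⟨b, hb1, hb2⟩ := Scheme.Pullback.exists_preimage_pullback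
      (f := W'.ι ≫ fZ) (g := V.ι) _ _ hcond
    refine ⟨b, hinj ?_⟩
    rw [← Scheme.Hom.comp_apply, hh1, Scheme.Hom.comp_apply, hb1]
    rfl
  intro c hc
  by_contra hcW
  obtain ⟨a, ha1, ha2⟩ := Scheme.Pullback.exists_preimage_pullback
    (f := fZ) (g := V.ι) c (⟨fZ c, hc⟩ : ↥(V : Scheme.{u})) rfl
  have hopen : IsOpen (fZ '' (pullback.fst fZ V.ι '' (Set.range h)ᶜ)) :=
    fZ.isOpenMap _ ((pullback.fst fZ V.ι).isOpenEmbedding.isOpenMap _ hcl.isOpen_compl)
  have hne : (Set.univ ∩ fZ '' (pullback.fst fZ V.ι '' (Set.range h)ᶜ)).Nonempty := by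
    refine ⟨fZ c, Set.mem_univ _, c, ⟨a, ?_, ha1⟩, rfl⟩
    rintro ⟨b, rfl⟩
    apply hcW
    rw [← ha1, ← Scheme.Hom.comp_apply, hh1, Scheme.Hom.comp_apply]
    exact (pullback.fst (W'.ι ≫ fZ) V.ι b).2
  obtain ⟨c₁, ⟨a₁, ha₁, rfl⟩, hc₁⟩ := (hξ.mem_open_set_iff hopen).2 hne
  exact ha₁ (hkey a₁ (hF _ hc₁))


open Groth.Agent.Lib.Helper61.GenFin in
/-- Irreducible step of the Noetherian induction. -/
theorem exists_open_step {W U : Scheme.{u}} (f : W ⟶ U) [Etale f] [IsSeparated f] [IsNoetherian U]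
    (hfib : ∀ u : ↥U, (f ⁻¹' {u}).Finite) (Z : Closeds ↥U) (hirr : IsIrreducible (Z : Set ↥U)) :
    ∃ (W' : W.Opens) (V : Set ↥U), IsCompact (W' : Set ↥W) ∧ IsOpen V ∧
      (hirr.genericPoint ∈ V) ∧ ∀ w : ↥W, f w ∈ (Z : Set ↥U) → f w ∈ V → w ∈ W' := by
  classical
  have hξ : IsGenericPoint hirr.genericPoint (Z : Set ↥U) := hirr.isGenericPoint_genericPoint Z.2
  set ξ := hirr.genericPoint with hξdef
  have hξZ : ξ ∈ (Z : Set ↥U) := hξ.mem
  have hF : (f ⁻¹' {ξ}).Finite := hfib ξ
  -- compact open neighbourhood of the generic fibre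
  have hA : ∀ w : ↥W, ∃ A : W.Opens, IsAffineOpen A ∧ w ∈ A := fun w => by
    obtain ⟨A, hA, hwA, -⟩ := exists_isAffineOpen_mem_and_subset (TopologicalSpace.Opens.mem_top w)
    exact ⟨A, hA, hwA⟩
  choose A hAaff hwA using hA
  haveI : Finite ↥(f ⁻¹' {ξ}) := hF.to_subtype
  let W' : W.Opens := ⨆ w : ↥(f ⁻¹' {ξ}), A w.1
  have hW'c : IsCompact (W' : Set ↥W) := by
    have : (W' : Set ↥W) = ⋃ w : ↥(f ⁻¹' {ξ}), (A w.1 : Set ↥W) := by
      simp only [W', TopologicalSpace.Opens.coe_iSup]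
    rw [this]
    exact isCompact_iUnion (fun w => (hAaff w.1).isCompact)
  have hFW' : ∀ w : ↥W, f w = ξ → w ∈ W' := fun w hw =>
    TopologicalSpace.Opens.mem_iSup.2 ⟨⟨w, hw⟩, hwA w⟩
  -- the reduced closed subscheme on `Z`
  let I := Scheme.IdealSheafData.vanishingIdeal Z
  have hrange : Set.range I.subschemeι = (Z : Set ↥U) := by
    rw [Scheme.IdealSheafData.range_subschemeι, Scheme.IdealSheafData.coe_support_vanishingIdeal]
  haveI : IsLocallyNoetherian I.subscheme := LocallyOfFiniteType.isLocallyNoetherian I.subschemeι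
  obtain ⟨ξZ, hξZ'⟩ : ∃ z : ↥I.subscheme, I.subschemeι z = ξ := by
    have : ξ ∈ Set.range I.subschemeι := hrange ▸ hξZ
    exact this
  have hgenZ : IsGenericPoint ξZ (Set.univ : Set ↥I.subscheme) := by
    show closure {ξZ} = Set.univ
    rw [I.subschemeι.isEmbedding.isInducing.closure_eq_preimage_closure_image, Set.image_singleton,
      hξZ', hξ.def, ← hrange]
    exact Set.preimage_range _
  haveI : IrreducibleSpace ↥I.subscheme :=
    { toPreirreducibleSpace := ⟨hgenZ.isIrreducible.isPreirreducible⟩, toNonempty := ⟨ξZ⟩ }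
  have hη : closure {ξZ} ∈ irreducibleComponents ↥I.subscheme := by
    rw [hgenZ.def, irreducibleComponents_eq_singleton]
    exact Set.mem_singleton _
  let pr := pullback.fst f I.subschemeι
  let fZ := pullback.snd f I.subschemeι
  let W'Z : (pullback f I.subschemeι).Opens := pr ⁻¹ᵁ W'
  have hW'Zc : CompactSpace ↥(W'Z : Scheme.{u}) := by
    have : IsCompact (W'Z : Set ↥(pullback f I.subschemeι)) :=
      QuasiCompact.isCompact_preimage (f := pr) _ W'.2 hW'c
    exact isCompact_iff_compactSpace.1 this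
  have hFZ : ∀ c : ↥(pullback f I.subschemeι), fZ c = ξZ → c ∈ W'Z := by
    intro c hc
    apply hFW'
    show f (pr c) = ξ
    rw [← Scheme.Hom.comp_apply, pullback.condition, Scheme.Hom.comp_apply]
    show I.subschemeι (fZ c) = ξ
    rw [hc, hξZ']
  have hprinj : Function.Injective pr := pr.isClosedEmbedding.injective
  have hfibZ : ((W'Z.ι ≫ fZ) ⁻¹' {ξZ}).Finite := by
    refine Set.Finite.of_finite_image (f := fun w => pr (W'Z.ι w)) (hF.subset ?_) ?_
    · rintro _ ⟨w, hw, rfl⟩
      show f (pr (W'Z.ι w)) = ξ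
      rw [← Scheme.Hom.comp_apply, pullback.condition, Scheme.Hom.comp_apply]
      have hw' : fZ (W'Z.ι w) = ξZ := hw
      show I.subschemeι (fZ (W'Z.ι w)) = ξ
      rw [hw', hξZ']
    · intro w₁ _ w₂ _ h12
      exact W'Z.ι.isOpenEmbedding.injective (hprinj h12)
  obtain ⟨VZ, -, hξVZ, hfin⟩ := (finite_fiber_iff_exists_isFinite (W'Z.ι ≫ fZ) ξZ hη).1 hfibZ
  have hsub := preimage_subset_of_isFinite fZ W'Z VZ hfin ξZ hgenZ hFZ
  obtain ⟨V, hVo, hVZ⟩ := I.subschemeι.isEmbedding.isInducing.isOpen_iff.1 VZ.2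
  refine ⟨W', V, hW'c, hVo, ?_, ?_⟩
  · have : ξZ ∈ I.subschemeι ⁻¹' V := by rw [hVZ]; exact hξVZ
    rw [← hξZ']; exact this
  · intro w hwZ hwV
    rw [← hrange] at hwZ
    obtain ⟨z, hz⟩ := hwZ
    obtain ⟨c, hc1, hc2⟩ := Scheme.Pullback.exists_preimage_pullback
      (f := f) (g := I.subschemeι) w z hz.symm
    have hzV : z ∈ VZ := by
      have : z ∈ I.subschemeι ⁻¹' V := by
        show I.subschemeι z ∈ V
        rw [hz]; exact hwV
      rw [hVZ] at this; exact this
    have : c ∈ W'Z := hsub c (by rw [show fZ c = z from hc2]; exact hzV)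
    rw [← hc1]
    exact this

/-- A separated etale morphism with finite fibres to a Noetherian scheme has quasi-compact
preimages of closed sets. -/
theorem isCompact_preimage_closeds {W U : Scheme.{u}} (f : W ⟶ U) [Etale f] [IsSeparated f]
    [IsNoetherian U] (hfib : ∀ u : ↥U, (f ⁻¹' {u}).Finite) (Z : Closeds ↥U) :
    IsCompact (f ⁻¹' (Z : Set ↥U)) := by
  induction Z using WellFoundedLT.induction with
  | ind Z ih =>
    by_cases hirr : IsIrreducible (Z : Set ↥U)
    · obtain ⟨W', V, hW'c, hVo, hξV, hsub⟩ := exists_open_step f hfib Z hirr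
      have hξ : IsGenericPoint hirr.genericPoint (Z : Set ↥U) :=
        hirr.isGenericPoint_genericPoint Z.2
      let Z' : Closeds ↥U := Z ⊓ ⟨Vᶜ, hVo.isClosed_compl⟩
      have hlt : Z' < Z := by
        refine lt_of_le_of_ne inf_le_left ?_
        intro heq
        have h1 : hirr.genericPoint ∈ (Z' : Set ↥U) := by rw [heq]; exact hξ.mem
        exact h1.2 hξV
      have hZ'c := ih Z' hlt
      have heq : f ⁻¹' (Z : Set ↥U) = (f ⁻¹' (Z : Set ↥U) ∩ (W' : Set ↥W)) ∪ f ⁻¹' (Z' : Set ↥U) := by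
        ext w
        constructor
        · intro hw
          by_cases hwV : f w ∈ V
          · exact Or.inl ⟨hw, hsub w hw hwV⟩
          · exact Or.inr ⟨hw, hwV⟩
        · rintro (⟨hw, -⟩ | hw)
          · exact hw
          · exact hw.1
      rw [heq]
      exact (hW'c.inter_left (Z.2.preimage f.continuous)).union hZ'c
    · by_cases hne : (Z : Set ↥U).Nonempty
      · have hnp : ¬ IsPreirreducible (Z : Set ↥U) := fun h => hirr ⟨hne, h⟩
        rw [isPreirreducible_iff_isClosed_union_isClosed] at hnp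
        simp only [not_forall, not_or] at hnp
        obtain ⟨z₁, z₂, h₁, h₂, hsub, hn₁, hn₂⟩ := hnp
        let Z₁ : Closeds ↥U := Z ⊓ ⟨z₁, h₁⟩
        let Z₂ : Closeds ↥U := Z ⊓ ⟨z₂, h₂⟩
        have hlt₁ : Z₁ < Z := by
          refine lt_of_le_of_ne inf_le_left ?_
          intro heq
          apply hn₁
          intro x hx
          have : x ∈ (Z₁ : Set ↥U) := by rw [heq]; exact hx
          exact this.2
        have hlt₂ : Z₂ < Z := by
          refine lt_of_le_of_ne inf_le_left ?_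
          intro heq
          apply hn₂
          intro x hx
          have : x ∈ (Z₂ : Set ↥U) := by rw [heq]; exact hx
          exact this.2
        have heq : f ⁻¹' (Z : Set ↥U) = f ⁻¹' (Z₁ : Set ↥U) ∪ f ⁻¹' (Z₂ : Set ↥U) := by
          ext w
          constructor
          · intro hw
            rcases hsub hw with h | h
            · exact Or.inl ⟨hw, h⟩
            · exact Or.inr ⟨hw, h⟩
          · rintro (hw | hw)
            · exact hw.1
            · exact hw.1
        rw [heq]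
        exact (ih Z₁ hlt₁).union (ih Z₂ hlt₂)
      · rw [Set.not_nonempty_iff_eq_empty.1 hne, Set.preimage_empty]
        exact isCompact_empty

theorem compactSpace_of_etale_separated {W U : Scheme.{u}} (f : W ⟶ U) [Etale f] [IsSeparated f]
    [IsNoetherian U] (hfib : ∀ u : ↥U, (f ⁻¹' {u}).Finite) : CompactSpace ↥W := by
  have := isCompact_preimage_closeds f hfib ⊤
  exact ⟨by simpa using this⟩

end Groth.Agent.Lib.Helper51.EtSepQC
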