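import Groth.Agent.Lib.Helper51.Taut

/-!
More helper lemmas on taut ring maps, weakly preadic rings (helper51).
-/

set_option autoImplicit false
set_option linter.unusedSectionVars false
universe u v w

open Topology Filter

namespace Groth.Agent.Lib.Helper51

section

variable {A : Type u} [CommRing A] [TopologicalSpace A] [IsTopologicalRing A]
variable {B : Type v} [CommRing B] [TopologicalSpace B] [IsTopologicalRing B]

/-- For a continuous ring map, the closure of the image ideal of the closure of `I` is the closure
of the image ideal of `I`. -/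
theorem closure_map_closure_eq {φ : A →+* B} (hφ : Continuous φ) (I : Ideal A) :
    (I.closure.map φ).closure = (I.map φ).closure := by
  apply le_antisymm
  · have h1 : I.closure.map φ ≤ (I.map φ).closure := by
      rw [Ideal.map_le_iff_le_comap]
      intro x hx
      rw [Ideal.mem_comap]
      have : φ x ∈ closure (φ '' (I : Set A)) := by
        exact image_closure_subset_closure_image hφ ⟨x, hx, rfl⟩
      refine closure_mono ?_ this
      rintro _ ⟨y, hy, rfl⟩
      exact Ideal.mem_map_of_mem φ hy
    intro x hx
    have h2 : closure ((I.closure.map φ : Ideal B) : Set B) ⊆ closure ((I.map φ).closure : Set B) :=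
      closure_mono h1
    have h3 : closure (((I.map φ).closure : Ideal B) : Set B) = ((I.map φ).closure : Set B) := by
      rw [Ideal.coe_closure, closure_closure]
    have h6 := h2 hx
    rw [h3] at h6
    exact h6
  · exact ideal_closure_mono (Ideal.map_mono (ideal_le_closure I))

/-- A taut map sends a weakly preadic ring to a weakly preadic ring. -/
theorem isWeaklyPreadic_of_isTaut [IsLinearTopology B B] {φ : A →+* B} (hφ : LinTop.IsTaut φ)
    (hA : LinTop.IsWeaklyPreadic A) : LinTop.IsWeaklyPreadic B := by
  obtain ⟨hc, h2, h3⟩ := hφ
  obtain ⟨-, I, hIo, hIb⟩ := hA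
  refine ⟨inferInstance, I.map φ, fun n => ?_, fun U hU => ?_⟩
  · have h4 := h2 ((I ^ n).closure) (hIo n)
    have h5 := closure_map_closure_eq hc (I ^ n)
    rw [← Ideal.map_pow]
    have : closure (((I ^ n).map φ : Ideal B) : Set B) = (((I ^ n).map φ).closure : Set B) := rfl
    rw [this, ← h5]
    exact h4
  · obtain ⟨I', hI'o, hI'U⟩ := h3 U hU
    obtain ⟨n, hn⟩ := hIb (I' : Set A) (hI'o.mem_nhds I'.zero_mem)
    refine ⟨n, (closure_mono ?_).trans hI'U⟩
    rw [← Ideal.map_pow]
    exact Ideal.map_mono (fun x hx => hn (subset_closure hx))

end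

end Groth.Agent.Lib.Helper51
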