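import Groth.Agent.Lib.Helper51.SuccApprox
import Groth.Agent.Lib.Helper51.Taut2
import Groth.Agent.Lib.Helper51.Adic

/-!
A complete linearly topologized ring whose topology is given by the closures of the powers of a
finitely generated ideal is adic (helper51).
-/

set_option autoImplicit false
set_option linter.unusedSectionVars false
universe u v w

open Topology Filter

namespace Groth.Agent.Lib.Helper51

section

variable {A : Type u} [CommRing A] [UniformSpace A] [IsUniformAddGroup A] [IsTopologicalRing A]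
  [IsLinearTopology A A] [T2Space A] [CompleteSpace A]

/-- Elements of `span s * K` are combinations of elements of `s` with coefficients in `K`. -/
theorem exists_sum_of_mem_span_mul {R : Type u} [CommRing R] (s : Finset R) (K : Ideal R) {x : R}
    (hx : x ∈ Ideal.span (s : Set R) * K) :
    ∃ a : s → R, (∀ i, a i ∈ K) ∧ x = ∑ i : s, (i : R) * a i := by
  have h1 : Ideal.span (s : Set R) * K = K • Submodule.span R (Set.range (Subtype.val : s → R)) := by
    rw [mul_comm]
    congr 1
    simp
  rw [h1, Submodule.mem_ideal_smul_span_iff_exists_sum] at hx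
  obtain ⟨a, ha, hsum⟩ := hx
  refine ⟨fun i => a i, ha, ?_⟩
  rw [← hsum, Finsupp.sum_fintype _ _ (fun i => by simp)]
  exact Finset.sum_congr rfl (fun i _ => by rw [smul_eq_mul, mul_comm])

/-- Key lemma: the closure of `I ^ (n+1)` is contained in `I * closure (I ^ n)`. -/
theorem closure_pow_succ_le {I : Ideal A} (s : Finset A) (hs : Ideal.span (s : Set A) = I)
    (hopen : ∀ n : ℕ, IsOpen (closure ((I ^ n : Ideal A) : Set A)))
    (hbasis : ∀ U ∈ 𝓝 (0 : A), ∃ n : ℕ, closure ((I ^ n : Ideal A) : Set A) ⊆ U) (n : ℕ) :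
    (I ^ (n + 1)).closure ≤ I * (I ^ n).closure := by
  intro y hy
  -- the map `a ↦ ∑ i, i * a i`
  let φ : (s → A) →+ A :=
    ∑ i : s, (AddMonoidHom.mulLeft (i : A)).comp (Pi.evalAddMonoidHom (fun _ : s => A) i)
  have hφ_apply : ∀ a : s → A, φ a = ∑ i : s, (i : A) * a i := by
    intro a
    simp [φ]
  have hφc : Continuous φ := by
    have : (φ : (s → A) → A) = fun a => ∑ i : s, (i : A) * a i := funext hφ_apply
    rw [this]
    exact continuous_finsetSum _ (fun i _ => continuous_const.mul (continuous_apply i))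
  let P : ℕ → AddSubgroup (s → A) := fun k =>
    AddSubgroup.pi Set.univ (fun _ : s => ((I ^ (n + k)).closure).toAddSubgroup)
  let Q : ℕ → AddSubgroup A := fun k => ((I ^ (n + 1 + k)).closure).toAddSubgroup
  have hmono : ∀ {m m' : ℕ}, m ≤ m' → (I ^ m').closure ≤ (I ^ m).closure :=
    fun h => ideal_closure_mono (Ideal.pow_le_pow_right h)
  have hPanti : Antitone P := by
    intro k k' hkk' a ha i hi
    exact hmono (Nat.add_le_add_left hkk' n) (ha i hi)
  have hPcl : IsClosed (P 0 : Set (s → A)) := by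
    have : (P 0 : Set (s → A)) = Set.pi Set.univ (fun _ : s => closure ((I ^ (n + 0) : Ideal A) : Set A)) := by
      ext a
      simp only [P, AddSubgroup.coe_pi, Set.mem_pi, Set.mem_univ, true_implies]
      rfl
    rw [this]
    exact isClosed_set_pi (fun _ _ => isClosed_closure)
  have hP0 : ∀ U ∈ 𝓝 (0 : s → A), ∃ k, (P k : Set (s → A)) ⊆ U := by
    intro U hU
    rw [nhds_pi, Filter.mem_pi] at hU
    obtain ⟨T, -, t, ht, htU⟩ := hU
    have hch : ∀ i : s, ∃ m : ℕ, closure ((I ^ m : Ideal A) : Set A) ⊆ t i := fun i => hbasis _ (ht i)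
    choose m hm using hch
    refine ⟨Finset.univ.sup m, fun a ha => htU ?_⟩
    intro i _
    apply hm i
    have h1 : a i ∈ (I ^ (n + Finset.univ.sup m)).closure := ha i (Set.mem_univ i)
    have h2 : m i ≤ n + Finset.univ.sup m :=
      (Finset.le_sup (f := m) (Finset.mem_univ i)).trans (Nat.le_add_left _ _)
    exact hmono h2 h1
  have hQ0 : ∀ U ∈ 𝓝 (0 : A), ∃ k, ∀ m, k ≤ m → (Q m : Set A) ⊆ U := by
    intro U hU
    obtain ⟨k, hk⟩ := hbasis U hU
    refine ⟨k, fun m hm x hx => hk ?_⟩
    exact hmono (show k ≤ n + 1 + m by omega) hx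
  have hstep : ∀ k, ∀ y ∈ Q k, ∃ g ∈ P k, y - φ g ∈ Q (k + 1) := by
    intro k y hy
    have hy' : y ∈ closure ((I ^ (n + 1 + k) : Ideal A) : Set A) := hy
    rw [mem_closure_ideal_iff] at hy'
    have hJ : IsOpen (((I ^ (n + 1 + (k + 1))).closure : Ideal A) : Set A) := hopen _
    obtain ⟨x, hx, j, hj, hxj⟩ := Submodule.mem_sup.1 (hy' _ hJ)
    have hx' : x ∈ Ideal.span (s : Set A) * I ^ (n + k) := by
      rw [hs, ← pow_succ']
      have : n + k + 1 = n + 1 + k := by omega
      rw [this]; exact hx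
    obtain ⟨a, ha, hxa⟩ := exists_sum_of_mem_span_mul s _ hx'
    refine ⟨a, fun i _ => ideal_le_closure _ (ha i), ?_⟩
    have : y - φ a = j := by rw [hφ_apply, ← hxa, ← hxj]; ring
    rw [this]
    exact hj
  have hy0 : y ∈ Q 0 := hy
  obtain ⟨a, haP, hay⟩ := exists_preimage_of_step φ hφc P Q hPanti hPcl hP0 hQ0 hstep hy0
  rw [← hay, hφ_apply]
  refine Submodule.sum_mem _ (fun i _ => Ideal.mul_mem_mul ?_ ?_)
  · rw [← hs]; exact Ideal.subset_span i.2
  · exact haP i (Set.mem_univ i)

/-- The powers of `I` are closed in this situation. -/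
theorem closure_pow_eq {I : Ideal A} (hfg : I.FG)
    (hopen : ∀ n : ℕ, IsOpen (closure ((I ^ n : Ideal A) : Set A)))
    (hbasis : ∀ U ∈ 𝓝 (0 : A), ∃ n : ℕ, closure ((I ^ n : Ideal A) : Set A) ⊆ U) (n : ℕ) :
    (I ^ n).closure = I ^ n := by
  obtain ⟨s, hs⟩ := hfg
  induction n with
  | zero =>
    apply le_antisymm
    · simp
    · exact ideal_le_closure _
  | succ n ih =>
    apply le_antisymm
    · have h := closure_pow_succ_le s hs hopen hbasis n
      rw [ih, ← pow_succ'] at h
      exact h
    · exact ideal_le_closure _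

/-- Stacks: a complete linearly topologized ring in which the closures of the powers of a finitely
generated ideal `I` form a fundamental system of open ideals is `I`-adic. -/
theorem isAdic_of_fg {I : Ideal A} (hfg : I.FG)
    (hopen : ∀ n : ℕ, IsOpen (closure ((I ^ n : Ideal A) : Set A)))
    (hbasis : ∀ U ∈ 𝓝 (0 : A), ∃ n : ℕ, closure ((I ^ n : Ideal A) : Set A) ⊆ U) :
    IsAdic I := by
  rw [isAdic_iff]
  refine ⟨fun n => ?_, fun U hU => ?_⟩
  · have h := hopen n
    have h2 : closure ((I ^ n : Ideal A) : Set A) = ((I ^ n : Ideal A) : Set A) := by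
      have := closure_pow_eq hfg hopen hbasis n
      exact congrArg (fun J : Ideal A => (J : Set A)) this
    rwa [h2] at h
  · obtain ⟨n, hn⟩ := hbasis U hU
    exact ⟨n, subset_closure.trans hn⟩

end

end Groth.Agent.Lib.Helper51
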