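import Mathlib.RingTheory.TensorProduct.Free
import Mathlib.RingTheory.TensorProduct.Maps
import Mathlib.Algebra.Field.Subfield.Basic
import Mathlib.LinearAlgebra.Basis.VectorSpace
import Mathlib.RingTheory.Finiteness.Cardinality
import Mathlib.Algebra.Category.Ring.Constructions
import Mathlib.LinearAlgebra.FreeModule.Finite.Basic

/-!
Finite groupoids acting on a field (helper51).

Let `K` be a field, `B` a `K`-algebra (structure map `s`) and `t : K →+* B` a second ring map.
Assume `(s, t)` carries the structure of a groupoid in the following weak sense: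
* an identity `e : B →+* K` with `e ∘ s = e ∘ t = id`,
* a "division" `c : B →+* B ⊗[K] B` with `c (s x) = t x ⊗ 1` and `c (t x) = 1 ⊗ t x`,
and that `B` is spanned by `t(K)` as a `K`-module.  Then for the subfield `k` of invariants
(`s x = t x`), the map `K ⊗[k] K → B`, `x ⊗ y ↦ s x * t y` is bijective and `[K : k]` is the
`K`-dimension of `B` (when finite).
-/

set_option autoImplicit false
universe u
open TensorProduct

namespace Groth.Agent.Lib.Helper51.FieldGroupoid

variable {K B : Type u} [Field K] [CommRing B] [Algebra K B] (t : K →+* B)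

/-- The subfield of invariants. -/
def invField : Subfield K where
  carrier := {x | algebraMap K B x = t x}
  mul_mem' := by
    intro a b ha hb
    simp only [Set.mem_ofPred_eq, map_mul] at *
    rw [ha, hb]
  one_mem' := by simp
  add_mem' := by
    intro a b ha hb
    simp only [Set.mem_ofPred_eq, map_add] at *
    rw [ha, hb]
  zero_mem' := by simp
  neg_mem' := by
    intro a ha
    simp only [Set.mem_ofPred_eq, map_neg] at *
    rw [ha]
  inv_mem' := by
    intro x hx
    simp only [Set.mem_ofPred_eq] at *
    by_cases h0 : x = 0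
    · simp [h0]
    have h1 : t x * t x⁻¹ = 1 := by rw [← map_mul, mul_inv_cancel₀ h0, map_one]
    have h2 : algebraMap K B x⁻¹ * algebraMap K B x = 1 := by
      rw [← map_mul, inv_mul_cancel₀ h0, map_one]
    calc algebraMap K B x⁻¹ = algebraMap K B x⁻¹ * (t x * t x⁻¹) := by rw [h1, mul_one]
      _ = (algebraMap K B x⁻¹ * algebraMap K B x) * t x⁻¹ := by rw [hx, mul_assoc]
      _ = t x⁻¹ := by rw [h2, one_mul]

theorem mem_invField {x : K} : x ∈ invField t ↔ algebraMap K B x = t x := Iff.rfl

variable {t}
variable {κ : Type*} (f : κ → K) (b : Module.Basis κ K B) (hb : ∀ i, b i = t (f i))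
  (c : B →+* B ⊗[K] B) (hc_s : ∀ x, c (algebraMap K B x) = t x ⊗ₜ 1)
  (hc_t : ∀ x, c (t x) = 1 ⊗ₜ t x)

include hb hc_s hc_t in
/-- The coordinates of `t a` in a basis of the form `t (f i)` are invariant. -/
theorem repr_mem_invField (a : K) (i : κ) : b.repr (t a) i ∈ invField t := by
  classical
  set ξ := b.repr (t a) with hξ
  have hta : t a = ξ.sum fun j x => x • b j := by
    have := b.linearCombination_repr (t a)
    rw [Finsupp.linearCombination_apply] at this
    exact this.symm
  have h2 : (1 : B) ⊗ₜ[K] t a = ξ.sum fun j x => algebraMap K B x ⊗ₜ[K] b j := by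
    conv_lhs => rw [hta]
    rw [Finsupp.sum, TensorProduct.tmul_sum]
    refine Finset.sum_congr rfl fun j _ => ?_
    show (1 : B) ⊗ₜ[K] (ξ j • b j) = algebraMap K B (ξ j) ⊗ₜ[K] b j
    rw [TensorProduct.tmul_smul, TensorProduct.smul_tmul', Algebra.algebraMap_eq_smul_one]
  have h1 : (1 : B) ⊗ₜ[K] t a = ξ.sum fun j x => t x ⊗ₜ[K] b j := by
    rw [← hc_t a]
    conv_lhs => rw [hta]
    rw [Finsupp.sum, map_sum]
    refine Finset.sum_congr rfl fun j _ => ?_
    show c (ξ j • b j) = t (ξ j) ⊗ₜ[K] b j
    rw [Algebra.smul_def, map_mul, hc_s, hb j, hc_t, Algebra.TensorProduct.tmul_mul_tmul,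
      mul_one, one_mul]
  have key : ∀ (g : K → B), (Algebra.TensorProduct.basis B b).repr
      (ξ.sum fun j x => g x ⊗ₜ[K] b j) i = if i ∈ ξ.support then g (ξ i) else 0 := by
    intro g
    rw [Finsupp.sum, map_sum, Finsupp.finsetSum_apply]
    simp only [Algebra.TensorProduct.basis_repr_tmul, Module.Basis.repr_self,
      Finsupp.mapRange_single, map_one, Finsupp.smul_single, smul_eq_mul, mul_one,
      Finsupp.single_apply]
    rw [Finset.sum_ite_eq']
  have h3 := key (fun x => t x)
  have h4 := key (fun x => algebraMap K B x)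
  rw [← h1] at h3
  rw [← h2] at h4
  rw [mem_invField]
  by_cases hi : i ∈ ξ.support
  · rw [if_pos hi] at h3 h4
    rw [← h3, ← h4]
  · rw [Finsupp.notMem_support_iff.1 hi]
    simp

variable (e : B →+* K) (he_s : ∀ x, e (algebraMap K B x) = x) (he_t : ∀ x, e (t x) = x)

include hb hc_s hc_t he_s he_t in
/-- `f` spans `K` over the invariants. -/
theorem span_range_eq_top : (⊤ : Submodule (invField t) K) ≤ Submodule.span (invField t) (Set.range f) := by
  classical
  intro a _
  set ξ := b.repr (t a) with hξ
  have hta : t a = ξ.sum fun j x => x • b j := by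
    have := b.linearCombination_repr (t a)
    rw [Finsupp.linearCombination_apply] at this
    exact this.symm
  have ha : a = ξ.sum fun j x => x * f j := by
    have h1 := congrArg e hta
    rw [he_t, Finsupp.sum, map_sum] at h1
    rw [h1, Finsupp.sum]
    refine Finset.sum_congr rfl fun j _ => ?_
    show e (ξ j • b j) = ξ j * f j
    rw [Algebra.smul_def, map_mul, he_s, hb j, he_t]
  rw [ha, Finsupp.sum]
  refine Submodule.sum_mem _ fun j _ => ?_
  have hmem : ξ j ∈ invField t := repr_mem_invField f b hb c hc_s hc_t a j
  have : ξ j * f j = (⟨ξ j, hmem⟩ : invField t) • f j := rfl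
  rw [this]
  exact Submodule.smul_mem _ _ (Submodule.subset_span ⟨j, rfl⟩)

include hb in
/-- `f` is linearly independent over the invariants. -/
theorem linearIndependent_invField : LinearIndependent (invField t) f := by
  classical
  rw [linearIndependent_iff]
  intro l hl
  have h1 : Finsupp.linearCombination K b (l.mapRange (invField t).subtype (map_zero _)) = 0 := by
    rw [Finsupp.linearCombination_apply,
      Finsupp.sum_mapRange_index (h := fun i a => a • b i) (fun _ => zero_smul _ _)]
    rw [Finsupp.linearCombination_apply] at hl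
    have h2 := congrArg t hl
    rw [map_zero, Finsupp.sum, map_sum] at h2
    rw [Finsupp.sum, ← h2]
    refine Finset.sum_congr rfl fun j _ => ?_
    show ((l j : K)) • b j = t ((l j : K) * f j)
    rw [Algebra.smul_def, map_mul, hb j, (l j).2]
  have h3 := (linearIndependent_iff.1 b.linearIndependent) _ h1
  ext j
  have := DFunLike.congr_fun h3 j
  simpa using this

/-- The basis of `K` over the invariants. -/
noncomputable def basisInv : Module.Basis κ (invField t) K :=
  Module.Basis.mk (linearIndependent_invField f b hb)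
    (span_range_eq_top f b hb c hc_s hc_t e he_s he_t)

theorem basisInv_apply (i : κ) : basisInv f b hb c hc_s hc_t e he_s he_t i = f i := by
  simp [basisInv]

section Pushout

variable (t) in
/-- `t` as an algebra map over the invariants. -/
noncomputable def tAlg : K →ₐ[invField t] B :=
  { t with commutes' := fun x => (x.2).symm }

variable (t) in
/-- The comparison map `K ⊗[k] K → B`. -/
noncomputable def mu : K ⊗[invField t] K →ₐ[K] B :=
  Algebra.TensorProduct.lift (Algebra.ofId K B) (tAlg t) (fun _ _ => Commute.all _ _)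

theorem mu_tmul (x y : K) : mu t (x ⊗ₜ y) = algebraMap K B x * t y := rfl

include hb hc_s hc_t he_s he_t in
theorem bijective_mu : Function.Bijective (mu t) := by
  let bk := basisInv f b hb c hc_s hc_t e he_s he_t
  let E : K ⊗[invField t] K ≃ₗ[K] B :=
    (Algebra.TensorProduct.basis K bk).equiv b (Equiv.refl κ)
  have hE : (mu t).toLinearMap = E.toLinearMap := by
    apply (Algebra.TensorProduct.basis K bk).ext
    intro i
    rw [Algebra.TensorProduct.basis_apply]
    show mu t (1 ⊗ₜ bk i) = E ((1 : K) ⊗ₜ bk i)
    rw [← Algebra.TensorProduct.basis_apply (A := K), Module.Basis.equiv_apply,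
      Algebra.TensorProduct.basis_apply, mu_tmul, map_one, one_mul]
    show t (bk i) = b i
    rw [basisInv_apply, hb]
  have : ⇑(mu t) = ⇑E := by
    ext z
    exact LinearMap.congr_fun hE z
  rw [this]
  exact E.bijective

include hb hc_s hc_t he_s he_t in
/-- `B` is the pushout of `K` with itself over the invariants. -/
theorem isPushout_invField :
    CategoryTheory.IsPushout (CommRingCat.ofHom (invField t).subtype)
      (CommRingCat.ofHom (invField t).subtype)
      (CommRingCat.ofHom (algebraMap K B)) (CommRingCat.ofHom t) := by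
  have hbij := bijective_mu f b hb c hc_s hc_t e he_s he_t
  let μe : K ⊗[invField t] K ≃+* B := RingEquiv.ofBijective (mu t).toRingHom hbij
  refine (CommRingCat.isPushout_tensorProduct (invField t) K K).of_iso
    (CategoryTheory.Iso.refl _) (CategoryTheory.Iso.refl _) (CategoryTheory.Iso.refl _)
    μe.toCommRingCatIso ?_ ?_ ?_ ?_
  · rfl
  · rfl
  · ext x
    show mu t (x ⊗ₜ 1) = algebraMap K B x
    rw [mu_tmul, map_one, mul_one]
  · ext x
    show mu t (1 ⊗ₜ x) = t x
    rw [mu_tmul, map_one, one_mul]

include hb hc_s hc_t he_s he_t in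
theorem finite_invField [Module.Finite K B] : Module.Finite (invField t) K := by
  have : Finite κ := Module.Finite.finite_basis b
  exact Module.Finite.of_basis (basisInv f b hb c hc_s hc_t e he_s he_t)

end Pushout

/-- If `B` is spanned by the image of `t`, it has a basis of the form `t ∘ f`. -/
theorem exists_basis_of_span (t : K →+* B) (hspan : Submodule.span K (Set.range t) = ⊤) :
    ∃ (κ : Type u) (f : κ → K) (b : Module.Basis κ K B), ∀ i, b i = t (f i) := by
  obtain ⟨κ, a, -, hsp, hli⟩ := exists_linearIndependent' K (fun x : K => t x)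
  have hsp' : ⊤ ≤ Submodule.span K (Set.range ((fun x : K => t x) ∘ a)) := by
    rw [hsp]
    exact hspan.ge
  exact ⟨κ, a, Module.Basis.mk hli hsp', fun i => by simp⟩

/-- Summary: the invariants `k` of a finite groupoid on a field `K` satisfy `[K : k] < ∞` and
`K ⊗[k] K ≅ B`. -/
theorem main (t : K →+* B) (e : B →+* K) (he_s : ∀ x, e (algebraMap K B x) = x)
    (he_t : ∀ x, e (t x) = x) (c : B →+* B ⊗[K] B)
    (hc_s : ∀ x, c (algebraMap K B x) = t x ⊗ₜ 1) (hc_t : ∀ x, c (t x) = 1 ⊗ₜ t x)
    (hspan : Submodule.span K (Set.range t) = ⊤) [Module.Finite K B] :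
    Module.Finite (invField t) K ∧
      CategoryTheory.IsPushout (CommRingCat.ofHom (invField t).subtype)
        (CommRingCat.ofHom (invField t).subtype)
        (CommRingCat.ofHom (algebraMap K B)) (CommRingCat.ofHom t) := by
  obtain ⟨κ, f, b, hb⟩ := exists_basis_of_span t hspan
  exact ⟨finite_invField f b hb c hc_s hc_t e he_s he_t,
    isPushout_invField f b hb c hc_s hc_t e he_s he_t⟩

end Groth.Agent.Lib.Helper51.FieldGroupoid
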