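import Groth.Agent.Lib.Helper51.LinTop
import Groth.Agent.Lib.Helper51.SuccApprox
import Mathlib.RingTheory.Henselian
import Mathlib.Topology.Algebra.Polynomial
import Mathlib.Algebra.Ring.GeomSum

/-!
A weakly admissible ring is henselian along a weak ideal of definition (helper51).
-/

set_option autoImplicit false
set_option linter.unusedSectionVars false
universe u v w

open Topology Filter Polynomial
open scoped Ring

namespace Groth.Agent.Lib.Helper51

section

variable {A : Type u} [CommRing A] [UniformSpace A] [IsUniformAddGroup A] [IsTopologicalRing A]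
  [IsLinearTopology A A] [T2Space A] [CompleteSpace A]

/-- The powers of the principal ideal `(z)` tend to zero when `z` is topologically nilpotent. -/
theorem exists_span_pow_subset {z : A} (hz : IsTopologicallyNilpotent z) {U : Set A}
    (hU : U ∈ 𝓝 (0 : A)) : ∃ k, ((Ideal.span {z} ^ k : Ideal A) : Set A) ⊆ U := by
  obtain ⟨J, hJ, hJU⟩ := IsLinearTopology.hasBasis_open_ideal.mem_iff.1 hU
  obtain ⟨k, hk⟩ := isTopologicallyNilpotent_iff.1 hz J hJ
  refine ⟨k, fun x hx => hJU ?_⟩
  have h2 : Ideal.span {z} ^ k ≤ J := by
    rw [Ideal.span_singleton_pow, Ideal.span_singleton_le_iff_mem]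
    exact hk
  exact h2 hx

/-- In a complete Hausdorff linearly topologized ring, `1 - z` is a unit for `z` topologically
nilpotent. -/
theorem isUnit_one_sub_of_isTopologicallyNilpotent {z : A} (hz : IsTopologicallyNilpotent z) :
    IsUnit (1 - z) := by
  set s : ℕ → A := fun n => ∑ i ∈ Finset.range n, z ^ i with hs
  have hcs : CauchySeq s := by
    apply cauchySeq_of_sub_mem (fun n => (Ideal.span {z} ^ n : Ideal A).toAddSubgroup)
    · intro n n' h
      exact Ideal.pow_le_pow_right h
    · intro U hU
      exact exists_span_pow_subset hz hU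
    · intro n
      have : s (n + 1) - s n = z ^ n := by
        simp only [hs, Finset.sum_range_succ]; ring
      rw [this]
      exact Ideal.pow_mem_pow (Ideal.subset_span (Set.mem_singleton z)) n
  obtain ⟨t, ht⟩ := cauchySeq_tendsto_of_complete hcs
  have h1 : Tendsto (fun n => (1 - z) * s n) atTop (𝓝 ((1 - z) * t)) :=
    ht.const_mul (1 - z)
  have h2 : Tendsto (fun n => (1 - z) * s n) atTop (𝓝 (1 - 0)) := by
    have : (fun n => (1 - z) * s n) = fun n => 1 - z ^ n := by
      funext n
      exact mul_neg_geom_sum z n
    rw [this]
    exact tendsto_const_nhds.sub hz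
  have h3 : (1 - z) * t = 1 := by
    have := tendsto_nhds_unique h1 h2
    simpa using this
  exact IsUnit.of_mul_eq_one _ h3

/-- A weak ideal of definition lies in the Jacobson radical. -/
theorem le_jacobson_bot_of_isWeakIdealOfDefinition {I : Ideal A}
    (hI : LinTop.IsWeakIdealOfDefinition A I) : I ≤ Ideal.jacobson ⊥ := by
  intro x hx
  rw [Ideal.mem_jacobson_bot]
  intro y
  have h1 : -(x * y) ∈ I := I.neg_mem (I.mul_mem_right y hx)
  have h2 := isUnit_one_sub_of_isTopologicallyNilpotent (hI.2 _ h1)
  have : x * y + 1 = 1 - -(x * y) := by ring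
  rw [this]; exact h2

end

end Groth.Agent.Lib.Helper51

namespace Groth.Agent.Lib.Helper51

section Newton

variable {A : Type u} [CommRing A] [UniformSpace A] [IsUniformAddGroup A] [IsTopologicalRing A]
  [IsLinearTopology A A] [T2Space A] [CompleteSpace A]

/-- Newton's method in a complete Hausdorff linearly topologized ring, along an open ideal of
topologically nilpotent elements. -/
theorem henselianRing_of_isWeakIdealOfDefinition {I : Ideal A}
    (hI : LinTop.IsWeakIdealOfDefinition A I) : HenselianRing A I where
  jac := le_jacobson_bot_of_isWeakIdealOfDefinition hI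
  is_henselian := by
    intro f _ a₀ h₁ h₂
    classical
      have jac := le_jacobson_bot_of_isWeakIdealOfDefinition hI
      let f' := derivative f
      let E : Ideal A := Ideal.span {f.eval a₀}
      have hEI : E ≤ I := by
        rw [Ideal.span_singleton_le_iff_mem]; exact h₁
      let c : ℕ → A := fun n => Nat.recOn n a₀ fun _ b => b - f.eval b * (f'.eval b)⁻¹ʳ
      have hc : ∀ n, c (n + 1) = c n - f.eval (c n) * (f'.eval (c n))⁻¹ʳ := by
        intro n
        simp only [c]
      have hc_mod : ∀ n, c n ≡ a₀ [SMOD I] := by
        intro n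
        induction n with
        | zero => rfl
        | succ n ih => ?_
        rw [hc, sub_eq_add_neg, ← add_zero a₀]
        refine ih.add ?_
        rw [SModEq.zero, Ideal.neg_mem_iff]
        refine I.mul_mem_right _ ?_
        rw [← SModEq.zero] at h₁ ⊢
        exact (ih.eval f).trans h₁
      have hf'c : ∀ n, IsUnit (f'.eval (c n)) := by
        intro n
        have := isLocalHom_of_le_jacobson_bot I jac
        apply IsUnit.of_map (Ideal.Quotient.mk I)
        convert! h₂ using 1
        exact SModEq.def.mp ((hc_mod n).eval _)
      have hfcI : ∀ n, f.eval (c n) ∈ E ^ (n + 1) := by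
        intro n
        induction n with
        | zero =>
          simp only [zero_add, pow_one]
          exact Ideal.subset_span (Set.mem_singleton _)
        | succ n ih => ?_
        rw [← taylor_eval_sub (c n), hc, sub_eq_add_neg, sub_eq_add_neg,
          add_neg_cancel_comm]
        rw [eval_eq_sum, sum_over_range' _ _ _ (lt_add_of_pos_right _ zero_lt_two), ←
          Finset.sum_range_add_sum_Ico _ (Nat.le_add_left _ _)]
        swap
        · intro i
          rw [zero_mul]
        refine Ideal.add_mem _ ?_ ?_
        · rw [← one_add_one_eq_two, Finset.sum_range_succ, Finset.range_one, Finset.sum_singleton,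
            taylor_coeff_zero, taylor_coeff_one, pow_zero, pow_one, mul_one, mul_neg,
            mul_left_comm, Ring.mul_inverse_cancel _ (hf'c n), mul_one, add_neg_cancel]
          exact Ideal.zero_mem _
        · refine Submodule.sum_mem _ ?_
          simp only [Finset.mem_Ico]
          rintro i ⟨h2i, _⟩
          have aux : n + 2 ≤ i * (n + 1) := by trans 2 * (n + 1) <;> nlinarith only [h2i]
          refine Ideal.mul_mem_left _ _ (Ideal.pow_le_pow_right aux ?_)
          rw [pow_mul']
          exact Ideal.pow_mem_pow ((Ideal.neg_mem_iff _).2 <| Ideal.mul_mem_right _ _ ih) _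
      -- the sequence is Cauchy
      have hz : IsTopologicallyNilpotent (f.eval a₀) := hI.2 _ h₁
      have hcs : CauchySeq c := by
        apply cauchySeq_of_sub_mem (fun n => (E ^ (n + 1) : Ideal A).toAddSubgroup)
        · intro n n' h
          exact Ideal.pow_le_pow_right (Nat.succ_le_succ h)
        · intro U hU
          obtain ⟨k, hk⟩ := exists_span_pow_subset hz hU
          refine ⟨k, fun x hx => hk ?_⟩
          exact Ideal.pow_le_pow_right (Nat.le_succ k) hx
        · intro n
          have : c (n + 1) - c n = -(f.eval (c n) * (f'.eval (c n))⁻¹ʳ) := by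
            rw [hc]; ring
          rw [this]
          exact (E ^ (n + 1)).neg_mem (Ideal.mul_mem_right _ _ (hfcI n))
      obtain ⟨a, ha⟩ := cauchySeq_tendsto_of_complete hcs
      refine ⟨a, ?_, ?_⟩
      · show f.IsRoot a
        have h1 : Tendsto (fun n => f.eval (c n)) atTop (𝓝 (f.eval a)) :=
          (f.continuous.tendsto a).comp ha
        have h2 : Tendsto (fun n => f.eval (c n)) atTop (𝓝 0) := by
          rw [tendsto_atTop']
          intro U hU
          obtain ⟨k, hk⟩ := exists_span_pow_subset hz hU
          refine ⟨k, fun m hm => hk ?_⟩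
          exact Ideal.pow_le_pow_right (by omega : k ≤ m + 1) (hfcI m)
        exact tendsto_nhds_unique h1 h2
      · show a - a₀ ∈ I
        have hIcl : IsClosed (I : Set A) := ideal_isClosed_of_isOpen hI.1
        have h3 : Tendsto (fun n => c n - a₀) atTop (𝓝 (a - a₀)) := ha.sub_const a₀
        refine hIcl.mem_of_tendsto h3 (Filter.Eventually.of_forall fun n => ?_)
        exact (SModEq.sub_mem).1 (hc_mod n)

end Newton

end Groth.Agent.Lib.Helper51
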