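import Groth.Agent.Lib.Helper51.LinTop
import Groth.Agent.Lib.Helper51.Adic
import Groth.Prelude.Def_LinTop
import Mathlib.RingTheory.Nilpotent.Lemmas
import Mathlib.RingTheory.Ideal.Quotient.Operations

/-!
Ideals of definition in linearly topologized rings (helper51).
-/

set_option autoImplicit false
set_option linter.unusedSectionVars false
universe u v w

open Topology Filter

namespace Groth.Agent.Lib.Helper51

section NoLin

variable {A : Type u} [CommRing A] [TopologicalSpace A] [IsTopologicalRing A]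

/-- An ideal containing an ideal of definition `I` with some power inside `I` is again an ideal
of definition. -/
theorem isIdealOfDefinition_of_pow_le {I J : Ideal A} (hI : LinTop.IsIdealOfDefinition A I)
    (hIJ : I ≤ J) {n : ℕ} (hn : 0 < n) (hJ : J ^ n ≤ I) : LinTop.IsIdealOfDefinition A J := by
  refine ⟨ideal_isOpen_mono hIJ hI.1, fun U hU => ?_⟩
  obtain ⟨k, hk, hkU⟩ := hI.2 U hU
  refine ⟨n * k, Nat.mul_pos hn hk, fun x hx => hkU ?_⟩
  have : J ^ (n * k) ≤ I ^ k := by
    rw [pow_mul]
    exact Ideal.pow_right_mono hJ k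
  exact this hx

/-- Elements of an ideal of definition are topologically nilpotent. -/
theorem isTopologicallyNilpotent_of_pow_mem_idealOfDefinition {I : Ideal A}
    (hI : LinTop.IsIdealOfDefinition A I) {x : A} {n : ℕ} (hx : x ^ n ∈ I) :
    IsTopologicallyNilpotent x := by
  unfold IsTopologicallyNilpotent
  rw [tendsto_atTop']
  intro U hU
  obtain ⟨k, hk, hkU⟩ := hI.2 U hU
  refine ⟨n * k, fun m hm => hkU ?_⟩
  have h1 : x ^ (n * k) ∈ I ^ k := by
    rw [pow_mul]
    exact Ideal.pow_mem_pow hx k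
  have hm' : n * k ≤ m := hm
  have : x ^ m = x ^ (m - n * k) * x ^ (n * k) := by
    rw [← pow_add, Nat.sub_add_cancel hm']
  rw [this]
  exact Ideal.mul_mem_left _ _ h1

theorem isTopologicallyNilpotent_of_mem_idealOfDefinition {I : Ideal A}
    (hI : LinTop.IsIdealOfDefinition A I) {x : A} (hx : x ∈ I) :
    IsTopologicallyNilpotent x :=
  isTopologicallyNilpotent_of_pow_mem_idealOfDefinition hI (n := 1) (by simpa using hx)

/-- An ideal of definition is a weak ideal of definition. -/
theorem isWeakIdealOfDefinition_of_isIdealOfDefinition {I : Ideal A}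
    (hI : LinTop.IsIdealOfDefinition A I) : LinTop.IsWeakIdealOfDefinition A I :=
  ⟨hI.1, fun _ hx => isTopologicallyNilpotent_of_mem_idealOfDefinition hI hx⟩

/-- `x` is topologically nilpotent iff some power lies in the ideal of definition `I`. -/
theorem isTopologicallyNilpotent_iff_exists_pow_mem {I : Ideal A}
    (hI : LinTop.IsIdealOfDefinition A I) {x : A} :
    IsTopologicallyNilpotent x ↔ ∃ n : ℕ, x ^ n ∈ I :=
  ⟨fun hx => hx.exists_pow_mem_of_mem_nhds (hI.1.mem_nhds I.zero_mem),
    fun ⟨_, hn⟩ => isTopologicallyNilpotent_of_pow_mem_idealOfDefinition hI hn⟩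

theorem isTopologicallyNilpotent_iff_isNilpotent_mk {I : Ideal A}
    (hI : LinTop.IsIdealOfDefinition A I) {x : A} :
    IsTopologicallyNilpotent x ↔ IsNilpotent (Ideal.Quotient.mk I x) := by
  rw [isTopologicallyNilpotent_iff_exists_pow_mem hI]
  constructor
  · rintro ⟨n, hn⟩
    exact ⟨n, by rw [← map_pow]; exact Ideal.Quotient.eq_zero_iff_mem.2 hn⟩
  · rintro ⟨n, hn⟩
    refine ⟨n, ?_⟩
    rw [← map_pow] at hn
    exact Ideal.Quotient.eq_zero_iff_mem.1 hn

/-- An ideal has a power in `I` iff it is contained in an ideal of definition. -/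
theorem exists_idealOfDefinition_ge_iff {I : Ideal A} (hI : LinTop.IsIdealOfDefinition A I)
    (I' : Ideal A) :
    (∃ J : Ideal A, LinTop.IsIdealOfDefinition A J ∧ I' ≤ J) ↔ ∃ n : ℕ, 0 < n ∧ I' ^ n ≤ I := by
  constructor
  · rintro ⟨J, hJ, hI'J⟩
    obtain ⟨n, hn, hnI⟩ := exists_pow_le_of_isIdealOfDefinition hJ hI.1
    exact ⟨n, hn, (Ideal.pow_right_mono hI'J n).trans hnI⟩
  · rintro ⟨n, hn, hnI⟩
    refine ⟨I ⊔ I', isIdealOfDefinition_of_pow_le hI le_sup_left (n := 1 + n) (by omega) ?_,
      le_sup_right⟩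
    refine (Ideal.sup_pow_add_le_pow_sup_pow (I := I) (J := I') (n := 1) (m := n)).trans ?_
    rw [pow_one]
    exact sup_le le_rfl hnI

/-- A topologically nilpotent element lies in some ideal of definition. -/
theorem exists_idealOfDefinition_mem_iff {I : Ideal A} (hI : LinTop.IsIdealOfDefinition A I)
    (x : A) :
    (∃ J : Ideal A, LinTop.IsIdealOfDefinition A J ∧ x ∈ J) ↔ IsTopologicallyNilpotent x := by
  constructor
  · rintro ⟨J, hJ, hx⟩
    exact isTopologicallyNilpotent_of_mem_idealOfDefinition hJ hx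
  · intro hx
    obtain ⟨n, hn⟩ := (isTopologicallyNilpotent_iff_exists_pow_mem hI).1 hx
    have h1 : (Ideal.span {x}) ^ (n + 1) ≤ I := by
      rw [Ideal.span_singleton_pow, Ideal.span_singleton_le_iff_mem, pow_succ]
      exact I.mul_mem_right _ hn
    obtain ⟨J, hJ, hxJ⟩ := (exists_idealOfDefinition_ge_iff hI (Ideal.span {x})).2
      ⟨n + 1, Nat.succ_pos n, h1⟩
    exact ⟨J, hJ, hxJ (Ideal.subset_span (Set.mem_singleton x))⟩

end NoLin

section Lin

variable {A : Type u} [CommRing A] [TopologicalSpace A] [IsTopologicalRing A]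
  [IsLinearTopology A A]

open IsTopologicallyNilpotent

/-- An ideal of definition is contained in the topological nilradical. -/
theorem le_topologicalNilradical_of_isIdealOfDefinition {I : Ideal A}
    (hI : LinTop.IsIdealOfDefinition A I) : I ≤ topologicalNilradical A := fun _ hx =>
  mem_topologicalNilradical_iff.2 (isTopologicallyNilpotent_of_mem_idealOfDefinition hI hx)

theorem isOpen_topologicalNilradical_of_isIdealOfDefinition {I : Ideal A}
    (hI : LinTop.IsIdealOfDefinition A I) : IsOpen ((topologicalNilradical A : Ideal A) : Set A) :=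
  ideal_isOpen_mono (le_topologicalNilradical_of_isIdealOfDefinition hI) hI.1

/-- The largest ideal of definition is the topological nilradical. -/
theorem eq_topologicalNilradical_of_largest {I₀ : Ideal A} (hI₀ : LinTop.IsIdealOfDefinition A I₀)
    (h : ∀ J : Ideal A, LinTop.IsIdealOfDefinition A J → J ≤ I₀) :
    I₀ = topologicalNilradical A := by
  apply le_antisymm (le_topologicalNilradical_of_isIdealOfDefinition hI₀)
  intro x hx
  obtain ⟨J, hJ, hxJ⟩ := (exists_idealOfDefinition_mem_iff hI₀ x).2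
    (mem_topologicalNilradical_iff.1 hx)
  exact h J hJ hxJ

theorem largest_iff_isReduced {I₀ : Ideal A} (hI₀ : LinTop.IsIdealOfDefinition A I₀) :
    (∀ J : Ideal A, LinTop.IsIdealOfDefinition A J → J ≤ I₀) ↔ IsReduced (A ⧸ I₀) := by
  constructor
  · intro h
    refine ⟨fun y hy => ?_⟩
    obtain ⟨x, rfl⟩ := Ideal.Quotient.mk_surjective y
    have hx := (isTopologicallyNilpotent_iff_isNilpotent_mk hI₀).2 hy
    obtain ⟨J, hJ, hxJ⟩ := (exists_idealOfDefinition_mem_iff hI₀ x).2 hx
    exact Ideal.Quotient.eq_zero_iff_mem.2 (h J hJ hxJ)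
  · intro hred J hJ x hx
    have h1 := isTopologicallyNilpotent_of_mem_idealOfDefinition hJ hx
    have h2 := (isTopologicallyNilpotent_iff_isNilpotent_mk hI₀).1 h1
    exact Ideal.Quotient.eq_zero_iff_mem.1 (h2.eq_zero)

theorem exists_largest_iff_isNilpotent_nilradical {I : Ideal A}
    (hI : LinTop.IsIdealOfDefinition A I) :
    (∃ I₀ : Ideal A, LinTop.IsIdealOfDefinition A I₀ ∧
        ∀ J : Ideal A, LinTop.IsIdealOfDefinition A J → J ≤ I₀) ↔
      IsNilpotent (nilradical (A ⧸ I)) := by
  have hmapT : ∀ y : A ⧸ I, y ∈ nilradical (A ⧸ I) ↔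
      y ∈ (topologicalNilradical A).map (Ideal.Quotient.mk I) := by
    intro y
    obtain ⟨x, rfl⟩ := Ideal.Quotient.mk_surjective y
    rw [mem_nilradical, ← isTopologicallyNilpotent_iff_isNilpotent_mk hI]
    constructor
    · intro hx
      exact Ideal.mem_map_of_mem _ (mem_topologicalNilradical_iff.2 hx)
    · intro hx
      rw [Ideal.mem_map_iff_of_surjective _ Ideal.Quotient.mk_surjective] at hx
      obtain ⟨x', hx', hxx'⟩ := hx
      have h1 : x - x' ∈ I := by
        rw [← Ideal.Quotient.eq_zero_iff_mem, map_sub, hxx', sub_self]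
      have h2 : x - x' ∈ topologicalNilradical A :=
        le_topologicalNilradical_of_isIdealOfDefinition hI h1
      have h3 : x = (x - x') + x' := by ring
      rw [h3]
      exact mem_topologicalNilradical_iff.1 (Ideal.add_mem _ h2 hx')
  have hnil : nilradical (A ⧸ I) = (topologicalNilradical A).map (Ideal.Quotient.mk I) :=
    Ideal.ext hmapT
  constructor
  · rintro ⟨I₀, hI₀, hmax⟩
    have hT := eq_topologicalNilradical_of_largest hI₀ hmax
    obtain ⟨n, hn, hnI⟩ := exists_pow_le_of_isIdealOfDefinition hI₀ hI.1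
    refine ⟨n, ?_⟩
    rw [hnil, ← hT, ← Ideal.map_pow, Ideal.zero_eq_bot, Ideal.map_eq_bot_iff_le_ker,
      Ideal.mk_ker]
    exact hnI
  · rintro ⟨n, hn⟩
    have hTn : (topologicalNilradical A) ^ n ≤ I := by
      rw [hnil, ← Ideal.map_pow, Ideal.zero_eq_bot, Ideal.map_eq_bot_iff_le_ker,
        Ideal.mk_ker] at hn
      exact hn
    refine ⟨topologicalNilradical A, isIdealOfDefinition_of_pow_le hI
      (le_topologicalNilradical_of_isIdealOfDefinition hI) (n := n + 1) (Nat.succ_pos n)
      ((Ideal.pow_le_pow_right (Nat.le_succ n)).trans hTn), fun J hJ => ?_⟩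
    exact le_topologicalNilradical_of_isIdealOfDefinition hJ

end Lin

section NoLin

variable {A : Type u} [CommRing A] [TopologicalSpace A] [IsTopologicalRing A]

/-- In a preadic ring, the topology is `I'`-adic for every ideal of definition `I'`. -/
theorem isAdic_of_isIdealOfDefinition_of_isPreadic (hA : LinTop.IsPreadic A) {I' : Ideal A}
    (hI' : LinTop.IsIdealOfDefinition A I') : IsAdic I' := by
  obtain ⟨J, hJ⟩ := hA
  have hJ' := (isAdic_iff.1 hJ)
  rw [isAdic_iff]
  refine ⟨fun n => ?_, fun s hs => ?_⟩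
  · obtain ⟨m, hm⟩ := hJ'.2 (I' : Set A) (hI'.1.mem_nhds I'.zero_mem)
    have h1 : J ^ (m * n) ≤ I' ^ n := by
      rw [pow_mul]
      exact Ideal.pow_right_mono hm n
    exact ideal_isOpen_mono h1 (hJ'.1 (m * n))
  · obtain ⟨n, _, hn⟩ := hI'.2 s hs
    exact ⟨n, hn⟩

end NoLin

end Groth.Agent.Lib.Helper51
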