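import Mathlib.AlgebraicGeometry.Morphisms.FinitePresentation
import Mathlib.AlgebraicGeometry.Morphisms.Etale
import Mathlib.AlgebraicGeometry.Morphisms.Flat
import Mathlib.AlgebraicGeometry.Morphisms.FlatDescent
import Mathlib.AlgebraicGeometry.Restrict

/-!
Descent of local constructibility along surjective open morphisms locally of finite
presentation (helper51).
-/

set_option autoImplicit false
universe u
open CategoryTheory CategoryTheory.Limits AlgebraicGeometry Topology TopologicalSpace

namespace Groth.Agent.Lib.Helper51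

/-- Affine target case. -/
theorem isLocallyConstructible_of_preimage_of_isAffine {W V : Scheme.{u}} [IsAffine V]
    (ψ : W ⟶ V) [LocallyOfFinitePresentation ψ] (hopen : IsOpenMap ψ)
    (hsurj : Function.Surjective ψ) {T : Set V}
    (h : IsLocallyConstructible (ψ ⁻¹' T)) : IsLocallyConstructible T := by
  let 𝒰 := W.affineCover
  let Vj : 𝒰.I₀ → Opens V := fun j => ⟨Set.range (𝒰.f j ≫ ψ), by
    rw [Scheme.Hom.comp_base, TopCat.coe_comp, Set.range_comp]
    exact hopen _ (𝒰.f j).isOpenEmbedding.isOpen_range⟩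
  have hcover : IsOpenCover Vj := by
    apply IsOpenCover.of_sets (fun j => (Vj j).2)
    rw [Set.eq_univ_iff_forall]
    intro v
    obtain ⟨w, rfl⟩ := hsurj v
    obtain ⟨j, x, rfl⟩ := 𝒰.exists_eq w
    exact Set.mem_iUnion.2 ⟨j, x, by simp⟩
  apply IsLocallyConstructible.of_isOpenCover' hcover
  intro j
  have h1 : IsLocallyConstructible ((𝒰.f j ≫ ψ) ⁻¹' T) := by
    have := h.preimage_of_isOpenEmbedding (𝒰.f j).isOpenEmbedding
    rwa [Scheme.Hom.comp_base, TopCat.coe_comp, Set.preimage_comp]
  have h2 := (𝒰.f j ≫ ψ).isLocallyConstructible_image h1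
  rwa [Set.image_preimage_eq_inter_range] at h2

end Groth.Agent.Lib.Helper51

namespace Groth.Agent.Lib.Helper51

/-- Local constructibility descends along surjective open morphisms locally of finite
presentation. -/
theorem isLocallyConstructible_of_preimage {W V : Scheme.{u}}
    (ψ : W ⟶ V) [LocallyOfFinitePresentation ψ] (hopen : IsOpenMap ψ)
    (hsurj : Function.Surjective ψ) {T : Set V}
    (h : IsLocallyConstructible (ψ ⁻¹' T)) : IsLocallyConstructible T := by
  apply IsLocallyConstructible.of_isOpenCover V.affineCover.isOpenCover_opensRange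
  intro i
  set Vi : V.Opens := (V.affineCover.f i).opensRange with hVi
  have hVia : IsAffine Vi.toScheme := isAffineOpen_opensRange (V.affineCover.f i)
  have hb : ⇑(ψ ∣_ Vi) = (Vi : Set V).restrictPreimage ψ := morphismRestrict_base ψ Vi
  apply isLocallyConstructible_of_preimage_of_isAffine (ψ ∣_ Vi)
  · rw [hb]
    exact hopen.restrictPreimage _
  · rw [hb]
    exact Set.restrictPreimage_surjective _ hsurj
  · have h1 : IsLocallyConstructible
        ((Subtype.val : ↥(ψ ⁻¹ᵁ Vi) → W) ⁻¹' (ψ ⁻¹' T)) :=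
      h.preimage_of_isOpenEmbedding (ψ ⁻¹ᵁ Vi).2.isOpenEmbedding_subtypeVal
    have heq : (ψ ∣_ Vi) ⁻¹' ((Subtype.val : ↥Vi → V) ⁻¹' T) =
        ((Subtype.val : ↥(ψ ⁻¹ᵁ Vi) → W) ⁻¹' (ψ ⁻¹' T)) := by
      ext v
      simp only [Set.mem_preimage]
      rw [hb]
      rfl
    rw [← heq] at h1
    exact h1

/-- Etale surjective version. -/
theorem isLocallyConstructible_of_preimage_of_etale {W V : Scheme.{u}}
    (ψ : W ⟶ V) [Etale ψ] [Surjective ψ] {T : Set V}
    (h : IsLocallyConstructible (ψ ⁻¹' T)) : IsLocallyConstructible T :=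
  isLocallyConstructible_of_preimage ψ (AlgebraicGeometry.Scheme.Hom.isOpenMap ψ) ψ.surjective h

end Groth.Agent.Lib.Helper51
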