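import Mathlib.Topology.Algebra.LinearTopology
import Mathlib.Topology.Algebra.Module.Basic
import Mathlib.Topology.Algebra.Module.ContinuousLinearMap.Basic
import Mathlib.LinearAlgebra.Dual.Lemmas

/-!
Continuous duals of linearly topologized vector spaces over a discrete field (helper51).
-/

set_option autoImplicit false
set_option linter.unusedSectionVars false
universe u v w

open Topology Filter

namespace Groth.Agent.Lib.Helper51

section

variable {k : Type u} {M : Type v} [Field k] [TopologicalSpace k] [DiscreteTopology k]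
  [AddCommGroup M] [Module k M] [TopologicalSpace M] [IsTopologicalAddGroup M]

/-- A linear functional vanishing on an open submodule is continuous. -/
theorem continuous_of_vanish_on_open (f : M →ₗ[k] k) (U : Submodule k M)
    (hU : IsOpen (U : Set M)) (hf : ∀ u ∈ U, f u = 0) : Continuous f := by
  apply continuous_of_continuousAt_zero f.toAddMonoidHom
  intro V hV
  rw [Filter.mem_map]
  refine Filter.mem_of_superset (hU.mem_nhds U.zero_mem) fun u hu => ?_
  have h0 : f u = 0 := hf u hu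
  have hV0 : (0 : k) ∈ V := by
    have := mem_of_mem_nhds hV
    simpa using this
  change f u ∈ V
  rw [h0]; exact hV0

variable [IsLinearTopology k M]

/-- Separating a point from a closed submodule by an open submodule. -/
theorem exists_open_submodule_notMem_sup (M₁ : Submodule k M) (hM₁ : IsClosed (M₁ : Set M))
    {x : M} (hx : x ∉ M₁) : ∃ U : Submodule k M, IsOpen (U : Set M) ∧ x ∉ M₁ ⊔ U := by
  have hnb : (fun y => x + y) ⁻¹' ((M₁ : Set M)ᶜ) ∈ 𝓝 (0 : M) := by
    have hc : Continuous (fun y : M => x + y) := continuous_const.add continuous_id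
    apply hc.continuousAt.preimage_mem_nhds
    simp only [add_zero]
    exact hM₁.isOpen_compl.mem_nhds hx
  obtain ⟨U, hU, hUs⟩ := (IsLinearTopology.hasBasis_open_submodule k).mem_iff.1 hnb
  refine ⟨U, hU, fun hxs => ?_⟩
  obtain ⟨m, hm, u, hu, hmu⟩ := Submodule.mem_sup.1 hxs
  have h1 : x + (-u) ∈ (M₁ : Set M)ᶜ := hUs (U.neg_mem hu)
  apply h1
  have : x + -u = m := by rw [← hmu]; abel
  rw [this]; exact hm

theorem mem_of_forall_dual_eq_zero (M₁ : Submodule k M) (hM₁ : IsClosed (M₁ : Set M)) (x : M)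
    (hx : ∀ φ : M →L[k] k, (∀ m ∈ M₁, φ m = 0) → φ x = 0) : x ∈ M₁ := by
  by_contra hxM
  obtain ⟨U, hU, hxU⟩ := exists_open_submodule_notMem_sup M₁ hM₁ hxM
  obtain ⟨f, hfx, hf⟩ := Submodule.exists_dual_map_eq_bot_of_notMem hxU inferInstance
  have hfN : ∀ y ∈ M₁ ⊔ U, f y = 0 := by
    intro y hy
    have : f y ∈ (M₁ ⊔ U).map f := Submodule.mem_map_of_mem hy
    rw [hf] at this
    simpa using this
  have hfc : Continuous f :=
    continuous_of_vanish_on_open f U hU (fun u hu => hfN u (Submodule.mem_sup_right hu))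
  let φ : M →L[k] k := ⟨f, hfc⟩
  exact hfx (hx φ (fun m hm => hfN m (Submodule.mem_sup_left hm)))

theorem exists_dual_extension (M₁ M₂ : Submodule k M) (h₁₂ : M₁ ≤ M₂) (ψ : M₂ →L[k] k)
    (hψ : ∀ m : M₂, (m : M) ∈ M₁ → ψ m = 0) :
    ∃ φ : M →L[k] k, (∀ m ∈ M₁, φ m = 0) ∧ ∀ m : M₂, φ (m : M) = ψ m := by
  -- the kernel of ψ is open in M₂
  have hker : IsOpen (ψ ⁻¹' ({0} : Set k)) := (isOpen_discrete _).preimage ψ.continuous
  obtain ⟨O, hO, hOeq⟩ := isOpen_induced_iff.1 hker
  have h0O : (0 : M) ∈ O := by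
    have : (0 : M₂) ∈ ψ ⁻¹' ({0} : Set k) := by simp
    rw [← hOeq] at this
    exact this
  obtain ⟨U, hU, hUO⟩ := (IsLinearTopology.hasBasis_open_submodule k).mem_iff.1 (hO.mem_nhds h0O)
  have hUψ : ∀ m : M₂, (m : M) ∈ U → ψ m = 0 := by
    intro m hm
    have : m ∈ Subtype.val ⁻¹' O := hUO hm
    rw [hOeq] at this
    exact this
  -- the sum map
  let f : (M₂ × U) →ₗ[k] M := M₂.subtype.coprod U.subtype
  let g : Module.Dual k (M₂ × U) := (ψ : M₂ →ₗ[k] k).comp (LinearMap.fst k M₂ U)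
  have hg : g ∈ (LinearMap.ker f).dualAnnihilator := by
    rw [Submodule.mem_dualAnnihilator]
    rintro ⟨m, u⟩ hw
    have hw' : (m : M) + (u : M) = 0 := by simpa [f] using hw
    have hmU : (m : M) ∈ U := by
      have : (m : M) = -(u : M) := eq_neg_of_add_eq_zero_left hw'
      rw [this]; exact U.neg_mem u.2
    exact hUψ m hmU
  rw [← LinearMap.range_dualMap_eq_dualAnnihilator_ker] at hg
  obtain ⟨h, hh⟩ := hg
  have hh' : ∀ w : M₂ × U, h (f w) = g w := fun w => by
    rw [← hh]; rfl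
  have hhM₂ : ∀ m : M₂, h (m : M) = ψ m := by
    intro m
    have := hh' (m, 0)
    simpa [f, g] using this
  have hhU : ∀ u ∈ U, h u = 0 := by
    intro u hu
    have := hh' (0, ⟨u, hu⟩)
    simpa [f, g] using this
  have hc : Continuous h := continuous_of_vanish_on_open h U hU hhU
  refine ⟨⟨h, hc⟩, fun m hm => ?_, fun m => hhM₂ m⟩
  have := hhM₂ ⟨m, h₁₂ hm⟩
  change h m = 0
  rw [show h m = ψ ⟨m, h₁₂ hm⟩ from this]
  exact hψ ⟨m, h₁₂ hm⟩ hm

end

end Groth.Agent.Lib.Helper51
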