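import Groth.Prelude.Def_W4stk3formalspacesTaut

/-!
Helper lemmas on linearly topologized rings (helper51).
-/

set_option autoImplicit false
set_option linter.unusedSectionVars false
universe u v w

open Topology Filter

namespace Groth.Agent.Lib.Helper51

section Basic

variable {A : Type u} [CommRing A] [TopologicalSpace A]

/-- An ideal which is a neighbourhood of zero is open. -/
theorem ideal_isOpen_of_mem_nhds [IsTopologicalRing A] {I : Ideal A} (h : (I : Set A) ∈ 𝓝 (0 : A)) :
    IsOpen (I : Set A) :=
  I.toAddSubgroup.isOpen_of_mem_nhds h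

/-- An open ideal is closed. -/
theorem ideal_isClosed_of_isOpen [IsTopologicalRing A] {I : Ideal A} (h : IsOpen (I : Set A)) :
    IsClosed (I : Set A) :=
  I.toAddSubgroup.isClosed_of_isOpen h

/-- An ideal containing an open ideal is open. -/
theorem ideal_isOpen_mono [IsTopologicalRing A] {I J : Ideal A} (h : I ≤ J) (hI : IsOpen (I : Set A)) :
    IsOpen (J : Set A) :=
  AddSubgroup.isOpen_mono (H₁ := I.toAddSubgroup) (H₂ := J.toAddSubgroup) h hI

/-- In a linearly topologized ring, `f` is topologically nilpotent iff some power of `f` lies in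
each open ideal. -/
theorem isTopologicallyNilpotent_iff [IsTopologicalRing A] [IsLinearTopology A A] {f : A} :
    IsTopologicallyNilpotent f ↔ ∀ J : Ideal A, IsOpen (J : Set A) → ∃ n : ℕ, f ^ n ∈ J := by
  constructor
  · intro hf J hJ
    exact hf.exists_pow_mem_of_mem_nhds (hJ.mem_nhds J.zero_mem)
  · intro h
    unfold IsTopologicallyNilpotent
    rw [atTop_basis.tendsto_iff IsLinearTopology.hasBasis_open_ideal]
    intro J hJ
    obtain ⟨n, hn⟩ := h J hJ
    refine ⟨n, trivial, fun m hm => ?_⟩
    have hm' : n ≤ m := hm
    have : f ^ m = f ^ (m - n) * f ^ n := by rw [← pow_add, Nat.sub_add_cancel hm']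
    rw [this]
    exact J.mul_mem_left _ hn

/-- An element of the closure of an ideal `I` is, modulo any open ideal `J`, in `I`. -/
theorem mem_closure_ideal_iff [IsTopologicalRing A] [IsLinearTopology A A] {I : Ideal A} {x : A} :
    x ∈ closure (I : Set A) ↔ ∀ J : Ideal A, IsOpen (J : Set A) → x ∈ I ⊔ J := by
  constructor
  · intro hx J hJ
    have hnb : (fun y => y - x) ⁻¹' (J : Set A) ∈ 𝓝 x := by
      have hc : Continuous (fun y : A => y - x) := continuous_id.sub continuous_const
      apply hc.continuousAt.preimage_mem_nhds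
      simp only [sub_self]
      exact hJ.mem_nhds J.zero_mem
    obtain ⟨y, hy1, hy2⟩ := mem_closure_iff_nhds.1 hx _ hnb
    have hy1' : y - x ∈ J := hy1
    have hy2' : y ∈ I := hy2
    have : x = y + (-(y - x)) := by abel
    rw [this]
    exact Submodule.add_mem_sup hy2' (J.neg_mem hy1')
  · intro hx
    rw [mem_closure_iff_nhds]
    intro t ht
    have hc : Continuous (fun z : A => x + z) := continuous_const.add continuous_id
    have h0 : (fun z : A => x + z) ⁻¹' t ∈ 𝓝 (0 : A) := by
      apply hc.continuousAt.preimage_mem_nhds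
      simpa using ht
    obtain ⟨J, hJ, hJt⟩ := IsLinearTopology.hasBasis_open_ideal.mem_iff.1 h0
    obtain ⟨n, hn, b, hb, hnb⟩ := Submodule.mem_sup.1 (hx J hJ)
    refine ⟨n, ?_, hn⟩
    have hmem : -b ∈ (fun z : A => x + z) ⁻¹' t := hJt (J.neg_mem hb)
    have : x + -b = n := by rw [← hnb]; abel
    simpa [this] using hmem

/-- The closure of an ideal is contained in any open ideal containing it. -/
theorem closure_ideal_le_of_isOpen [IsTopologicalRing A] {I J : Ideal A} (h : I ≤ J)
    (hJ : IsOpen (J : Set A)) : closure (I : Set A) ⊆ (J : Set A) :=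
  closure_minimal h (ideal_isClosed_of_isOpen hJ)

end Basic

end Groth.Agent.Lib.Helper51

namespace Groth.Agent.Lib.Helper51

section Nilradical

variable {B : Type v} [CommRing B] [TopologicalSpace B] [IsTopologicalRing B] [IsLinearTopology B B]

/-- If `f ^ n ∈ J` and `g - f ∈ J` then `g ^ n ∈ J`. -/
theorem pow_mem_of_sub_mem {J : Ideal B} {f g : B} {n : ℕ} (hf : f ^ n ∈ J) (hfg : g - f ∈ J) :
    g ^ n ∈ J := by
  have h1 : (Ideal.Quotient.mk J) g = (Ideal.Quotient.mk J) f := by
    rw [Ideal.Quotient.eq]; exact hfg
  have h2 : (Ideal.Quotient.mk J) (g ^ n) = 0 := by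
    rw [map_pow, h1, ← map_pow, Ideal.Quotient.eq_zero_iff_mem]; exact hf
  exact Ideal.Quotient.eq_zero_iff_mem.1 h2

/-- The topological nilradical of a linearly topologized ring is closed. -/
theorem isClosed_topologicalNilradical :
    IsClosed ((topologicalNilradical B : Ideal B) : Set B) := by
  rw [← closure_subset_iff_isClosed]
  intro g hg
  rw [mem_closure_ideal_iff] at hg
  change g ∈ topologicalNilradical B
  rw [IsTopologicallyNilpotent.mem_topologicalNilradical_iff, isTopologicallyNilpotent_iff]
  intro J hJ
  obtain ⟨f, hf, j, hj, hfj⟩ := Submodule.mem_sup.1 (hg J hJ)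
  rw [IsTopologicallyNilpotent.mem_topologicalNilradical_iff, isTopologicallyNilpotent_iff] at hf
  obtain ⟨n, hn⟩ := hf J hJ
  refine ⟨n, pow_mem_of_sub_mem hn ?_⟩
  have : g - f = j := by rw [← hfj]; ring
  rw [this]; exact hj

/-- If an ideal consists of topologically nilpotent elements then so does its closure. -/
theorem isTopologicallyNilpotent_of_mem_closure {I : Ideal B}
    (hI : ∀ f ∈ I, IsTopologicallyNilpotent f) {g : B} (hg : g ∈ closure (I : Set B)) :
    IsTopologicallyNilpotent g := by
  have h1 : I ≤ topologicalNilradical B := fun f hf =>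
    IsTopologicallyNilpotent.mem_topologicalNilradical_iff.2 (hI f hf)
  have h2 : closure (I : Set B) ⊆ (topologicalNilradical B : Set B) :=
    closure_minimal h1 isClosed_topologicalNilradical
  exact IsTopologicallyNilpotent.mem_topologicalNilradical_iff.1 (h2 hg)

/-- The image ideal of an ideal of topologically nilpotent elements under a continuous ring map
consists of topologically nilpotent elements. -/
theorem isTopologicallyNilpotent_of_mem_map {A : Type u} [CommRing A] [TopologicalSpace A]
    {φ : A →+* B} (hφ : Continuous φ) {I : Ideal A}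
    (hI : ∀ f ∈ I, IsTopologicallyNilpotent f) {g : B} (hg : g ∈ I.map φ) :
    IsTopologicallyNilpotent g := by
  have h1 : I.map φ ≤ topologicalNilradical B := by
    rw [Ideal.map_le_iff_le_comap]
    intro f hf
    rw [Ideal.mem_comap, IsTopologicallyNilpotent.mem_topologicalNilradical_iff]
    exact (hI f hf).map hφ
  exact IsTopologicallyNilpotent.mem_topologicalNilradical_iff.1 (h1 hg)

end Nilradical

end Groth.Agent.Lib.Helper51
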