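import Mathlib.CategoryTheory.Limits.Shapes.RegularMono
import Mathlib.CategoryTheory.Limits.Shapes.Pullback.HasPullback
import Mathlib.CategoryTheory.Limits.Shapes.Equalizers

/-!
Quotients in regular epi categories (helper51).
-/

set_option autoImplicit false
universe v u
open CategoryTheory CategoryTheory.Limits

namespace Groth.Agent.Lib.Helper51

variable {C : Type u} [Category.{v} C] [HasPullbacks C] [IsRegularEpiCategory C]

/-- If `q` is an epimorphism coequalizing `s, t` and `(t, s) : R ⟶ U ×_M U` is an epimorphism,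
then `q` is a coequalizer of `s, t`. -/
noncomputable def isColimitCoforkOfEpiOfEpiLift {R U M : C} (s t : R ⟶ U) (q : U ⟶ M)
    (w : s ≫ q = t ≫ q) [Epi q] [Epi (pullback.lift t s w.symm : R ⟶ pullback q q)] :
    IsColimit (Cofork.ofπ q w) := by
  have hreg : IsRegularEpi q := IsRegularEpiCategory.regularEpiOfEpi q
  have hk : IsColimit (Cofork.ofπ q (pullback.condition (f := q) (g := q))) :=
    isColimitCoforkOfEffectiveEpi q _ (pullback.isLimit q q)
  refine Cofork.IsColimit.mk' _ (fun c => ?_)
  have hc : pullback.fst q q ≫ c.π = pullback.snd q q ≫ c.π := by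
    rw [← cancel_epi (pullback.lift t s w.symm : R ⟶ pullback q q)]
    rw [pullback.lift_fst_assoc, pullback.lift_snd_assoc]
    exact c.condition.symm
  refine ⟨hk.desc (Cofork.ofπ c.π hc), ?_, ?_⟩
  · exact hk.fac (Cofork.ofπ c.π hc) WalkingParallelPair.one
  · intro m hm
    apply Cofork.IsColimit.hom_ext hk
    rw [Cofork.π_ofπ]
    rw [Cofork.π_ofπ] at hm
    rw [hm]
    exact (hk.fac (Cofork.ofπ c.π hc) WalkingParallelPair.one).symm

theorem isIso_coequalizer_desc_of_epi_of_epi_lift {R U M : C} (s t : R ⟶ U) [HasCoequalizer s t]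
    (q : U ⟶ M) (w : s ≫ q = t ≫ q) [Epi q]
    [Epi (pullback.lift t s w.symm : R ⟶ pullback q q)] :
    IsIso (coequalizer.desc q w) := by
  have hc := isColimitCoforkOfEpiOfEpiLift s t q w
  have : coequalizer.desc q w =
      ((coequalizerIsCoequalizer s t).coconePointUniqueUpToIso hc).hom := by
    apply coequalizer.hom_ext
    rw [coequalizer.π_desc]
    exact ((coequalizerIsCoequalizer s t).comp_coconePointUniqueUpToIso_hom hc
      WalkingParallelPair.one).symm
  rw [this]
  infer_instance

end Groth.Agent.Lib.Helper51
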