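import Mathlib.AlgebraicGeometry.AffineScheme
import Mathlib.RingTheory.Ideal.Height
import Mathlib.RingTheory.Ideal.MinimalPrime.Basic

/-!
Codimension zero points of a scheme are dense (helper51).
-/

set_option autoImplicit false
universe u
open CategoryTheory AlgebraicGeometry

namespace Groth.Agent.Lib.Helper51

/-- Every nonempty open subset of a scheme contains a point whose local ring has dimension 0. -/
theorem exists_mem_ringKrullDim_stalk_eq_zero (U : Scheme.{u}) (O : U.Opens) (x : ↥U)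
    (hx : x ∈ O) : ∃ y ∈ O, ringKrullDim ↥(U.presheaf.stalk y) = 0 := by
  obtain ⟨V, hV, hxV, hVO⟩ := exists_isAffineOpen_mem_and_subset hx
  let P := hV.primeIdealOf ⟨x, hxV⟩
  obtain ⟨p, hp, _⟩ := Ideal.exists_minimalPrimes_le (I := ⊥) (J := P.asIdeal) bot_le
  have hpp : p.IsPrime := hp.1.1
  let Q : PrimeSpectrum Γ(U, V) := ⟨p, hpp⟩
  let y : ↥U := hV.fromSpec Q
  have hyV : y ∈ V := by
    have : y ∈ Set.range hV.fromSpec := ⟨Q, rfl⟩
    rw [hV.range_fromSpec] at this
    exact this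
  refine ⟨y, hVO hyV, ?_⟩
  have hloc := hV.isLocalization_stalk' Q hyV
  change ringKrullDim ↥(U.presheaf.stalk (hV.fromSpec Q)) = 0
  rw [@IsLocalization.AtPrime.ringKrullDim_eq_height _ _ p hpp _ _
    (TopCat.Presheaf.algebra_section_stalk U.presheaf (U := V) ⟨hV.fromSpec Q, hyV⟩) hloc]
  have : p.height = 0 := Ideal.height_eq_zero_iff.2 hp
  rw [this]; rfl

theorem dense_ringKrullDim_stalk_eq_zero (U : Scheme.{u}) :
    Dense {y : ↥U | ringKrullDim ↥(U.presheaf.stalk y) = 0} := by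
  rw [dense_iff_inter_open]
  rintro O hO ⟨x, hx⟩
  obtain ⟨y, hy, hy0⟩ := exists_mem_ringKrullDim_stalk_eq_zero U ⟨O, hO⟩ x hx
  exact ⟨y, hy, hy0⟩

end Groth.Agent.Lib.Helper51
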