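import Groth.Agent.Lib.Helper51.SchemeCoheight

set_option autoImplicit false
universe u
open CategoryTheory AlgebraicGeometry Topology TopologicalSpace Order

namespace Groth.Agent.Lib.Helper51.Coheight

/-- coheight does not increase along a map with the lifting property for strict upper bounds. -/
theorem coheight_apply_le_of_lifting {α β : Type*} [Preorder α] [Preorder β] (f : α → β)
    (h : ∀ a : α, ∀ b : β, f a < b → ∃ (a' : α), a < a' ∧ f a' = b) (a : α) :
    coheight (f a) ≤ coheight a := by
  refine coheight_le_iff'.mpr fun p hp ↦ ?_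
  induction p using RelSeries.inductionOn generalizing a with
  | singleton x => simp
  | cons p x hx ih =>
    simp only [RelSeries.head_cons] at hp
    obtain ⟨a', haa', ha'⟩ := h a p.head (by grind)
    grw [RelSeries.cons_length, Nat.cast_add, Nat.cast_one, ih a' ha'.symm]
    exact coheight_add_one_le haa'

theorem coheight_apply_le_of_flat {W U : Scheme.{u}} (φ : W ⟶ U) [Flat φ] (w : W) :
    coheight (φ w) ≤ coheight w := by
  refine coheight_apply_le_of_lifting (φ : W → U) ?_ w
  intro a b hab
  have h1 : b ⤳ φ a := hab.1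
  have h2 : ¬ φ a ⤳ b := hab.2
  obtain ⟨a', ha', rfl⟩ := Flat.generalizingMap (f := φ) h1
  exact ⟨a', ⟨ha', fun h => h2 (h.map φ.continuous)⟩, rfl⟩

theorem ringKrullDim_stalk_apply_le_of_flat {W U : Scheme.{u}} (φ : W ⟶ U) [Flat φ] (w : W) :
    ringKrullDim (U.presheaf.stalk (φ w)) ≤ ringKrullDim (W.presheaf.stalk w) := by
  rw [ringKrullDim_stalk_eq_coheight, ringKrullDim_stalk_eq_coheight]
  exact WithBot.coe_le_coe.2 (coheight_apply_le_of_flat φ w)

end Groth.Agent.Lib.Helper51.Coheight
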