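import Groth.Agent.Lib.Helper51.SchemeCoheight
import Mathlib.AlgebraicGeometry.Morphisms.Integral
import Mathlib.RingTheory.Ideal.GoingUp

set_option autoImplicit false
universe u
open CategoryTheory AlgebraicGeometry Topology TopologicalSpace

namespace Groth.Agent.Lib.Helper51.IntDim

theorem primeSpectrum_eq_of_le_of_comap_eq {R A : Type*} [CommRing R] [CommRing A] (g : R →+* A)
    (hg : g.IsIntegral) (p p' : PrimeSpectrum A) (h : p ≤ p')
    (hc : PrimeSpectrum.comap g p = PrimeSpectrum.comap g p') : p = p' := by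
  by_contra hne
  have hlt : p.asIdeal < p'.asIdeal := lt_of_le_of_ne h (fun h' => hne (PrimeSpectrum.ext h'))
  letI : Algebra R A := g.toAlgebra
  haveI : Algebra.IsIntegral R A := ⟨hg⟩
  have := Ideal.IsIntegral.comap_lt_comap (R := R) hlt
  have hc' : p.asIdeal.comap g = p'.asIdeal.comap g := congrArg PrimeSpectrum.asIdeal hc
  exact absurd hc' (ne_of_lt this)

theorem eq_of_specializes_of_integral_affine {X Y : Scheme.{u}} [IsAffine X] [IsAffine Y]
    (g : X ⟶ Y) [IsIntegralHom g] {a b : X} (h : b ⤳ a) (hab : g a = g b) : a = b := by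
  have hint : (g.appTop).hom.IsIntegral := IsIntegralHom.isIntegral_app g ⊤ (isAffineOpen_top Y)
  have hnat := Scheme.isoSpec_hom_naturality g
  have h1 : X.isoSpec.hom b ⤳ X.isoSpec.hom a := h.map X.isoSpec.hom.continuous
  have h2 : Spec.map g.appTop (X.isoSpec.hom a) = Spec.map g.appTop (X.isoSpec.hom b) := by
    have ha := congrArg (fun m => m a) (congrArg (fun m => m.base.hom) hnat)
    have hb := congrArg (fun m => m b) (congrArg (fun m => m.base.hom) hnat)
    simp only [Scheme.Hom.comp_base, TopCat.hom_comp, ContinuousMap.comp_apply] at ha hb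
    have hab' : (TopCat.Hom.hom g.base) a = (TopCat.Hom.hom g.base) b := hab
    exact ha.trans ((congrArg _ hab').trans hb.symm)
  have h3 : X.isoSpec.hom a = X.isoSpec.hom b := by
    refine (primeSpectrum_eq_of_le_of_comap_eq _ hint (X.isoSpec.hom b) (X.isoSpec.hom a)
      ((PrimeSpectrum.le_iff_specializes _ _).2 h1) h2.symm).symm
  have hinj : Function.Injective X.isoSpec.hom :=
    (TopCat.homeoOfIso (asIso X.isoSpec.hom.base)).injective
  exact hinj h3

theorem eq_of_specializes_of_integral {W U : Scheme.{u}} (φ : W ⟶ U) [IsIntegralHom φ]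
    {a b : W} (h : b ⤳ a) (hab : φ a = φ b) : a = b := by
  let i := U.affineCover.idx (φ a)
  let V : U.Opens := (U.affineCover.f i).opensRange
  have hV : IsAffineOpen V := isAffineOpen_opensRange _
  have haV : φ a ∈ V := U.affineCover.covers (φ a)
  have hbV : φ b ∈ V := hab ▸ haV
  haveI : IsAffine V.toScheme := hV
  haveI : IsAffine (φ ⁻¹ᵁ V).toScheme := hV.preimage φ
  let a' : (φ ⁻¹ᵁ V).toScheme := ⟨a, haV⟩
  let b' : (φ ⁻¹ᵁ V).toScheme := ⟨b, hbV⟩
  have h' : b' ⤳ a' := (subtype_specializes_iff b' a').2 h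
  have hab' : (φ ∣_ V) a' = (φ ∣_ V) b' := by
    apply Subtype.ext
    rw [morphismRestrict_base_coe, morphismRestrict_base_coe]
    exact hab
  have := eq_of_specializes_of_integral_affine (φ ∣_ V) h' hab'
  exact congrArg Subtype.val this

theorem strictMono_of_integral {W U : Scheme.{u}} (φ : W ⟶ U) [IsIntegralHom φ] :
    StrictMono (φ : W → U) := by
  intro a b hab
  have h1 : b ⤳ a := hab.1
  have h2 : ¬ a ⤳ b := hab.2
  refine ⟨h1.map φ.continuous, fun h3 => h2 ?_⟩
  have heq : φ a = φ b := (h3.antisymm (h1.map φ.continuous)).eq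
  rw [eq_of_specializes_of_integral φ h1 heq]

open Groth.Agent.Lib.Helper51.Coheight in
theorem topologicalKrullDim_le_of_integral {W U : Scheme.{u}} (φ : W ⟶ U)
    [IsIntegralHom φ] : topologicalKrullDim W ≤ topologicalKrullDim U := by
  rw [topologicalKrullDim_eq_iSup_coheight, topologicalKrullDim_eq_iSup_coheight]
  refine iSup_le fun w => le_trans ?_ (le_iSup _ (φ w))
  exact WithBot.coe_le_coe.2
    (Order.coheight_le_coheight_apply_of_strictMono _ (strictMono_of_integral φ) w)

theorem topologicalKrullDim_eq_iSup_height (V : Scheme.{u}) :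
    topologicalKrullDim V = ⨆ v : V, (Order.height v : WithBot ℕ∞) := by
  rw [topologicalKrullDim, Order.krullDim_eq_of_orderIso (irreducibleSetEquivPoints (α := V))]
  exact Order.krullDim_eq_iSup_height

theorem height_eq_of_integral {W U : Scheme.{u}} (φ : W ⟶ U) [IsIntegralHom φ] (w : W) :
    Order.height w = Order.height (φ w) := by
  refine Order.height_eq_of_strictMono _ (strictMono_of_integral φ) ?_ w
  intro a b hab
  have h1 : φ a ⤳ b := hab.1
  have h2 : ¬ b ⤳ φ a := hab.2
  obtain ⟨a', ha', rfl⟩ := (φ.isClosedMap.specializingMap) h1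
  exact ⟨a', ⟨ha', fun h => h2 (h.map φ.continuous)⟩, rfl⟩

theorem topologicalKrullDim_le_of_integral_of_surjective {W U : Scheme.{u}} (φ : W ⟶ U)
    [IsIntegralHom φ] [Surjective φ] : topologicalKrullDim U ≤ topologicalKrullDim W := by
  rw [topologicalKrullDim_eq_iSup_height, topologicalKrullDim_eq_iSup_height]
  refine iSup_le fun v => ?_
  obtain ⟨w, rfl⟩ := φ.surjective v
  rw [← height_eq_of_integral φ w]
  exact le_iSup (fun w : W => (Order.height w : WithBot ℕ∞)) w

end Groth.Agent.Lib.Helper51.IntDim
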