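import Groth.Agent.Lib.Helper51.SchemeCoheight
import Groth.Prelude.Def_Flat

set_option autoImplicit false
universe u
open CategoryTheory AlgebraicGeometry Topology TopologicalSpace

namespace Groth.Agent.Lib.Helper51.Coheight

theorem topologicalKrullDim_opens_eq_iSup_coheight (U : Scheme.{u}) (O : U.Opens) :
    topologicalKrullDim ((O : Set U) : Type u) =
      ⨆ v : O, (Order.coheight (v : U) : WithBot ℕ∞) := by
  show topologicalKrullDim ↥(O.toScheme) = _
  rw [topologicalKrullDim_eq_iSup_coheight]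
  refine iSup_congr fun v => ?_
  rw [← coheight_eq_of_isOpenImmersion O.ι]
  rfl

theorem localDim_eq_of_etale {W U : Scheme.{u}} (φ : W ⟶ U) [Etale φ] (w : W) :
    FlatMor.localDim W w = FlatMor.localDim U (φ w) := by
  unfold FlatMor.localDim
  apply le_antisymm
  · refine le_iInf fun O => ?_
    let O' : W.Opens := φ ⁻¹ᵁ O.1
    refine le_trans (iInf_le _ (⟨O', O.2⟩ : {O' : W.Opens // w ∈ O'})) ?_
    rw [topologicalKrullDim_opens_eq_iSup_coheight, topologicalKrullDim_opens_eq_iSup_coheight]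
    refine iSup_le fun v => ?_
    rw [coheight_eq_of_etale φ v.1]
    exact le_iSup (fun v : O.1 => (Order.coheight (v : U) : WithBot ℕ∞)) ⟨φ v.1, v.2⟩
  · refine le_iInf fun O' => ?_
    let O : U.Opens := ⟨φ '' (O'.1 : Set W), φ.isOpenMap _ O'.1.isOpen⟩
    refine le_trans (iInf_le _ (⟨O, ⟨w, O'.2, rfl⟩⟩ : {O : U.Opens // φ w ∈ O})) ?_
    rw [topologicalKrullDim_opens_eq_iSup_coheight, topologicalKrullDim_opens_eq_iSup_coheight]
    refine iSup_le fun v => ?_
    obtain ⟨v', hv', hv⟩ := v.2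
    rw [← hv, ← coheight_eq_of_etale φ v']
    exact le_iSup (fun v : O'.1 => (Order.coheight (v : W) : WithBot ℕ∞)) ⟨v', hv'⟩

end Groth.Agent.Lib.Helper51.Coheight
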