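import Groth.Agent.Lib.Helper51.SoberTop

/-!
Closures of images of quasi-compact morphisms into affine schemes are computed by specializations
(helper51).
-/

set_option autoImplicit false
universe u
open CategoryTheory CategoryTheory.Limits AlgebraicGeometry Opposite Topology TopologicalSpace

set_option backward.isDefEq.respectTransparency false

namespace Groth.Agent.Lib.Helper51.Sober

theorem exists_specializes_of_mem_closure_range_of_isAffine {W U : Scheme.{u}} [IsAffine W]
    [IsAffine U] (g : W ⟶ U) (y : ↥U) (hy : y ∈ closure (Set.range g)) : ∃ w : ↥W, g w ⤳ y := by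
  have hnat : ∀ w : ↥W, U.isoSpec.hom (g w) = Spec.map g.appTop (W.isoSpec.hom w) := by
    intro w
    rw [← Scheme.Hom.comp_apply, ← Scheme.Hom.comp_apply, Scheme.isoSpec_hom_naturality]
  have hy' : U.isoSpec.hom y ∈ closure (Set.range (Spec.map g.appTop)) := by
    refine map_mem_closure U.isoSpec.hom.continuous hy ?_
    rintro _ ⟨w, rfl⟩
    exact ⟨W.isoSpec.hom w, (hnat w).symm⟩
  obtain ⟨q, hq⟩ := exists_specializes_of_mem_closure_range_comap g.appTop.hom (U.isoSpec.hom y) hy'
  let q' : ↥(Spec Γ(W, ⊤)) := q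
  refine ⟨W.isoSpec.inv q', ?_⟩
  have h0 : W.isoSpec.hom (W.isoSpec.inv q') = q' := by
    rw [← Scheme.Hom.comp_apply, Iso.inv_hom_id]; rfl
  have h1 : U.isoSpec.hom (g (W.isoSpec.inv q')) = Spec.map g.appTop q' := by
    rw [hnat, h0]
  have h2 : U.isoSpec.hom (g (W.isoSpec.inv q')) ⤳ U.isoSpec.hom y := by
    rw [h1]; exact hq
  have h3 := h2.map U.isoSpec.inv.continuous
  have h4 : ∀ z : ↥U, U.isoSpec.inv (U.isoSpec.hom z) = z := by
    intro z
    rw [← Scheme.Hom.comp_apply, Iso.hom_inv_id]; rfl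
  rw [h4, h4] at h3
  exact h3

/-- For a morphism from a quasi-compact scheme to an affine scheme, points in the closure of the
image are specializations of points of the image. -/
theorem exists_specializes_of_mem_closure_range {W U : Scheme.{u}} [CompactSpace ↥W] [IsAffine U]
    (g : W ⟶ U) (y : ↥U) (hy : y ∈ closure (Set.range g)) : ∃ w : ↥W, g w ⤳ y := by
  let 𝒰 := W.affineCover.finiteSubcover
  have hr : Set.range g = ⋃ i : 𝒰.I₀, Set.range (𝒰.f i ≫ g) := by
    ext z
    simp only [Set.mem_range, Set.mem_iUnion]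
    constructor
    · rintro ⟨w, rfl⟩
      obtain ⟨i, x, rfl⟩ := 𝒰.exists_eq w
      exact ⟨i, x, rfl⟩
    · rintro ⟨i, x, rfl⟩
      exact ⟨𝒰.f i x, rfl⟩
  rw [hr, closure_iUnion_of_finite] at hy
  simp only [Set.mem_iUnion] at hy
  obtain ⟨i, hi⟩ := hy
  have : IsAffine (𝒰.X i) := by
    show IsAffine (W.affineCover.X _)
    infer_instance
  obtain ⟨x, hx⟩ := exists_specializes_of_mem_closure_range_of_isAffine (𝒰.f i ≫ g) y hi
  exact ⟨𝒰.f i x, hx⟩

/-- Variant intersecting with a closed subset of the target. -/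
theorem exists_specializes_of_mem_closure_range_inter {W U : Scheme.{u}} [CompactSpace ↥W]
    [IsAffine U] (g : W ⟶ U) (C : Set ↥U) (hC : IsClosed C) (y : ↥U)
    (hy : y ∈ closure (Set.range g ∩ C)) : ∃ k ∈ Set.range g ∩ C, k ⤳ y := by
  let Zc : TopologicalSpace.Closeds ↥W := ⟨g ⁻¹' C, hC.preimage g.continuous⟩
  let I := Scheme.IdealSheafData.vanishingIdeal Zc
  have hrange : Set.range I.subschemeι = g ⁻¹' C := by
    rw [Scheme.IdealSheafData.range_subschemeι, Scheme.IdealSheafData.coe_support_vanishingIdeal]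
    rfl
  have hc : CompactSpace ↥I.subscheme := QuasiCompact.compactSpace_of_compactSpace I.subschemeι
  have hr2 : Set.range (I.subschemeι ≫ g) = Set.range g ∩ C := by
    rw [Scheme.Hom.comp_base, TopCat.coe_comp, Set.range_comp, hrange, Set.image_preimage_eq_inter_range,
      Set.inter_comm]
  rw [← hr2] at hy ⊢
  obtain ⟨w, hw⟩ := exists_specializes_of_mem_closure_range (I.subschemeι ≫ g) y hy
  exact ⟨_, ⟨w, rfl⟩, hw⟩

end Groth.Agent.Lib.Helper51.Sober
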