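import Mathlib

/-!
Topological lemmas for soberness of quotients by etale equivalence relations (helper51).
-/

set_option autoImplicit false
universe u
open CategoryTheory CategoryTheory.Limits AlgebraicGeometry Opposite Topology TopologicalSpace

namespace Groth.Agent.Lib.Helper51.Sober

/-- In a quasi-sober `T0` space every point has a maximal generization. -/
theorem exists_maximal_generization {C : Type*} [TopologicalSpace C] [QuasiSober C] [T0Space C]
    (c₀ : C) : ∃ η : C, η ⤳ c₀ ∧ ∀ c : C, c ⤳ η → c = η := by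
  have hirr := isIrreducible_irreducibleComponent (x := c₀)
  have hcl := isClosed_irreducibleComponent (x := c₀)
  obtain ⟨η, hη⟩ := QuasiSober.sober hirr hcl
  refine ⟨η, ?_, ?_⟩
  · have : c₀ ∈ closure {η} := by rw [hη.def]; exact mem_irreducibleComponent
    exact specializes_iff_mem_closure.2 this
  · intro c hc
    have h1 : irreducibleComponent c₀ ⊆ closure {c} := by
      rw [← hη.def]; exact specializes_iff_closure_subset.1 hc
    have h2 : closure {c} = irreducibleComponent c₀ :=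
      (irreducibleComponent_property c₀).2.2 _ isIrreducible_singleton.closure.isPreirreducible h1
    have h3 : IsGenericPoint c (irreducibleComponent c₀) := h2
    exact h3.eq hη

theorem mem_of_maximal {U : Type*} [TopologicalSpace U] [T0Space U] {F F' : Set U}
    (hF' : F'.Finite) (hsub : F ⊆ closure F') {u : U} (hu : u ∈ F)
    (hmax : ∀ v ∈ F', v ⤳ u → u ⤳ v) : u ∈ F' := by
  have h := hsub hu
  rw [← Set.biUnion_of_singleton F', hF'.closure_biUnion] at h
  simp only [Set.mem_iUnion, exists_prop] at h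
  obtain ⟨v, hv, huv⟩ := h
  have hvu : v ⤳ u := specializes_iff_mem_closure.2 huv
  have := ((hmax v hv hvu).antisymm hvu).eq
  rw [this]; exact hv

/-- The image of a `T0` space under an open continuous surjection with finite fibres is `T0`. -/
theorem t0Space_of_isOpenMap_of_finite_fibres {U P : Type*} [TopologicalSpace U]
    [TopologicalSpace P] [T0Space U] (p : U → P) (hc : Continuous p) (ho : IsOpenMap p)
    (hs : Function.Surjective p) (hfin : ∀ x, (p ⁻¹' {x}).Finite) : T0Space P := by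
  refine ⟨fun x x' hxx' => ?_⟩
  have hcl : closure (p ⁻¹' {x}) = closure (p ⁻¹' {x'}) := by
    rw [← ho.preimage_closure_eq_closure_preimage hc, ← ho.preimage_closure_eq_closure_preimage hc,
      inseparable_iff_closure_eq.1 hxx']
  obtain ⟨u₀, hu₀⟩ := hs x
  have hne : (p ⁻¹' {x} ∪ p ⁻¹' {x'}).Nonempty := ⟨u₀, Or.inl hu₀⟩
  letI := specializationPreorder U
  obtain ⟨u, hu, humax⟩ := ((hfin x).union (hfin x')).exists_maximal hne
  have hmax : ∀ v ∈ p ⁻¹' {x} ∪ p ⁻¹' {x'}, v ⤳ u → u ⤳ v := fun v hv hvu => humax hv hvu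
  rcases hu with hu | hu
  · have : u ∈ p ⁻¹' {x'} := mem_of_maximal (hfin x') (hcl ▸ subset_closure) hu
      (fun v hv => hmax v (Or.inr hv))
    exact hu.symm.trans this
  · have : u ∈ p ⁻¹' {x} := mem_of_maximal (hfin x) (hcl.symm ▸ subset_closure) hu
      (fun v hv => hmax v (Or.inl hv))
    exact this.symm.trans hu

/-- Quasi-soberness of the image of an open continuous surjection from a quasi-sober `T0` space,
given a basis of opens whose saturations have the property that closures are computed by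
specializations. -/
theorem quasiSober_of_isOpenMap {U P : Type*} [TopologicalSpace U] [TopologicalSpace P]
    [QuasiSober U] [T0Space U] (p : U → P) (hc : Continuous p) (ho : IsOpenMap p)
    (hs : Function.Surjective p)
    (hbasis : ∀ (V : Set U) (c : U), IsOpen V → c ∈ V → ∃ V' : Set U, IsOpen V' ∧ c ∈ V' ∧ V' ⊆ V ∧
      ∀ C : Set U, IsClosed C → ∀ y ∈ closure (p ⁻¹' (p '' V') ∩ C),
        ∃ k ∈ p ⁻¹' (p '' V') ∩ C, k ⤳ y) :
    QuasiSober P := by
  refine ⟨fun {T} hT hTc => ?_⟩
  have hCc : IsClosed (p ⁻¹' T) := hTc.preimage hc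
  obtain ⟨x₀, hx₀⟩ := hT.nonempty
  obtain ⟨c₀, rfl⟩ := hs x₀
  haveI : QuasiSober ↥(p ⁻¹' T) := hCc.isClosedEmbedding_subtypeVal.quasiSober
  obtain ⟨η', -, hη'max⟩ := exists_maximal_generization (⟨c₀, hx₀⟩ : ↥(p ⁻¹' T))
  have hηC : η'.1 ∈ p ⁻¹' T := η'.2
  have hmax : ∀ c ∈ p ⁻¹' T, c ⤳ η'.1 → c = η'.1 := by
    intro c hcC hcη
    have := hη'max ⟨c, hcC⟩ ((subtype_specializes_iff _ _).2 hcη)
    exact congrArg Subtype.val this
  refine ⟨p η'.1, ?_⟩
  show closure {p η'.1} = T
  apply Set.Subset.antisymm (hTc.closure_subset_iff.2 (Set.singleton_subset_iff.2 hηC))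
  by_contra hne
  obtain ⟨x, hxT, hx⟩ := Set.not_subset.1 hne
  obtain ⟨c, rfl⟩ := hs x
  have hDc : IsClosed (p ⁻¹' closure {p η'.1}) := isClosed_closure.preimage hc
  obtain ⟨V', hV'o, hcV', hV'D, hV'⟩ := hbasis (p ⁻¹' closure {p η'.1})ᶜ c hDc.isOpen_compl hx
  have h1 : p η'.1 ∈ closure (p '' V' ∩ T) := by
    rw [mem_closure_iff]
    intro o ho' hηo
    obtain ⟨z, hzT, hzo, hzV⟩ := hT.isPreirreducible o (p '' V') ho' (ho V' hV'o)
      ⟨p η'.1, hηC, hηo⟩ ⟨p c, hxT, c, hcV', rfl⟩
    exact ⟨z, hzo, hzV, hzT⟩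
  have h2 : η'.1 ∈ closure (p ⁻¹' (p '' V') ∩ p ⁻¹' T) := by
    have : p ⁻¹' (p '' V' ∩ T) = p ⁻¹' (p '' V') ∩ p ⁻¹' T := rfl
    rw [← this, ← ho.preimage_closure_eq_closure_preimage hc]
    exact h1
  obtain ⟨k, ⟨hk1, hkC⟩, hkη⟩ := hV' _ hCc _ h2
  have hkη' : k = η'.1 := hmax k hkC hkη
  obtain ⟨v, hvV', hv⟩ := hk1
  have : v ∈ (p ⁻¹' closure {p η'.1})ᶜ := hV'D hvV'
  apply this
  show p v ∈ closure {p η'.1}
  rw [hv, hkη']
  exact subset_closure rfl

/-- Points in the closure of the image of `Spec B ⟶ Spec A` are specializations of points of the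
image. -/
theorem exists_specializes_of_mem_closure_range_comap {A B : Type*} [CommRing A] [CommRing B]
    (f : A →+* B) (y : PrimeSpectrum A) (hy : y ∈ closure (Set.range (PrimeSpectrum.comap f))) :
    ∃ q : PrimeSpectrum B, PrimeSpectrum.comap f q ⤳ y := by
  rw [PrimeSpectrum.closure_range_comap] at hy
  have hle : RingHom.ker f ≤ y.asIdeal := hy
  obtain ⟨p, hp, hpy⟩ := Ideal.exists_minimalPrimes_le hle
  obtain ⟨p', hp', -, hpp'⟩ := Ideal.exists_comap_eq_of_mem_minimalPrimes f (I := ⊥) p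
    (by rwa [← RingHom.ker_eq_comap_bot])
  refine ⟨⟨p', hp'⟩, ?_⟩
  rw [← PrimeSpectrum.le_iff_specializes]
  show p'.comap f ≤ y.asIdeal
  rw [hpp']; exact hpy

end Groth.Agent.Lib.Helper51.Sober
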