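import Mathlib

/-!
Constructible sets descend along surjective spectral maps (helper51).
-/

set_option autoImplicit false
universe u
open Topology TopologicalSpace Set

namespace Groth.Agent.Lib.Helper51.SpecQuot

variable {V O : Type*} [TopologicalSpace V] [TopologicalSpace O]

/-- Constructible sets in a compact space are clopen in the constructible topology. -/
theorem isOpen_constructibleTopology_of_isConstructible [CompactSpace V] {s : Set V}
    (hs : IsConstructible s) :
    IsOpen[constructibleTopology V] s ∧ IsOpen[constructibleTopology V] sᶜ := by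
  induction hs using IsConstructible.empty_union_induction with
  | open_retrocompact U hUopen hUcomp =>
    have hUc : IsCompact U := hUcomp.isCompact
    refine ⟨hUc.isOpen_constructibleTopology_of_isOpen hUopen, ?_⟩
    exact IsCompact.isOpen_constructibleTopology_of_isClosed (by rwa [compl_compl])
      hUopen.isClosed_compl
  | union s hs t ht hs' ht' =>
    refine ⟨@IsOpen.union V s t (constructibleTopology V) hs'.1 ht'.1, ?_⟩
    rw [compl_union]
    exact @IsOpen.inter V (constructibleTopology V) _ _ hs'.2 ht'.2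
  | compl s hs hs' =>
    refine ⟨hs'.2, ?_⟩
    rw [compl_compl]; exact hs'.1

theorem compactSpace_constructibleTopology (X : Type*) [TopologicalSpace X] [CompactSpace X]
    [QuasiSober X] [PrespectralSpace X] [QuasiSeparatedSpace X] :
    @CompactSpace X (constructibleTopology X) :=
  @Function.Surjective.compactSpace (WithConstructibleTopology X) X _ (constructibleTopology X)
    WithTopology.ofTopology (WithTopology.continuous_ofTopology _) _
    (WithTopology.ofTopology_surjective _)

/-- The basic constructible sets `D \ K` with `D`, `K` compact open. -/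
def basic (O : Type*) [TopologicalSpace O] : Set (Set O) :=
  {N | ∃ D K : Set O, IsOpen D ∧ IsCompact D ∧ IsOpen K ∧ IsCompact K ∧ N = D \ K}

theorem basic_inter [QuasiSeparatedSpace O] {N₁ N₂ : Set O} (h₁ : N₁ ∈ basic O)
    (h₂ : N₂ ∈ basic O) : N₁ ∩ N₂ ∈ basic O := by
  obtain ⟨D₁, K₁, hD₁o, hD₁c, hK₁o, hK₁c, rfl⟩ := h₁
  obtain ⟨D₂, K₂, hD₂o, hD₂c, hK₂o, hK₂c, rfl⟩ := h₂
  refine ⟨D₁ ∩ D₂, K₁ ∪ K₂, hD₁o.inter hD₂o,
    QuasiSeparatedSpace.inter_isCompact _ _ hD₁o hD₁c hD₂o hD₂c, hK₁o.union hK₂o,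
    hK₁c.union hK₂c, ?_⟩
  ext z
  simp only [mem_inter_iff, mem_sdiff, mem_union, not_or]
  tauto

theorem basic_isConstructible [QuasiSeparatedSpace O] {N : Set O} (h : N ∈ basic O) :
    IsConstructible N := by
  obtain ⟨D, K, hDo, hDc, hKo, hKc, rfl⟩ := h
  exact (hDc.isConstructible hDo).sdiff (hKc.isConstructible hKo)

/-- Key step: a set whose preimage under a surjective spectral map is constructible is open in
the constructible topology. -/
theorem exists_basic_subset [CompactSpace V] [QuasiSober V] [PrespectralSpace V]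
    [QuasiSeparatedSpace V] [CompactSpace O] [PrespectralSpace O] [QuasiSeparatedSpace O]
    [T0Space O] (f : V → O) (hsurj : Function.Surjective f)
    (hf : ∀ K : Set O, IsOpen K → IsCompact K → IsOpen (f ⁻¹' K) ∧ IsCompact (f ⁻¹' K))
    (A : Set O) (hA : IsConstructible (f ⁻¹' A)) (x : O) (hx : x ∈ A) :
    ∃ N ∈ basic O, x ∈ N ∧ N ⊆ A := by
  by_contra hcon
  have hcon' : ∀ N ∈ basic O, x ∈ N → ¬ N ⊆ A := fun N hN hxN hNA => hcon ⟨N, hN, hxN, hNA⟩
  have hVc := compactSpace_constructibleTopology V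
  let ι := {N : Set O // N ∈ basic O ∧ x ∈ N}
  have huniv : (univ : Set O) ∈ basic O :=
    ⟨univ, ∅, isOpen_univ, isCompact_univ, isOpen_empty, isCompact_empty, by simp⟩
  haveI : Nonempty ι := ⟨⟨univ, huniv, mem_univ x⟩⟩
  let Z : ι → Set V := fun N => f ⁻¹' N.1 ∩ (f ⁻¹' A)ᶜ
  have hZcons : ∀ N : ι, IsConstructible (Z N) := by
    rintro ⟨N, ⟨D, K, hDo, hDc, hKo, hKc, rfl⟩, hxN⟩
    have h1 := hf D hDo hDc
    have h2 := hf K hKo hKc
    exact ((h1.2.isConstructible h1.1).sdiff (h2.2.isConstructible h2.1)).inter hA.compl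
  have hZcl : ∀ N : ι, IsClosed[constructibleTopology V] (Z N) := by
    intro N
    rw [← @isOpen_compl_iff V _ (constructibleTopology V)]
    exact (isOpen_constructibleTopology_of_isConstructible (hZcons N)).2
  have hZne : ∀ N : ι, (Z N).Nonempty := by
    intro N
    obtain ⟨y, hyN, hyA⟩ := not_subset.1 (hcon' N.1 N.2.1 N.2.2)
    obtain ⟨v, rfl⟩ := hsurj y
    exact ⟨v, hyN, hyA⟩
  have hdir : Directed (· ⊇ ·) Z := by
    intro N₁ N₂
    refine ⟨⟨N₁.1 ∩ N₂.1, basic_inter N₁.2.1 N₂.2.1, N₁.2.2, N₂.2.2⟩, ?_, ?_⟩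
    · intro v hv; exact ⟨hv.1.1, hv.2⟩
    · intro v hv; exact ⟨hv.1.2, hv.2⟩
  obtain ⟨v, hv⟩ := @IsCompact.nonempty_iInter_of_directed_nonempty_isCompact_isClosed V
    (constructibleTopology V) ι _ Z hdir hZne
    (fun N => @IsClosed.isCompact V (constructibleTopology V) _ hVc (hZcl N)) hZcl
  rw [mem_iInter] at hv
  have hvA : f v ∉ A := (hv ⟨univ, huniv, mem_univ x⟩).2
  have hvN : ∀ N ∈ basic O, x ∈ N → f v ∈ N := fun N hN hxN => (hv ⟨N, hN, hxN⟩).1
  have hins : Inseparable (f v) x := by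
    rw [inseparable_iff_forall_isOpen]
    intro s hs
    constructor
    · intro hfs
      obtain ⟨D, ⟨hDo, hDc⟩, hfD, hDs⟩ :=
        PrespectralSpace.isTopologicalBasis.exists_subset_of_mem_open hfs hs
      by_contra hxs
      have hxD : x ∉ D := fun h => hxs (hDs h)
      have : f v ∈ univ \ D := hvN _ ⟨univ, D, isOpen_univ, isCompact_univ, hDo, hDc, rfl⟩
        ⟨mem_univ x, hxD⟩
      exact this.2 hfD
    · intro hxs
      obtain ⟨D, ⟨hDo, hDc⟩, hxD, hDs⟩ :=
        PrespectralSpace.isTopologicalBasis.exists_subset_of_mem_open hxs hs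
      have : f v ∈ D \ ∅ := hvN _ ⟨D, ∅, hDo, hDc, isOpen_empty, isCompact_empty, rfl⟩
        ⟨hxD, Set.notMem_empty x⟩
      exact hDs this.1
  exact hvA (hins.eq ▸ hx)

/-- Constructible sets descend along surjective spectral maps of spectral spaces. -/
theorem isConstructible_of_preimage [CompactSpace V] [QuasiSober V] [PrespectralSpace V]
    [QuasiSeparatedSpace V] [CompactSpace O] [QuasiSober O] [PrespectralSpace O]
    [QuasiSeparatedSpace O] [T0Space O] (f : V → O) (hsurj : Function.Surjective f)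
    (hf : ∀ K : Set O, IsOpen K → IsCompact K → IsOpen (f ⁻¹' K) ∧ IsCompact (f ⁻¹' K))
    (A : Set O) (hA : IsConstructible (f ⁻¹' A)) : IsConstructible A := by
  have hOc := compactSpace_constructibleTopology O
  have hex : ∀ z : O, ∃ M ∈ basic O, z ∈ M ∧ (M ⊆ A ∨ M ⊆ Aᶜ) := by
    intro z
    by_cases hz : z ∈ A
    · obtain ⟨N, hN, hzN, hNA⟩ := exists_basic_subset f hsurj hf A hA z hz
      exact ⟨N, hN, hzN, Or.inl hNA⟩
    · obtain ⟨N, hN, hzN, hNA⟩ := exists_basic_subset f hsurj hf Aᶜ
        (by rw [preimage_compl]; exact hA.compl) z hz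
      exact ⟨N, hN, hzN, Or.inr hNA⟩
  choose M hMB hzM hM using hex
  obtain ⟨t, ht⟩ := @IsCompact.elim_finite_subcover O (constructibleTopology O) univ O
    (@isCompact_univ O (constructibleTopology O) hOc) M
    (fun z => (isOpen_constructibleTopology_of_isConstructible (basic_isConstructible (hMB z))).1)
    (fun z _ => mem_iUnion.2 ⟨z, hzM z⟩)
  have hfin : {z : O | z ∈ t ∧ M z ⊆ A}.Finite := t.finite_toSet.subset (fun z hz => hz.1)
  have hAeq : A = ⋃ z ∈ {z : O | z ∈ t ∧ M z ⊆ A}, M z := by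
    apply Subset.antisymm
    · intro a ha
      obtain ⟨z, hzt, haz⟩ := mem_iUnion₂.1 (ht (mem_univ a))
      refine mem_biUnion ⟨hzt, ?_⟩ haz
      rcases hM z with h | h
      · exact h
      · exact absurd ha (h haz)
    · intro a ha
      obtain ⟨z, hz, haz⟩ := mem_iUnion₂.1 ha
      exact hz.2 haz
  rw [hAeq]
  exact IsConstructible.biUnion hfin (fun z _ => basic_isConstructible (hMB z))

end Groth.Agent.Lib.Helper51.SpecQuot

namespace Groth.Agent.Lib.Helper51.SpecQuot

/-- An open quotient of a compact prespectral quasi-separated space such that saturations of compact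
opens are compact is again compact, prespectral, quasi-separated, and the quotient map is
spectral. -/
theorem quot_props {U O : Type*} [TopologicalSpace U] [TopologicalSpace O] [CompactSpace U]
    [PrespectralSpace U] [QuasiSeparatedSpace U] (f : U → O) (hcont : Continuous f)
    (hopen : IsOpenMap f) (hsurj : Function.Surjective f)
    (H : ∀ K : Set U, IsOpen K → IsCompact K → IsCompact (f ⁻¹' (f '' K))) :
    CompactSpace O ∧
      (∀ K : Set O, IsOpen K → IsCompact K → IsOpen (f ⁻¹' K) ∧ IsCompact (f ⁻¹' K)) ∧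
      QuasiSeparatedSpace O ∧ PrespectralSpace O := by
  have hcompact : CompactSpace O := by
    constructor
    rw [← hsurj.range_eq]
    exact isCompact_range hcont
  have hpre : ∀ O' : Set O, IsOpen O' → IsCompact O' → IsCompact (f ⁻¹' O') := by
    intro O' hO hOc
    have hex : ∀ x : O, x ∈ O' → ∃ K : Set U, IsOpen K ∧ IsCompact K ∧ x ∈ f '' K ∧
        K ⊆ f ⁻¹' O' := by
      intro x hx
      obtain ⟨u, rfl⟩ := hsurj x
      obtain ⟨K, ⟨hKo, hKc⟩, huK, hKO⟩ :=
        PrespectralSpace.isTopologicalBasis.exists_subset_of_mem_open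
          (show u ∈ f ⁻¹' O' from hx) (hO.preimage hcont)
      exact ⟨K, hKo, hKc, ⟨u, huK, rfl⟩, hKO⟩
    choose! K hKo hKc hxK hKO using hex
    obtain ⟨b', hb'O, hb'fin, hb'⟩ := hOc.elim_finite_subcover_image
      (b := O') (c := fun x => f '' K x)
      (fun x hx => hopen _ (hKo x hx)) (fun x hx => Set.mem_biUnion hx (hxK x hx))
    have heq : f ⁻¹' O' = ⋃ x ∈ b', f ⁻¹' (f '' K x) := by
      apply Set.Subset.antisymm
      · intro u hu
        obtain ⟨x, hx, hux⟩ := Set.mem_iUnion₂.1 (hb' hu)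
        exact Set.mem_biUnion hx hux
      · intro u hu
        obtain ⟨x, hx, hux⟩ := Set.mem_iUnion₂.1 hu
        obtain ⟨v, hv, hvu⟩ := hux
        show f u ∈ O'
        rw [← hvu]
        exact hKO x (hb'O hx) hv
    rw [heq]
    exact hb'fin.isCompact_biUnion (fun x hx => H _ (hKo x (hb'O hx)) (hKc x (hb'O hx)))
  have hqsep : QuasiSeparatedSpace O := by
    refine ⟨fun O₁ O₂ h1 h1c h2 h2c => ?_⟩
    have h := QuasiSeparatedSpace.inter_isCompact _ _ (h1.preimage hcont) (hpre O₁ h1 h1c)
      (h2.preimage hcont) (hpre O₂ h2 h2c)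
    rw [← Set.preimage_inter] at h
    have h' := h.image hcont
    rwa [Set.image_preimage_eq _ hsurj] at h'
  have hpresp : PrespectralSpace O := by
    refine PrespectralSpace.of_isTopologicalBasis
      (B := {O' | ∃ K : Set U, IsOpen K ∧ IsCompact K ∧ O' = f '' K}) ?_ ?_
    · refine isTopologicalBasis_of_isOpen_of_nhds ?_ ?_
      · rintro _ ⟨K, hKo, -, rfl⟩
        exact hopen _ hKo
      · intro x O' hx hO
        obtain ⟨u, rfl⟩ := hsurj x
        obtain ⟨K, ⟨hKo, hKc⟩, huK, hKO⟩ :=
          PrespectralSpace.isTopologicalBasis.exists_subset_of_mem_open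
            (show u ∈ f ⁻¹' O' from hx) (hO.preimage hcont)
        refine ⟨_, ⟨K, hKo, hKc, rfl⟩, ⟨u, huK, rfl⟩, ?_⟩
        rintro _ ⟨v, hv, rfl⟩
        exact hKO hv
    · rintro _ ⟨K, -, hKc, rfl⟩
      exact hKc.image hcont
  exact ⟨hcompact, fun K hK hKc => ⟨hK.preimage hcont, hpre K hK hKc⟩, hqsep, hpresp⟩

end Groth.Agent.Lib.Helper51.SpecQuot
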