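import Groth.Agent.Lib.Helper51.LinTop

/-!
Helper lemmas on taut ring maps (helper51).
-/

set_option autoImplicit false
set_option linter.unusedSectionVars false
universe u v w

open Topology Filter

namespace Groth.Agent.Lib.Helper51

section ClosurePow

variable {B : Type v} [CommRing B] [TopologicalSpace B] [IsTopologicalRing B]

/-- The product of closures of two ideals is in the closure of the product. -/
theorem ideal_closure_mul_le (K L : Ideal B) : K.closure * L.closure ≤ (K * L).closure := by
  rw [Ideal.mul_le]
  intro x hx y hy
  have hc : Continuous (fun p : B × B => p.1 * p.2) := continuous_mul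
  have hmem : (x, y) ∈ closure ((K : Set B) ×ˢ (L : Set B)) := by
    rw [closure_prod_eq]; exact ⟨hx, hy⟩
  have := map_mem_closure hc hmem (t := ((K * L : Ideal B) : Set B))
    (fun p hp => Ideal.mul_mem_mul hp.1 hp.2)
  exact this

/-- Powers of the closure of an ideal lie in the closure of the powers. -/
theorem ideal_closure_pow_le (K : Ideal B) (n : ℕ) : K.closure ^ n ≤ (K ^ n).closure := by
  induction n with
  | zero =>
    simp only [pow_zero, Ideal.one_eq_top]
    intro x _
    exact subset_closure (by simp)
  | succ n ih =>
    rw [pow_succ, pow_succ]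
    exact (Ideal.mul_mono_left ih).trans (ideal_closure_mul_le _ _)

theorem ideal_closure_mono {K L : Ideal B} (h : K ≤ L) : K.closure ≤ L.closure :=
  fun _ hx => closure_mono (show (K : Set B) ⊆ L from h) hx

theorem ideal_le_closure (K : Ideal B) : K ≤ K.closure := fun _ hx => subset_closure hx

end ClosurePow

section Taut

variable {A : Type u} [CommRing A] [TopologicalSpace A] [IsTopologicalRing A]
variable {B : Type v} [CommRing B] [TopologicalSpace B] [IsTopologicalRing B]

/-- The third condition of tautness is automatic for a continuous map to a linearly topologized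
ring. -/
theorem exists_open_ideal_closure_map_subset [IsLinearTopology B B] {φ : A →+* B}
    (hφ : Continuous φ) {U : Set B} (hU : U ∈ 𝓝 (0 : B)) :
    ∃ I : Ideal A, IsOpen (I : Set A) ∧ closure ((I.map φ : Ideal B) : Set B) ⊆ U := by
  obtain ⟨J, hJ, hJU⟩ := IsLinearTopology.hasBasis_open_ideal.mem_iff.1 hU
  refine ⟨J.comap φ, ?_, ?_⟩
  · exact hJ.preimage hφ
  · exact (closure_ideal_le_of_isOpen (Ideal.map_comap_le) hJ).trans hJU

/-- If the closure of `I.map φ` is open and `I ≤ I'` then the closure of `I'.map φ` is open. -/
theorem isOpen_closure_map_of_le {φ : A →+* B} {I I' : Ideal A} (h : I ≤ I')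
    (hI : IsOpen (closure ((I.map φ : Ideal B) : Set B))) :
    IsOpen (closure ((I'.map φ : Ideal B) : Set B)) := by
  have h1 : (I.map φ).closure ≤ (I'.map φ).closure := ideal_closure_mono (Ideal.map_mono h)
  exact ideal_isOpen_mono (I := (I.map φ).closure) (J := (I'.map φ).closure) h1 hI

end Taut

end Groth.Agent.Lib.Helper51
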