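import Groth.Agent.Lib.Helper51.SuccApprox
import Groth.Agent.Lib.Helper51.Taut2

/-!
Taut maps with dense image from a complete first countable ring (helper51).
-/

set_option autoImplicit false
set_option linter.unusedSectionVars false
universe u v w

open Topology Filter

namespace Groth.Agent.Lib.Helper51

section Dense

variable {A : Type u} [CommRing A] [TopologicalSpace A] [IsTopologicalRing A]
variable {B : Type v} [CommRing B] [TopologicalSpace B] [IsTopologicalRing B] [IsLinearTopology B B]

/-- With dense image, the extension `I B` is contained in `φ I + L` for any open ideal `L`. -/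
theorem exists_sub_mem_of_mem_map {φ : A →+* B} (hd : DenseRange φ) (I : Ideal A)
    {L : Ideal B} (hL : IsOpen (L : Set B)) {z : B} (hz : z ∈ I.map φ) :
    ∃ x ∈ I, z - φ x ∈ L := by
  unfold Ideal.map at hz
  induction hz using Submodule.span_induction with
  | mem z hz =>
    obtain ⟨x, hx, rfl⟩ := hz
    exact ⟨x, hx, by simp⟩
  | zero => exact ⟨0, I.zero_mem, by simp⟩
  | add u v _ _ hu hv =>
    obtain ⟨x, hx, hxu⟩ := hu
    obtain ⟨x', hx', hxv⟩ := hv
    refine ⟨x + x', I.add_mem hx hx', ?_⟩
    have : u + v - φ (x + x') = (u - φ x) + (v - φ x') := by rw [map_add]; ring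
    rw [this]
    exact L.add_mem hxu hxv
  | smul b u _ hu =>
    obtain ⟨x, hx, hxu⟩ := hu
    -- approximate `b` by `φ c` modulo `L`
    have hnb : (fun w => b - w) ⁻¹' (L : Set B) ∈ 𝓝 b := by
      have hc : Continuous (fun w : B => b - w) := continuous_const.sub continuous_id
      apply hc.continuousAt.preimage_mem_nhds
      simp only [sub_self]
      exact hL.mem_nhds L.zero_mem
    obtain ⟨w, hw⟩ := hd.inter_nhds_nonempty hnb
    obtain ⟨c, hc⟩ : w ∈ Set.range φ := hw.1
    have hw' : b - φ c ∈ L := by rw [hc]; exact hw.2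
    refine ⟨c * x, I.mul_mem_left c hx, ?_⟩
    have : b • u - φ (c * x) = b * (u - φ x) + (b - φ c) * φ x := by
      rw [map_mul, smul_eq_mul]; ring
    rw [this]
    exact L.add_mem (L.mul_mem_left _ hxu) (L.mul_mem_right _ hw')

/-- With dense image, `closure (I B) ⊆ φ I + L` for any open ideal `L`. -/
theorem exists_sub_mem_of_mem_closure_map {φ : A →+* B} (hd : DenseRange φ) (I : Ideal A)
    {L : Ideal B} (hL : IsOpen (L : Set B)) {y : B} (hy : y ∈ (I.map φ).closure) :
    ∃ x ∈ I, y - φ x ∈ L := by
  have hy' : y ∈ closure ((I.map φ : Ideal B) : Set B) := hy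
  rw [mem_closure_ideal_iff] at hy'
  obtain ⟨z, hz, l, hl, rfl⟩ := Submodule.mem_sup.1 (hy' L hL)
  obtain ⟨x, hx, hxz⟩ := exists_sub_mem_of_mem_map hd I hL hz
  refine ⟨x, hx, ?_⟩
  have : z + l - φ x = (z - φ x) + l := by ring
  rw [this]
  exact L.add_mem hxz hl

end Dense

end Groth.Agent.Lib.Helper51

namespace Groth.Agent.Lib.Helper51

section Main

variable {A : Type u} [CommRing A] [UniformSpace A] [IsUniformAddGroup A] [IsTopologicalRing A]
  [IsLinearTopology A A] [T2Space A] [CompleteSpace A]
variable {B : Type v} [CommRing B] [UniformSpace B] [IsUniformAddGroup B] [IsTopologicalRing B]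
  [IsLinearTopology B B] [T2Space B]

/-- Key step: for a taut map with dense image out of a complete ring with an antitone basis `x` of
open ideals, `closure (x k B) = φ (x k)`. -/
theorem exists_preimage_of_mem_closure_map {φ : A →+* B} (hφ : LinTop.IsTaut φ)
    (hd : DenseRange φ) (x : ℕ → Ideal A) (hxo : ∀ k, IsOpen (x k : Set A))
    (hbasis : (𝓝 (0 : A)).HasAntitoneBasis (fun k => (x k : Set A))) (k₀ : ℕ) {y : B}
    (hy : y ∈ ((x k₀).map φ).closure) : ∃ a ∈ x k₀, φ a = y := by
  obtain ⟨hc, h2, h3⟩ := hφ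
  have hanti : ∀ {k k' : ℕ}, k ≤ k' → x k' ≤ x k := fun h => hbasis.antitone h
  have key := exists_preimage_of_step (φ.toAddMonoidHom) hc
    (fun k => (x (k₀ + k)).toAddSubgroup)
    (fun k => (((x (k₀ + k)).map φ).closure).toAddSubgroup)
    (fun k k' hkk' => hanti (Nat.add_le_add_left hkk' k₀))
    (ideal_isClosed_of_isOpen (hxo (k₀ + 0)))
    (by
      intro U hU
      obtain ⟨k, -, hk⟩ := hbasis.toHasBasis.mem_iff.1 hU
      exact ⟨k, fun z hz => hk (hanti (Nat.le_add_left k k₀) hz)⟩)
    (by
      intro U hU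
      obtain ⟨I', hI'o, hI'U⟩ := h3 U hU
      obtain ⟨k, -, hk⟩ := hbasis.toHasBasis.mem_iff.1 (hI'o.mem_nhds I'.zero_mem)
      refine ⟨k, fun m hm z hz => hI'U ?_⟩
      have h4 : x (k₀ + m) ≤ I' := fun w hw => hk (hanti (show k ≤ k₀ + m by omega) hw)
      exact ideal_closure_mono (Ideal.map_mono h4) hz)
    (by
      intro k y hy
      exact exists_sub_mem_of_mem_closure_map hd (x (k₀ + k)) (h2 _ (hxo (k₀ + (k + 1)))) hy)
    (y := y) hy
  obtain ⟨a, ha, hay⟩ := key
  exact ⟨a, ha, hay⟩

/-- Stacks: a taut map with dense image from a complete ring with a countable fundamental system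
of open ideals to a Hausdorff ring is surjective and open, and the target is complete. -/
theorem surjective_isOpenQuotientMap_completeSpace (hA : (𝓝 (0 : A)).IsCountablyGenerated)
    {φ : A →+* B} (hφ : LinTop.IsTaut φ) (hd : DenseRange φ) :
    Function.Surjective φ ∧ IsOpenQuotientMap φ ∧ CompleteSpace B := by
  have hφ' := hφ
  obtain ⟨hc, h2, h3⟩ := hφ
  obtain ⟨x, hxo, hbasis⟩ :=
    (IsLinearTopology.hasBasis_open_ideal (R := A)).exists_antitone_subbasis
  have hanti : ∀ {k k' : ℕ}, k ≤ k' → x k' ≤ x k := fun h => hbasis.antitone h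
  have key : ∀ (k₀ : ℕ) {y : B}, y ∈ ((x k₀).map φ).closure → ∃ a ∈ x k₀, φ a = y :=
    fun k₀ _ hy => exists_preimage_of_mem_closure_map hφ' hd x hxo hbasis k₀ hy
  have hJo : ∀ k, IsOpen ((((x k).map φ).closure : Ideal B) : Set B) := fun k => h2 _ (hxo k)
  -- surjectivity
  have hsurj : Function.Surjective φ := by
    intro b
    have hnb : (fun w => b - w) ⁻¹' ((((x 0).map φ).closure : Ideal B) : Set B) ∈ 𝓝 b := by
      have hcont : Continuous (fun w : B => b - w) := continuous_const.sub continuous_id
      apply hcont.continuousAt.preimage_mem_nhds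
      simp only [sub_self]
      exact (hJo 0).mem_nhds (Ideal.zero_mem _)
    obtain ⟨w, hw⟩ := hd.inter_nhds_nonempty hnb
    obtain ⟨c, hcw⟩ : w ∈ Set.range φ := hw.1
    have hw' : b - φ c ∈ ((x 0).map φ).closure := by rw [hcw]; exact hw.2
    obtain ⟨a, -, ha⟩ := key 0 hw'
    exact ⟨c + a, by rw [map_add, ha]; ring⟩
  -- openness
  have hopen : IsOpenMap φ := by
    rw [isOpenMap_iff_nhds_le]
    intro a S hS
    have hS' : φ ⁻¹' S ∈ 𝓝 a := hS
    have hcont : Continuous (fun z : A => a + z) := continuous_const.add continuous_id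
    have h0 : (fun z : A => a + z) ⁻¹' (φ ⁻¹' S) ∈ 𝓝 (0 : A) := by
      apply hcont.continuousAt.preimage_mem_nhds
      simpa using hS'
    obtain ⟨k, -, hk⟩ := hbasis.toHasBasis.mem_iff.1 h0
    have hnb : (fun w => w - φ a) ⁻¹' ((((x k).map φ).closure : Ideal B) : Set B) ∈ 𝓝 (φ a) := by
      have hcont' : Continuous (fun w : B => w - φ a) := continuous_id.sub continuous_const
      apply hcont'.continuousAt.preimage_mem_nhds
      simp only [sub_self]
      exact (hJo k).mem_nhds (Ideal.zero_mem _)
    refine Filter.mem_of_superset hnb ?_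
    intro w hw
    obtain ⟨t, ht, htw⟩ := key k (show w - φ a ∈ ((x k).map φ).closure from hw)
    have h5 : a + t ∈ φ ⁻¹' S := hk ht
    have h6 : φ (a + t) = w := by rw [map_add, htw]; ring
    rw [← h6]; exact h5
  refine ⟨hsurj, ⟨hsurj, hc, hopen⟩, ?_⟩
  -- completeness
  have hBcg : (𝓝 (0 : B)).IsCountablyGenerated := by
    have hB : (𝓝 (0 : B)).HasBasis (fun _ : ℕ => True)
        (fun n => closure (((x n).map φ : Ideal B) : Set B)) := by
      constructor
      intro U
      constructor
      · intro hU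
        obtain ⟨I, hI, hIU⟩ := h3 U hU
        obtain ⟨n, -, hn⟩ := hbasis.toHasBasis.mem_iff.1 (hI.mem_nhds I.zero_mem)
        refine ⟨n, trivial, (closure_mono ?_).trans hIU⟩
        exact Ideal.map_mono (show x n ≤ I from hn)
      · rintro ⟨n, -, hn⟩
        exact Filter.mem_of_superset ((hJo n).mem_nhds (subset_closure (Ideal.zero_mem _))) hn
    exact hB.isCountablyGenerated
  have hUcg : (uniformity B).IsCountablyGenerated := IsUniformAddGroup.uniformity_countably_generated
  refine UniformSpace.complete_of_convergent_controlled_sequences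
    (fun N => {p : B × B | p.2 - p.1 ∈ ((x N).map φ).closure}) (fun N => ?_) (fun u hu => ?_)
  · rw [uniformity_eq_comap_nhds_zero B]
    exact ⟨_, (hJo N).mem_nhds (Ideal.zero_mem _), fun p hp => hp⟩
  · -- lift the sequence
    have hdiff : ∀ k, u (k + 1) - u k ∈ ((x k).map φ).closure :=
      fun k => hu k k (k + 1) le_rfl (Nat.le_succ k)
    have hch : ∀ k, ∃ t ∈ x k, φ t = u (k + 1) - u k := fun k => key k (hdiff k)
    choose t htx htu using hch
    obtain ⟨a₀, ha₀⟩ := hsurj (u 0)
    set s : ℕ → A := fun K => a₀ + ∑ k ∈ Finset.range K, t k with hs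
    have hsK : ∀ K, φ (s K) = u K := by
      intro K
      induction K with
      | zero => simp [hs, ha₀]
      | succ K ih =>
        have : s (K + 1) = s K + t K := by
          simp only [hs, Finset.sum_range_succ]; ring
        rw [this, map_add, ih, htu]; ring
    have hcs : CauchySeq s := by
      apply cauchySeq_of_sub_mem (fun k => (x k).toAddSubgroup) (fun k k' h => hanti h)
      · intro U hU
        obtain ⟨k, -, hk⟩ := hbasis.toHasBasis.mem_iff.1 hU
        exact ⟨k, hk⟩
      · intro n
        have : s (n + 1) - s n = t n := by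
          simp only [hs, Finset.sum_range_succ]; ring
        rw [this]; exact htx n
    obtain ⟨a, ha⟩ := cauchySeq_tendsto_of_complete hcs
    refine ⟨φ a, ?_⟩
    have h7 : Tendsto (fun K => φ (s K)) atTop (𝓝 (φ a)) := (hc.tendsto a).comp ha
    simpa [hsK] using h7

end Main

end Groth.Agent.Lib.Helper51
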