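import Groth.Agent.Lib.Helper51.Taut2
import Groth.Agent.Lib.Helper51.Adic

/-!
Taut faithfully flat descent (helper51).
-/

set_option autoImplicit false
set_option linter.unusedSectionVars false
universe u v w

open Topology Filter

namespace Groth.Agent.Lib.Helper51

section

variable {A : Type u} [CommRing A] [TopologicalSpace A] [IsTopologicalRing A]
variable {B : Type v} [CommRing B] [TopologicalSpace B] [IsTopologicalRing B]

/-- In the taut faithfully flat situation an open ideal is recovered from the closure of its
extension. -/
theorem comap_closure_map_eq {φ : A →+* B} (hφ : LinTop.IsTautFFlat φ) {I : Ideal A}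
    (hI : IsOpen (I : Set A)) : ((I.map φ).closure).comap φ = I := by
  apply le_antisymm
  · intro x hx
    rw [Ideal.mem_comap] at hx
    have hinj := (hφ.2 I hI).injective
    have h0 : LinTop.descentMap φ I (Ideal.Quotient.mk I x) = 0 := by
      unfold LinTop.descentMap
      rw [Ideal.quotientMap_mk, Ideal.Quotient.eq_zero_iff_mem]
      exact hx
    have h1 : Ideal.Quotient.mk I x = 0 := hinj (by rw [h0, map_zero])
    exact Ideal.Quotient.eq_zero_iff_mem.1 h1
  · exact Ideal.le_comap_map.trans (Ideal.comap_mono (ideal_le_closure _))

/-- Consequence: if `closure (I' B) ⊆ closure (I B)` with `I` open then `I' ≤ I`. -/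
theorem le_of_closure_map_le {φ : A →+* B} (hφ : LinTop.IsTautFFlat φ) {I I' : Ideal A}
    (hI : IsOpen (I : Set A)) (h : (I'.map φ) ≤ (I.map φ).closure) : I' ≤ I := by
  rw [← comap_closure_map_eq hφ hI]
  exact Ideal.le_comap_map.trans (Ideal.comap_mono h)

end

end Groth.Agent.Lib.Helper51
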