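import Groth.Agent.Lib.Helper51.TautFF
import Groth.Agent.Lib.Helper51.FGAdic

/-!
Taut faithfully flat descent of adicness (helper51).
-/

set_option autoImplicit false
set_option linter.unusedSectionVars false
universe u v w

open Topology Filter

namespace Groth.Agent.Lib.Helper51

section

variable {A : Type u} [CommRing A] [TopologicalSpace A] [IsTopologicalRing A] [IsLinearTopology A A]
variable {B : Type v} [CommRing B] [TopologicalSpace B] [IsTopologicalRing B]

/-- If an open ideal `N` of `B` lies in the closure of `M B`, then the closure of `M` is open. -/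
theorem isOpen_closure_of_le_closure_map {φ : A →+* B} (hφ : LinTop.IsTautFFlat φ)
    (M : Ideal A) {N : Ideal B} (hN : IsOpen (N : Set B)) (hNM : N ≤ (M.map φ).closure) :
    IsOpen (closure ((M : Ideal A) : Set A)) := by
  obtain ⟨hc, h2, h3⟩ := hφ.1
  obtain ⟨I'', hI''o, hI''⟩ := h3 _ (hN.mem_nhds N.zero_mem)
  have hle : I'' ≤ M.closure := by
    intro x hx
    change x ∈ closure ((M : Ideal A) : Set A)
    rw [mem_closure_ideal_iff]
    intro L hL
    have hopen : IsOpen ((M ⊔ L : Ideal A) : Set A) := ideal_isOpen_mono le_sup_right hL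
    have hle2 : I''.map φ ≤ ((M ⊔ L).map φ).closure := by
      intro y hy
      have h8 : y ∈ (M.map φ).closure := hNM (hI'' (subset_closure hy))
      exact ideal_closure_mono (Ideal.map_mono le_sup_left) h8
    exact le_of_closure_map_le hφ hopen hle2 hx
  exact ideal_isOpen_mono (I := I'') (J := M.closure) hle hI''o

/-- Elements of an extended ideal come from finitely generated subideals. -/
theorem exists_fg_le_of_mem_map {R : Type u} {S : Type v} [CommRing R] [CommRing S]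
    (φ : R →+* S) (I₀ : Ideal R) {u : S} (hu : u ∈ I₀.map φ) :
    ∃ I' : Ideal R, I'.FG ∧ I' ≤ I₀ ∧ u ∈ I'.map φ := by
  unfold Ideal.map at hu
  induction hu using Submodule.span_induction with
  | mem u hu =>
    obtain ⟨x, hx, rfl⟩ := hu
    refine ⟨Ideal.span {x}, ⟨{x}, by simp⟩, ?_, ?_⟩
    · rw [Ideal.span_le]; simpa using hx
    · exact Ideal.mem_map_of_mem φ (Ideal.subset_span (Set.mem_singleton x))
  | zero => exact ⟨⊥, Submodule.fg_bot, bot_le, Ideal.zero_mem _⟩
  | add u v _ _ hu hv =>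
    obtain ⟨I₁, h1, h1', h1''⟩ := hu
    obtain ⟨I₂, h2, h2', h2''⟩ := hv
    exact ⟨I₁ ⊔ I₂, Submodule.FG.sup h1 h2, sup_le h1' h2',
      Ideal.add_mem _ (Ideal.map_mono le_sup_left h1'') (Ideal.map_mono le_sup_right h2'')⟩
  | smul a u _ hu =>
    obtain ⟨I₁, h1, h1', h1''⟩ := hu
    exact ⟨I₁, h1, h1', Ideal.mul_mem_left _ a h1''⟩

/-- A finitely generated ideal inside `I₀ S ⊔ L` is inside `I' S ⊔ L` for some finitely generated
`I' ≤ I₀`. -/
theorem exists_fg_le_of_fg_le_map_sup {R : Type u} {S : Type v} [CommRing R] [CommRing S]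
    (φ : R →+* S) (I₀ : Ideal R) (L : Ideal S) (N : Ideal S) (hN : N.FG)
    (hle : N ≤ I₀.map φ ⊔ L) :
    ∃ I' : Ideal R, I'.FG ∧ I' ≤ I₀ ∧ N ≤ I'.map φ ⊔ L := by
  revert hle
  refine Submodule.fg_induction
    (motive := fun (N : Ideal S) _ =>
      N ≤ I₀.map φ ⊔ L → ∃ I' : Ideal R, I'.FG ∧ I' ≤ I₀ ∧ N ≤ I'.map φ ⊔ L)
    ?_ ?_ N hN
  · intro x hx
    have hx' : x ∈ I₀.map φ ⊔ L := hx (Submodule.mem_span_singleton_self x)
    obtain ⟨u, hu, v, hv, rfl⟩ := Submodule.mem_sup.1 hx'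
    obtain ⟨I', h1, h2, h3⟩ := exists_fg_le_of_mem_map φ I₀ hu
    refine ⟨I', h1, h2, ?_⟩
    rw [Submodule.span_singleton_le_iff_mem]
    exact Submodule.add_mem_sup h3 hv
  · intro N₁ N₂ _ _ ih₁ ih₂ hle
    obtain ⟨I₁, h1, h1', h1''⟩ := ih₁ (le_sup_left.trans hle)
    obtain ⟨I₂, h2, h2', h2''⟩ := ih₂ (le_sup_right.trans hle)
    refine ⟨I₁ ⊔ I₂, Submodule.FG.sup h1 h2, sup_le h1' h2', sup_le ?_ ?_⟩
    · exact h1''.trans (sup_le_sup_right (Ideal.map_mono le_sup_left) _)
    · exact h2''.trans (sup_le_sup_right (Ideal.map_mono le_sup_right) _)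

end

end Groth.Agent.Lib.Helper51

namespace Groth.Agent.Lib.Helper51

section

variable {A : Type u} [CommRing A] [UniformSpace A] [IsUniformAddGroup A] [IsTopologicalRing A]
  [IsLinearTopology A A] [T2Space A] [CompleteSpace A]
variable {B : Type v} [CommRing B] [TopologicalSpace B] [IsTopologicalRing B]

/-- Descent of "adic with a finitely generated ideal of definition" along a taut faithfully flat
map, for a complete source. -/
theorem isAdicRing_of_isTautFFlat (hB : LinTop.IsPreadic B)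
    (hJ : ∃ J : Ideal B, LinTop.IsIdealOfDefinition B J ∧ J.FG)
    {φ : A →+* B} (hφ : LinTop.IsTautFFlat φ) :
    LinTop.IsAdicRing A ∧ ∃ I : Ideal A, LinTop.IsIdealOfDefinition A I ∧ I.FG := by
  obtain ⟨hc, h2, h3⟩ := hφ.1
  obtain ⟨J₀, hJ₀⟩ := hB
  obtain ⟨J, hJdef, hJfg⟩ := hJ
  have hJ₀' := isAdic_iff.1 hJ₀
  have hlinB : IsLinearTopology B B := isLinearTopology_of_isAdic hJ₀
  -- powers of `J` are open
  have hJpow : ∀ n : ℕ, IsOpen ((J ^ n : Ideal B) : Set B) := by
    intro n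
    obtain ⟨k, hk⟩ := hJ₀'.2 (J : Set B) (hJdef.1.mem_nhds J.zero_mem)
    have h1 : J₀ ^ (k * n) ≤ J ^ n := by
      rw [pow_mul]; exact Ideal.pow_right_mono hk n
    exact ideal_isOpen_mono h1 (hJ₀'.1 _)
  -- `I₀ = φ⁻¹ J`
  set I₀ : Ideal A := J.comap φ with hI₀
  have hI₀o : IsOpen (I₀ : Set A) := hJdef.1.preimage hc
  have hI₀J : I₀.map φ ≤ J := Ideal.map_comap_le
  obtain ⟨a, -, ha⟩ := exists_pow_le_of_isIdealOfDefinition hJdef (I' := (I₀.map φ).closure)
    (h2 I₀ hI₀o)
  -- `J ^ a ≤ I₀ B ⊔ J ^ (a + 1)`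
  have h4 : J ^ a ≤ I₀.map φ ⊔ J ^ (a + 1) := by
    intro x hx
    exact mem_closure_ideal_iff.1 (ha hx) _ (hJpow (a + 1))
  obtain ⟨I', hI'fg, hI'I₀, hI'⟩ :=
    exists_fg_le_of_fg_le_map_sup φ I₀ (J ^ (a + 1)) (J ^ a) hJfg.pow h4
  -- `J ^ a ≤ I' B ⊔ J ^ (a + k)` for all `k`
  have h5 : ∀ k : ℕ, J ^ a ≤ I'.map φ ⊔ J ^ (a + k) := by
    intro k
    induction k with
    | zero => exact le_sup_right
    | succ k ih =>
      refine hI'.trans (sup_le le_sup_left ?_)
      calc J ^ (a + 1) = J * J ^ a := by rw [pow_succ']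
        _ ≤ J * (I'.map φ ⊔ J ^ (a + k)) := Ideal.mul_mono_right ih
        _ = J * I'.map φ ⊔ J * J ^ (a + k) := Ideal.mul_sup _ _ _
        _ ≤ I'.map φ ⊔ J ^ (a + (k + 1)) := by
          refine sup_le_sup Ideal.mul_le_right ?_
          rw [← pow_succ']
          exact le_of_eq (by ring_nf)
  -- `J ^ a ≤ closure (I' B)`
  have h6 : J ^ a ≤ (I'.map φ).closure := by
    intro x hx
    change x ∈ closure ((I'.map φ : Ideal B) : Set B)
    rw [mem_closure_ideal_iff]
    intro L hL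
    obtain ⟨k, -, hk⟩ := exists_pow_le_of_isIdealOfDefinition hJdef hL
    have h7 : J ^ (a + k) ≤ L := (Ideal.pow_le_pow_right (Nat.le_add_left k a)).trans hk
    exact sup_le_sup_left h7 _ (h5 k hx)
  have hI'J : I'.map φ ≤ J := (Ideal.map_mono hI'I₀).trans hI₀J
  -- `A` is `I'`-adic
  have hadic : IsAdic I' := by
    apply isAdic_of_fg hI'fg
    · intro n
      have h8 : J ^ (a * n) ≤ ((I' ^ n).map φ).closure := by
        rw [pow_mul, Ideal.map_pow]
        exact (Ideal.pow_right_mono h6 n).trans (ideal_closure_pow_le _ n)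
      exact isOpen_closure_of_le_closure_map hφ (I' ^ n) (hJpow (a * n)) h8
    · intro U hU
      obtain ⟨L, hL, hLU⟩ := IsLinearTopology.hasBasis_open_ideal.mem_iff.1 hU
      obtain ⟨n, -, hn⟩ := exists_pow_le_of_isIdealOfDefinition hJdef (I' := (L.map φ).closure)
        (h2 L hL)
      refine ⟨n, (closure_ideal_le_of_isOpen ?_ hL).trans hLU⟩
      have hle : (I' ^ n).map φ ≤ (L.map φ).closure := by
        rw [Ideal.map_pow]
        exact (Ideal.pow_right_mono hI'J n).trans hn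
      exact le_of_closure_map_le hφ hL hle
  exact ⟨⟨⟨I', hadic⟩, inferInstance, inferInstance⟩, I', isIdealOfDefinition_of_isAdic hadic, hI'fg⟩

end

end Groth.Agent.Lib.Helper51
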