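import Groth.Agent.Lib.Helper51.WPreadic
import Groth.Agent.Lib.Helper51.Adic

/-!
Weakly preadic rings: characterisations (helper51).
-/

set_option autoImplicit false
set_option linter.unusedSectionVars false
universe u v w

open Topology Filter

namespace Groth.Agent.Lib.Helper51

section

variable {A : Type u} [CommRing A] [TopologicalSpace A] [IsTopologicalRing A]

/-- A preadic ring is weakly preadic. -/
theorem isWeaklyPreadic_of_isPreadic (hA : LinTop.IsPreadic A) : LinTop.IsWeaklyPreadic A := by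
  obtain ⟨I, hI⟩ := hA
  have hlin := isLinearTopology_of_isAdic hI
  have hI' := isAdic_iff.1 hI
  have hcl : ∀ n : ℕ, closure ((I ^ n : Ideal A) : Set A) = ((I ^ n : Ideal A) : Set A) :=
    fun n => (ideal_isClosed_of_isOpen (hI'.1 n)).closure_eq
  refine ⟨hlin, I, fun n => ?_, fun U hU => ?_⟩
  · rw [hcl n]; exact hI'.1 n
  · obtain ⟨n, hn⟩ := hI'.2 U hU
    exact ⟨n, by rw [hcl n]; exact hn⟩

/-- (1) → (3). -/
theorem wpreadic_one_three (h : LinTop.IsWeaklyPreadic A) :
    LinTop.IsPreadmissible A ∧ ∃ I : Ideal A, LinTop.IsIdealOfDefinition A I ∧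
        ∀ n : ℕ, 0 < n → IsOpen (closure ((I ^ n : Ideal A) : Set A)) := by
  obtain ⟨hlin, I, hIo, hIb⟩ := h
  have hdef := isIdealOfDefinition_closure hIo hIb
  refine ⟨⟨hlin, I.closure, hdef⟩, I.closure, hdef, fun n _ => ?_⟩
  rw [closure_pow_closure_eq]
  exact hIo n

/-- (3) → (4). -/
theorem wpreadic_three_four
    (h : LinTop.IsPreadmissible A ∧ ∃ I : Ideal A, LinTop.IsIdealOfDefinition A I ∧
        ∀ n : ℕ, 0 < n → IsOpen (closure ((I ^ n : Ideal A) : Set A))) :
    LinTop.IsPreadmissible A ∧ ∀ I : Ideal A, LinTop.IsIdealOfDefinition A I →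
        ∀ n : ℕ, 0 < n → IsOpen (closure ((I ^ n : Ideal A) : Set A)) := by
  obtain ⟨hpre, I, hI, hIo⟩ := h
  refine ⟨hpre, fun I' hI' n hn => ?_⟩
  obtain ⟨k, hk, hkI'⟩ := exists_pow_le_of_isIdealOfDefinition hI hI'.1
  have h1 : I ^ (k * n) ≤ I' ^ n := by
    rw [pow_mul]
    exact Ideal.pow_right_mono hkI' n
  have h2 : (I ^ (k * n)).closure ≤ (I' ^ n).closure := ideal_closure_mono h1
  exact ideal_isOpen_mono (I := (I ^ (k * n)).closure) (J := (I' ^ n).closure) h2
    (hIo (k * n) (Nat.mul_pos hk hn))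

/-- (3) → (1). -/
theorem wpreadic_three_one
    (h : LinTop.IsPreadmissible A ∧ ∃ I : Ideal A, LinTop.IsIdealOfDefinition A I ∧
        ∀ n : ℕ, 0 < n → IsOpen (closure ((I ^ n : Ideal A) : Set A))) :
    LinTop.IsWeaklyPreadic A := by
  obtain ⟨⟨hlin, -⟩, I, hI, hIo⟩ := h
  refine ⟨hlin, I, fun n => ?_, fun U hU => ?_⟩
  · rcases Nat.eq_zero_or_pos n with h0 | hpos
    · subst h0
      simp
    · exact hIo n hpos
  · obtain ⟨U', hU'o, hU'U⟩ := IsLinearTopology.hasBasis_open_ideal.mem_iff.1 hU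
    obtain ⟨n, -, hn⟩ := exists_pow_le_of_isIdealOfDefinition hI hU'o
    exact ⟨n, (closure_ideal_le_of_isOpen hn hU'o).trans hU'U⟩

/-- The identity between two ring topologies is continuous if it is at zero. -/
theorem continuous_id_of_nhds_zero_le {R : Type u} [CommRing R] (t1 t2 : TopologicalSpace R)
    (h1 : @IsTopologicalRing R t1 _) (h2 : @IsTopologicalRing R t2 _)
    (h : @nhds R t1 0 ≤ @nhds R t2 0) : @Continuous R R t1 t2 (RingHom.id R) := by
  have hg1 : @IsTopologicalAddGroup R t1 _ := @IsTopologicalRing.to_topologicalAddGroup R _ t1 h1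
  have hg2 : @ContinuousAdd R t2 _ :=
    @IsTopologicalSemiring.toContinuousAdd R t2 _ h2.toIsTopologicalSemiring
  refine @continuous_of_continuousAt_zero R t1 _ hg1 R (R →+* R) _ t2 hg2 _ _ (RingHom.id R) ?_
  unfold ContinuousAt
  simp only [RingHom.id_apply, RingHom.coe_id]
  exact Filter.tendsto_id'.2 h

/-- (1) → (2): the identity from the `I`-adic topology is taut. -/
theorem wpreadic_one_two (h : LinTop.IsWeaklyPreadic A) :
    ∃ (A' : Type u) (_ : CommRing A') (_ : TopologicalSpace A') (_ : IsTopologicalRing A')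
        (φ : A' →+* A), LinTop.IsPreadic A' ∧ LinTop.IsTaut φ := by
  obtain ⟨hlin, I, hIo, hIb⟩ := h
  have htr : @IsTopologicalRing A I.adicTopology _ := I.nonarchimedean.toIsTopologicalRing
  refine ⟨A, inferInstance, I.adicTopology, htr, RingHom.id A, ⟨I, rfl⟩, ?_, ?_, ?_⟩
  · apply continuous_id_of_nhds_zero_le _ _ htr inferInstance
    intro U hU
    obtain ⟨n, hn⟩ := hIb U hU
    exact I.hasBasis_nhds_zero_adic.mem_iff.2 ⟨n, trivial, (subset_closure).trans hn⟩
  · intro I' hI'
    have hmem : (I' : Set A) ∈ @nhds A I.adicTopology 0 :=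
      @IsOpen.mem_nhds A I.adicTopology _ _ hI' I'.zero_mem
    obtain ⟨n, -, hn⟩ := I.hasBasis_nhds_zero_adic.mem_iff.1 hmem
    simp only [Ideal.map_id]
    exact ideal_isOpen_mono (I := (I ^ n).closure) (J := I'.closure)
      (ideal_closure_mono hn) (hIo n)
  · intro U hU
    obtain ⟨n, hn⟩ := hIb U hU
    refine ⟨I ^ n, ?_, by simpa using hn⟩
    have h3 := @OpenAddSubgroup.isOpen' A _ I.adicTopology (I.openAddSubgroup n)
    exact h3

end

end Groth.Agent.Lib.Helper51
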