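import Groth.Agent.Lib.Helper51.FGAdic
import Groth.Agent.Lib.Helper51.WPreadic2

/-!
Weakly adic rings with `I / closure (I^2)` finitely generated are adic (helper51).
-/

set_option autoImplicit false
set_option linter.unusedSectionVars false
universe u v w

open Topology Filter

namespace Groth.Agent.Lib.Helper51

section

variable {A : Type u} [CommRing A] [TopologicalSpace A] [IsTopologicalRing A]

/-- Lift a finite generating set of `I.map (mk K)` to a finitely generated subideal of `I`. -/
theorem exists_fg_le_sup_of_fg_map {R : Type u} [CommRing R] (I K : Ideal R)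
    (hfg : (I.map (Ideal.Quotient.mk K)).FG) :
    ∃ J : Ideal R, J.FG ∧ J ≤ I ∧ I ≤ J ⊔ K := by
  classical
  obtain ⟨t, ht⟩ := hfg
  have hsurj : Function.Surjective (Ideal.Quotient.mk K) := Ideal.Quotient.mk_surjective
  have hmem : ∀ y : t, ∃ x ∈ I, Ideal.Quotient.mk K x = y := by
    intro y
    have hy : (y : R ⧸ K) ∈ I.map (Ideal.Quotient.mk K) := by
      rw [← ht]; exact Ideal.subset_span y.2
    exact (Ideal.mem_map_iff_of_surjective _ hsurj).1 hy
  choose g hgI hgy using hmem
  refine ⟨Ideal.span (Set.range g), Submodule.fg_span (Set.finite_range g), ?_, ?_⟩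
  · rw [Ideal.span_le]
    rintro _ ⟨y, rfl⟩
    exact hgI y
  · have hmap : (Ideal.span (Set.range g)).map (Ideal.Quotient.mk K) = I.map (Ideal.Quotient.mk K) := by
      rw [Ideal.map_span, ← ht]
      congr 1
      ext z
      constructor
      · rintro ⟨_, ⟨y, rfl⟩, rfl⟩
        rw [hgy]; exact y.2
      · intro hz
        exact ⟨g ⟨z, hz⟩, ⟨⟨z, hz⟩, rfl⟩, hgy ⟨z, hz⟩⟩
    have h1 : I ≤ (I.map (Ideal.Quotient.mk K)).comap (Ideal.Quotient.mk K) := Ideal.le_comap_map
    rw [← hmap, Ideal.comap_map_of_surjective _ hsurj] at h1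
    refine h1.trans (sup_le_sup_left ?_ _)
    intro x hx
    rw [Ideal.mem_comap, Submodule.mem_bot, Ideal.Quotient.eq_zero_iff_mem] at hx
    exact hx

/-- `closure (I ^ a) * closure (I ^ b) ≤ closure (I ^ (a + b))`. -/
theorem closure_pow_mul_closure_pow_le (I : Ideal A) (a b : ℕ) :
    (I ^ a).closure * (I ^ b).closure ≤ (I ^ (a + b)).closure := by
  rw [pow_add]
  exact ideal_closure_mul_le _ _

variable [IsLinearTopology A A]

/-- Main comparison: if `I ≤ J ⊔ closure (I^2)` with `J ≤ I` and the closures of the positive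
powers of the ideal of definition `I` are open, then `closure (J^n) = closure (I^n)`. -/
theorem closure_pow_eq_of_le_sup {I J : Ideal A} (hI : LinTop.IsIdealOfDefinition A I)
    (hIo : ∀ n : ℕ, 0 < n → IsOpen (closure ((I ^ n : Ideal A) : Set A)))
    (hJI : J ≤ I) (hIJ : I ≤ J ⊔ (I ^ 2).closure) (n : ℕ) :
    (J ^ n).closure = (I ^ n).closure := by
  have hcl : ∀ {a b : ℕ}, a ≤ b → (I ^ b).closure ≤ (I ^ a).closure :=
    fun h => ideal_closure_mono (Ideal.pow_le_pow_right h)
  -- step (*)
  have hstar : ∀ n : ℕ, I ^ n ≤ J ^ n ⊔ (I ^ (n + 1)).closure := by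
    intro n
    induction n with
    | zero => simp
    | succ n ih =>
      have h1 : I ^ (n + 1) ≤ (J ⊔ (I ^ 2).closure) * (J ^ n ⊔ (I ^ (n + 1)).closure) :=
        calc I ^ (n + 1) = I * I ^ n := pow_succ' I n
          _ ≤ (J ⊔ (I ^ 2).closure) * (J ^ n ⊔ (I ^ (n + 1)).closure) := Ideal.mul_mono hIJ ih
      refine h1.trans ?_
      rw [Ideal.sup_mul, Ideal.mul_sup, Ideal.mul_sup]
      refine sup_le (sup_le ?_ ?_) (sup_le ?_ ?_)
      · rw [← pow_succ']; exact le_sup_left
      · refine le_trans ?_ le_sup_right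
        calc J * (I ^ (n + 1)).closure ≤ (I ^ 1).closure * (I ^ (n + 1)).closure :=
              Ideal.mul_mono_left (by rw [pow_one]; exact hJI.trans (ideal_le_closure I))
          _ ≤ (I ^ (1 + (n + 1))).closure := closure_pow_mul_closure_pow_le I 1 (n + 1)
          _ ≤ (I ^ (n + 1 + 1)).closure := hcl (by omega)
      · refine le_trans ?_ le_sup_right
        calc (I ^ 2).closure * J ^ n ≤ (I ^ 2).closure * (I ^ n).closure :=
              Ideal.mul_mono_right ((Ideal.pow_right_mono hJI n).trans (ideal_le_closure _))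
          _ ≤ (I ^ (2 + n)).closure := closure_pow_mul_closure_pow_le I 2 n
          _ ≤ (I ^ (n + 1 + 1)).closure := hcl (by omega)
      · refine le_trans ?_ le_sup_right
        calc (I ^ 2).closure * (I ^ (n + 1)).closure ≤ (I ^ (2 + (n + 1))).closure :=
              closure_pow_mul_closure_pow_le I 2 (n + 1)
          _ ≤ (I ^ (n + 1 + 1)).closure := hcl (by omega)
  -- `closure (I^(k)) ≤ I^k ⊔ closure (I^(k+1))`
  have hopen_step : ∀ k : ℕ, (I ^ k).closure ≤ I ^ k ⊔ (I ^ (k + 1)).closure := by
    intro k x hx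
    exact mem_closure_ideal_iff.1 hx _ (hIo (k + 1) (Nat.succ_pos k))
  -- step (**)
  have hstar2 : ∀ n m : ℕ, I ^ n ≤ J ^ n ⊔ (I ^ (n + m + 1)).closure := by
    intro n m
    induction m with
    | zero => exact hstar n
    | succ m ih =>
      refine ih.trans (sup_le le_sup_left ?_)
      refine (hopen_step (n + m + 1)).trans (sup_le ?_ ?_)
      · refine (hstar (n + m + 1)).trans (sup_le ?_ ?_)
        · exact le_trans (Ideal.pow_le_pow_right (by omega)) le_sup_left
        · exact le_sup_right
      · exact le_sup_right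
  apply le_antisymm
  · exact ideal_closure_mono (Ideal.pow_right_mono hJI n)
  · -- `I^n ≤ closure (J^n)`
    have h5 : I ^ n ≤ (J ^ n).closure := by
      intro x hx
      change x ∈ closure ((J ^ n : Ideal A) : Set A)
      rw [mem_closure_ideal_iff]
      intro K hK
      obtain ⟨k, -, hk⟩ := exists_pow_le_of_isIdealOfDefinition hI hK
      have h6 : (I ^ (n + k + 1)).closure ≤ K := by
        intro z hz
        exact closure_ideal_le_of_isOpen (hk.trans' (Ideal.pow_le_pow_right (by omega))) hK hz
      exact sup_le_sup_left h6 _ (hstar2 n k hx)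
    intro x hx
    have h7 : closure ((I ^ n : Ideal A) : Set A) ⊆ closure (((J ^ n).closure : Ideal A) : Set A) :=
      closure_mono h5
    have h8 := h7 hx
    rwa [Ideal.coe_closure, closure_closure] at h8

end

section

variable {A : Type u} [CommRing A] [UniformSpace A] [IsUniformAddGroup A] [IsTopologicalRing A]

/-- Stacks: a weakly adic ring with an ideal of definition `I` such that `I / closure (I^2)` is
finitely generated is adic with a finitely generated ideal of definition. -/
theorem isAdicRing_of_fg_cotangent (hA : LinTop.IsWeaklyAdic A) (I : Ideal A)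
    (hI : LinTop.IsIdealOfDefinition A I)
    (hfg : (I.map (Ideal.Quotient.mk ((I ^ 2).closure))).FG) :
    LinTop.IsAdicRing A ∧ ∃ J : Ideal A, LinTop.IsIdealOfDefinition A J ∧ J.FG := by
  obtain ⟨hwp, hT2, hC⟩ := hA
  have hlin : IsLinearTopology A A := hwp.1
  have hIo : ∀ n : ℕ, 0 < n → IsOpen (closure ((I ^ n : Ideal A) : Set A)) :=
    (wpreadic_three_four (wpreadic_one_three hwp)).2 I hI
  obtain ⟨J, hJfg, hJI, hIJ⟩ := exists_fg_le_sup_of_fg_map I ((I ^ 2).closure) hfg
  have hcl := closure_pow_eq_of_le_sup hI hIo hJI hIJ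
  have hcl' : ∀ n : ℕ, closure ((J ^ n : Ideal A) : Set A) = closure ((I ^ n : Ideal A) : Set A) :=
    fun n => congrArg (fun K : Ideal A => (K : Set A)) (hcl n)
  have hJadic : IsAdic J := by
    apply isAdic_of_fg hJfg
    · intro n
      rcases Nat.eq_zero_or_pos n with h0 | hpos
      · subst h0; simp
      · rw [hcl' n]; exact hIo n hpos
    · intro U hU
      obtain ⟨K, hK, hKU⟩ := IsLinearTopology.hasBasis_open_ideal.mem_iff.1 hU
      obtain ⟨k, -, hk⟩ := exists_pow_le_of_isIdealOfDefinition hI hK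
      refine ⟨k, ?_⟩
      rw [hcl' k]
      exact (closure_ideal_le_of_isOpen hk hK).trans hKU
  exact ⟨⟨⟨J, hJadic⟩, hT2, hC⟩, J, isIdealOfDefinition_of_isAdic hJadic, hJfg⟩

end

end Groth.Agent.Lib.Helper51
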