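import Groth.Agent.Lib.Helper51.Taut2

/-!
Weakly preadic rings (helper51).
-/

set_option autoImplicit false
set_option linter.unusedSectionVars false
universe u v w

open Topology Filter

namespace Groth.Agent.Lib.Helper51

section

variable {A : Type u} [CommRing A] [TopologicalSpace A] [IsTopologicalRing A]

/-- If the closures of the powers of `I` are open and form a basis, the closure of `I` is an ideal
of definition. -/
theorem isIdealOfDefinition_closure {I : Ideal A}
    (hIo : ∀ n : ℕ, IsOpen (closure ((I ^ n : Ideal A) : Set A)))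
    (hIb : ∀ U ∈ 𝓝 (0 : A), ∃ n : ℕ, closure ((I ^ n : Ideal A) : Set A) ⊆ U) :
    LinTop.IsIdealOfDefinition A I.closure := by
  refine ⟨by simpa using hIo 1, fun U hU => ?_⟩
  obtain ⟨n, hn⟩ := hIb U hU
  rcases Nat.eq_zero_or_pos n with h0 | hpos
  · subst h0
    refine ⟨1, Nat.one_pos, fun x _ => hn (subset_closure ?_)⟩
    simp
  · exact ⟨n, hpos, fun x hx => hn (ideal_closure_pow_le I n hx)⟩

/-- In the same situation, the closures of the powers of `I.closure` are those of `I`. -/
theorem closure_pow_closure_eq (I : Ideal A) (n : ℕ) :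
    closure (((I.closure) ^ n : Ideal A) : Set A) = closure ((I ^ n : Ideal A) : Set A) := by
  apply subset_antisymm
  · have h := ideal_closure_pow_le I n
    have : closure (((I.closure) ^ n : Ideal A) : Set A) ⊆ closure ((I ^ n).closure : Set A) :=
      closure_mono h
    rwa [Ideal.coe_closure, closure_closure] at this
  · exact closure_mono (Ideal.pow_right_mono (ideal_le_closure I) n)

/-- The neighbourhood filter of zero of a weakly preadic ring is countably generated. -/
theorem isCountablyGenerated_of_weaklyPreadic {I : Ideal A}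
    (hIo : ∀ n : ℕ, IsOpen (closure ((I ^ n : Ideal A) : Set A)))
    (hIb : ∀ U ∈ 𝓝 (0 : A), ∃ n : ℕ, closure ((I ^ n : Ideal A) : Set A) ⊆ U) :
    (𝓝 (0 : A)).IsCountablyGenerated := by
  have hB : (𝓝 (0 : A)).HasBasis (fun _ : ℕ => True)
      (fun n => closure ((I ^ n : Ideal A) : Set A)) := by
    constructor
    intro U
    constructor
    · intro hU
      obtain ⟨n, hn⟩ := hIb U hU
      exact ⟨n, trivial, hn⟩
    · rintro ⟨n, -, hn⟩
      exact Filter.mem_of_superset ((hIo n).mem_nhds (subset_closure (Ideal.zero_mem _))) hn
  exact hB.isCountablyGenerated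

end

end Groth.Agent.Lib.Helper51
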